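import Mathlib
import Cfsg.Prelude.Def_Characters
import Cfsg.Agent.Lib.helper19.LinChar
import Cfsg.Agent.Lib.helper19.AbelianOver
import Cfsg.Agent.Lib.helper4.CharDecomp

set_option autoImplicit false

/-!
# Characters of a cyclic group that have absolute value one off the identity (helper19)

* `int_sum_sq_two` : integers with sum `0` and sum of squares `2` are `1, -1, 0, …, 0`.
* `exists_faithful_hom_zpowers` : a cyclic group `⟨s⟩` has a faithful linear character.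
* `cyclic_norm_two` : let `S` be abelian with a faithful linear character, and let `f i` be a
  family of characters of `S` with `∑ i, |f i x|² = 1` for every `x ≠ 1`.  If `f i₀` does not
  vanish off the identity, then every other `f i` does, and `f i₀ = ε φ` off the identity for a
  sign `ε` and a linear character `φ`.
-/

namespace Cfsg.Agent.Lib.helper19

open Cfsg
open scoped ComplexConjugate

theorem int_sum_sq_two {ι : Type*} [Fintype ι] [DecidableEq ι] (c : ι → ℤ)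
    (h1 : ∑ i, c i = 0) (h2 : ∑ i, c i ^ 2 = 2) :
    ∃ i j, i ≠ j ∧ c i = 1 ∧ c j = -1 ∧ ∀ k, k ≠ i → k ≠ j → c k = 0 := by
  have hnn : ∀ (s : Finset ι), ∀ k ∈ s, 0 ≤ c k ^ 2 := fun s k _ => sq_nonneg _
  obtain ⟨i, hi⟩ : ∃ i, c i ≠ 0 := by
    by_contra hall
    push Not at hall
    have : ∑ i, c i ^ 2 = 0 := Finset.sum_eq_zero (fun i _ => by rw [hall i]; norm_num)
    omega
  have hsplit := Finset.add_sum_erase Finset.univ (fun k => c k ^ 2) (Finset.mem_univ i)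
  have hrest := Finset.sum_nonneg (hnn (Finset.univ.erase i))
  have hi1 : c i ^ 2 = 1 := by
    have h3 : c i ^ 2 ≤ 2 := by linarith
    have h4 : 0 < c i ^ 2 := by positivity
    have h5 : c i ^ 2 ≠ 2 := by
      intro h
      have hlt : |c i| < 2 := by
        by_contra hge
        push Not at hge
        have : 4 ≤ c i ^ 2 := by
          have := sq_abs (c i)
          nlinarith
        omega
      have hge1 : 1 ≤ |c i| := Int.one_le_abs hi
      have : |c i| = 1 := by omega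
      have := sq_abs (c i)
      rw [‹|c i| = 1›] at this
      omega
    omega
  have hrest1 : ∑ k ∈ Finset.univ.erase i, c k ^ 2 = 1 := by linarith
  obtain ⟨j, hj, hcj⟩ : ∃ j ∈ Finset.univ.erase i, c j ≠ 0 := by
    by_contra hall
    push Not at hall
    have : ∑ k ∈ Finset.univ.erase i, c k ^ 2 = 0 :=
      Finset.sum_eq_zero (fun k hk => by rw [hall k hk]; norm_num)
    omega
  have hji : j ≠ i := (Finset.mem_erase.1 hj).1
  have hsplit2 := Finset.add_sum_erase (Finset.univ.erase i) (fun k => c k ^ 2) hj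
  have hrest2 := Finset.sum_nonneg (hnn ((Finset.univ.erase i).erase j))
  have hj1 : c j ^ 2 = 1 := by
    have h4 : 0 < c j ^ 2 := by positivity
    have h3 : c j ^ 2 ≤ 1 := by linarith
    omega
  have hrest0 : ∑ k ∈ (Finset.univ.erase i).erase j, c k ^ 2 = 0 := by linarith
  have hzero : ∀ k, k ≠ i → k ≠ j → c k = 0 := by
    intro k hki hkj
    have := (Finset.sum_eq_zero_iff_of_nonneg (hnn _)).1 hrest0 k
      (Finset.mem_erase.2 ⟨hkj, Finset.mem_erase.2 ⟨hki, Finset.mem_univ k⟩⟩)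
    exact pow_eq_zero_iff (two_ne_zero) |>.1 this
  have hsum : c i + c j = 0 := by
    rw [← h1]
    symm
    apply Finset.sum_eq_add i j hji.symm
    · intro k _ hk
      exact hzero k hk.1 hk.2
    · intro h; exact absurd (Finset.mem_univ i) h
    · intro h; exact absurd (Finset.mem_univ j) h
  have hi' : c i = 1 ∨ c i = -1 := by
    have : (c i - 1) * (c i + 1) = 0 := by nlinarith
    rcases mul_eq_zero.1 this with h | h
    · left; omega
    · right; omega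
  rcases hi' with h | h
  · exact ⟨i, j, hji.symm, h, by omega, hzero⟩
  · exact ⟨j, i, hji, by omega, h, fun k hk1 hk2 => hzero k hk2 hk1⟩

/-- a cyclic group has a faithful linear character. -/
theorem exists_faithful_hom_zpowers {Γ : Type*} [Group Γ] [Finite Γ] (s : Γ) :
    ∃ ν : Subgroup.zpowers s →* ℂˣ, ∀ x, ν x = 1 → x = 1 := by
  have hm0 : 0 < orderOf s := orderOf_pos s
  have hζ := Complex.isPrimitiveRoot_exp (orderOf s) hm0.ne'
  set ζ := Complex.exp (2 * Real.pi * Complex.I / (orderOf s : ℂ)) with hζdef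
  have hζ0 : ζ ≠ 0 := hζ.ne_zero hm0.ne'
  let ζu : ℂˣ := Units.mk0 ζ hζ0
  let g : Subgroup.zpowers s := ⟨s, Subgroup.mem_zpowers s⟩
  have hg : ∀ x : Subgroup.zpowers s, x ∈ Subgroup.zpowers g := by
    rintro ⟨x, hx⟩
    obtain ⟨k, rfl⟩ := Subgroup.mem_zpowers_iff.1 hx
    rw [Subgroup.mem_zpowers_iff]
    exact ⟨k, Subtype.ext (by simp [g])⟩
  have hog : orderOf g = orderOf s := (Subgroup.orderOf_coe g).symm
  have hoζ : orderOf ζu = orderOf s := by
    rw [← orderOf_units]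
    exact hζ.eq_orderOf.symm
  have hdvd : orderOf ζu ∣ orderOf g := by rw [hoζ, hog]
  refine ⟨monoidHomOfForallMemZpowers hg hdvd, ?_⟩
  intro x hx
  obtain ⟨k, rfl⟩ := Subgroup.mem_zpowers_iff.1 (hg x)
  rw [map_zpow, monoidHomOfForallMemZpowers_apply_gen] at hx
  have h1 := (orderOf_dvd_iff_zpow_eq_one).2 hx
  rw [hoζ, ← hog] at h1
  exact (orderOf_dvd_iff_zpow_eq_one).1 h1

theorem hom_val_mul_conj {S : Type*} [Group S] [Finite S] (φ : S →* ℂˣ) (x : S) :
    (φ x : ℂ) * conj (φ x : ℂ) = 1 := by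
  have h1 : (φ x : ℂ) ^ Nat.card S = 1 := by
    rw [← Units.val_pow_eq_pow_val, ← map_pow, pow_card_eq_one', map_one, Units.val_one]
  have h2 : ‖(φ x : ℂ)‖ = 1 := Complex.norm_eq_one_of_pow_eq_one h1 Nat.card_pos.ne'
  rw [Complex.mul_conj, Complex.normSq_eq_norm_sq, h2]
  norm_num

theorem hom_conj_eq_inv {S : Type*} [Group S] [Finite S] (φ : S →* ℂˣ) (x : S) :
    conj (φ x : ℂ) = ((φ⁻¹ x : ℂˣ) : ℂ) := by
  have h := hom_val_mul_conj φ x
  rw [MonoidHom.inv_apply, Units.val_inv_eq_inv_val]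
  exact eq_inv_of_mul_eq_one_right h

theorem sum_hom_eq_zero {S : Type*} [Group S] [Fintype S] (φ : S →* ℂˣ) (h : φ ≠ 1) :
    ∑ x : S, (φ x : ℂ) = 0 := by
  have h2 := sum_hom_units_eq_zero ((Units.coeHom ℂ).comp φ) (by
    intro h'
    apply h
    ext x
    have := DFunLike.congr_fun h' x
    simpa using this)
  simpa using h2

theorem sum_hom_eq_card {S : Type*} [Group S] [Fintype S] (φ : S →* ℂˣ) (h : φ = 1) :
    ∑ x : S, (φ x : ℂ) = (Nat.card S : ℂ) := by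
  subst h
  simp [Nat.card_eq_fintype_card]

/-- see the module docstring. -/
theorem cyclic_norm_two {S : Type*} [Group S] [Fintype S] (hab : ∀ a b : S, a * b = b * a)
    (ν : S →* ℂˣ) (hν : ∀ x, ν x = 1 → x = 1)
    {ι : Type*} [Fintype ι] [DecidableEq ι] (f : ι → S → ℂ) (hf : ∀ i, IsCharacter S (f i))
    (hnorm : ∀ x : S, x ≠ 1 → ∑ i, f i x * conj (f i x) = 1)
    (i₀ : ι) (x₀ : S) (hx₀ : x₀ ≠ 1) (hi₀ : f i₀ x₀ ≠ 0) :
    (∀ i, i ≠ i₀ → ∀ x : S, x ≠ 1 → f i x = 0) ∧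
    ∃ (ε : ℤ) (φ : S →* ℂˣ), (ε = 1 ∨ ε = -1) ∧
      ∀ x : S, x ≠ 1 → f i₀ x = (ε : ℂ) * (φ x : ℂ) := by
  classical
  have : Fintype (IrrCharacter S) := Fintype.ofFinite _
  have hm0 : (Nat.card S : ℂ) ≠ 0 := by exact_mod_cast (Nat.card_pos (α := S)).ne'
  let νc : S → ℂ := fun x => (ν x : ℂ)
  have hνc : IsCharacter S νc := isCharacter_of_hom ν
  have hνne : ∀ x : S, x ≠ 1 → 1 - νc x ≠ 0 := by
    intro x hx h
    apply hx
    apply hν
    apply Units.ext
    have : νc x = 1 := (sub_eq_zero.1 h).symm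
    exact this
  have hν1 : ν ≠ 1 := by
    intro h
    apply hx₀
    apply hν
    rw [h]; rfl
  let θ : ι → S → ℂ := fun i => f i - f i * νc
  have hθ : ∀ i, IsGeneralizedCharacter S (θ i) := fun i =>
    Cfsg.Agent.Lib.helper4.isGeneralizedCharacter_sub
      (Cfsg.Agent.Lib.helper4.isGeneralizedCharacter_of_isCharacter (hf i))
      (Cfsg.Agent.Lib.helper4.isGeneralizedCharacter_of_isCharacter
        (Cfsg.Agent.Lib.helper4.isCharacter_mul (hf i) hνc))
  have hθx : ∀ i x, θ i x = f i x * (1 - νc x) := by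
    intro i x
    show f i x - f i x * νc x = _
    ring
  choose c hc1 hc2 hc3 using fun i => Cfsg.Agent.Lib.helper4.exists_int_coeff (hθ i)
  have hdeg : ∀ ψ : IrrCharacter S, (ψ : S → ℂ) 1 = 1 := by
    intro ψ
    apply linear_of_abelian_quot (⊥ : Subgroup S) _ (ψ : S → ℂ) ψ.2
    · intro x hx
      rw [Subgroup.mem_bot] at hx
      rw [hx]
    · intro x y
      rw [Subgroup.mem_bot, hab x y, mul_inv_cancel_right, mul_inv_cancel]
  have hsum0 : ∀ i, ∑ ψ, c i ψ = 0 := by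
    intro i
    have h1 := congrFun (hc1 i) 1
    rw [hθx] at h1
    have h2 : νc 1 = 1 := by show ((ν 1 : ℂˣ) : ℂ) = 1; rw [map_one]; rfl
    rw [h2, sub_self, mul_zero] at h1
    simp only [Finset.sum_apply, Pi.smul_apply, smul_eq_mul, hdeg, mul_one] at h1
    exact_mod_cast h1.symm
  -- the sum of the norms is two
  have hνconj : ∀ x : S, νc x * conj (νc x) = 1 := fun x => hom_val_mul_conj ν x
  have hnormθ : ∑ i, classInner (θ i) (θ i) = 2 := by
    unfold Cfsg.classInner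
    rw [← Finset.mul_sum, Finset.sum_comm]
    have h1 : ∀ x : S, ∑ i, θ i x * conj (θ i x) = 2 - νc x - conj (νc x) := by
      intro x
      have h2 : ∀ i, θ i x * conj (θ i x)
          = (f i x * conj (f i x)) * ((1 - νc x) * conj (1 - νc x)) := by
        intro i
        rw [hθx, map_mul]
        ring
      rw [Finset.sum_congr rfl (fun i _ => h2 i), ← Finset.sum_mul]
      have h3 : (1 - νc x) * conj (1 - νc x) = 2 - νc x - conj (νc x) := by
        rw [map_sub, map_one]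
        have := hνconj x
        linear_combination this
      by_cases hx : x = 1
      · subst hx
        have h4 : νc 1 = 1 := by show ((ν 1 : ℂˣ) : ℂ) = 1; rw [map_one]; rfl
        rw [h4]
        simp
        norm_num
      · rw [hnorm x hx, one_mul, h3]
    rw [Finset.sum_congr rfl (fun x _ => h1 x), Finset.sum_sub_distrib, Finset.sum_sub_distrib]
    have h5 : ∑ x : S, νc x = 0 := sum_hom_eq_zero ν hν1
    have h6 : ∑ x : S, conj (νc x) = 0 := by
      rw [← map_sum, h5, map_zero]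
    rw [h5, h6]
    simp only [Finset.sum_const, Finset.card_univ, nsmul_eq_mul, sub_zero]
    rw [← Nat.card_eq_fintype_card]
    field_simp
  have hN : ∑ i, ∑ ψ, c i ψ ^ 2 = 2 := by
    have h1 : ∑ i, classInner (θ i) (θ i) = ((∑ i, ∑ ψ, c i ψ ^ 2 : ℤ) : ℂ) := by
      rw [Int.cast_sum]
      exact Finset.sum_congr rfl (fun i _ => hc3 i)
    rw [hnormθ] at h1
    exact_mod_cast h1.symm
  have hNnn : ∀ i, 0 ≤ ∑ ψ, c i ψ ^ 2 := fun i => Finset.sum_nonneg (fun ψ _ => sq_nonneg _)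
  -- the norm of θ i₀ is at least two
  have hθ0 : θ i₀ x₀ ≠ 0 := by
    rw [hθx]
    exact mul_ne_zero hi₀ (hνne x₀ hx₀)
  obtain ⟨ψ₁, hψ₁⟩ : ∃ ψ₁, c i₀ ψ₁ ≠ 0 := by
    by_contra hall
    push Not at hall
    apply hθ0
    rw [hc1 i₀]
    simp [hall]
  obtain ⟨ψ₂, hψ₂ne, hψ₂⟩ : ∃ ψ₂, ψ₂ ≠ ψ₁ ∧ c i₀ ψ₂ ≠ 0 := by
    by_contra hall
    push Not at hall
    have := hsum0 i₀
    rw [Finset.sum_eq_single ψ₁ (fun ψ _ hψ => hall ψ hψ)
      (fun h => absurd (Finset.mem_univ ψ₁) h)] at this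
    exact hψ₁ this
  have hN0 : 2 ≤ ∑ ψ, c i₀ ψ ^ 2 := by
    have h1 : ∑ ψ ∈ ({ψ₁, ψ₂} : Finset (IrrCharacter S)), c i₀ ψ ^ 2 ≤ ∑ ψ, c i₀ ψ ^ 2 :=
      Finset.sum_le_sum_of_subset_of_nonneg (Finset.subset_univ _) (fun ψ _ _ => sq_nonneg _)
    rw [Finset.sum_pair hψ₂ne.symm] at h1
    have h2 : 1 ≤ c i₀ ψ₁ ^ 2 := by
      have : 0 < c i₀ ψ₁ ^ 2 := by positivity
      omega
    have h3 : 1 ≤ c i₀ ψ₂ ^ 2 := by
      have : 0 < c i₀ ψ₂ ^ 2 := by positivity
      omega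
    omega
  have hsplit := Finset.add_sum_erase Finset.univ (fun i => ∑ ψ, c i ψ ^ 2) (Finset.mem_univ i₀)
  rw [hN] at hsplit
  have hrest_nn : 0 ≤ ∑ i ∈ Finset.univ.erase i₀, ∑ ψ, c i ψ ^ 2 :=
    Finset.sum_nonneg (fun i _ => hNnn i)
  have hN2 : ∑ ψ, c i₀ ψ ^ 2 = 2 := by omega
  have hrest0 : ∑ i ∈ Finset.univ.erase i₀, ∑ ψ, c i ψ ^ 2 = 0 := by omega
  have hzero : ∀ i, i ≠ i₀ → ∀ x : S, x ≠ 1 → f i x = 0 := by
    intro i hi x hx
    have h1 := (Finset.sum_eq_zero_iff_of_nonneg (fun i _ => hNnn i)).1 hrest0 i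
      (Finset.mem_erase.2 ⟨hi, Finset.mem_univ i⟩)
    have h2 : ∀ ψ, c i ψ = 0 := by
      intro ψ
      have := (Finset.sum_eq_zero_iff_of_nonneg (fun ψ _ => sq_nonneg (c i ψ))).1 h1 ψ
        (Finset.mem_univ ψ)
      exact pow_eq_zero_iff (two_ne_zero) |>.1 this
    have h3 : θ i x = 0 := by
      rw [hc1 i]
      simp [h2]
    rw [hθx] at h3
    rcases mul_eq_zero.1 h3 with h | h
    · exact h
    · exact absurd h (hνne x hx)
  refine ⟨hzero, ?_⟩
  -- the structure of θ i₀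
  obtain ⟨l₁, l₂, hl, hc₁, hc₂, hc0⟩ := int_sum_sq_two (c i₀) (hsum0 i₀) hN2
  obtain ⟨φ₁, hφ₁⟩ := exists_hom_of_linear (l₁ : S → ℂ)
    (Cfsg.Agent.Lib.helper4.isCharacter_of_isIrrCharacter l₁.2) (hdeg l₁)
  obtain ⟨φ₂, hφ₂⟩ := exists_hom_of_linear (l₂ : S → ℂ)
    (Cfsg.Agent.Lib.helper4.isCharacter_of_isIrrCharacter l₂.2) (hdeg l₂)
  have hθ12 : ∀ x, θ i₀ x = (φ₁ x : ℂ) - (φ₂ x : ℂ) := by
    intro x
    have h1 := congrFun (hc1 i₀) x
    rw [Finset.sum_eq_add l₁ l₂ hl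
      (fun ψ _ hψ => by rw [hc0 ψ hψ.1 hψ.2]; simp)
      (fun h => absurd (Finset.mem_univ l₁) h) (fun h => absurd (Finset.mem_univ l₂) h)] at h1
    rw [h1, hc₁, hc₂, ← hφ₁, ← hφ₂]
    simp
    ring
  have hf1 : ∀ x : S, x ≠ 1 → f i₀ x * conj (f i₀ x) = 1 := by
    intro x hx
    have h1 := hnorm x hx
    rw [Finset.sum_eq_single i₀ (fun i _ hi => by rw [hzero i hi x hx, zero_mul])
      (fun h => absurd (Finset.mem_univ i₀) h)] at h1
    exact h1
  -- pointwise identity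
  have hpt : ∀ x : S, (φ₁ x : ℂ) * conj (φ₂ x : ℂ) + conj (φ₁ x : ℂ) * (φ₂ x : ℂ)
      = νc x + conj (νc x) := by
    intro x
    have h1 := hom_val_mul_conj φ₁ x
    have h2 := hom_val_mul_conj φ₂ x
    have h3 := hνconj x
    have h4 : θ i₀ x * conj (θ i₀ x) = (1 - νc x) * conj (1 - νc x) := by
      by_cases hx : x = 1
      · subst hx
        rw [hθx]
        have h4 : νc 1 = 1 := by show ((ν 1 : ℂˣ) : ℂ) = 1; rw [map_one]; rfl
        rw [h4]
        simp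
      · rw [hθx, map_mul]
        have := hf1 x hx
        linear_combination ((1 - νc x) * conj (1 - νc x)) * this
    rw [hθ12, map_sub, map_sub, map_one] at h4
    linear_combination h1 + h2 - h3 - h4
  obtain ⟨κ, hκdef⟩ : ∃ κ : S →* ℂˣ, κ = φ₁ * φ₂⁻¹ := ⟨_, rfl⟩
  have hκ : ∀ x, ((κ x : ℂˣ) : ℂ) = (φ₁ x : ℂ) * conj (φ₂ x : ℂ) := by
    intro x
    rw [hκdef, MonoidHom.mul_apply, Units.val_mul, hom_conj_eq_inv φ₂ x]
  have hκinv : ∀ x, ((κ⁻¹ x : ℂˣ) : ℂ) = conj (φ₁ x : ℂ) * (φ₂ x : ℂ) := by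
    intro x
    rw [← hom_conj_eq_inv κ x, hκ, map_mul, Complex.conj_conj]
  have hcase : κ = ν ∨ κ = ν⁻¹ := by
    by_contra hcon
    push Not at hcon
    have h1 : κ * ν⁻¹ ≠ 1 := by
      intro h
      apply hcon.1
      refine MonoidHom.ext fun x => ?_
      have := DFunLike.congr_fun h x
      rw [MonoidHom.mul_apply, MonoidHom.inv_apply, MonoidHom.one_apply, mul_inv_eq_one] at this
      exact this
    have h2 : κ⁻¹ * ν⁻¹ ≠ 1 := by
      intro h
      apply hcon.2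
      refine MonoidHom.ext fun x => ?_
      have := DFunLike.congr_fun h x
      rw [MonoidHom.mul_apply, MonoidHom.inv_apply, MonoidHom.inv_apply, MonoidHom.one_apply,
        ← mul_inv_rev, inv_eq_one] at this
      rw [MonoidHom.inv_apply]
      exact eq_inv_of_mul_eq_one_right this
    have e1 : ∑ x : S, (((κ * ν⁻¹) x : ℂˣ) : ℂ) = 0 := sum_hom_eq_zero _ h1
    have e2 : ∑ x : S, (((κ⁻¹ * ν⁻¹) x : ℂˣ) : ℂ) = 0 := sum_hom_eq_zero _ h2
    have e3 : ∀ x : S, (((κ * ν⁻¹) x : ℂˣ) : ℂ) + (((κ⁻¹ * ν⁻¹) x : ℂˣ) : ℂ)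
        = 1 + (((ν⁻¹ * ν⁻¹) x : ℂˣ) : ℂ) := by
      intro x
      have a1 : (((κ * ν⁻¹) x : ℂˣ) : ℂ) = ((κ x : ℂˣ) : ℂ) * ((ν⁻¹ x : ℂˣ) : ℂ) := by
        rw [MonoidHom.mul_apply, Units.val_mul]
      have a2 : (((κ⁻¹ * ν⁻¹) x : ℂˣ) : ℂ) = ((κ⁻¹ x : ℂˣ) : ℂ) * ((ν⁻¹ x : ℂˣ) : ℂ) := by
        rw [MonoidHom.mul_apply, Units.val_mul]
      have a3 : (((ν⁻¹ * ν⁻¹) x : ℂˣ) : ℂ) = ((ν⁻¹ x : ℂˣ) : ℂ) * ((ν⁻¹ x : ℂˣ) : ℂ) := by
        rw [MonoidHom.mul_apply, Units.val_mul]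
      rw [a1, a2, a3, hκ, hκinv, ← hom_conj_eq_inv ν x]
      have h3 := hpt x
      have h4 := hνconj x
      linear_combination (conj (νc x)) * h3 + h4
    have e4 : ∑ x : S, ((1 : ℂ) + (((ν⁻¹ * ν⁻¹) x : ℂˣ) : ℂ)) = 0 := by
      rw [← Finset.sum_congr rfl (fun x _ => e3 x), Finset.sum_add_distrib, e1, e2, add_zero]
    rw [Finset.sum_add_distrib] at e4
    simp only [Finset.sum_const, Finset.card_univ, nsmul_eq_mul, mul_one] at e4
    rw [← Nat.card_eq_fintype_card] at e4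
    by_cases h5 : ν⁻¹ * ν⁻¹ = 1
    · rw [sum_hom_eq_card _ h5] at e4
      apply hm0
      linear_combination e4 / 2
    · rw [sum_hom_eq_zero _ h5, add_zero] at e4
      exact hm0 e4
  rcases hcase with h | h
  · -- φ₁ = ν φ₂ : f = - φ₂
    refine ⟨-1, φ₂, Or.inr rfl, fun x hx => ?_⟩
    have h1 : (φ₁ x : ℂ) = νc x * (φ₂ x : ℂ) := by
      have this : ((κ x : ℂˣ) : ℂ) = ((ν x : ℂˣ) : ℂ) := by rw [h]
      rw [hκ] at this
      have h2 := hom_val_mul_conj φ₂ x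
      show (φ₁ x : ℂ) = (ν x : ℂ) * (φ₂ x : ℂ)
      rw [← this]
      linear_combination (-(φ₁ x : ℂ)) * h2
    have h2 := hθ12 x
    rw [hθx, h1] at h2
    have h3 : (f i₀ x + (φ₂ x : ℂ)) * (1 - νc x) = 0 := by linear_combination h2
    rcases mul_eq_zero.1 h3 with h4 | h4
    · push_cast
      linear_combination h4
    · exact absurd h4 (hνne x hx)
  · -- φ₂ = ν φ₁ : f = φ₁
    refine ⟨1, φ₁, Or.inl rfl, fun x hx => ?_⟩
    have h1 : (φ₂ x : ℂ) = νc x * (φ₁ x : ℂ) := by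
      have this : ((κ⁻¹ x : ℂˣ) : ℂ) = ((ν x : ℂˣ) : ℂ) := by
        rw [MonoidHom.inv_apply, h, MonoidHom.inv_apply, inv_inv]
      rw [hκinv] at this
      have h2 := hom_val_mul_conj φ₁ x
      show (φ₂ x : ℂ) = (ν x : ℂ) * (φ₁ x : ℂ)
      rw [← this]
      linear_combination (-(φ₂ x : ℂ)) * h2
    have h2 := hθ12 x
    rw [hθx, h1] at h2
    have h3 : (f i₀ x - (φ₁ x : ℂ)) * (1 - νc x) = 0 := by linear_combination h2
    rcases mul_eq_zero.1 h3 with h4 | h4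
    · push_cast
      linear_combination h4
    · exact absurd h4 (hνne x hx)

end Cfsg.Agent.Lib.helper19
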