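import Cfsg.Agent.Lib.helper20.D1EDefs

/-!
# S4441E piece AC: the abstract core (helper19)
-/

set_option autoImplicit false

namespace Cfsg.Agent.Lib.helper19.D1E

open Cfsg Cfsg.Agent.Lib.helper84 Cfsg.Agent.Lib.helper20.D1E

/-- The arithmetic at the end of the abstract core. -/
theorem ac_arith (t : ℕ) (ht : 2 ≤ t) (w₀ s : ℤ) (hs : s = 1 ∨ s = -1)
    (h : |(t : ℤ) * w₀ + s| ≤ 1) : w₀ = 0 ∨ (t = 2 ∧ w₀ = -s) := by
  have ht' : (2 : ℤ) ≤ t := by exact_mod_cast ht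
  rw [abs_le] at h
  obtain ⟨h1, h2⟩ := h
  rcases lt_trichotomy w₀ 0 with hw | hw | hw
  · right
    rcases hs with rfl | rfl
    · have hw1 : w₀ = -1 := by nlinarith
      subst hw1
      refine ⟨?_, rfl⟩
      have : (t : ℤ) ≤ 2 := by linarith
      omega
    · exfalso; nlinarith
  · left; exact hw
  · right
    rcases hs with rfl | rfl
    · exfalso; nlinarith
    · have hw1 : w₀ = 1 := by nlinarith
      subst hw1
      refine ⟨?_, by norm_num⟩
      have : (t : ℤ) ≤ 2 := by linarith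
      omega

theorem ac_zmod_two (t : ℕ) (h : t = 2) : ∀ j k : ZMod t, (j = k + 1 ↔ j ≠ k) := by
  subst h; decide

theorem abstract_core_ne_top {I : Type*} [Fintype I] (p : ℕ) [Fact p.Prime]
    (hcomb : CombStatement I)
    (H : Subgroup (ZMod p)ˣ) (R : I → (ZMod p)ˣ → ℤ)
    (hinv : ∀ i b, ∀ h ∈ H, R i (b * h) = R i b)
    (hgram : ∀ b b' : (ZMod p)ˣ,
      (b⁻¹ * b' ∈ H → ∑ i, R i b * R i b' = (Nat.card H : ℤ) + 1) ∧
      (b⁻¹ * b' ∉ H → ∑ i, R i b * R i b' = (Nat.card H : ℤ)))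
    (hperm : ∀ c : (ZMod p)ˣ, ∃ π : Equiv.Perm I, ∀ i b, R (π i) (b * c) = R i b)
    (hnz : ∀ i, ∃ b, R i b ≠ 0)
    (hX : ∀ i (w : ℤ), (∀ b, R i b = w) → |w| ≤ 1)
    (hY : ∀ (Y : Finset I) (a : I → (ZMod p)ˣ) (w₀ s : ℤ), (s = 1 ∨ s = -1) → H ≠ ⊤ →
      (∀ b : (ZMod p)ˣ, ∃! ih : I × (ZMod p)ˣ, ih.1 ∈ Y ∧ ih.2 ∈ H ∧ a ih.1 * ih.2 = b) →
      (∀ i ∈ Y, ∀ b, ((a i)⁻¹ * b ∈ H → R i b = w₀ + s) ∧ ((a i)⁻¹ * b ∉ H → R i b = w₀)) →
      (∀ i, i ∉ Y → ∀ b b', R i b = R i b') →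
      |(Y.card : ℤ) * w₀ + s| ≤ 1)
    (hH : H ≠ ⊤) (t : ℕ) (ht : H.index = t) :
    ∃ (Y : Finset I) (a : I → (ZMod p)ˣ) (s : ℤ) (w : I → ℤ), (s = 1 ∨ s = -1) ∧
      Y.card = (p - 1) / Nat.card H ∧ Fintype.card I = Nat.card H + Y.card ∧
      (∀ i, i ∉ Y → (w i = 1 ∨ w i = -1) ∧ ∀ b, R i b = w i) ∧
      (∀ i ∈ Y, ∀ b, ((a i)⁻¹ * b ∈ H → R i b = s) ∧ ((a i)⁻¹ * b ∉ H → R i b = 0)) ∧
      (∀ i ∈ Y, ∀ i' ∈ Y, (a i)⁻¹ * a i' ∈ H → i = i') := by
  classical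
  have hp : p.Prime := Fact.out
  have hcardU : Nat.card (ZMod p)ˣ = p - 1 := by rw [Nat.card_eq_fintype_card, ZMod.card_units]
  have het : Nat.card H * t = p - 1 := by rw [← ht, ← hcardU]; exact H.card_mul_index
  have he0 : 0 < Nat.card H := Nat.card_pos
  have ht0 : t ≠ 0 := by rw [← ht]; exact Subgroup.index_ne_zero_of_finite
  have ht1 : t ≠ 1 := by rw [← ht]; exact fun h => hH (Subgroup.index_eq_one.mp h)
  have ht2 : 2 ≤ t := by omega
  have : NeZero t := ⟨ht0⟩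
  obtain ⟨g, hg⟩ := IsCyclic.exists_monoid_generator (α := (ZMod p)ˣ)
  have hL : ∀ z : ℤ, g ^ z ∈ H ↔ (t : ℤ) ∣ z := by
    intro z
    have hgen : ∀ q : (ZMod p)ˣ ⧸ H,
        q ∈ Subgroup.zpowers (QuotientGroup.mk g : (ZMod p)ˣ ⧸ H) := by
      intro q
      obtain ⟨u, rfl⟩ := QuotientGroup.mk_surjective q
      obtain ⟨n, rfl⟩ := (Submonoid.mem_powers_iff _ _).mp (hg u)
      exact ⟨(n : ℤ), by simp⟩
    have hord : orderOf (QuotientGroup.mk g : (ZMod p)ˣ ⧸ H) = t := by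
      rw [orderOf_eq_card_of_forall_mem_zpowers hgen, ← ht, Subgroup.index_eq_card]
    rw [← hord, orderOf_dvd_iff_zpow_eq_one, ← QuotientGroup.mk_zpow, QuotientGroup.eq_one_iff]
  have hL2 : ∀ m m' : ℕ, (g ^ m)⁻¹ * g ^ m' ∈ H ↔ (m : ZMod t) = (m' : ZMod t) := by
    intro m m'
    have : (g ^ m)⁻¹ * g ^ m' = g ^ ((m' : ℤ) - (m : ℤ)) := by
      rw [zpow_sub, zpow_natCast, zpow_natCast, mul_comm]
    rw [this, hL, ← Int.cast_natCast (R := ZMod t) m, ← Int.cast_natCast (R := ZMod t) m',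
      ZMod.intCast_eq_intCast_iff_dvd_sub]
  choose ℓ hℓ using fun b : (ZMod p)ˣ => (Submonoid.mem_powers_iff _ _).mp (hg b)
  set lam : (ZMod p)ˣ → ZMod t := fun b => ((ℓ b : ℕ) : ZMod t) with hlam_def
  have hlam : ∀ b b' : (ZMod p)ˣ, b⁻¹ * b' ∈ H ↔ lam b = lam b' := by
    intro b b'
    have := hL2 (ℓ b) (ℓ b')
    rwa [hℓ, hℓ] at this
  have hlampow : ∀ m : ℕ, lam (g ^ m) = (m : ZMod t) := by
    intro m
    have h1 := (hL2 m (ℓ (g ^ m))).mp (by rw [hℓ]; simp [H.one_mem])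
    exact h1.symm
  set A : I → ZMod t → ℤ := fun i j => R i (g ^ j.val) with hA
  have hRA : ∀ i b, R i b = A i (lam b) := by
    intro i b
    have h1 : lam (g ^ (lam b).val) = lam b := by rw [hlampow, ZMod.natCast_zmod_val]
    have h2 := (hlam _ _).mpr h1
    have h3 := hinv i (g ^ (lam b).val) _ h2
    rw [mul_inv_cancel_left] at h3
    exact h3
  have hGram : ∀ j j' : ZMod t, (j = j' → ∑ i, A i j * A i j' = (Nat.card H : ℤ) + 1) ∧
      (j ≠ j' → ∑ i, A i j * A i j' = (Nat.card H : ℤ)) := by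
    intro j j'
    constructor
    · intro h; subst h
      exact (hgram (g ^ j.val) (g ^ j.val)).1 (by simp [H.one_mem])
    · intro h
      refine (hgram (g ^ j.val) (g ^ j'.val)).2 ?_
      rw [hL2, ZMod.natCast_zmod_val, ZMod.natCast_zmod_val]
      exact h
  obtain ⟨π, hπ⟩ := hperm g
  have hσ : ∀ i j, A (π i) (j + 1) = A i j := by
    intro i j
    have h1 := hπ i (g ^ j.val)
    rw [← pow_succ, hRA (π i), hlampow, Nat.cast_succ, ZMod.natCast_zmod_val] at h1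
    exact h1
  obtain ⟨κ, w₀, s, hκinj, hs, hrows, hconst⟩ := hcomb t ht2 (Nat.card H : ℤ) A π hGram hσ
  set Y : Finset I := Finset.univ.image κ with hYdef
  have hYmem : ∀ i, i ∈ Y ↔ ∃ k, κ k = i := by intro i; simp [hYdef]
  have hYcard : Y.card = t := by
    rw [hYdef, Finset.card_image_of_injective _ hκinj, Finset.card_univ, ZMod.card]
  set aC : ZMod t → I → (ZMod p)ˣ := fun c i =>
    if h : ∃ k, κ k = i then g ^ ((Classical.choose h + c).val) else 1 with haCdef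
  have ha : ∀ c k, aC c (κ k) = g ^ ((k + c).val) := by
    intro c k
    have h : ∃ k', κ k' = κ k := ⟨k, rfl⟩
    simp only [haCdef, dif_pos h]
    rw [hκinj (Classical.choose_spec h)]
  have hamem : ∀ c k b, (aC c (κ k))⁻¹ * b ∈ H ↔ lam b = k + c := by
    intro c k b
    rw [ha, hlam, hlampow, ZMod.natCast_zmod_val, eq_comm]
  have hcrow : ∀ i, i ∉ Y → ∀ b b', R i b = R i b' := by
    intro i hi b b'
    rw [hRA i b, hRA i b']
    exact hconst i (fun k hk => hi ((hYmem i).mpr ⟨k, hk⟩)) _ _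
  have hw : ∀ i, i ∉ Y → (R i 1 = 1 ∨ R i 1 = -1) := by
    intro i hi
    have h1 := hX i (R i 1) (fun b => hcrow i hi b 1)
    obtain ⟨b, hb⟩ := hnz i
    rw [hcrow i hi b 1] at hb
    rw [abs_le] at h1
    omega
  -- the final step, for a shift `c` and a sign `s'`
  have final : ∀ (s' : ℤ) (c : ZMod t), (s' = 1 ∨ s' = -1) →
      (∀ k j : ZMod t, (j = k + c → A (κ k) j = s') ∧ (j ≠ k + c → A (κ k) j = 0)) →
      ∃ (Y : Finset I) (a : I → (ZMod p)ˣ) (s : ℤ) (w : I → ℤ), (s = 1 ∨ s = -1) ∧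
        Y.card = (p - 1) / Nat.card H ∧ Fintype.card I = Nat.card H + Y.card ∧
        (∀ i, i ∉ Y → (w i = 1 ∨ w i = -1) ∧ ∀ b, R i b = w i) ∧
        (∀ i ∈ Y, ∀ b, ((a i)⁻¹ * b ∈ H → R i b = s) ∧ ((a i)⁻¹ * b ∉ H → R i b = 0)) ∧
        (∀ i ∈ Y, ∀ i' ∈ Y, (a i)⁻¹ * a i' ∈ H → i = i') := by
    intro s' c hs' hrow'
    refine ⟨Y, aC c, s', fun i => R i 1, hs', ?_, ?_, ?_, ?_, ?_⟩
    · rw [hYcard]; exact (Nat.div_eq_of_eq_mul_right he0 het.symm).symm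
    · have hsum := (hgram 1 1).1 (by simp [H.one_mem])
      rw [← Finset.sum_add_sum_compl Y] at hsum
      have h1 : ∑ i ∈ Y, R i 1 * R i 1 = 1 := by
        rw [hYdef, Finset.sum_image (fun x _ y _ h => hκinj h)]
        have : ∀ k : ZMod t, R (κ k) 1 * R (κ k) 1 = if k = lam 1 - c then 1 else 0 := by
          intro k
          rw [hRA]
          by_cases h : k = lam 1 - c
          · rw [if_pos h, (hrow' k (lam 1)).1 (by rw [h]; ring)]
            rcases hs' with h | h <;> rw [h] <;> norm_num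
          · rw [if_neg h, (hrow' k (lam 1)).2 (fun h' => h (by rw [h']; ring))]; ring
        rw [Finset.sum_congr rfl (fun k _ => this k)]
        simp
      have h2 : ∑ i ∈ Yᶜ, R i 1 * R i 1 = (Yᶜ.card : ℤ) := by
        rw [Finset.sum_congr rfl (g := fun _ => (1 : ℤ)) (fun i hi => by
          rcases hw i (Finset.mem_compl.mp hi) with h | h <;> rw [h] <;> norm_num)]
        simp
      rw [h1, h2] at hsum
      have h3 := Finset.card_add_card_compl Y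
      rw [hYcard] at h3 ⊢
      omega
    · intro i hi; exact ⟨hw i hi, fun b => hcrow i hi b 1⟩
    · intro i hi b
      obtain ⟨k, rfl⟩ := (hYmem i).mp hi
      rw [hamem, hRA]
      constructor
      · intro h; exact (hrow' k (lam b)).1 h
      · intro h; exact (hrow' k (lam b)).2 h
    · intro i hi i' hi' hmem
      obtain ⟨k, rfl⟩ := (hYmem i).mp hi
      obtain ⟨k', rfl⟩ := (hYmem i').mp hi'
      rw [ha, ha, hL2, ZMod.natCast_zmod_val, ZMod.natCast_zmod_val] at hmem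
      rw [add_right_cancel hmem]
  -- apply the exceptional bound
  have hex : ∀ b : (ZMod p)ˣ, ∃! ih : I × (ZMod p)ˣ,
      ih.1 ∈ Y ∧ ih.2 ∈ H ∧ aC 0 ih.1 * ih.2 = b := by
    intro b
    refine ⟨(κ (lam b), (aC 0 (κ (lam b)))⁻¹ * b), ⟨(hYmem _).mpr ⟨_, rfl⟩,
      (hamem 0 (lam b) b).mpr (by rw [add_zero]), mul_inv_cancel_left _ _⟩, ?_⟩
    rintro ⟨i', h'⟩ ⟨hi', hh', hb⟩
    dsimp only at hi' hh' hb
    obtain ⟨k', rfl⟩ := (hYmem i').mp hi'
    have e1 : h' = (aC 0 (κ k'))⁻¹ * b := by rw [← hb, inv_mul_cancel_left]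
    have e2 : lam b = k' := by
      have := (hamem 0 k' b).mp (e1 ▸ hh')
      rwa [add_zero] at this
    rw [e1, e2]
  have hYres := hY Y (aC 0) w₀ s hs hH hex (by
    intro i hi b
    obtain ⟨k, rfl⟩ := (hYmem i).mp hi
    rw [hamem, add_zero, hRA]
    constructor
    · intro h; exact (hrows k (lam b)).1 h
    · intro h; exact (hrows k (lam b)).2 h) hcrow
  rw [hYcard] at hYres
  rcases ac_arith t ht2 w₀ s hs hYres with h0 | ⟨h2, hws⟩
  · subst h0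
    refine final s 0 hs (fun k j => ?_)
    have := hrows k j
    rw [zero_add] at this
    rw [add_zero]
    exact this
  · have hz := ac_zmod_two t h2
    refine final (-s) 1 (by rcases hs with h | h <;> simp [h]) (fun k j => ⟨fun h => ?_, fun h => ?_⟩)
    · rw [(hrows k j).2 ((hz j k).mp h), hws]
    · have hjk : j = k := by
        by_contra h'
        exact h ((hz j k).mpr h')
      rw [(hrows k j).1 hjk, hws]; ring

/-- PIECE AC : the abstract core. -/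
theorem abstract_core {I : Type*} [Fintype I] (p : ℕ) [Fact p.Prime] (hcomb : CombStatement I)
    (H : Subgroup (ZMod p)ˣ) (R : I → (ZMod p)ˣ → ℤ)
    (hinv : ∀ i b, ∀ h ∈ H, R i (b * h) = R i b)
    (hgram : ∀ b b' : (ZMod p)ˣ,
      (b⁻¹ * b' ∈ H → ∑ i, R i b * R i b' = (Nat.card H : ℤ) + 1) ∧
      (b⁻¹ * b' ∉ H → ∑ i, R i b * R i b' = (Nat.card H : ℤ)))
    (hperm : ∀ c : (ZMod p)ˣ, ∃ π : Equiv.Perm I, ∀ i b, R (π i) (b * c) = R i b)
    (hnz : ∀ i, ∃ b, R i b ≠ 0)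
    (hX : ∀ i (w : ℤ), (∀ b, R i b = w) → |w| ≤ 1)
    (hY : ∀ (Y : Finset I) (a : I → (ZMod p)ˣ) (w₀ s : ℤ), (s = 1 ∨ s = -1) → H ≠ ⊤ →
      (∀ b : (ZMod p)ˣ, ∃! ih : I × (ZMod p)ˣ, ih.1 ∈ Y ∧ ih.2 ∈ H ∧ a ih.1 * ih.2 = b) →
      (∀ i ∈ Y, ∀ b, ((a i)⁻¹ * b ∈ H → R i b = w₀ + s) ∧ ((a i)⁻¹ * b ∉ H → R i b = w₀)) →
      (∀ i, i ∉ Y → ∀ b b', R i b = R i b') →
      |(Y.card : ℤ) * w₀ + s| ≤ 1) :
    ∃ (Y : Finset I) (a : I → (ZMod p)ˣ) (s : ℤ) (w : I → ℤ), (s = 1 ∨ s = -1) ∧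
      Y.card = (p - 1) / Nat.card H ∧ Fintype.card I = Nat.card H + Y.card ∧
      (∀ i, i ∉ Y → (w i = 1 ∨ w i = -1) ∧ ∀ b, R i b = w i) ∧
      (∀ i ∈ Y, ∀ b, ((a i)⁻¹ * b ∈ H → R i b = s) ∧ ((a i)⁻¹ * b ∉ H → R i b = 0)) ∧
      (∀ i ∈ Y, ∀ i' ∈ Y, (a i)⁻¹ * a i' ∈ H → i = i') := by
  classical
  by_cases hH : H = ⊤
  · subst hH
    have hp : p.Prime := Fact.out
    have hcardU : Nat.card (⊤ : Subgroup (ZMod p)ˣ) = p - 1 := by
      rw [Subgroup.card_top, Nat.card_eq_fintype_card, ZMod.card_units]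
    have hconst : ∀ i b, R i b = R i 1 := by
      intro i b
      have := hinv i 1 b (Subgroup.mem_top b)
      rwa [one_mul] at this
    have hw : ∀ i, R i 1 = 1 ∨ R i 1 = -1 := by
      intro i
      have h1 := hX i (R i 1) (hconst i)
      obtain ⟨b, hb⟩ := hnz i
      rw [hconst i b] at hb
      rw [abs_le] at h1
      omega
    have hsum := (hgram 1 1).1 (Subgroup.mem_top _)
    have hcard : (Fintype.card I : ℤ) = (Nat.card (⊤ : Subgroup (ZMod p)ˣ) : ℤ) + 1 := by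
      rw [← hsum, Finset.sum_congr rfl (g := fun _ => (1 : ℤ)) (fun i _ => by
        rcases hw i with h | h <;> rw [h] <;> norm_num)]
      simp
    have hne : Nonempty I := by
      rw [← Fintype.card_pos_iff]
      omega
    obtain ⟨i₀⟩ := hne
    refine ⟨{i₀}, fun _ => 1, R i₀ 1, fun i => R i 1, hw i₀, ?_, ?_, ?_, ?_, ?_⟩
    · rw [Finset.card_singleton, hcardU, Nat.div_self (by have := hp.two_le; omega)]
    · rw [Finset.card_singleton]; omega
    · intro i _; exact ⟨hw i, hconst i⟩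
    · intro i hi b
      rw [Finset.mem_singleton] at hi
      subst hi
      exact ⟨fun _ => hconst _ b, fun h => absurd (Subgroup.mem_top _) h⟩
    · intro i hi i' hi' _
      rw [Finset.mem_singleton] at hi hi'
      rw [hi, hi']
  · exact abstract_core_ne_top p hcomb H R hinv hgram hperm hnz hX hY hH H.index rfl

end Cfsg.Agent.Lib.helper19.D1E
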