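import Cfsg.Agent.Lib.helper20.D1EDefs

/-!
# S4441E piece COMB: the combinatorial lemma on cyclically permuted integer columns (helper19)
-/

set_option autoImplicit false

namespace Cfsg.Agent.Lib.helper19.D1E

open Cfsg Cfsg.Agent.Lib.helper84 Cfsg.Agent.Lib.helper20.D1E

theorem comb_apply_inv {I : Type*} (σ : Equiv.Perm I) (x : I) : σ (σ⁻¹ x) = x :=
  Equiv.apply_symm_apply σ x

theorem comb_inv_apply {I : Type*} (σ : Equiv.Perm I) (x : I) : σ⁻¹ (σ x) = x :=
  Equiv.symm_apply_apply σ x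

/-- An integer vector of square norm `2` has exactly two nonzero entries, both `±1`. -/
theorem comb_norm_two {I : Type*} [Fintype I] (d : I → ℤ) (h : ∑ i, d i ^ 2 = 2) :
    ∃ i₁ i₂, i₁ ≠ i₂ ∧ (d i₁ = 1 ∨ d i₁ = -1) ∧ (d i₂ = 1 ∨ d i₂ = -1) ∧
      ∀ k, k ≠ i₁ → k ≠ i₂ → d k = 0 := by
  classical
  have hb : ∀ x : ℤ, x ≠ 0 → x ^ 2 ≤ 2 → x = 1 ∨ x = -1 := by
    intro x hx0 hx2
    have h1 : x ≤ 1 := by nlinarith
    have h2 : -1 ≤ x := by nlinarith
    omega
  have h1 : ∃ i₁, d i₁ ≠ 0 := by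
    by_contra hne
    push Not at hne
    simp [hne] at h
  obtain ⟨i₁, hi₁⟩ := h1
  have hsplit : d i₁ ^ 2 + ∑ i ∈ Finset.univ.erase i₁, d i ^ 2 = 2 :=
    (Finset.add_sum_erase Finset.univ (fun i => d i ^ 2) (Finset.mem_univ i₁)).trans h
  have hnn : 0 ≤ ∑ i ∈ Finset.univ.erase i₁, d i ^ 2 := Finset.sum_nonneg fun i _ => sq_nonneg _
  have hd1 : d i₁ = 1 ∨ d i₁ = -1 := hb _ hi₁ (by linarith)
  have hsq1 : d i₁ ^ 2 = 1 := by rcases hd1 with h | h <;> rw [h] <;> norm_num
  have hrest : ∑ i ∈ Finset.univ.erase i₁, d i ^ 2 = 1 := by linarith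
  have h2 : ∃ i₂ ∈ Finset.univ.erase i₁, d i₂ ≠ 0 := by
    by_contra hne
    push Not at hne
    rw [Finset.sum_eq_zero (fun i hi => by rw [hne i hi]; norm_num)] at hrest
    exact absurd hrest (by norm_num)
  obtain ⟨i₂, hi₂m, hi₂⟩ := h2
  have hsplit2 : d i₂ ^ 2 + ∑ i ∈ (Finset.univ.erase i₁).erase i₂, d i ^ 2 = 1 :=
    (Finset.add_sum_erase (Finset.univ.erase i₁) (fun i => d i ^ 2) hi₂m).trans hrest
  have hnn2 : 0 ≤ ∑ i ∈ (Finset.univ.erase i₁).erase i₂, d i ^ 2 :=
    Finset.sum_nonneg fun i _ => sq_nonneg _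
  have hd2 : d i₂ = 1 ∨ d i₂ = -1 := hb _ hi₂ (by linarith)
  have hsq2 : d i₂ ^ 2 = 1 := by rcases hd2 with h | h <;> rw [h] <;> norm_num
  have hrest2 : ∑ i ∈ (Finset.univ.erase i₁).erase i₂, d i ^ 2 = 0 := by linarith
  refine ⟨i₁, i₂, (Finset.mem_erase.mp hi₂m).1.symm, hd1, hd2, ?_⟩
  intro k hk1 hk2
  have := (Finset.sum_eq_zero_iff_of_nonneg (fun i _ => sq_nonneg (d i))).mp hrest2 k
    (Finset.mem_erase.mpr ⟨hk2, Finset.mem_erase.mpr ⟨hk1, Finset.mem_univ k⟩⟩)
  exact pow_eq_zero_iff (two_ne_zero) |>.mp this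

theorem comb_arith (a1 a2 x1 x2 : ℤ) (h1 : a1 = 1 ∨ a1 = -1) (h2 : a2 = 1 ∨ a2 = -1)
    (hx1 : x1 = 1 ∨ x1 = -1 ∨ x1 = 0) (hx2 : x2 = 1 ∨ x2 = -1 ∨ x2 = 0)
    (h : a1 * x1 + a2 * x2 = -1) : (x1 = -a1 ∧ x2 = 0) ∨ (x1 = 0 ∧ x2 = -a2) := by
  rcases h1 with rfl | rfl <;> rcases h2 with rfl | rfl <;> rcases hx1 with rfl | rfl | rfl <;>
    rcases hx2 with rfl | rfl | rfl <;> omega

/-- The shape of the difference of two consecutive columns. -/
theorem comb_shape {I : Type*} [Fintype I] [DecidableEq I] (d : I → ℤ) (σ : Equiv.Perm I)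
    (h2 : ∑ i, d i ^ 2 = 2)
    (h : (∑ i, d i * d (σ⁻¹ i) = -1) ∨ (∀ i, d (σ i) = - d i)) :
    ∃ (i : I) (α : ℤ), (α = 1 ∨ α = -1) ∧ σ i ≠ i ∧
      ∀ i', d i' = α * ((if i' = i then 1 else 0) - (if i' = σ i then 1 else 0)) := by
  obtain ⟨i₁, i₂, hne, h1, h2', h0⟩ := comb_norm_two d h2
  have fin : ∀ (i j : I), i ≠ j → (d i = 1 ∨ d i = -1) → d j = - d i → σ i = j →
      (∀ k, k ≠ i → k ≠ j → d k = 0) →
      ∃ (i : I) (α : ℤ), (α = 1 ∨ α = -1) ∧ σ i ≠ i ∧
      ∀ i', d i' = α * ((if i' = i then 1 else 0) - (if i' = σ i then 1 else 0)) := by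
    intro i j hij hi hj hσ h0
    refine ⟨i, d i, hi, by rw [hσ]; exact hij.symm, ?_⟩
    intro i'
    rw [hσ]
    by_cases e1 : i' = i
    · subst e1; rw [if_pos rfl, if_neg hij]; ring
    · by_cases e2 : i' = j
      · subst e2; rw [if_neg e1, if_pos rfl, hj]; ring
      · rw [if_neg e1, if_neg e2, h0 i' e1 e2]; ring
  have sub : ∀ (i j : I), i ≠ j → (d i = 1 ∨ d i = -1) → (d j = 1 ∨ d j = -1) →
      (∀ k, k ≠ i → k ≠ j → d k = 0) → d (σ⁻¹ j) = - d j →
      ∃ (i : I) (α : ℤ), (α = 1 ∨ α = -1) ∧ σ i ≠ i ∧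
      ∀ i', d i' = α * ((if i' = i then 1 else 0) - (if i' = σ i then 1 else 0)) := by
    intro i j hij hi hj h0 hu
    have huj : σ⁻¹ j ≠ j := by
      intro e
      rw [e] at hu
      rcases hj with h | h <;> rw [h] at hu <;> omega
    have hui : σ⁻¹ j = i := by
      by_contra e
      rw [h0 _ e huj] at hu
      rcases hj with h | h <;> rw [h] at hu <;> omega
    have hσ : σ i = j := by rw [← hui]; simp
    rw [hui] at hu
    exact fin i j hij hi (by rw [hu]; ring) hσ h0
  rcases h with hA | hB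
  · have hsum : d i₁ * d (σ⁻¹ i₁) + d i₂ * d (σ⁻¹ i₂) = -1 := by
      rw [← hA]
      symm
      rw [← Finset.add_sum_erase Finset.univ (fun i => d i * d (σ⁻¹ i)) (Finset.mem_univ i₁),
        ← Finset.add_sum_erase (Finset.univ.erase i₁) (fun i => d i * d (σ⁻¹ i))
          (Finset.mem_erase.mpr ⟨hne.symm, Finset.mem_univ i₂⟩)]
      rw [Finset.sum_eq_zero, add_zero]
      intro k hk
      have hk2 := Finset.mem_erase.mp hk
      have hk1 := Finset.mem_erase.mp hk2.2
      rw [h0 k hk1.1 hk2.1, zero_mul]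
    have hval : ∀ k, d k = 1 ∨ d k = -1 ∨ d k = 0 := by
      intro k
      by_cases e1 : k = i₁
      · subst e1; rcases h1 with h | h
        · left; exact h
        · right; left; exact h
      · by_cases e2 : k = i₂
        · subst e2; rcases h2' with h | h
          · left; exact h
          · right; left; exact h
        · right; right; exact h0 k e1 e2
    rcases comb_arith _ _ _ _ h1 h2' (hval _) (hval _) hsum with ⟨hx, -⟩ | ⟨-, hx⟩
    · exact sub i₂ i₁ hne.symm h2' h1 (fun k hk1 hk2 => h0 k hk2 hk1) hx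
    · exact sub i₁ i₂ hne h1 h2' h0 hx
  · refine sub i₁ i₂ hne h1 h2' h0 ?_
    have := hB (σ⁻¹ i₂)
    rw [comb_apply_inv] at this
    rw [this]; ring

/-- PIECE COMB. -/
theorem comb_cyclic {I : Type*} [Fintype I] : CombStatement I := by
  classical
  intro t ht e A σ hG hσ
  have : Fact (1 < t) := ⟨by omega⟩
  have : NeZero t := ⟨by omega⟩
  have h01 : (0 : ZMod t) ≠ 1 := zero_ne_one
  have hshift : ∀ (m : ℕ) (i : I) (j : ZMod t), A ((σ ^ m) i) (j + m) = A i j := by
    intro m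
    induction m with
    | zero => intro i j; simp
    | succ m ih =>
      intro i j
      rw [pow_succ', Equiv.Perm.mul_apply, Nat.cast_succ, ← add_assoc, hσ, ih]
  set d : I → ℤ := fun i => A i 0 - A i 1 with hd
  have hnorm : ∑ i, d i ^ 2 = 2 := by
    have : ∀ i, d i ^ 2 = A i 0 * A i 0 - 2 * (A i 0 * A i 1) + A i 1 * A i 1 := by
      intro i; simp only [hd]; ring
    simp_rw [this]
    rw [Finset.sum_add_distrib, Finset.sum_sub_distrib, ← Finset.mul_sum, (hG 0 0).1 rfl,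
      (hG 0 1).2 h01, (hG 1 1).1 rfl]
    ring
  have hcase : (∑ i, d i * d (σ⁻¹ i) = -1) ∨ (∀ i, d (σ i) = - d i) := by
    by_cases h2 : (1 : ZMod t) + 1 = 0
    · right
      intro i
      simp only [hd]
      have e1 : A (σ i) 1 = A i 0 := by have := hσ i 0; rwa [zero_add] at this
      have e2 : A (σ i) 0 = A i 1 := by have := hσ i 1; rwa [h2] at this
      rw [e1, e2]; ring
    · left
      have e1 : ∀ i, d (σ⁻¹ i) = A i 1 - A i (1 + 1) := by
        intro i
        simp only [hd]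
        have e1 := hσ (σ⁻¹ i) 0
        have e2 := hσ (σ⁻¹ i) 1
        rw [comb_apply_inv, zero_add] at e1
        rw [comb_apply_inv] at e2
        rw [← e1, ← e2]
      have : ∀ i, d i * d (σ⁻¹ i) = A i 0 * A i 1 - A i 0 * A i (1 + 1) - A i 1 * A i 1
          + A i 1 * A i (1 + 1) := by
        intro i; rw [e1]; simp only [hd]; ring
      simp_rw [this]
      have h112 : (1 : ZMod t) ≠ 1 + 1 := by
        intro h
        apply h01
        have := congrArg (fun z => z - 1) h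
        simp at this
      rw [Finset.sum_add_distrib, Finset.sum_sub_distrib, Finset.sum_sub_distrib, (hG 0 1).2 h01,
        (hG 0 (1 + 1)).2 (Ne.symm h2), (hG 1 1).1 rfl, (hG 1 (1 + 1)).2 h112]
      ring
  obtain ⟨i, α, hα, hσi, hshape⟩ := comb_shape d σ hnorm hcase
  have htel : ∀ (m : ℕ) (i' : I), A i' 0 - A i' (m : ZMod t)
      = α * ((if i' = i then 1 else 0) - (if i' = (σ ^ m) i then 1 else 0)) := by
    intro m
    induction m with
    | zero => intro i'; simp
    | succ m ih =>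
      intro i'
      have e1 : A i' (m : ZMod t) = A ((σ ^ m)⁻¹ i') 0 := by
        have := hshift m ((σ ^ m)⁻¹ i') 0
        rw [comb_apply_inv, zero_add] at this
        exact this
      have e2 : A i' ((m + 1 : ℕ) : ZMod t) = A ((σ ^ m)⁻¹ i') 1 := by
        have := hshift m ((σ ^ m)⁻¹ i') 1
        rw [comb_apply_inv] at this
        rw [Nat.cast_succ, add_comm]; exact this
      have e3 := hshape ((σ ^ m)⁻¹ i')
      simp only [hd] at e3
      rw [← e1, ← e2] at e3
      have c1 : ((σ ^ m)⁻¹ i' = i) ↔ (i' = (σ ^ m) i) := by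
        constructor
        · intro h; rw [← h, comb_apply_inv]
        · intro h; rw [h, comb_inv_apply]
      have c2 : ((σ ^ m)⁻¹ i' = σ i) ↔ (i' = (σ ^ (m + 1)) i) := by
        rw [pow_succ, Equiv.Perm.mul_apply]
        constructor
        · intro h; rw [← h, comb_apply_inv]
        · intro h; rw [h, comb_inv_apply]
      simp only [c1, c2] at e3
      have := ih i'
      linear_combination this + e3
  have hne : ∀ m : ℕ, 0 < m → m < t → (σ ^ m) i ≠ i := by
    intro m hm0 hmt hfix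
    have hm : (m : ZMod t) ≠ 0 := by
      intro h0
      rw [ZMod.natCast_eq_zero_iff] at h0
      exact absurd (Nat.le_of_dvd hm0 h0) (by omega)
    have hrow : ∀ i', A i' (m : ZMod t) = A i' 0 := by
      intro i'
      have := htel m i'
      rw [hfix, sub_self, mul_zero] at this
      linarith
    have h1 := (hG 0 (m : ZMod t)).2 (Ne.symm hm)
    simp_rw [hrow] at h1
    have h2 := (hG 0 0).1 rfl
    omega
  set w₀ := A i 0 - α with hw
  have hrow0 : ∀ j : ZMod t, j ≠ 0 → A i j = w₀ := by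
    intro j hj
    have hv : 0 < j.val := Nat.pos_of_ne_zero (by rwa [Ne, ZMod.val_eq_zero])
    have := htel j.val i
    rw [ZMod.natCast_zmod_val, if_pos rfl, if_neg (hne j.val hv (ZMod.val_lt j)).symm] at this
    rw [hw]; linarith
  have hκ : ∀ k j : ZMod t, A ((σ ^ k.val) i) j = A i (j - k) := by
    intro k j
    have := hshift k.val i (j - k)
    rwa [ZMod.natCast_zmod_val, sub_add_cancel] at this
  have hrows : ∀ k j : ZMod t, (j = k → A ((σ ^ k.val) i) j = w₀ + α) ∧
      (j ≠ k → A ((σ ^ k.val) i) j = w₀) := by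
    intro k j
    constructor
    · intro h; rw [hκ, h, sub_self, hw]; ring
    · intro h; rw [hκ]; exact hrow0 _ (sub_ne_zero.mpr h)
  refine ⟨fun k => (σ ^ k.val) i, w₀, α, ?_, hα, hrows, ?_⟩
  · intro k k' hkk
    by_contra hne'
    have h1 := (hrows k k).1 rfl
    have h2 := (hrows k' k).2 hne'
    simp only at hkk
    rw [hkk] at h1
    rcases hα with h | h <;> omega
  · intro i' hi' j j'
    have key : ∀ j : ZMod t, A i' j = A i' 0 := by
      intro j
      have n1 : ¬ i' = i := by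
        intro h
        apply hi' 0
        simp [h]
      have n2 : ¬ i' = (σ ^ j.val) i := fun h => hi' j h.symm
      have := htel j.val i'
      rw [ZMod.natCast_zmod_val, if_neg n1, if_neg n2] at this
      linarith
    rw [key j, key j']

end Cfsg.Agent.Lib.helper19.D1E
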