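-- helper19: extending invariant degree-one characters (homomorphisms to ℂˣ) from a normal subgroup,
-- via the transfer homomorphism.
import Mathlib
import Cfsg.Prelude.Def_Characters
import Cfsg.Agent.Lib.helper19.LinChar

set_option autoImplicit false

namespace Cfsg.Agent.Lib.helper19

open MulAction Subgroup

/-- The transfer of a `G`-invariant homomorphism `ϕ : N →* A` on a normal subgroup `N` of finite index
restricts to `ϕ ^ |G : N|` on `N`. -/
theorem transfer_of_invariant {G : Type*} [Group G] (N : Subgroup G) [hN : N.Normal] [N.FiniteIndex]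
    {A : Type*} [CommGroup A] (ϕ : N →* A)
    (hinv : ∀ (g : G) (n : N), ϕ ⟨g * n * g⁻¹, hN.conj_mem (n : G) n.2 g⟩ = ϕ n) (n : N) :
    MonoidHom.transfer ϕ (n : G) = ϕ n ^ N.index := by
  classical
  have : Fintype (G ⧸ N) := N.fintypeQuotientOfFiniteIndex
  rw [MonoidHom.transfer_eq_prod_quotient_orbitRel_zpowers_quot]
  have key : ∀ q : Quotient (orbitRel (zpowers (n : G)) (G ⧸ N)),
      ϕ ⟨q.out.out⁻¹ * (n : G) ^ Function.minimalPeriod ((n : G) • ·) q.out * q.out.out,
        QuotientGroup.out_conj_pow_minimalPeriod_mem N (n : G) q.out⟩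
      = ϕ n ^ Function.minimalPeriod ((n : G) • ·) q.out := by
    intro q
    rw [← map_pow, ← hinv q.out.out⁻¹ (n ^ Function.minimalPeriod ((n : G) • ·) q.out)]
    congr 1
    apply Subtype.ext
    simp
  rw [Finset.prod_congr rfl (fun q _ => key q), Finset.prod_pow_eq_pow_sum,
    ← index_eq_sum_minimalPeriod N (n : G)]

/-- If `ϕ ^ o = 1` then `(transfer ϕ) ^ o = 1`. -/
theorem transfer_pow_eq_one {G : Type*} [Group G] (N : Subgroup G) [N.FiniteIndex]
    {A : Type*} [CommGroup A] (ϕ : N →* A) (o : ℕ) (ho : ∀ n : N, ϕ n ^ o = 1) (g : G) :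
    MonoidHom.transfer ϕ g ^ o = 1 := by
  classical
  have : Fintype (G ⧸ N) := N.fintypeQuotientOfFiniteIndex
  rw [MonoidHom.transfer_eq_prod_quotient_orbitRel_zpowers_quot, ← Finset.prod_pow]
  exact Finset.prod_eq_one (fun q _ => ho _)

/-- The order of a degree-one character as a function equals its order as a homomorphism. -/
theorem orderOf_coe_hom {G : Type*} [Group G] (f : G →* ℂˣ) :
    orderOf (fun g => (f g : ℂ)) = orderOf f := by
  rw [orderOf_eq_orderOf_iff]
  intro k
  constructor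
  · intro h
    ext g
    have := congrFun h g
    simpa using this
  · intro h
    funext g
    have := congrArg (fun φ : G →* ℂˣ => (φ g : ℂ)) h
    simpa using this

/-- An invariant homomorphism `ϕ : N →* A` on a normal subgroup of finite index whose order is coprime
to the index extends to a homomorphism of `G` of the same order. -/
theorem exists_extension_of_coprime {G : Type*} [Group G] (N : Subgroup G) [hN : N.Normal]
    [N.FiniteIndex] {A : Type*} [CommGroup A] (ϕ : N →* A)
    (hinv : ∀ (g : G) (n : N), ϕ ⟨g * n * g⁻¹, hN.conj_mem (n : G) n.2 g⟩ = ϕ n)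
    (hcop : Nat.Coprime N.index (orderOf ϕ)) :
    ∃ μ : G →* A, (∀ n : N, μ n = ϕ n) ∧ orderOf μ = orderOf ϕ := by
  set o := orderOf ϕ with ho
  set m := N.index with hm
  have hbez := Int.gcd_eq_gcd_ab (m : ℤ) (o : ℤ)
  have hgcd : Int.gcd (m : ℤ) (o : ℤ) = 1 := by
    rw [Int.gcd_natCast_natCast]; exact hcop
  rw [hgcd] at hbez
  set a := Int.gcdA (m : ℤ) (o : ℤ) with ha
  set b := Int.gcdB (m : ℤ) (o : ℤ) with hb
  have hϕo : ϕ ^ o = 1 := pow_orderOf_eq_one ϕ
  have hϕo' : ∀ n : N, ϕ n ^ o = 1 := by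
    intro n
    have := congrArg (fun ψ : N →* A => ψ n) hϕo
    simpa using this
  refine ⟨(MonoidHom.transfer ϕ) ^ a, ?_, ?_⟩
  · intro n
    rw [MonoidHom.zpow_apply, transfer_of_invariant N ϕ hinv n]
    have h1 : ϕ n = ϕ n ^ ((m : ℤ) * a + (o : ℤ) * b) := by
      rw [← hbez]; simp
    have h2 : ϕ n ^ ((o : ℤ) * b) = 1 := by
      rw [zpow_mul, zpow_natCast, hϕo' n, one_zpow]
    rw [zpow_add, h2, mul_one, zpow_mul, zpow_natCast] at h1
    exact h1.symm
  · apply Nat.dvd_antisymm
    · apply orderOf_dvd_of_pow_eq_one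
      ext g
      rw [MonoidHom.pow_apply, MonoidHom.zpow_apply, MonoidHom.one_apply, ← zpow_natCast,
        ← zpow_mul, mul_comm, zpow_mul, zpow_natCast, transfer_pow_eq_one N ϕ o hϕo' g, one_zpow]
    · rw [ho]
      apply orderOf_dvd_of_pow_eq_one
      ext n
      rw [MonoidHom.pow_apply, MonoidHom.one_apply]
      have h3 : ((MonoidHom.transfer ϕ) ^ a) (n : G) = ϕ n := by
        rw [MonoidHom.zpow_apply, transfer_of_invariant N ϕ hinv n]
        have h1 : ϕ n = ϕ n ^ ((m : ℤ) * a + (o : ℤ) * b) := by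
          rw [← hbez]; simp
        have h2 : ϕ n ^ ((o : ℤ) * b) = 1 := by
          rw [zpow_mul, zpow_natCast, hϕo' n, one_zpow]
        rw [zpow_add, h2, mul_one, zpow_mul, zpow_natCast] at h1
        exact h1.symm
      rw [← h3, ← MonoidHom.pow_apply, pow_orderOf_eq_one, MonoidHom.one_apply]

end Cfsg.Agent.Lib.helper19

namespace Cfsg.Agent.Lib.helper19

open MulAction Subgroup

/-- General form: if `ν : H →* A` takes the value `c ^ k` on every conjugate of `n ^ k` lying in `H`,
then the transfer of `ν` takes the value `c ^ |G : H|` at `n`. -/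
theorem transfer_eq_pow_of_key {G : Type*} [Group G] (H : Subgroup G) [H.FiniteIndex]
    {A : Type*} [CommGroup A] (ν : H →* A) (n : G) (c : A)
    (key : ∀ (g : G) (k : ℕ) (h : g⁻¹ * n ^ k * g ∈ H), ν ⟨g⁻¹ * n ^ k * g, h⟩ = c ^ k) :
    MonoidHom.transfer ν n = c ^ H.index := by
  classical
  have : Fintype (G ⧸ H) := H.fintypeQuotientOfFiniteIndex
  rw [MonoidHom.transfer_eq_prod_quotient_orbitRel_zpowers_quot]
  rw [Finset.prod_congr rfl (fun q _ => key q.out.out _ _), Finset.prod_pow_eq_pow_sum,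
    ← index_eq_sum_minimalPeriod H n]

end Cfsg.Agent.Lib.helper19
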