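import Mathlib
import Cfsg.Prelude.Def_Characters
import Cfsg.Prelude.Def_CharExt
import Cfsg.Agent.Lib.helper4.RepEquiv
import Cfsg.Agent.Lib.helper19.LinExt
import Cfsg.Agent.Lib.helper79.GaloisChar

set_option autoImplicit false

/-!
# The determinantal character `Cfsg.detChar` (helper19 library)

* `detHom ρ : G →* ℂˣ`, `detChar_character : detChar ρ.character = fun g => det (ρ g)`.
* `exists_detChar_hom` : `detChar χ` is given by a homomorphism `G →* ℂˣ`.
* `detChar_comp` / `detChar_restrict` : compatibility with pullback / restriction.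
* `detChar_mul_linear` : `det (χ λ) = det χ * λ ^ χ(1)` for linear `λ`.
* `detChar_ringHom` / `detChar_pow_coprime` : Galois conjugation.
* `detOrder_eq_orderOf`.
-/

namespace Cfsg.Agent.Lib.helper19

open Cfsg

variable {G : Type*} [Group G]

/-- Representations with equal characters have equal determinants. -/
theorem det_eq_of_character_eq [Finite G] {n m : ℕ} (ρ : Representation ℂ G (Fin n → ℂ))
    (σ : Representation ℂ G (Fin m → ℂ)) (h : ρ.character = σ.character) (g : G) :
    LinearMap.det (ρ g) = LinearMap.det (σ g) := by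
  obtain ⟨φ⟩ := Cfsg.Agent.Lib.helper4.nonempty_equiv_of_character_eq ρ σ h
  have hφ : ∀ v, φ.toLinearEquiv (ρ g v) = σ g (φ.toLinearEquiv v) :=
    fun v => Representation.IntertwiningMap.isIntertwining ρ σ φ.toIntertwiningMap g v
  have h1 : σ g = (φ.toLinearEquiv : (Fin n → ℂ) →ₗ[ℂ] (Fin m → ℂ)) ∘ₗ ρ g ∘ₗ
      (φ.toLinearEquiv.symm : (Fin m → ℂ) →ₗ[ℂ] (Fin n → ℂ)) := by
    apply LinearMap.ext
    intro w
    show σ g w = φ.toLinearEquiv (ρ g (φ.toLinearEquiv.symm w))
    rw [hφ, LinearEquiv.apply_symm_apply]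
  rw [h1, LinearMap.det_conj]

/-- The determinant of a representation as a homomorphism to `ℂˣ`. -/
noncomputable def detHom {n : ℕ} (ρ : Representation ℂ G (Fin n → ℂ)) : G →* ℂˣ :=
  ((LinearMap.det : Module.End ℂ (Fin n → ℂ) →* ℂ).comp ρ).toHomUnits

theorem detHom_apply {n : ℕ} (ρ : Representation ℂ G (Fin n → ℂ)) (g : G) :
    ((detHom ρ g : ℂˣ) : ℂ) = LinearMap.det (ρ g) := rfl

/-- `detChar` of the character of a representation is the determinant. -/
theorem detChar_character [Finite G] {n : ℕ} (ρ : Representation ℂ G (Fin n → ℂ)) :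
    detChar ρ.character = fun g => LinearMap.det (ρ g) := by
  have h : IsCharacter G ρ.character := ⟨n, ρ, rfl⟩
  unfold Cfsg.detChar
  rw [dif_pos h]
  funext g
  exact det_eq_of_character_eq _ ρ (Classical.choose_spec (Classical.choose_spec h)) g

theorem detChar_character_apply [Finite G] {n : ℕ} (ρ : Representation ℂ G (Fin n → ℂ)) (g : G) :
    detChar ρ.character g = (detHom ρ g : ℂ) := by
  rw [detChar_character]
  rfl

/-- The determinantal character of a character is given by a homomorphism to `ℂˣ`. -/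
theorem exists_detChar_hom [Finite G] {χ : G → ℂ} (hχ : IsCharacter G χ) :
    ∃ f : G →* ℂˣ, ∀ g, detChar χ g = (f g : ℂ) := by
  obtain ⟨n, ρ, rfl⟩ := hχ
  exact ⟨detHom ρ, detChar_character_apply ρ⟩

theorem detChar_one [Finite G] {χ : G → ℂ} (hχ : IsCharacter G χ) : detChar χ 1 = 1 := by
  obtain ⟨f, hf⟩ := exists_detChar_hom hχ
  rw [hf]
  simp

theorem isCharacter_detChar [Finite G] {χ : G → ℂ} (hχ : IsCharacter G χ) :
    IsCharacter G (detChar χ) := by
  obtain ⟨f, hf⟩ := exists_detChar_hom hχ
  have : detChar χ = fun g => (f g : ℂ) := funext hf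
  rw [this]
  exact isCharacter_of_hom f

/-- Determinantal characters commute with pullback along a homomorphism. -/
theorem detChar_comp [Finite G] {H : Type*} [Group H] [Finite H] (f : H →* G) {χ : G → ℂ}
    (hχ : IsCharacter G χ) : detChar (fun h => χ (f h)) = fun h => detChar χ (f h) := by
  obtain ⟨n, ρ, rfl⟩ := hχ
  let σ : Representation ℂ H (Fin n → ℂ) := MonoidHom.comp ρ f
  have h1 : (fun h => ρ.character (f h)) = σ.character := rfl
  rw [h1, detChar_character, detChar_character]
  rfl

/-- Determinantal characters commute with restriction to a subgroup. -/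
theorem detChar_restrict [Finite G] (H : Subgroup G) {χ : G → ℂ} (hχ : IsCharacter G χ) :
    detChar (fun h : H => χ h) = fun h : H => detChar χ h :=
  detChar_comp H.subtype hχ

/-- `det (χ λ) = det χ * λ ^ χ(1)` for a linear character `λ`. -/
theorem detChar_mul_linear [Finite G] {χ : G → ℂ} (hχ : IsCharacter G χ) (f : G →* ℂˣ) (d : ℕ)
    (hd : χ 1 = d) :
    detChar (χ * fun g => (f g : ℂ)) = detChar χ * fun g => ((f g : ℂ)) ^ d := by
  obtain ⟨n, ρ, rfl⟩ := hχ
  have hn : n = d := by
    have h1 : ρ.character 1 = (n : ℂ) := by simp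
    rw [h1] at hd
    exact_mod_cast hd
  subst hn
  let σ : Representation ℂ G (Fin n → ℂ) :=
    { toFun := fun g => (f g : ℂ) • ρ g
      map_one' := by simp
      map_mul' := fun g h => by
        rw [map_mul, map_mul, Units.val_mul, smul_mul_smul_comm] }
  have hσ : σ.character = ρ.character * fun g => (f g : ℂ) := by
    funext g
    show LinearMap.trace ℂ _ ((f g : ℂ) • ρ g) = LinearMap.trace ℂ _ (ρ g) * (f g : ℂ)
    rw [map_smul, smul_eq_mul, mul_comm]
  rw [← hσ, detChar_character, detChar_character]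
  funext g
  show LinearMap.det ((f g : ℂ) • ρ g) = LinearMap.det (ρ g) * (f g : ℂ) ^ n
  rw [LinearMap.det_smul, Module.finrank_fin_fun, mul_comm]

/-- Determinantal characters commute with ring endomorphisms of `ℂ`. -/
theorem detChar_ringHom [Finite G] (τ : ℂ →+* ℂ) {χ : G → ℂ} (hχ : IsCharacter G χ) :
    detChar (fun g => τ (χ g)) = fun g => τ (detChar χ g) := by
  obtain ⟨n, ρ, rfl⟩ := hχ
  have h1 : (fun g => τ (ρ.character g)) = (Cfsg.Agent.Lib.helper79.conjRep τ ρ).character :=
    funext (fun g => (Cfsg.Agent.Lib.helper79.conjRep_character τ ρ g).symm)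
  rw [h1, detChar_character, detChar_character]
  funext g
  have h2 : (Cfsg.Agent.Lib.helper79.conjRep τ ρ) g
      = Matrix.toLin' ((LinearMap.toMatrix' (ρ g)).map τ) := rfl
  rw [h2, LinearMap.det_toLin']
  show ((LinearMap.toMatrix' (ρ g)).map τ).det = τ (LinearMap.det (ρ g))
  rw [← LinearMap.det_toMatrix' (ρ g), RingHom.map_det]
  rfl

/-- Determinantal characters commute with the power maps `g ↦ g ^ k`, `k` coprime to `|G|`. -/
theorem detChar_pow_coprime [Finite G] (k : ℕ) (hk : k.Coprime (Nat.card G)) {χ : G → ℂ}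
    (hχ : IsCharacter G χ) :
    detChar (fun g => χ (g ^ k)) = fun g => detChar χ (g ^ k) := by
  obtain ⟨τ, hτ⟩ := Cfsg.Agent.Lib.helper79.exists_ringEquiv_complex_pow (Nat.card G)
    Nat.card_pos k hk
  have h1 : (fun g => χ (g ^ k)) = fun g => (τ : ℂ →+* ℂ) (χ g) := by
    funext g
    exact (Cfsg.Agent.Lib.helper79.ringHom_character_eq_character_pow (τ : ℂ →+* ℂ)
      (Nat.card G) k Nat.card_pos.ne' hτ hχ g (pow_card_eq_one')).symm
  rw [h1, detChar_ringHom (τ : ℂ →+* ℂ) hχ]
  obtain ⟨f, hf⟩ := exists_detChar_hom hχ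
  funext g
  rw [hf, hf, map_pow, Units.val_pow_eq_pow_val]
  apply hτ
  rw [← Units.val_pow_eq_pow_val, ← map_pow, pow_card_eq_one', map_one, Units.val_one]

/-- The determinantal order is the order of the determinant homomorphism. -/
theorem detOrder_eq_orderOf {χ : G → ℂ} (f : G →* ℂˣ) (hf : ∀ g, detChar χ g = (f g : ℂ)) :
    detOrder χ = orderOf f := by
  unfold Cfsg.detOrder
  have : detChar χ = fun g => (f g : ℂ) := funext hf
  rw [this, orderOf_coe_hom]

end Cfsg.Agent.Lib.helper19
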