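-- helper19: elementary facts on Zassenhaus groups (Cfsg.IsZassenhausGroup, Def_LieExceptional).
import Mathlib
import Cfsg.Prelude.Def_LieExceptional

set_option autoImplicit false

namespace Cfsg.Agent.Lib.helper19

variable {G Ω : Type*} [Group G] [MulAction G Ω]

/-- Two-transitivity in elementary form. -/
theorem zass_two_trans (hZ : Cfsg.IsZassenhausGroup G Ω) {a b c d : Ω} (hab : a ≠ b)
    (hcd : c ≠ d) : ∃ g : G, g • a = c ∧ g • b = d :=
  (MulAction.is_two_pretransitive_iff.mp hZ.2.1) hab hcd

/-- A non-identity element fixing two distinct points fixes no other point. -/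
theorem zass_fix_unique (hZ : Cfsg.IsZassenhausGroup G Ω) {x : G} (hx : x ≠ 1) {a b c : Ω}
    (hab : a ≠ b) (ha : x • a = a) (hb : x • b = b) (hc : x • c = c) : c = a ∨ c = b := by
  by_contra hcon
  push Not at hcon
  exact hx (hZ.2.2.1 x a b c hab (Ne.symm hcon.2) (Ne.symm hcon.1) ha hb hc)

/-- Every two-point stabilizer is non-trivial. -/
theorem zass_exists_fix_two (hZ : Cfsg.IsZassenhausGroup G Ω) {a b : Ω} (hab : a ≠ b) :
    ∃ x : G, x ≠ 1 ∧ x • a = a ∧ x • b = b := by
  obtain ⟨g, hg, a', b', hab', ha', hb'⟩ := hZ.2.2.2.1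
  obtain ⟨t, hta, htb⟩ := zass_two_trans hZ hab' hab
  refine ⟨t * g * t⁻¹, ?_, ?_, ?_⟩
  · intro h
    apply hg
    have : g = t⁻¹ * (t * g * t⁻¹) * t := by group
    rw [this, h]; group
  · rw [mul_smul, mul_smul, ← hta, inv_smul_smul, ha']
  · rw [mul_smul, mul_smul, ← htb, inv_smul_smul, hb']

/-- An element conjugating a non-identity element of the two-point stabilizer of `a, b` into that
stabilizer permutes `{a, b}`. -/
theorem zass_conj_perm (hZ : Cfsg.IsZassenhausGroup G Ω) {a b : Ω} (hab : a ≠ b) {g x : G}
    (hx : x ≠ 1) (hxa : x • a = a) (hxb : x • b = b)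
    (hga : (g * x * g⁻¹) • a = a) (hgb : (g * x * g⁻¹) • b = b) :
    (g • a = a ∧ g • b = b) ∨ (g • a = b ∧ g • b = a) := by
  have h1 : x • (g⁻¹ • a) = g⁻¹ • a := by
    have := congrArg (fun w => g⁻¹ • w) hga
    simp only [mul_smul, inv_smul_smul] at this
    exact this
  have h2 : x • (g⁻¹ • b) = g⁻¹ • b := by
    have := congrArg (fun w => g⁻¹ • w) hgb
    simp only [mul_smul, inv_smul_smul] at this
    exact this
  have hne : g⁻¹ • a ≠ g⁻¹ • b := fun h => hab (by simpa using h)
  rcases zass_fix_unique hZ hx hab hxa hxb h1 with e1 | e1 <;>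
  rcases zass_fix_unique hZ hx hab hxa hxb h2 with e2 | e2
  · exact absurd (e1.trans e2.symm) hne
  · left
    constructor
    · have := congrArg (fun w => g • w) e1
      simp only [smul_inv_smul] at this
      exact this.symm
    · have := congrArg (fun w => g • w) e2
      simp only [smul_inv_smul] at this
      exact this.symm
  · right
    constructor
    · have := congrArg (fun w => g • w) e2
      simp only [smul_inv_smul] at this
      exact this.symm
    · have := congrArg (fun w => g • w) e1
      simp only [smul_inv_smul] at this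
      exact this.symm
  · exact absurd (e1.trans e2.symm) hne

end Cfsg.Agent.Lib.helper19
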