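-- helper19: Burnside counting for (doubly) transitive actions, in `Nat.card` form.
import Mathlib

set_option autoImplicit false

namespace Cfsg.Agent.Lib.helper19

/-- Burnside for a transitive action: the total number of fixed points is the group order. -/
theorem sum_card_fixedBy_of_pretransitive {K X : Type*} [Group K] [MulAction K X] [Fintype K]
    [Finite X] [Nonempty X] [MulAction.IsPretransitive K X] :
    ∑ g : K, Nat.card (MulAction.fixedBy X g) = Fintype.card K := by
  classical
  have : Fintype X := Fintype.ofFinite X
  have : Fintype (MulAction.orbitRel.Quotient K X) := Fintype.ofFinite _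
  have h := MulAction.sum_card_fixedBy_eq_card_orbits_mul_card_group K X
  have h1 : Fintype.card (MulAction.orbitRel.Quotient K X) = 1 := by
    rw [Fintype.card_eq_one_iff_nonempty_unique]
    have := (MulAction.pretransitive_iff_subsingleton_quotient K X).mp inferInstance
    obtain ⟨x⟩ := ‹Nonempty X›
    exact ⟨Unique.mk' _ (h₁ := ⟨Quotient.mk'' x⟩)⟩
  rw [h1, one_mul] at h
  rw [← h]
  apply Finset.sum_congr rfl
  intro g _
  rw [Nat.card_eq_fintype_card]

/-- The embeddings `Fin 2 ↪ X` fixed by `g` correspond to embeddings into the fixed points of `g`. -/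
noncomputable def fixedByEmbEquiv {K X : Type*} [Group K] [MulAction K X] (g : K) :
    MulAction.fixedBy (Fin 2 ↪ X) g ≃ (Fin 2 ↪ MulAction.fixedBy X g) where
  toFun f := ⟨fun i => ⟨(f : Fin 2 ↪ X) i, by
      have h := f.2
      rw [MulAction.mem_fixedBy] at h ⊢
      have := congrArg (fun e : Fin 2 ↪ X => e i) h
      simpa using this⟩, by
      intro i j hij
      have : (f : Fin 2 ↪ X) i = (f : Fin 2 ↪ X) j := congrArg Subtype.val hij
      exact (f : Fin 2 ↪ X).injective this⟩
  invFun h := ⟨h.trans (Function.Embedding.subtype _), by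
      rw [MulAction.mem_fixedBy]
      ext i
      have := (h i).2
      rw [MulAction.mem_fixedBy] at this
      simpa using this⟩
  left_inv f := by
    apply Subtype.ext
    ext i
    rfl
  right_inv h := by
    ext i
    rfl

theorem card_fixedBy_emb {K X : Type*} [Group K] [MulAction K X] [Finite X] (g : K) :
    Nat.card (MulAction.fixedBy (Fin 2 ↪ X) g)
      = Nat.card (MulAction.fixedBy X g) * (Nat.card (MulAction.fixedBy X g) - 1) := by
  classical
  have : Fintype X := Fintype.ofFinite X
  rw [Nat.card_congr (fixedByEmbEquiv g), Nat.card_eq_fintype_card, Fintype.card_embedding_eq,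
    Fintype.card_fin, Nat.card_eq_fintype_card]
  simp [Nat.descFactorial]
  exact Nat.mul_comm _ _

/-- Burnside for a doubly transitive action on at least two points. -/
theorem sum_card_fixedBy_two_of_pretransitive {K X : Type*} [Group K] [MulAction K X] [Fintype K]
    [Finite X] (h2 : MulAction.IsMultiplyPretransitive K X 2) {a b : X} (hab : a ≠ b) :
    ∑ g : K, Nat.card (MulAction.fixedBy X g) * (Nat.card (MulAction.fixedBy X g) - 1)
      = Fintype.card K := by
  classical
  have : Nonempty (Fin 2 ↪ X) := ⟨Function.Embedding.embFinTwo hab⟩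
  have : MulAction.IsPretransitive K (Fin 2 ↪ X) := h2
  rw [← sum_card_fixedBy_of_pretransitive (K := K) (X := Fin 2 ↪ X)]
  apply Finset.sum_congr rfl
  intro g _
  rw [card_fixedBy_emb]

end Cfsg.Agent.Lib.helper19
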