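-- helper19: counting in Zassenhaus groups (Cfsg.IsZassenhausGroup): fixed-point-free elements,
-- elements fixing exactly one point.
import Mathlib
import Cfsg.Prelude.Def_LieExceptional
import Cfsg.Agent.Lib.helper19.Zass
import Cfsg.Agent.Lib.helper19.Burnside

set_option autoImplicit false

namespace Cfsg.Agent.Lib.helper19

variable {G Ω : Type*} [Group G] [MulAction G Ω]

/-- A non-identity element of a Zassenhaus group has at most two fixed points. -/
theorem zass_card_fixedBy_le (hZ : Cfsg.IsZassenhausGroup G Ω) [Finite Ω] {g : G} (hg : g ≠ 1) :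
    Nat.card (MulAction.fixedBy Ω g) ≤ 2 := by
  classical
  by_contra h
  push Not at h
  have : Fintype Ω := Fintype.ofFinite Ω
  rw [Nat.card_eq_fintype_card] at h
  obtain ⟨x, y, z, hxy, hxz, hyz⟩ := Fintype.two_lt_card_iff.mp h
  exact hg (hZ.2.2.1 g x y z (fun e => hxy (Subtype.ext e)) (fun e => hyz (Subtype.ext e))
    (fun e => hxz (Subtype.ext e)) x.2 y.2 z.2)

theorem card_fixedBy_one_eq [Finite Ω] : Nat.card (MulAction.fixedBy Ω (1 : G)) = Nat.card Ω := by
  rw [MulAction.fixedBy_one_eq_univ]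
  exact Nat.card_congr (Equiv.Set.univ Ω)

theorem card_fixedBy_eq_zero_iff [Finite Ω] (g : G) :
    Nat.card (MulAction.fixedBy Ω g) = 0 ↔ ∀ c : Ω, g • c ≠ c := by
  rw [Nat.card_eq_zero]
  constructor
  · rintro (h | h)
    · intro c hc
      exact h.elim ⟨c, hc⟩
    · exact absurd (inferInstance : Finite (MulAction.fixedBy Ω g)) (not_finite_iff_infinite.mpr h)
  · intro h
    left
    exact ⟨fun x => h x.1 x.2⟩

/-- A Zassenhaus group acts on at least three points. -/
theorem zass_three_le_card (hZ : Cfsg.IsZassenhausGroup G Ω) [Finite Ω] : 3 ≤ Nat.card Ω := by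
  classical
  have : Fintype Ω := Fintype.ofFinite Ω
  obtain ⟨g, hg, a, b, hab, ha, hb⟩ := hZ.2.2.2.1
  have : ∃ c : Ω, c ≠ a ∧ c ≠ b := by
    by_contra hcon
    push Not at hcon
    apply hg
    have := hZ.1
    apply eq_of_smul_eq_smul (α := Ω)
    intro c
    rw [one_smul]
    by_cases hca : c = a
    · rw [hca, ha]
    · rw [hcon c hca, hb]
  obtain ⟨c, hca, hcb⟩ := this
  rw [Nat.card_eq_fintype_card]
  have h3 : 2 < Fintype.card Ω := Fintype.two_lt_card_iff.mpr ⟨a, b, c, hab, Ne.symm hca, Ne.symm hcb⟩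
  omega

/-- Twice the number of fixed-point-free elements of a Zassenhaus group on `n` points is
`|G| - (n - 1) (n - 2)`. -/
theorem zass_two_mul_card_fpf (hZ : Cfsg.IsZassenhausGroup G Ω) [Fintype G] [Finite Ω] :
    (2 * Nat.card {g : G // ∀ c : Ω, g • c ≠ c} : ℤ)
      = (Fintype.card G : ℤ) - ((Nat.card Ω : ℤ) - 1) * ((Nat.card Ω : ℤ) - 2) := by
  classical
  have : Fintype Ω := Fintype.ofFinite Ω
  have hn3 := zass_three_le_card hZ
  obtain ⟨g0, hg0, a, b, hab, -, -⟩ := hZ.2.2.2.1
  have h2 : MulAction.IsMultiplyPretransitive G Ω 2 := hZ.2.1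
  have : MulAction.IsPretransitive G Ω := MulAction.isPretransitive_of_is_two_pretransitive
  have : Nonempty Ω := ⟨a⟩
  set F : G → ℕ := fun g => Nat.card (MulAction.fixedBy Ω g) with hF
  have S1 : ∑ g : G, (F g : ℤ) = Fintype.card G := by
    have := sum_card_fixedBy_of_pretransitive (K := G) (X := Ω)
    exact_mod_cast this
  have cast_lemma : ∀ m : ℕ, ((m * (m - 1) : ℕ) : ℤ) = (m : ℤ) * ((m : ℤ) - 1) := by
    intro m
    cases m with
    | zero => simp
    | succ k => simp
  have S2 : ∑ g : G, (F g : ℤ) * ((F g : ℤ) - 1) = Fintype.card G := by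
    have := sum_card_fixedBy_two_of_pretransitive (K := G) (X := Ω) h2 hab
    rw [← this, Nat.cast_sum]
    apply Finset.sum_congr rfl
    intro g _
    rw [cast_lemma]
  -- pointwise identity
  have key : ∀ g : G, (2 * (if F g = 0 then 1 else 0) : ℤ)
      = (2 - 2 * (F g : ℤ) + (F g : ℤ) * ((F g : ℤ) - 1))
        - (if g = 1 then ((Nat.card Ω : ℤ) - 1) * ((Nat.card Ω : ℤ) - 2) else 0) := by
    intro g
    by_cases hg : g = 1
    · subst hg
      have h1 : F 1 = Nat.card Ω := card_fixedBy_one_eq
      rw [if_pos rfl, h1, if_neg (by omega)]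
      ring
    · rw [if_neg hg]
      have hle : F g ≤ 2 := zass_card_fixedBy_le hZ hg
      interval_cases h : F g <;> simp
  have hcount : (Nat.card {g : G // ∀ c : Ω, g • c ≠ c} : ℤ)
      = ∑ g : G, (if F g = 0 then 1 else 0 : ℤ) := by
    rw [Finset.sum_boole, Nat.card_eq_fintype_card, Fintype.card_subtype]
    congr 2
    ext g
    simp only [Finset.mem_filter, Finset.mem_univ, true_and]
    exact (card_fixedBy_eq_zero_iff g).symm
  rw [hcount, Finset.mul_sum, Finset.sum_congr rfl (fun g _ => key g), Finset.sum_sub_distrib,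
    Finset.sum_add_distrib, Finset.sum_sub_distrib, ← Finset.mul_sum, S1, S2,
    Finset.sum_ite_eq' Finset.univ (1 : G)]
  simp
  ring

end Cfsg.Agent.Lib.helper19

namespace Cfsg.Agent.Lib.helper19

variable {G Ω : Type*} [Group G] [MulAction G Ω]

/-- The order of a Zassenhaus group on `n` points with two-point stabilizer of order `e` is
`n (n - 1) e`. -/
theorem zass_card_eq (hZ : Cfsg.IsZassenhausGroup G Ω) [Finite G] [Finite Ω] {a b : Ω}
    (hab : a ≠ b) :
    Nat.card G = Nat.card Ω * (Nat.card Ω - 1) *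
      Nat.card (MulAction.stabilizer G a ⊓ MulAction.stabilizer G b : Subgroup G) := by
  have h2 : MulAction.IsMultiplyPretransitive G Ω 2 := hZ.2.1
  have hs : ({a, b} : Set Ω).ncard = 2 := Set.ncard_pair hab
  have h := h2.index_of_fixingSubgroup_mul hs
  have hfix : fixingSubgroup G ({a, b} : Set Ω)
      = MulAction.stabilizer G a ⊓ MulAction.stabilizer G b := by
    ext g
    simp [mem_fixingSubgroup_iff, Subgroup.mem_inf]
  rw [hfix] at h
  have hn3 := zass_three_le_card hZ
  obtain ⟨m, hm⟩ : ∃ m, Nat.card Ω = m + 2 := ⟨Nat.card Ω - 2, by omega⟩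
  rw [hm] at h ⊢
  simp only [Nat.add_sub_cancel] at h
  rw [Nat.factorial_succ, Nat.factorial_succ] at h
  have hpos := Nat.factorial_pos m
  have hidx : (MulAction.stabilizer G a ⊓ MulAction.stabilizer G b : Subgroup G).index
      = (m + 2) * (m + 1) := by
    apply Nat.eq_of_mul_eq_mul_right hpos
    rw [h]; ring
  rw [← Subgroup.index_mul_card (MulAction.stabilizer G a ⊓ MulAction.stabilizer G b : Subgroup G),
    hidx]
  simp

end Cfsg.Agent.Lib.helper19

namespace Cfsg.Agent.Lib.helper19

variable {G Ω : Type*} [Group G] [MulAction G Ω]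

/-- In a Zassenhaus group on `n` points, exactly `n - 2` non-identity elements fix the point `a`
and no other point. -/
theorem zass_card_fix_only (hZ : Cfsg.IsZassenhausGroup G Ω) [Finite G] [Finite Ω] (a : Ω) :
    Nat.card {g : G // g ≠ 1 ∧ g • a = a ∧ ∀ c : Ω, g • c = c → c = a} + 2 = Nat.card Ω := by
  classical
  have : Fintype Ω := Fintype.ofFinite Ω
  have hn3 := zass_three_le_card hZ
  have h2 : MulAction.IsMultiplyPretransitive G Ω 2 := hZ.2.1
  have : MulAction.IsPretransitive G Ω := MulAction.isPretransitive_of_is_two_pretransitive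
  set K := MulAction.stabilizer G a with hK
  set X := SubMulAction.ofStabilizer G a with hX
  have hpre : MulAction.IsPretransitive K X := by
    have h1 := (SubMulAction.ofStabilizer.isMultiplyPretransitive (G := G) (α := Ω) (n := 1)
      (a := a)).mp h2
    exact MulAction.is_one_pretransitive_iff.mp h1
  have hXcard : Nat.card X = Nat.card Ω - 1 := SubMulAction.nat_card_ofStabilizer_eq G a
  have hXne : Nonempty X := by
    have : 0 < Nat.card X := by omega
    exact (Nat.card_pos_iff.mp this).1
  have : Fintype K := Fintype.ofFinite K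
  set F : K → ℕ := fun k => Nat.card (MulAction.fixedBy X k) with hF
  have S1 : ∑ k : K, (F k : ℤ) = Fintype.card K := by
    have := sum_card_fixedBy_of_pretransitive (K := K) (X := X)
    exact_mod_cast this
  have hF1 : F 1 = Nat.card Ω - 1 := by
    rw [← hXcard]
    exact card_fixedBy_one_eq
  have hFle : ∀ k : K, k ≠ 1 → F k ≤ 1 := by
    intro k hk
    by_contra hcon
    push Not at hcon
    have : Fintype X := Fintype.ofFinite X
    simp only [hF] at hcon
    rw [Nat.card_eq_fintype_card, Fintype.one_lt_card_iff] at hcon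
    obtain ⟨x, y, hxy⟩ := hcon
    have hxa : ((x : X) : Ω) ≠ a := (x : X).2
    have hya : ((y : X) : Ω) ≠ a := (y : X).2
    have hxy' : ((x : X) : Ω) ≠ ((y : X) : Ω) := fun e => hxy (Subtype.ext (Subtype.ext e))
    have hkx : (k : G) • ((x : X) : Ω) = ((x : X) : Ω) := by
      have := x.2
      rw [MulAction.mem_fixedBy] at this
      exact congrArg Subtype.val this
    have hky : (k : G) • ((y : X) : Ω) = ((y : X) : Ω) := by
      have := y.2
      rw [MulAction.mem_fixedBy] at this
      exact congrArg Subtype.val this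
    have hka : (k : G) • a = a := k.2
    have := hZ.2.2.1 (k : G) a x y (Ne.symm hxa) hxy' (Ne.symm hya) hka hkx hky
    exact hk (Subtype.ext this)
  have key : ∀ k : K, ((if k ≠ 1 ∧ F k = 0 then 1 else 0 : ℤ))
      = 1 - (F k : ℤ) + (if k = 1 then ((Nat.card Ω : ℤ) - 2) else 0) := by
    intro k
    by_cases hk : k = 1
    · subst hk
      rw [hF1]
      simp only [ne_eq, not_true_eq_false, false_and, if_false, if_true]
      rw [Nat.cast_sub (by omega)]
      push_cast; ring
    · have hle := hFle k hk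
      rw [if_neg hk]
      interval_cases h : F k <;> simp [hk]
  have hcountK : (Nat.card {k : K // k ≠ 1 ∧ F k = 0} : ℤ) = (Nat.card Ω : ℤ) - 2 := by
    rw [Nat.card_eq_fintype_card, Fintype.card_subtype]
    have := Finset.sum_boole (R := ℤ) (fun k : K => k ≠ 1 ∧ F k = 0) Finset.univ
    rw [← this, Finset.sum_congr rfl (fun k _ => key k), Finset.sum_add_distrib,
      Finset.sum_sub_distrib, S1, Finset.sum_ite_eq' Finset.univ (1 : K)]
    simp
  -- transfer to G
  have hequiv : Nat.card {g : G // g ≠ 1 ∧ g • a = a ∧ ∀ c : Ω, g • c = c → c = a}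
      = Nat.card {k : K // k ≠ 1 ∧ F k = 0} := by
    apply Nat.card_congr
    refine ⟨fun g => ⟨⟨g.1, g.2.2.1⟩, ?_, ?_⟩, fun k => ⟨(k.1 : G), ?_, k.1.2, ?_⟩, ?_, ?_⟩
    · intro h
      exact g.2.1 (congrArg Subtype.val h)
    · simp only [hF]
      rw [card_fixedBy_eq_zero_iff]
      intro c hc
      have h1 : g.1 • (c : Ω) = (c : Ω) := congrArg Subtype.val hc
      exact c.2 (g.2.2.2 _ h1)
    · intro h
      exact k.2.1 (Subtype.ext h)
    · intro c hc
      by_contra hca
      have h0 := k.2.2
      simp only [hF] at h0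
      rw [card_fixedBy_eq_zero_iff] at h0
      exact h0 ⟨c, hca⟩ (Subtype.ext hc)
    · intro g; rfl
    · intro k; rfl
  rw [hequiv]
  have : (Nat.card {k : K // k ≠ 1 ∧ F k = 0} : ℤ) + 2 = Nat.card Ω := by rw [hcountK]; ring
  exact_mod_cast this

end Cfsg.Agent.Lib.helper19
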