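import Mathlib
import Cfsg.Prelude.Def_Characters
import Cfsg.Prelude.Def_CharExt
import Cfsg.Agent.Lib.helper19.DetChar
import Cfsg.Agent.Lib.helper19.AbelianOver

set_option autoImplicit false

/-!
# Extensions of characters with prescribed determinant (helper19 library)

`N ⊴ G`, `ϑ ∈ Irr(N)` of degree `d` coprime to `|G : N|`.
* `hom_eq_one_of_pow` : a hom to `ℂˣ` trivial on `N` with `f ^ d = 1` is trivial.
* `exists_extension_det` : if `ϑ` extends to `G` and `μ : G →* ℂˣ` restricts to `det ϑ`, some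
  extension has determinant `μ`.
* `extension_det_unique` : two extensions of `ϑ` with the same determinant coincide.
-/

namespace Cfsg.Agent.Lib.helper19

open Cfsg
open Cfsg.Agent.Lib.helper4

variable {G : Type*} [Group G]

/-- A homomorphism to `ℂˣ` that is trivial on the normal subgroup `N` and whose `d`-th power
is trivial, `d` coprime to the index of `N`, is trivial. -/
theorem hom_eq_one_of_pow [Finite G] (N : Subgroup G) [N.Normal] (d : ℕ)
    (hcop : Nat.Coprime N.index d) (f : G →* ℂˣ) (hN : ∀ n ∈ N, f n = 1)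
    (hd : ∀ g, f g ^ d = 1) (g : G) : f g = 1 := by
  have h1 : f g ^ N.index = 1 := by
    rw [← map_pow]
    exact hN _ (N.pow_index_mem g)
  have h2 : orderOf (f g) ∣ Nat.gcd N.index d :=
    Nat.dvd_gcd (orderOf_dvd_of_pow_eq_one h1) (orderOf_dvd_of_pow_eq_one (hd g))
  rw [hcop.gcd_eq_one, Nat.dvd_one] at h2
  exact orderOf_eq_one_iff.1 h2

/-- If `ϑ` extends to `η` and `μ` is a linear character of `G` extending `det ϑ`, then some
extension of `ϑ` has determinant `μ` (degree of `ϑ` coprime to the index of `N`). -/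
theorem exists_extension_det [Finite G] (N : Subgroup G) [N.Normal] (ϑ : N → ℂ) (d : ℕ)
    (hd : ϑ 1 = d) (hcop : Nat.Coprime N.index d) (η : G → ℂ) (hη : IsIrrCharacter G η)
    (hηN : ∀ n : N, η n = ϑ n) (fμ : G →* ℂˣ) (hμN : ∀ n : N, (fμ n : ℂ) = detChar ϑ n) :
    ∃ χ : G → ℂ, IsIrrCharacter G χ ∧ (∀ n : N, χ n = ϑ n) ∧
      detChar χ = fun g => (fμ g : ℂ) := by
  classical
  have : Fintype G := Fintype.ofFinite G
  have hηc := isCharacter_of_isIrrCharacter hη
  have hη1 : η 1 = d := by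
    rw [← hd]
    exact hηN 1
  obtain ⟨fδ, hfδ⟩ := exists_detChar_hom hηc
  have hresη : (fun n : N => η n) = ϑ := funext hηN
  have hδN : ∀ n : N, (fδ n : ℂ) = detChar ϑ n := by
    intro n
    rw [← hfδ, ← hresη]
    exact (congrFun (detChar_restrict N hηc) n).symm
  have hνN : ∀ n ∈ N, (fμ * fδ⁻¹) n = 1 := by
    intro n hn
    have h1 : fμ n = fδ n := by
      apply Units.ext
      rw [hμN ⟨n, hn⟩, hδN ⟨n, hn⟩]
    rw [MonoidHom.mul_apply, MonoidHom.inv_apply, h1, mul_inv_cancel]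
  have hνpow : (fμ * fδ⁻¹) ^ N.index = 1 := by
    ext g
    rw [MonoidHom.pow_apply, ← map_pow]
    rw [hνN _ (N.pow_index_mem g)]
    rfl
  have hcop' : d.Coprime (orderOf (fμ * fδ⁻¹)) :=
    (Nat.Coprime.coprime_dvd_left (orderOf_dvd_of_pow_eq_one hνpow) hcop).symm
  obtain ⟨m, hm⟩ := exists_pow_eq_self_of_coprime hcop'
  have hlamN : ∀ n ∈ N, ((fμ * fδ⁻¹) ^ m) n = 1 := by
    intro n hn
    rw [MonoidHom.pow_apply, hνN n hn, one_pow]
  have hlamd : ∀ g, (((fμ * fδ⁻¹) ^ m) g) ^ d = fμ g * (fδ g)⁻¹ := by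
    intro g
    have h1 : ((fμ g * (fδ g)⁻¹) ^ d) ^ m = fμ g * (fδ g)⁻¹ := DFunLike.congr_fun hm g
    have h2 : ((fμ * fδ⁻¹) ^ m) g = (fμ g * (fδ g)⁻¹) ^ m := rfl
    rw [h2, pow_right_comm]
    exact h1
  refine ⟨η * fun g => (((fμ * fδ⁻¹) ^ m) g : ℂ), ?_, ?_, ?_⟩
  · exact isIrr_mul_linear η _ hη (Cfsg.Agent.Lib.helper82.isIrrCharacter_of_hom _) (by simp)
  · intro n
    rw [Pi.mul_apply, hlamN n n.2, hηN]
    simp
  · rw [detChar_mul_linear hηc ((fμ * fδ⁻¹) ^ m) d hη1]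
    funext g
    rw [Pi.mul_apply, hfδ, ← Units.val_pow_eq_pow_val, hlamd, ← Units.val_mul]
    congr 1
    rw [mul_comm, inv_mul_cancel_right]

/-- Two irreducible extensions of `ϑ` with the same determinantal character coincide (degree of
`ϑ` coprime to the index of `N`). -/
theorem extension_det_unique [Finite G] (N : Subgroup G) [N.Normal] (ϑ : N → ℂ)
    (hϑ : IsIrrCharacter N ϑ) (d : ℕ) (hd : ϑ 1 = d) (hcop : Nat.Coprime N.index d)
    (χ χ' : G → ℂ) (hχ : IsIrrCharacter G χ) (hχ' : IsIrrCharacter G χ')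
    (hχN : ∀ n : N, χ n = ϑ n) (hχ'N : ∀ n : N, χ' n = ϑ n) (hdet : detChar χ' = detChar χ) :
    χ' = χ := by
  classical
  have : Fintype G := Fintype.ofFinite G
  have : Fintype N := Fintype.ofFinite N
  have hχc := isCharacter_of_isIrrCharacter hχ
  have hresχ : (fun n : N => χ n) = ϑ := funext hχN
  have hresχ' : (fun n : N => χ' n) = ϑ := funext hχ'N
  have hne : classInner (fun n : N => χ' n) (fun n : N => χ n) ≠ 0 := by
    rw [hresχ, hresχ', classInner_irr_self hϑ]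
    exact one_ne_zero
  obtain ⟨β, hβ, hβN, hχ'β⟩ := gallagher N χ hχ (by rw [hresχ]; exact hϑ) χ' hχ' hne
  have hd0 : (d : ℂ) ≠ 0 := by
    rw [← hd]
    exact irr_degree_ne_zero hϑ
  have hχ1 : χ 1 = d := by rw [← hd]; exact hχN 1
  have hχ'1 : χ' 1 = d := by rw [← hd]; exact hχ'N 1
  have hβ1 : β 1 = 1 := by
    have h1 := congrFun hχ'β 1
    rw [Pi.mul_apply, hχ1, hχ'1] at h1
    have h2 : (d : ℂ) * 1 = (d : ℂ) * β 1 := by rw [mul_one]; exact h1
    exact (mul_left_cancel₀ hd0 h2).symm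
  obtain ⟨fβ, hfβ⟩ := exists_hom_of_linear β (isCharacter_of_isIrrCharacter hβ) hβ1
  have hβeq : β = fun g => (fβ g : ℂ) := funext hfβ
  obtain ⟨fδ, hfδ⟩ := exists_detChar_hom hχc
  have hpow : ∀ g, fβ g ^ d = 1 := by
    intro g
    have h1 := congrFun hdet g
    rw [hχ'β, hβeq, detChar_mul_linear hχc fβ d hχ1, Pi.mul_apply, hfδ] at h1
    apply Units.ext
    rw [Units.val_pow_eq_pow_val, Units.val_one]
    have h2 : (fδ g : ℂ) * (fβ g : ℂ) ^ d = (fδ g : ℂ) * 1 := by rw [mul_one]; exact h1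
    exact mul_left_cancel₀ (Units.ne_zero _) h2
  have hfβN : ∀ n ∈ N, fβ n = 1 := by
    intro n hn
    apply Units.ext
    rw [← hfβ, hβN n hn, hβ1, Units.val_one]
  have hβone : ∀ g, β g = 1 := by
    intro g
    rw [hfβ, hom_eq_one_of_pow N d hcop fβ hfβN hpow g, Units.val_one]
  rw [hχ'β]
  funext g
  rw [Pi.mul_apply, hβone, mul_one]

end Cfsg.Agent.Lib.helper19
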