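import Mathlib
import Cfsg.Prelude.Def_Characters
import Cfsg.Prelude.Def_CharExt
import Cfsg.Agent.Lib.helper19.DetExt
import Cfsg.Agent.Lib.helper82.ExtSylow

set_option autoImplicit false

/-!
# Extendibility via the determinant (helper19 library)

`N ⊴ G`, `ϑ ∈ Irr(N)` invariant, of degree `d` coprime to `|G : N|`.
* `extendible_iff_det` : `ϑ` extends to `G` iff `det ϑ` extends to a linear character of `G`
  (Isaacs 6.25 / 8.16; the hard direction is helper82's `exists_extension_of_det_hom`).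
* `exists_canonical_extension` : if moreover `|G : N|` is coprime to `o(ϑ)`, there is an
  extension `χ` with `o(χ) = o(ϑ)`, unique among the extensions of determinantal order coprime
  to `|G : N|` (Isaacs 8.16).
-/

namespace Cfsg.Agent.Lib.helper19

open Cfsg

universe u

theorem extendible_iff_det {G : Type u} [Group G] [Finite G] (N : Subgroup G) [hN : N.Normal]
    (ϑ : N → ℂ) (hϑ : IsIrrCharacter N ϑ)
    (hinv : ∀ (g : G) (n : N), ϑ ⟨g * n * g⁻¹, hN.conj_mem (n : G) n.2 g⟩ = ϑ n)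
    (d : ℕ) (hd : ϑ 1 = d) (hcop : Nat.Coprime N.index d) :
    (∃ χ : G → ℂ, IsIrrCharacter G χ ∧ (∀ n : N, χ n = ϑ n)) ↔
      ∃ μ : G → ℂ, IsCharacter G μ ∧ μ 1 = 1 ∧ ∀ n : N, μ n = detChar ϑ n := by
  constructor
  · rintro ⟨χ, hχ, hχN⟩
    have hχc : IsCharacter G χ := by
      obtain ⟨n, ρ, -, h⟩ := hχ
      exact ⟨n, ρ, h⟩
    refine ⟨detChar χ, isCharacter_detChar hχc, detChar_one hχc, fun n => ?_⟩
    have h1 := detChar_restrict N hχc
    have h2 : (fun h : N => χ h) = ϑ := funext hχN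
    rw [h2] at h1
    rw [h1]
  · rintro ⟨μ, hμ, hμ1, hμN⟩
    obtain ⟨fμ, hfμ⟩ := exists_hom_of_linear μ hμ hμ1
    obtain ⟨d', σ, hσ, rfl⟩ := hϑ
    have hdd : d' = d := by
      have h1 : σ.character 1 = (d' : ℂ) := by simp
      rw [h1] at hd
      exact_mod_cast hd
    subst hdd
    refine Cfsg.Agent.Lib.helper82.exists_extension_of_det_hom N σ hσ
      (fun g => (Cfsg.Agent.Lib.helper82.cconj_eq_iff N g _).2 (hinv g)) hcop fμ (fun n => ?_)
    rw [← hfμ, hμN, detChar_character]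

end Cfsg.Agent.Lib.helper19
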