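import Mathlib
import Cfsg.Prelude.Def_Characters
import Cfsg.Prelude.Def_CharExt
import Cfsg.Agent.Lib.helper19.DetExt2

set_option autoImplicit false

/-!
# The canonical extension of an invariant character (helper19 library)

`exists_canonical_extension` : `N ⊴ G`, `ϑ ∈ Irr(N)` invariant, `|G : N|` coprime to
`o(ϑ) ϑ(1)`.  Then there is an extension `χ` of `ϑ` with `o(χ) = o(ϑ)`, and it is the unique
extension whose determinantal order is coprime to `|G : N|` (Isaacs 8.16).
-/

namespace Cfsg.Agent.Lib.helper19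

open Cfsg

universe u

theorem isCharacter_of_isIrr {G : Type u} [Group G] {χ : G → ℂ} (hχ : IsIrrCharacter G χ) :
    IsCharacter G χ := by
  obtain ⟨n, ρ, -, h⟩ := hχ
  exact ⟨n, ρ, h⟩

/-- The determinant of an extension restricts to the determinant. -/
theorem detChar_of_extension {G : Type u} [Group G] [Finite G] (N : Subgroup G)
    {ϑ : N → ℂ} {χ : G → ℂ} (hχ : IsCharacter G χ) (hχN : ∀ n : N, χ n = ϑ n) (n : N) :
    detChar χ n = detChar ϑ n := by
  have h1 := detChar_restrict N hχ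
  have h2 : (fun h : N => χ h) = ϑ := funext hχN
  rw [h2] at h1
  rw [h1]

/-- A hom `G →* ℂˣ` whose restriction to `N` has order `o` coprime to `|G : N|` can be replaced
by one with the same restriction and of order `o`. -/
theorem exists_hom_same_order {G : Type u} [Group G] [Finite G] (N : Subgroup G) [hN : N.Normal]
    (fl : N →* ℂˣ) (fd : G →* ℂˣ) (hfd : ∀ n : N, fd n = fl n)
    (hcop : Nat.Coprime N.index (orderOf fl)) :
    ∃ fm : G →* ℂˣ, (∀ n : N, fm n = fl n) ∧ orderOf fm = orderOf fl := by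
  set o := orderOf fl with ho
  set a := N.index with ha
  have hflo : ∀ n : N, fl n ^ o = 1 := by
    intro n
    have h := pow_orderOf_eq_one fl
    have h2 := DFunLike.congr_fun h n
    exact h2
  obtain ⟨x, y, hxy⟩ : ∃ x y : ℤ, x * (a : ℤ) + y * (o : ℤ) = 1 := by
    have h := (Nat.isCoprime_iff_coprime (m := a) (n := o)).2 hcop
    exact h
  let fm : G →* ℂˣ := (zpowGroupHom ((a : ℤ) * x)).comp fd
  have hfm : ∀ g, fm g = fd g ^ ((a : ℤ) * x) := fun g => rfl
  have hfdao : ∀ g : G, fd g ^ (a * o) = 1 := by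
    intro g
    rw [pow_mul, ← map_pow]
    have hmem : g ^ a ∈ N := N.pow_index_mem g
    have := hfd ⟨g ^ a, hmem⟩
    simp only at this
    rw [this]
    exact hflo _
  have hfmN : ∀ n : N, fm n = fl n := by
    intro n
    rw [hfm, hfd]
    have h1 : (a : ℤ) * x = 1 - (o : ℤ) * y := by linarith
    rw [h1, zpow_sub, zpow_one, zpow_mul, zpow_natCast, hflo, one_zpow, inv_one, mul_one]
  refine ⟨fm, hfmN, ?_⟩
  apply Nat.dvd_antisymm
  · apply orderOf_dvd_of_pow_eq_one
    refine MonoidHom.ext fun g => ?_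
    show fm g ^ o = 1
    rw [hfm, ← zpow_natCast, ← zpow_mul]
    have h1 : (a : ℤ) * x * (o : ℤ) = ((a * o : ℕ) : ℤ) * x := by push_cast; ring
    rw [h1, zpow_mul, zpow_natCast, hfdao, one_zpow]
  · apply orderOf_dvd_of_pow_eq_one
    refine MonoidHom.ext fun n => ?_
    show fl n ^ orderOf fm = 1
    rw [← hfmN]
    have h := pow_orderOf_eq_one fm
    exact DFunLike.congr_fun h (n : G)

theorem exists_canonical_extension {G : Type u} [Group G] [Finite G] (N : Subgroup G)
    [hN : N.Normal] (ϑ : N → ℂ) (hϑ : IsIrrCharacter N ϑ)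
    (hinv : ∀ (g : G) (n : N), ϑ ⟨g * n * g⁻¹, hN.conj_mem (n : G) n.2 g⟩ = ϑ n)
    (d : ℕ) (hd : ϑ 1 = d) (hcop : Nat.Coprime N.index (detOrder ϑ * d)) :
    ∃ χ : G → ℂ, (IsIrrCharacter G χ ∧ (∀ n : N, χ n = ϑ n) ∧ detOrder χ = detOrder ϑ) ∧
      ∀ χ' : G → ℂ, IsIrrCharacter G χ' → (∀ n : N, χ' n = ϑ n) →
        Nat.Coprime N.index (detOrder χ') → χ' = χ := by
  have hϑc := isCharacter_of_isIrr hϑ
  obtain ⟨fl, hfl⟩ := exists_detChar_hom hϑc
  have hoϑ : detOrder ϑ = orderOf fl := detOrder_eq_orderOf fl hfl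
  have hcop_o : Nat.Coprime N.index (orderOf fl) := by
    rw [← hoϑ]; exact Nat.Coprime.coprime_mul_right_right hcop
  have hcop_d : Nat.Coprime N.index d := Nat.Coprime.coprime_mul_left_right hcop
  -- an extension
  obtain ⟨η, hη, hηN⟩ : ∃ η : G → ℂ, IsIrrCharacter G η ∧ ∀ n : N, η n = ϑ n := by
    obtain ⟨d', σ, hσ, hσϑ⟩ := hϑ
    subst hσϑ
    have hdd : d' = d := by
      have h1 : σ.character 1 = (d' : ℂ) := by simp
      rw [h1] at hd
      exact_mod_cast hd
    subst hdd
    refine Cfsg.Agent.Lib.helper82.exists_extension_of_coprime_det N σ hσ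
      (fun g => (Cfsg.Agent.Lib.helper82.cconj_eq_iff N g _).2 (hinv g)) (orderOf fl)
      (fun n => ?_) ?_
    · have h1 : detChar σ.character n = LinearMap.det (σ n) := by rw [detChar_character]
      rw [← h1, hfl, ← Units.val_pow_eq_pow_val]
      have h := pow_orderOf_eq_one fl
      have h2 : fl n ^ orderOf fl = 1 := DFunLike.congr_fun h n
      rw [h2]; rfl
    · rw [mul_comm, ← hoϑ]; exact hcop
  have hηc := isCharacter_of_isIrr hη
  obtain ⟨fd, hfd⟩ := exists_detChar_hom hηc
  have hfdN : ∀ n : N, fd n = fl n := by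
    intro n
    apply Units.ext
    rw [← hfd, ← hfl]
    exact detChar_of_extension N hηc hηN n
  obtain ⟨fm, hfmN, hfmo⟩ := exists_hom_same_order N fl fd hfdN hcop_o
  obtain ⟨χ, hχ, hχN, hχdet⟩ := exists_extension_det N ϑ d hd hcop_d η hη hηN fm
    (fun n => by rw [hfmN, hfl])
  have hχo : detOrder χ = orderOf fm := detOrder_eq_orderOf fm (fun g => congrFun hχdet g)
  refine ⟨χ, ⟨hχ, hχN, by rw [hχo, hfmo, hoϑ]⟩, ?_⟩
  intro χ' hχ' hχ'N hcop'
  have hχ'c := isCharacter_of_isIrr hχ'
  obtain ⟨fd', hfd'⟩ := exists_detChar_hom hχ'c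
  have hχ'o : detOrder χ' = orderOf fd' := detOrder_eq_orderOf fd' hfd'
  have hfd'N : ∀ n : N, fd' n = fl n := by
    intro n
    apply Units.ext
    rw [← hfd', ← hfl]
    exact detChar_of_extension N hχ'c hχ'N n
  have hν : ∀ g : G, (fd' * fm⁻¹) g = 1 := by
    intro g
    refine hom_eq_one_of_pow N (orderOf fd' * orderOf fm) ?_ (fd' * fm⁻¹) ?_ ?_ g
    · rw [← hχ'o, hfmo]
      exact Nat.Coprime.mul_right hcop' hcop_o
    · intro n hn
      have h1 := hfd'N ⟨n, hn⟩
      have h2 := hfmN ⟨n, hn⟩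
      simp only at h1 h2
      rw [MonoidHom.mul_apply, MonoidHom.inv_apply, h1, h2, mul_inv_cancel]
    · intro g
      rw [MonoidHom.mul_apply, MonoidHom.inv_apply, mul_pow, inv_pow]
      have h1 : fd' g ^ (orderOf fd' * orderOf fm) = 1 := by
        rw [pow_mul]
        have h := pow_orderOf_eq_one fd'
        have h2 : fd' g ^ orderOf fd' = 1 := DFunLike.congr_fun h g
        rw [h2, one_pow]
      have h2 : fm g ^ (orderOf fd' * orderOf fm) = 1 := by
        rw [mul_comm, pow_mul]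
        have h := pow_orderOf_eq_one fm
        have h2 : fm g ^ orderOf fm = 1 := DFunLike.congr_fun h g
        rw [h2, one_pow]
      rw [h1, h2, inv_one, mul_one]
  have hdet : detChar χ' = detChar χ := by
    funext g
    rw [hfd', hχdet]
    have h := hν g
    rw [MonoidHom.mul_apply, MonoidHom.inv_apply, mul_inv_eq_one] at h
    rw [h]
  exact extension_det_unique N ϑ hϑ d hd hcop_d χ χ' hχ hχ' hχN hχ'N hdet

end Cfsg.Agent.Lib.helper19
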