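import Mathlib
import Cfsg.Agent.Lib.helper1.Coprime

set_option autoImplicit false

/-!
# Cyclic coprime action: the coset `G s` (helper19 library)

`G ⊴ Γ`, `s : Γ` with `(|G|, o(s)) = 1`.  Write `C = C_G(s)`.
* `exists_conj_commute` : every element of `G s` is `G`-conjugate to some `c s`, `c ∈ C`.
* `commute_of_conj_coset` : if `h (c s) h⁻¹ = c₀ s` with `h ∈ G`, `c, c₀ ∈ C`, then `h ∈ C`.
* `conj_in_centralizer` : elements of `C` conjugate under `G` are conjugate under `C`.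
* `exists_conj_commute_of_invariant` : an `s`-invariant class of `G` meets `C`.
-/

namespace Cfsg.Agent.Lib.helper19

open Subgroup
open scoped Pointwise

variable {Γ : Type*} [Group Γ]

theorem pow_eq_self_of_modEq {x : Γ} {m k : ℕ} (hx : x ^ m = 1) (hk : k ≡ 1 [MOD m]) :
    x ^ k = x := by
  have h1 : orderOf x ∣ m := orderOf_dvd_of_pow_eq_one hx
  have h2 : k ≡ 1 [MOD orderOf x] := hk.of_dvd h1
  have h3 := (pow_eq_pow_iff_modEq (x := x)).2 h2
  simpa using h3

theorem pow_eq_one_of_dvd_exp {x : Γ} {a k : ℕ} (hx : x ^ a = 1) (hk : a ∣ k) : x ^ k = 1 := by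
  obtain ⟨b, rfl⟩ := hk
  rw [pow_mul, hx, one_pow]

theorem pow_card_subgroup_eq_one [Finite Γ] (G : Subgroup Γ) {c : Γ} (hc : c ∈ G) :
    c ^ Nat.card G = 1 := by
  have h := pow_card_eq_one' (G := G) (x := ⟨c, hc⟩)
  exact congrArg Subtype.val h

theorem zpowers_mul_comm (s : Γ) (a b : zpowers s) : a * b = b * a := by
  obtain ⟨a, ha⟩ := a
  obtain ⟨b, hb⟩ := b
  obtain ⟨i, rfl⟩ := mem_zpowers_iff.1 ha
  obtain ⟨j, rfl⟩ := mem_zpowers_iff.1 hb
  apply Subtype.ext
  show s ^ i * s ^ j = s ^ j * s ^ i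
  rw [← zpow_add, ← zpow_add, add_comm]

theorem zpowers_pow_eq_of_coprime [Finite Γ] (s : Γ) {i : ℕ} (hi : i.Coprime (orderOf s)) :
    zpowers (s ^ i) = zpowers s := by
  apply Subgroup.eq_of_le_of_card_ge (zpowers_le.2 (pow_mem (mem_zpowers s) i))
  rw [Nat.card_zpowers, Nat.card_zpowers, Nat.Coprime.orderOf_pow hi.symm]

theorem solvable_zpowers (s : Γ) : Group.IsSolvable (zpowers s) := by
  apply Group.isSolvable_of_comm
  intro a b
  obtain ⟨a, ha⟩ := a
  obtain ⟨b, hb⟩ := b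
  obtain ⟨i, rfl⟩ := mem_zpowers_iff.1 ha
  obtain ⟨j, rfl⟩ := mem_zpowers_iff.1 hb
  apply Subtype.ext
  show s ^ i * s ^ j = s ^ j * s ^ i
  rw [← zpow_add, ← zpow_add, add_comm]

theorem commute_of_mem_zpowers {s a c : Γ} (ha : a ∈ zpowers s) (hc : Commute c s) :
    Commute c a := by
  obtain ⟨i, rfl⟩ := mem_zpowers_iff.1 ha
  exact hc.zpow_right i

set_option linter.unusedSectionVars false

variable [Finite Γ] (G : Subgroup Γ) [hG : G.Normal] (s : Γ)

/-- an exponent `k` divisible by `|G|` and `≡ 1` modulo the order of `s`. -/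
theorem exists_exponent (hcop : (Nat.card G).Coprime (orderOf s)) :
    ∃ k : ℕ, Nat.card G ∣ k ∧ k ≡ 1 [MOD orderOf s] := by
  refine ⟨Nat.chineseRemainder hcop 0 1, ?_, (Nat.chineseRemainder hcop 0 1).2.2⟩
  exact (Nat.modEq_zero_iff_dvd).1 (Nat.chineseRemainder hcop 0 1).2.1

theorem mul_pow_eq_right {c : Γ} (hc : c ∈ G) (hcs : Commute c s) {k : ℕ}
    (hk0 : Nat.card G ∣ k) (hk1 : k ≡ 1 [MOD orderOf s]) : (c * s) ^ k = s := by
  rw [hcs.mul_pow, pow_eq_one_of_dvd_exp (pow_card_subgroup_eq_one G hc) hk0, one_mul,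
    pow_eq_self_of_modEq (pow_orderOf_eq_one s) hk1]

theorem inf_zpowers_eq_bot (hcop : (Nat.card G).Coprime (orderOf s)) : G ⊓ zpowers s = ⊥ := by
  apply disjoint_iff.1
  apply Subgroup.disjoint_of_coprime_natCard
  rw [Nat.card_zpowers]
  exact hcop

include hG in
/-- every element of the coset `G s` is `G`-conjugate to `c s` with `c ∈ C_G(s)`. -/
theorem exists_conj_commute (hcop : (Nat.card G).Coprime (orderOf s)) {g : Γ} (hg : g ∈ G) :
    ∃ n ∈ G, ∃ c ∈ G, Commute c s ∧ g * s = n * (c * s) * n⁻¹ := by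
  obtain ⟨k, hk0, hk1⟩ := exists_exponent G s hcop
  set m := orderOf s with hm
  let π := QuotientGroup.mk' G
  have hπG : ∀ z : Γ, π z = 1 ↔ z ∈ G := fun z => QuotientGroup.eq_one_iff z
  set x := g * s with hx
  set y := x ^ k with hy
  have hπx : π x = π s := by
    rw [hx, map_mul, (hπG g).2 hg, one_mul]
  have hxm : x ^ m ∈ G := by
    rw [← hπG, map_pow, hπx, ← map_pow, hm, pow_orderOf_eq_one, map_one]
  have hym : y ^ m = 1 := by
    rw [hy, ← pow_mul, mul_comm, pow_mul]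
    exact pow_eq_one_of_dvd_exp (pow_card_subgroup_eq_one G hxm) hk0
  have hsk : s ^ k = s := pow_eq_self_of_modEq (pow_orderOf_eq_one s) hk1
  have hπy : π y = π s := by
    rw [hy, map_pow, hπx, ← map_pow, hsk]
  obtain ⟨n, hn, hle⟩ := Cfsg.Agent.Lib.helper1.glauberman_exists (zpowers s) G (zpowers y)
    (by rw [normalizer_eq_top]; exact le_top)
    (by rw [Nat.card_zpowers]; exact hcop.symm)
    (Or.inl (solvable_zpowers s))
    (by
      intro a ha
      obtain ⟨j, rfl⟩ := mem_zpowers_iff.1 ha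
      refine ⟨y ^ j * (s ^ j)⁻¹, ?_, ?_⟩
      · rw [← hπG, map_mul, map_zpow, hπy, map_inv, map_zpow, mul_inv_cancel]
      · rw [inv_mul_cancel_right]
        exact zpow_mem_zpowers y j)
  have h1 : n * s * n⁻¹ ∈ zpowers y := by
    have := hle (smul_mem_pointwise_smul s (MulAut.conj n) (zpowers s) (mem_zpowers s))
    simpa [MulAut.smul_def] using this
  obtain ⟨j, hj⟩ := mem_zpowers_iff.1 h1
  have h2 : n * s * n⁻¹ * s⁻¹ ∈ G := by
    have : n * s * n⁻¹ * s⁻¹ = n * (s * n⁻¹ * s⁻¹) := by group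
    rw [this]
    exact G.mul_mem hn (hG.conj_mem _ (G.inv_mem hn) s)
  have h3 : s ^ (j - 1) ∈ G := by
    rw [← hπG, map_zpow, zpow_sub, zpow_one]
    have := (hπG _).2 h2
    rw [← hj, map_mul, map_zpow, hπy, map_inv] at this
    exact this
  have h4 : s ^ (j - 1) = 1 := by
    have : s ^ (j - 1) ∈ G ⊓ zpowers s := ⟨h3, zpow_mem_zpowers s _⟩
    rw [inf_zpowers_eq_bot G s hcop] at this
    exact (mem_bot).1 this
  have h5 : y ^ (j - 1) = 1 := by
    obtain ⟨q, hq⟩ := (orderOf_dvd_iff_zpow_eq_one).2 h4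
    rw [hq, zpow_mul, zpow_natCast, ← hm, hym, one_zpow]
  have h6 : n * s * n⁻¹ = y := by
    rw [← hj]
    have : y ^ j = y ^ (j - 1) * y := by rw [zpow_sub_one, inv_mul_cancel_right]
    rw [this, h5, one_mul]
  have hcomm : Commute x y := (Commute.refl x).pow_right k
  refine ⟨n, hn, n⁻¹ * g * (s * n * s⁻¹), ?_, ?_, ?_⟩
  · exact G.mul_mem (G.mul_mem (G.inv_mem hn) hg) (hG.conj_mem _ hn s)
  · have e1 : n⁻¹ * g * (s * n * s⁻¹) * s = n⁻¹ * x * n := by rw [hx]; group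
    have e2 : s = n⁻¹ * y * n := by rw [← h6]; group
    have e3 : Commute (n⁻¹ * x * n) (n⁻¹ * y * n) := by
      show n⁻¹ * x * n * (n⁻¹ * y * n) = n⁻¹ * y * n * (n⁻¹ * x * n)
      have : x * y = y * x := hcomm
      calc n⁻¹ * x * n * (n⁻¹ * y * n) = n⁻¹ * (x * y) * n := by group
        _ = n⁻¹ * (y * x) * n := by rw [this]
        _ = n⁻¹ * y * n * (n⁻¹ * x * n) := by group
    rw [← e1, ← e2] at e3
    have e4 : n⁻¹ * g * (s * n * s⁻¹) * s * s = s * (n⁻¹ * g * (s * n * s⁻¹) * s) := e3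
    show n⁻¹ * g * (s * n * s⁻¹) * s = s * (n⁻¹ * g * (s * n * s⁻¹))
    apply mul_right_cancel (b := s)
    rw [e4]
    simp only [mul_assoc]
  · rw [hx]; group

/-- if `h (c s) h⁻¹ = c₀ s` with `c, c₀ ∈ C_G(s)` then `h` commutes with `s`. -/
theorem commute_of_conj_coset (hcop : (Nat.card G).Coprime (orderOf s)) {h c c₀ : Γ}
    (hc : c ∈ G) (hcs : Commute c s) (hc₀ : c₀ ∈ G) (hc₀s : Commute c₀ s)
    (heq : h * (c * s) * h⁻¹ = c₀ * s) : Commute h s := by
  obtain ⟨k, hk0, hk1⟩ := exists_exponent G s hcop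
  have h1 : (h * (c * s) * h⁻¹) ^ k = (c₀ * s) ^ k := by rw [heq]
  rw [conj_pow, mul_pow_eq_right G s hc hcs hk0 hk1, mul_pow_eq_right G s hc₀ hc₀s hk0 hk1] at h1
  show h * s = s * h
  calc h * s = h * s * h⁻¹ * h := by group
    _ = s * h := by rw [h1]

include hG in
/-- elements of `C_G(s)` that are `G`-conjugate are `C_G(s)`-conjugate. -/
theorem conj_in_centralizer (hcop : (Nat.card G).Coprime (orderOf s)) {c c' g : Γ}
    (hcs : Commute c s) (hc's : Commute c' s) (hg : g ∈ G)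
    (heq : g * c * g⁻¹ = c') : ∃ c₁ ∈ G, Commute c₁ s ∧ c₁ * c * c₁⁻¹ = c' := by
  obtain ⟨n, hn, hle⟩ := Cfsg.Agent.Lib.helper1.glauberman_exists (zpowers s)
    (G ⊓ centralizer ({c'} : Set Γ)) (MulAut.conj g • zpowers s)
    (by
      rw [zpowers_le, mem_normalizer_iff]
      intro h
      constructor
      · intro hh
        obtain ⟨h1, h2⟩ := Subgroup.mem_inf.1 hh
        refine Subgroup.mem_inf.2 ⟨hG.conj_mem _ h1 s, ?_⟩
        rw [mem_centralizer_iff] at h2 ⊢
        intro z hz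
        rw [Set.mem_singleton_iff] at hz
        subst hz
        have h3 : Commute z h := h2 z rfl
        have h4 : Commute z s := hc's
        exact ((h4.mul_right h3).mul_right h4.inv_right).eq
      · intro hh
        obtain ⟨h1, h2⟩ := Subgroup.mem_inf.1 hh
        refine Subgroup.mem_inf.2 ⟨?_, ?_⟩
        · have := hG.conj_mem _ h1 s⁻¹
          simpa [mul_assoc] using this
        · rw [mem_centralizer_iff] at h2 ⊢
          intro z hz
          rw [Set.mem_singleton_iff] at hz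
          subst hz
          have h3 : Commute z (s * h * s⁻¹) := h2 z rfl
          have h4 : Commute z s := hc's
          have h5 : Commute z (s⁻¹ * (s * h * s⁻¹) * s) := (h4.inv_right.mul_right h3).mul_right h4
          have h6 : s⁻¹ * (s * h * s⁻¹) * s = h := by group
          rw [h6] at h5
          exact h5.eq)
    (by
      rw [Nat.card_zpowers]
      exact Nat.Coprime.coprime_dvd_right (Subgroup.card_dvd_of_le inf_le_left) hcop.symm)
    (Or.inl (solvable_zpowers s))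
    (by
      intro a ha
      have hca : Commute c a := commute_of_mem_zpowers ha hcs
      have hc'a : Commute c' a := commute_of_mem_zpowers ha hc's
      refine ⟨g * a * g⁻¹ * a⁻¹, Subgroup.mem_inf.2 ⟨?_, ?_⟩, ?_⟩
      · have : g * a * g⁻¹ * a⁻¹ = g * (a * g⁻¹ * a⁻¹) := by group
        rw [this]
        exact G.mul_mem hg (hG.conj_mem _ (G.inv_mem hg) a)
      · rw [mem_centralizer_iff]
        intro z hz
        rw [Set.mem_singleton_iff] at hz
        have h1 : c * a = a * c := hca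
        have h2 : g * c * g⁻¹ * a = a * (g * c * g⁻¹) := by rw [heq]; exact hc'a
        rw [hz, ← heq]
        have h3 : g * c * g⁻¹ * a⁻¹ = a⁻¹ * (g * c * g⁻¹) := by
          calc g * c * g⁻¹ * a⁻¹ = a⁻¹ * (a * (g * c * g⁻¹)) * a⁻¹ := by group
            _ = a⁻¹ * (g * c * g⁻¹ * a) * a⁻¹ := by rw [h2]
            _ = a⁻¹ * (g * c * g⁻¹) := by group
        calc g * c * g⁻¹ * (g * a * g⁻¹ * a⁻¹) = g * (c * a) * g⁻¹ * a⁻¹ := by group
          _ = g * (a * c) * g⁻¹ * a⁻¹ := by rw [h1]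
          _ = g * a * g⁻¹ * (g * c * g⁻¹ * a⁻¹) := by group
          _ = g * a * g⁻¹ * (a⁻¹ * (g * c * g⁻¹)) := by rw [h3]
          _ = g * a * g⁻¹ * a⁻¹ * (g * c * g⁻¹) := by group
      · rw [inv_mul_cancel_right]
        have := smul_mem_pointwise_smul a (MulAut.conj g) (zpowers s) ha
        simpa [MulAut.smul_def] using this)
  have h1 : g⁻¹ * (n * s * n⁻¹) * g ∈ zpowers s := by
    have := hle (smul_mem_pointwise_smul s (MulAut.conj n) (zpowers s) (mem_zpowers s))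
    rw [mem_pointwise_smul_iff_inv_smul_mem] at this
    simpa [MulAut.smul_def, mul_assoc] using this
  set t := g⁻¹ * (n * s * n⁻¹) * g with ht
  have hn1 : n ∈ G := (Subgroup.mem_inf.1 hn).1
  have hn2 : n ∈ centralizer ({c'} : Set Γ) := (Subgroup.mem_inf.1 hn).2
  have hc₁ : n⁻¹ * g ∈ G := G.mul_mem (G.inv_mem hn1) hg
  have h2 : (n⁻¹ * g) * t * (n⁻¹ * g)⁻¹ = s := by rw [ht]; group
  have h3 : s * t⁻¹ ∈ G := by
    have : s * t⁻¹ = (n⁻¹ * g) * (t * (n⁻¹ * g)⁻¹ * t⁻¹) := by rw [← h2]; group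
    rw [this]
    exact G.mul_mem hc₁ (hG.conj_mem _ (G.inv_mem hc₁) t)
  have h4 : s * t⁻¹ = 1 := by
    have : s * t⁻¹ ∈ G ⊓ zpowers s := ⟨h3, (zpowers s).mul_mem (mem_zpowers s) ((zpowers s).inv_mem h1)⟩
    rw [inf_zpowers_eq_bot G s hcop] at this
    exact (mem_bot).1 this
  have h5 : t = s := by
    have := mul_eq_one_iff_eq_inv.1 h4
    rw [inv_inv] at this
    exact this.symm
  refine ⟨n⁻¹ * g, hc₁, ?_, ?_⟩
  · rw [h5] at h2
    show n⁻¹ * g * s = s * (n⁻¹ * g)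
    calc n⁻¹ * g * s = (n⁻¹ * g) * s * (n⁻¹ * g)⁻¹ * (n⁻¹ * g) := by group
      _ = s * (n⁻¹ * g) := by rw [h2]
  · rw [mem_centralizer_iff] at hn2
    have h6 : c' * n = n * c' := hn2 c' rfl
    calc n⁻¹ * g * c * (n⁻¹ * g)⁻¹ = n⁻¹ * (g * c * g⁻¹) * n := by group
      _ = n⁻¹ * (c' * n) := by rw [heq]; group
      _ = n⁻¹ * (n * c') := by rw [h6]
      _ = c' := by group

include hG in
/-- an `s`-invariant conjugacy class of `G` contains an element commuting with `s`. -/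
theorem exists_conj_commute_of_invariant (hcop : (Nat.card G).Coprime (orderOf s)) {g h : Γ}
    (hh : h ∈ G) (heq : s * g * s⁻¹ = h * g * h⁻¹) :
    ∃ n ∈ G, Commute (n * g * n⁻¹) s := by
  obtain ⟨k, hk0, hk1⟩ := exists_exponent G s hcop
  obtain ⟨n, hn, c, hc, hcs, hx⟩ := exists_conj_commute G s hcop (G.inv_mem hh)
  have h1 : Commute (h⁻¹ * s) g := by
    show h⁻¹ * s * g = g * (h⁻¹ * s)
    calc h⁻¹ * s * g = h⁻¹ * (s * g * s⁻¹) * s := by group
      _ = h⁻¹ * (h * g * h⁻¹) * s := by rw [heq]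
      _ = g * (h⁻¹ * s) := by group
  rw [hx] at h1
  have h2 : Commute (c * s) (n⁻¹ * g * n) := by
    show c * s * (n⁻¹ * g * n) = n⁻¹ * g * n * (c * s)
    have : n * (c * s) * n⁻¹ * g = g * (n * (c * s) * n⁻¹) := h1
    calc c * s * (n⁻¹ * g * n) = n⁻¹ * (n * (c * s) * n⁻¹ * g) * n := by group
      _ = n⁻¹ * (g * (n * (c * s) * n⁻¹)) * n := by rw [this]
      _ = n⁻¹ * g * n * (c * s) := by group
  have h3 := h2.pow_left k
  rw [mul_pow_eq_right G s hc hcs hk0 hk1] at h3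
  refine ⟨n⁻¹, G.inv_mem hn, ?_⟩
  rw [inv_inv]
  exact h3.symm

end Cfsg.Agent.Lib.helper19
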