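import Mathlib
import Cfsg.Prelude.Def_Characters
import Cfsg.Prelude.Def_CharExt
import Cfsg.Agent.Lib.helper19.GlaubGroup
import Cfsg.Agent.Lib.helper19.CanonExt
import Cfsg.Agent.Lib.helper19.Gallagher
import Cfsg.Agent.Lib.helper79.CycloNorm
import Cfsg.Agent.Lib.helper79.GaloisChar
import Cfsg.Agent.Lib.helper83.CharBasic

set_option autoImplicit false
set_option linter.unusedSectionVars false

/-!
# Glauberman correspondence for a cyclic group of operators: characters (helper19 library)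

`G ⊴ Γ`, `s : Γ` with `(|G|, o(s)) = 1`, `C = C_G(s)`.
* `sum_coset_centralizer` : `|C| ∑_{g ∈ G} F(g s) = |G| ∑_{c ∈ C} F(c s)` for class functions `F`.
* `partInner`, `isCharacter_partInner` : `t ↦ [F(· t)|_C, β]` is a character of `S`.
* `canon_pow_eq`, `canon_generator_indep` : Galois invariance of the canonical extension.
* `exists_glauberman_cyclic` : `χ̂(c s) = ε β(c)`.
* `glauberman_cyclic_inj` : injectivity.
-/

namespace Cfsg.Agent.Lib.helper19

open Cfsg Subgroup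
open scoped ComplexConjugate

variable {Γ : Type*} [Group Γ] [Fintype Γ] (G : Subgroup Γ) [hG : G.Normal] [Fintype G] (s : Γ)
  (C : Subgroup Γ) [Fintype C]

/-- `|C| ∑_{g ∈ G} F(g s) = |G| ∑_{c ∈ C} F(c s)` for a class function `F` of `Γ`. -/
theorem sum_coset_centralizer (hcop : (Nat.card G).Coprime (orderOf s))
    (hC : ∀ c : Γ, c ∈ C ↔ c ∈ G ∧ Commute c s) (F : Γ → ℂ) (hF : IsClassFunction Γ F) :
    (Nat.card C : ℂ) * ∑ g : G, F ((g : Γ) * s) = (Nat.card G : ℂ) * ∑ c : C, F ((c : Γ) * s) := by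
  classical
  have hmem : ∀ p : G × C, (p.1 : Γ) * p.2 * s * (p.1 : Γ)⁻¹ * s⁻¹ ∈ G := by
    intro p
    have h1 : (p.1 : Γ) * p.2 * s * (p.1 : Γ)⁻¹ * s⁻¹
        = (p.1 : Γ) * p.2 * (s * (p.1 : Γ)⁻¹ * s⁻¹) := by group
    rw [h1]
    exact G.mul_mem (G.mul_mem p.1.2 ((hC _).1 p.2.2).1) (hG.conj_mem _ (G.inv_mem p.1.2) s)
  let φ : G × C → G := fun p => ⟨(p.1 : Γ) * p.2 * s * (p.1 : Γ)⁻¹ * s⁻¹, hmem p⟩
  have hφ : ∀ p : G × C, ((φ p : G) : Γ) * s = (p.1 : Γ) * ((p.2 : Γ) * s) * (p.1 : Γ)⁻¹ := by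
    intro p
    show (p.1 : Γ) * p.2 * s * (p.1 : Γ)⁻¹ * s⁻¹ * s = _
    group
  have h1 : ∑ p : G × C, F (((φ p : G) : Γ) * s) = (Nat.card G : ℂ) * ∑ c : C, F ((c : Γ) * s) := by
    have : ∀ p : G × C, F (((φ p : G) : Γ) * s) = F ((p.2 : Γ) * s) := by
      intro p
      rw [hφ p]
      exact hF _ _
    rw [Finset.sum_congr rfl (fun p _ => this p), Fintype.sum_prod_type]
    simp only [Finset.sum_const, Finset.card_univ, nsmul_eq_mul, Nat.card_eq_fintype_card]
  have hfib : ∀ g : G, (Finset.univ.filter (fun p : G × C => φ p = g)).card = Nat.card C := by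
    intro g
    obtain ⟨n₀, hn₀, c₀, hc₀, hc₀s, hx⟩ := exists_conj_commute G s hcop g.2
    rw [Nat.card_eq_fintype_card, ← Finset.card_univ]
    symm
    have hin : ∀ h : C, (n₀ * (h : Γ)) ∈ G := fun h => G.mul_mem hn₀ ((hC _).1 h.2).1
    have hin2 : ∀ h : C, ((h : Γ)⁻¹ * c₀ * h) ∈ C := by
      intro h
      have hh := (hC _).1 h.2
      rw [hC]
      refine ⟨G.mul_mem (G.mul_mem (G.inv_mem hh.1) hc₀) hh.1, ?_⟩
      exact (hh.2.inv_left.mul_left hc₀s).mul_left hh.2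
    refine Finset.card_bij (fun h _ => (⟨n₀ * (h : Γ), hin h⟩, ⟨(h : Γ)⁻¹ * c₀ * h, hin2 h⟩))
      ?_ ?_ ?_
    · intro h _
      rw [Finset.mem_filter]
      refine ⟨Finset.mem_univ _, ?_⟩
      apply Subtype.ext
      show n₀ * (h : Γ) * ((h : Γ)⁻¹ * c₀ * h) * s * (n₀ * (h : Γ))⁻¹ * s⁻¹ = g
      have hh : (h : Γ) * s = s * h := ((hC _).1 h.2).2
      have : n₀ * (h : Γ) * ((h : Γ)⁻¹ * c₀ * h) * s * (n₀ * (h : Γ))⁻¹ * s⁻¹
          = n₀ * c₀ * ((h : Γ) * s) * (h : Γ)⁻¹ * n₀⁻¹ * s⁻¹ := by group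
      rw [this, hh]
      have : n₀ * c₀ * (s * (h : Γ)) * (h : Γ)⁻¹ * n₀⁻¹ * s⁻¹ = n₀ * (c₀ * s) * n₀⁻¹ * s⁻¹ := by
        group
      rw [this, ← hx]
      group
    · intro h _ h' _ heq
      have := congrArg (fun p : G × C => ((p.1 : G) : Γ)) heq
      simp only at this
      exact Subtype.ext (mul_left_cancel this)
    · intro p hp
      rw [Finset.mem_filter] at hp
      have hp2 := hφ p
      rw [hp.2, hx] at hp2
      -- n₀ (c₀ s) n₀⁻¹ = p.1 (p.2 s) p.1⁻¹
      have hconj : (n₀⁻¹ * (p.1 : Γ)) * ((p.2 : Γ) * s) * (n₀⁻¹ * (p.1 : Γ))⁻¹ = c₀ * s := by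
        have : (n₀⁻¹ * (p.1 : Γ)) * ((p.2 : Γ) * s) * (n₀⁻¹ * (p.1 : Γ))⁻¹
            = n₀⁻¹ * ((p.1 : Γ) * ((p.2 : Γ) * s) * (p.1 : Γ)⁻¹) * n₀ := by group
        rw [this, ← hp2]
        group
      have hp2C := (hC _).1 p.2.2
      have hcomm : Commute (n₀⁻¹ * (p.1 : Γ)) s :=
        commute_of_conj_coset G s hcop hp2C.1 hp2C.2 hc₀ hc₀s hconj
      have hmemC : n₀⁻¹ * (p.1 : Γ) ∈ C := by
        rw [hC]
        exact ⟨G.mul_mem (G.inv_mem hn₀) p.1.2, hcomm⟩
      refine ⟨⟨n₀⁻¹ * (p.1 : Γ), hmemC⟩, Finset.mem_univ _, ?_⟩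
      apply Prod.ext
      · apply Subtype.ext
        show n₀ * (n₀⁻¹ * (p.1 : Γ)) = p.1
        group
      · apply Subtype.ext
        show (n₀⁻¹ * (p.1 : Γ))⁻¹ * c₀ * (n₀⁻¹ * (p.1 : Γ)) = p.2
        have e1 : c₀ = (n₀⁻¹ * (p.1 : Γ)) * ((p.2 : Γ) * s) * (n₀⁻¹ * (p.1 : Γ))⁻¹ * s⁻¹ := by
          rw [hconj]; group
        have e2 : (n₀⁻¹ * (p.1 : Γ))⁻¹ * s⁻¹ = s⁻¹ * (n₀⁻¹ * (p.1 : Γ))⁻¹ :=
          (hcomm.inv_left.inv_right).eq
        calc (n₀⁻¹ * (p.1 : Γ))⁻¹ * c₀ * (n₀⁻¹ * (p.1 : Γ))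
            = (n₀⁻¹ * (p.1 : Γ))⁻¹ * ((n₀⁻¹ * (p.1 : Γ)) * ((p.2 : Γ) * s)
                * (n₀⁻¹ * (p.1 : Γ))⁻¹ * s⁻¹) * (n₀⁻¹ * (p.1 : Γ)) := by rw [← e1]
          _ = (p.2 : Γ) * s * ((n₀⁻¹ * (p.1 : Γ))⁻¹ * s⁻¹) * (n₀⁻¹ * (p.1 : Γ)) := by group
          _ = (p.2 : Γ) * s * (s⁻¹ * (n₀⁻¹ * (p.1 : Γ))⁻¹) * (n₀⁻¹ * (p.1 : Γ)) := by rw [e2]
          _ = p.2 := by group
  have h2 : ∑ p : G × C, F (((φ p : G) : Γ) * s) = (Nat.card C : ℂ) * ∑ g : G, F ((g : Γ) * s) := by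
    rw [← Finset.sum_fiberwise (Finset.univ : Finset (G × C)) φ (fun p => F (((φ p : G) : Γ) * s)),
      Finset.mul_sum]
    refine Finset.sum_congr rfl (fun g _ => ?_)
    have : ∀ p ∈ Finset.univ.filter (fun p : G × C => φ p = g),
        F (((φ p : G) : Γ) * s) = F ((g : Γ) * s) := by
      intro p hp
      rw [(Finset.mem_filter.1 hp).2]
    rw [Finset.sum_congr rfl this, Finset.sum_const, hfib g, nsmul_eq_mul]
  rw [← h2, h1]

/-- the partial inner product `[F(· t)|_C, β]`. -/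
noncomputable def partInner (F : Γ → ℂ) (β : C → ℂ) (t : Γ) : ℂ :=
  classInner (fun c : C => F ((c : Γ) * t)) β

theorem partInner_one (F : Γ → ℂ) (β : C → ℂ) :
    partInner C F β 1 = classInner (fun c : C => F c) β := by
  unfold partInner
  simp

theorem isClassFunction_shift {F : Γ → ℂ} (hF : IsClassFunction Γ F) {t : Γ}
    (ht : ∀ c ∈ C, Commute c t) : IsClassFunction C (fun c : C => F ((c : Γ) * t)) := by
  intro g h
  show F (((h * g * h⁻¹ : C) : Γ) * t) = F ((g : Γ) * t)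
  have h1 : Commute ((h : Γ)⁻¹) t := (ht h h.2).inv_left
  have : ((h * g * h⁻¹ : C) : Γ) * t = (h : Γ) * ((g : Γ) * t) * (h : Γ)⁻¹ := by
    push_cast
    have h2 : (h : Γ)⁻¹ * t = t * (h : Γ)⁻¹ := h1
    calc (h : Γ) * g * (h : Γ)⁻¹ * t = (h : Γ) * g * ((h : Γ)⁻¹ * t) := by group
      _ = (h : Γ) * g * (t * (h : Γ)⁻¹) := by rw [h2]
      _ = (h : Γ) * ((g : Γ) * t) * (h : Γ)⁻¹ := by group
  rw [this]
  exact hF _ _

theorem partInner_expand {F : Γ → ℂ} (hF : IsClassFunction Γ F) {t : Γ}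
    (ht : ∀ c ∈ C, Commute c t) [Fintype (IrrCharacter C)] (c : C) :
    F ((c : Γ) * t) = ∑ β : IrrCharacter C, partInner C F (β : C → ℂ) t * (β : C → ℂ) c := by
  have h := Cfsg.Agent.Lib.helper4.classFunction_eq_sum_irr (isClassFunction_shift C hF ht)
  have h2 := congrFun h c
  simp only [Finset.sum_apply, Pi.smul_apply, smul_eq_mul] at h2
  exact h2

theorem partInner_parseval {F : Γ → ℂ} (hF : IsClassFunction Γ F) {t : Γ}
    (ht : ∀ c ∈ C, Commute c t) [Fintype (IrrCharacter C)] :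
    ∑ β : IrrCharacter C, partInner C F (β : C → ℂ) t * conj (partInner C F (β : C → ℂ) t)
      = classInner (fun c : C => F ((c : Γ) * t)) (fun c : C => F ((c : Γ) * t)) := by
  have h := Cfsg.Agent.Lib.helper4.classFunction_eq_sum_irr (isClassFunction_shift C hF ht)
  have h2 := Cfsg.Agent.Lib.helper4.classInner_sum_irr_smul
    (fun β : IrrCharacter C => partInner C F (β : C → ℂ) t)
    (fun β : IrrCharacter C => partInner C F (β : C → ℂ) t)
  rw [← h2]
  unfold partInner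
  rw [← h]

/-- `t ↦ [F(· t)|_C, β]` is a character of an abelian group `S` centralising `C`. -/
theorem isCharacter_partInner (S : Subgroup Γ) [Fintype S]
    (hcomm : ∀ c ∈ C, ∀ t ∈ S, Commute c t) (hSab : ∀ a b : S, a * b = b * a)
    {F : Γ → ℂ} (hF : IsCharacter Γ F) {β : C → ℂ} (hβ : IsIrrCharacter C β) :
    IsCharacter S (fun t : S => partInner C F β (t : Γ)) := by
  classical
  have : Fintype (IrrCharacter S) := Fintype.ofFinite _
  apply Cfsg.Agent.Lib.helper4.isCharacter_of_nat_classInner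
  · intro g h
    have : h * g * h⁻¹ = g := by rw [hSab h g, mul_inv_cancel_right]
    show partInner C F β ((h * g * h⁻¹ : S) : Γ) = partInner C F β (g : Γ)
    rw [this]
  · intro lam
    let μ : C × S →* Γ := MonoidHom.noncommCoprod C.subtype S.subtype
      (fun c t => hcomm c c.2 t t.2)
    have hμ : ∀ p : C × S, μ p = (p.1 : Γ) * (p.2 : Γ) := fun p => rfl
    have hΘ : IsCharacter (C × S) (fun p => F (μ p)) :=
      Cfsg.Agent.Lib.helper4.isCharacter_comp μ hF
    have hB : IsCharacter (C × S) ((fun p : C × S => β p.1) * (fun p : C × S => (lam : S → ℂ) p.2)) :=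
      Cfsg.Agent.Lib.helper4.isCharacter_mul
        (Cfsg.Agent.Lib.helper4.isCharacter_comp (MonoidHom.fst C S)
          (Cfsg.Agent.Lib.helper4.isCharacter_of_isIrrCharacter hβ))
        (Cfsg.Agent.Lib.helper4.isCharacter_comp (MonoidHom.snd C S)
          (Cfsg.Agent.Lib.helper4.isCharacter_of_isIrrCharacter lam.2))
    obtain ⟨n, hn⟩ := Cfsg.Agent.Lib.helper4.exists_nat_classInner hΘ hB
    refine ⟨n, ?_⟩
    rw [← hn]
    unfold partInner Cfsg.classInner
    rw [Nat.card_prod, Fintype.sum_prod_type, Finset.sum_comm]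
    simp only [Finset.mul_sum, Finset.sum_mul, hμ, Pi.mul_apply, map_mul]
    refine Finset.sum_congr rfl (fun t _ => Finset.sum_congr rfl (fun c _ => ?_))
    push_cast
    ring

theorem detOrder_dvd_card {H : Type*} [Group H] [Finite H] {ϑ : H → ℂ} (hϑ : IsCharacter H ϑ) :
    detOrder ϑ ∣ Nat.card H := by
  obtain ⟨f, hf⟩ := exists_detChar_hom hϑ
  rw [detOrder_eq_orderOf f hf]
  apply orderOf_dvd_of_pow_eq_one
  refine MonoidHom.ext fun g => ?_
  show f g ^ Nat.card H = 1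
  rw [← map_pow, pow_card_eq_one', map_one]

theorem irr_degree_dvd_card_nat {H : Type*} [Group H] [Finite H] {ϑ : H → ℂ}
    (hϑ : IsIrrCharacter H ϑ) (d : ℕ) (hd : ϑ 1 = d) : d ∣ Nat.card H := by
  obtain ⟨n, ρ, hρ, hρχ⟩ := hϑ
  have := hρ
  have h1 := Cfsg.Agent.Lib.helper82.finrank_dvd_card ρ
  have h2 : ρ.character 1 = (n : ℂ) := by simp
  have h3 : (n : ℂ) = d := by rw [← h2, hρχ]; exact hd
  have h4 : n = d := by exact_mod_cast h3
  rw [← h4]
  simpa using h1

/-- for `ϑ ∈ Irr(G)` and `|Γ : G|` coprime to `|G|`, the index is coprime to `o(ϑ) ϑ(1)`. -/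
theorem coprime_index_detOrder_mul (ϑ : G → ℂ) (hϑ : IsIrrCharacter G ϑ)
    (hidx : (Nat.card G).Coprime G.index) (d : ℕ) (hd : ϑ 1 = d) :
    Nat.Coprime G.index (detOrder ϑ * d) :=
  Nat.Coprime.mul_right
    (Nat.Coprime.coprime_dvd_right (detOrder_dvd_card (isCharacter_of_isIrr hϑ)) hidx.symm)
    (Nat.Coprime.coprime_dvd_right (irr_degree_dvd_card_nat hϑ d hd) hidx.symm)

/-- Galois invariance of the canonical extension: `χ̂(x ^ j) = χ̂(x)` for `j ≡ 1 (mod |G|)`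
coprime to `|Γ|`. -/
theorem canon_pow_eq (χh : Γ → ℂ) (hχh : IsIrrCharacter Γ χh)
    (hχ : IsIrrCharacter G (fun g : G => χh g)) (hidx : (Nat.card G).Coprime G.index)
    (hdet : (detOrder χh).Coprime G.index) (j : ℕ) (hj : j.Coprime (Nat.card Γ))
    (hj1 : j ≡ 1 [MOD Nat.card G]) (x : Γ) : χh (x ^ j) = χh x := by
  have hχhc := isCharacter_of_isIrr hχh
  have hχc := isCharacter_of_isIrr hχ
  have hcl := Cfsg.Agent.Lib.helper4.isClassFunction_of_isCharacter hχhc
  obtain ⟨d, -, hd⟩ := Cfsg.Agent.Lib.helper4.exists_pos_nat_degree hχ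
  have hinv : ∀ (x : Γ) (n : G), (fun g : G => χh g) ⟨x * n * x⁻¹, hG.conj_mem (n : Γ) n.2 x⟩
      = (fun g : G => χh g) n := fun x n => hcl _ _
  have hcop : Nat.Coprime G.index (detOrder (fun g : G => χh g) * d) :=
    coprime_index_detOrder_mul G _ hχ hidx d hd
  obtain ⟨χ₀, -, huniq⟩ := exists_canonical_extension G (fun g : G => χh g) hχ hinv d hd hcop
  have e1 : χh = χ₀ := huniq χh hχh (fun n => rfl) hdet.symm
  have e2 : (fun x => χh (x ^ j)) = χ₀ := by
    refine huniq _ (Cfsg.Agent.Lib.helper79.isIrrCharacter_pow_coprime j hj hχh) (fun n => ?_) ?_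
    · show χh ((n : Γ) ^ j) = χh n
      rw [pow_eq_self_of_modEq (pow_card_subgroup_eq_one G n.2) hj1]
    · obtain ⟨f, hf⟩ := exists_detChar_hom hχhc
      have h1 := detChar_pow_coprime j hj hχhc
      have h2 : detOrder (fun x => χh (x ^ j)) = orderOf (f ^ j) := by
        apply detOrder_eq_orderOf
        intro g
        rw [h1]
        show detChar χh (g ^ j) = ((f g ^ j : ℂˣ) : ℂ)
        rw [hf, map_pow]
      have h3 : detOrder χh = orderOf f := detOrder_eq_orderOf f hf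
      rw [h2]
      rw [h3] at hdet
      exact (Nat.Coprime.coprime_dvd_left (orderOf_pow_dvd j) hdet).symm
  exact congrFun (e2.trans e1.symm) x

/-- the values of the canonical extension on `c s` do not depend on the generator `s`. -/
theorem canon_generator_indep (hcop : (Nat.card G).Coprime (orderOf s))
    (hcard : Nat.card Γ = Nat.card G * orderOf s)
    (χh : Γ → ℂ) (hχh : IsIrrCharacter Γ χh)
    (hχ : IsIrrCharacter G (fun g : G => χh g))
    (hdet : (detOrder χh).Coprime (orderOf s)) {c : Γ} (hc : c ∈ G) (hcs : Commute c s)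
    {s' : Γ} (hs' : zpowers s' = zpowers s) : χh (c * s') = χh (c * s) := by
  set m := orderOf s with hm
  have hm0 : 0 < m := orderOf_pos s
  have hidx : G.index = m := by
    have h1 := Subgroup.card_mul_index G
    rw [hcard] at h1
    have hG0 : 0 < Nat.card G := Nat.card_pos
    exact Nat.eq_of_mul_eq_mul_left hG0 h1
  -- s' = s ^ i with i coprime to m
  have hmem : s' ∈ zpowers s := by rw [← hs']; exact mem_zpowers s'
  obtain ⟨z, hz⟩ := mem_zpowers_iff.1 hmem
  have hmz : (m : ℤ) ≠ 0 := by exact_mod_cast hm0.ne'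
  set i := (z % (m : ℤ)).toNat with hi
  have hiz : (i : ℤ) = z % (m : ℤ) := Int.toNat_of_nonneg (Int.emod_nonneg _ hmz)
  have hsi : s ^ i = s' := by
    rw [← zpow_natCast, hiz, hm, zpow_mod_orderOf, hz]
  have hord : orderOf s' = m := by
    rw [← Nat.card_zpowers, hs', Nat.card_zpowers]
  have hicop : Nat.Coprime i m := by
    have h1 : orderOf (s ^ i) = orderOf s / Nat.gcd (orderOf s) i := orderOf_pow s
    rw [hsi, hord, ← hm] at h1
    have h2 := (Nat.div_eq_self.1 h1.symm)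
    rcases h2 with h2 | h2
    · exact absurd h2 hm0.ne'
    · rw [Nat.coprime_comm]; exact h2
  set j := (Nat.chineseRemainder hcop 1 i : ℕ) with hj
  have hj1 : j ≡ 1 [MOD Nat.card G] := (Nat.chineseRemainder hcop 1 i).2.1
  have hji : j ≡ i [MOD m] := (Nat.chineseRemainder hcop 1 i).2.2
  have hjG : j.Coprime (Nat.card G) := by
    have := hj1.gcd_eq
    rw [Nat.gcd_one_left] at this
    exact this
  have hjm : j.Coprime m := by
    have := hji.gcd_eq
    rw [hicop.gcd_eq_one] at this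
    exact this
  have hjΓ : j.Coprime (Nat.card Γ) := by
    rw [hcard]; exact Nat.Coprime.mul_right hjG hjm
  have hpow := canon_pow_eq G χh hχh hχ (by rw [hidx]; exact hcop) (by rw [hidx]; exact hdet)
    j hjΓ hj1 (c * s)
  rw [hcs.mul_pow, pow_eq_self_of_modEq (pow_card_subgroup_eq_one G hc) hj1] at hpow
  have hsj : s ^ j = s ^ i := (pow_eq_pow_iff_modEq).2 hji
  rw [hsj, hsi] at hpow
  exact hpow

theorem isCharacter_eq_zero_of_one {H : Type*} [Group H] {ψ : H → ℂ} (hψ : IsCharacter H ψ)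
    (h1 : ψ 1 = 0) : ψ = 0 := by
  obtain ⟨n, ρ, rfl⟩ := hψ
  have h2 : ρ.character 1 = (n : ℂ) := by simp
  rw [h2] at h1
  have hn : n = 0 := by exact_mod_cast h1
  subst hn
  exact Cfsg.Agent.Lib.helper4.char_eq_zero_of_subsingleton ρ

/-- the class function `c ↦ χ̂(c s)` on `C` has norm one. -/
theorem classInner_coset_eq_one (hcop : (Nat.card G).Coprime (orderOf s))
    (hC : ∀ c : Γ, c ∈ C ↔ c ∈ G ∧ Commute c s)
    (χh : Γ → ℂ) (hχh : IsIrrCharacter Γ χh) (hχ : IsIrrCharacter G (fun g : G => χh g)) :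
    classInner (fun c : C => χh ((c : Γ) * s)) (fun c : C => χh ((c : Γ) * s)) = 1 := by
  have hcl := Cfsg.Agent.Lib.helper4.isClassFunction_of_isIrrCharacter hχh
  have hF : IsClassFunction Γ (fun x => χh x * conj (χh x)) := by
    intro g h
    show χh (h * g * h⁻¹) * conj (χh (h * g * h⁻¹)) = χh g * conj (χh g)
    rw [hcl g h]
  have h1 := sum_coset_centralizer G s C hcop hC _ hF
  have h2 := sum_coset_norm G χh hχh hχ s
  beta_reduce at h1
  rw [h2] at h1
  unfold Cfsg.classInner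
  have hG0 : (Nat.card G : ℂ) ≠ 0 := by exact_mod_cast (Nat.card_pos (α := G)).ne'
  have hC0 : (Nat.card C : ℂ) ≠ 0 := by exact_mod_cast (Nat.card_pos (α := C)).ne'
  have h3 : ∑ c : C, χh ((c : Γ) * s) * conj (χh ((c : Γ) * s)) = Nat.card C := by
    apply mul_left_cancel₀ hG0
    rw [← h1]; ring
  rw [h3]
  field_simp

/-- Glauberman correspondence, cyclic case: the values of the canonical extension on `C s`. -/
theorem exists_glauberman_cyclic (hcop : (Nat.card G).Coprime (orderOf s))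
    (hcard : Nat.card Γ = Nat.card G * orderOf s)
    (hC : ∀ c : Γ, c ∈ C ↔ c ∈ G ∧ Commute c s)
    (χh : Γ → ℂ) (hχh : IsIrrCharacter Γ χh) (hχ : IsIrrCharacter G (fun g : G => χh g))
    (hdet : (detOrder χh).Coprime (orderOf s)) :
    ∃ (β : IrrCharacter C) (ε : ℤ), (ε = 1 ∨ ε = -1) ∧
      (∀ c : C, ∀ s' : Γ, zpowers s' = zpowers s →
        χh ((c : Γ) * s') = (ε : ℂ) * (β : C → ℂ) c) ∧
      classInner (fun c : C => χh c) (β : C → ℂ) ≠ 0 := by
  classical
  have : Fintype (IrrCharacter C) := Fintype.ofFinite _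
  have : Fintype (zpowers s) := Fintype.ofFinite _
  have hχhc := isCharacter_of_isIrr hχh
  have hcl := Cfsg.Agent.Lib.helper4.isClassFunction_of_isCharacter hχhc
  have hcommS : ∀ c ∈ C, ∀ t ∈ zpowers s, Commute c t :=
    fun c hc t ht => commute_of_mem_zpowers ht ((hC c).1 hc).2
  have hcomms : ∀ c ∈ C, Commute c s := fun c hc => ((hC c).1 hc).2
  have hψchar : ∀ β : IrrCharacter C,
      IsCharacter (zpowers s) (fun t : zpowers s => partInner C χh (β : C → ℂ) (t : Γ)) :=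
    fun β => isCharacter_partInner C (zpowers s) hcommS (zpowers_mul_comm s) hχhc β.2
  let ψ : IrrCharacter C → ℂ := fun β => partInner C χh (β : C → ℂ) s
  have hgenc : ∀ s' : Γ, zpowers s' = zpowers s → ∀ c : C, χh ((c : Γ) * s') = χh ((c : Γ) * s) :=
    fun s' hs' c => canon_generator_indep G s hcop hcard χh hχh hχ hdet ((hC c).1 c.2).1
      ((hC c).1 c.2).2 hs'
  have hgen : ∀ s' : Γ, zpowers s' = zpowers s → ∀ β : IrrCharacter C,
      partInner C χh (β : C → ℂ) s' = ψ β := by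
    intro s' hs' β
    show partInner C χh (β : C → ℂ) s' = partInner C χh (β : C → ℂ) s
    unfold partInner
    congr 1
    funext c
    exact hgenc s' hs' c
  have hreal : ∀ β : IrrCharacter C, conj (ψ β) = ψ β := by
    intro β
    have h1 := Cfsg.Agent.Lib.helper83.isCharacter_inv (hψchar β) ⟨s, mem_zpowers s⟩
    have h2 : partInner C χh (β : C → ℂ) s⁻¹ = conj (ψ β) := h1
    rw [← h2]
    exact hgen s⁻¹ zpowers_inv β
  have hm0 : 0 < orderOf s := orderOf_pos s
  have hbound : ∀ β : IrrCharacter C, ψ β ≠ 0 → 1 ≤ ‖ψ β‖ := by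
    intro β hne
    obtain ⟨n, ρ, hρ⟩ := hψchar β
    let g : zpowers s := ⟨s, mem_zpowers s⟩
    have hg : g ^ orderOf s = 1 := Subtype.ext (pow_orderOf_eq_one s)
    have hζ := Complex.isPrimitiveRoot_exp (orderOf s) hm0.ne'
    set ζ := Complex.exp (2 * Real.pi * Complex.I / (orderOf s : ℂ)) with hζdef
    obtain ⟨E, hE⟩ := Cfsg.Agent.Lib.helper79.character_pow_eq_aeval ρ g (orderOf s) hm0 hg ζ hζ
    have hval : ∀ i : ℕ, ρ.character (g ^ i) = partInner C χh (β : C → ℂ) (s ^ i) := by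
      intro i
      rw [hρ]
      rfl
    have hE1 : Polynomial.aeval ζ E = ψ β := by
      have h1 := hE 1
      rw [hval 1] at h1
      simp only [pow_one] at h1
      exact h1.symm
    have hprod := Cfsg.Agent.Lib.helper79.one_le_prod_norm_aeval_primitiveRoots hm0 hζ E
      (by rw [hE1]; exact hne)
    have hterm : ∀ ξ ∈ primitiveRoots (orderOf s) ℂ, ‖Polynomial.aeval ξ E‖ = ‖ψ β‖ := by
      intro ξ hξ
      have hξ' := (mem_primitiveRoots hm0).1 hξ
      have : NeZero (orderOf s) := ⟨hm0.ne'⟩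
      obtain ⟨i, -, hicop, rfl⟩ := (hζ.isPrimitiveRoot_iff).1 hξ'
      rw [← hE i, hval i, hgen (s ^ i) (zpowers_pow_eq_of_coprime s hicop) β]
    rw [Finset.prod_congr rfl hterm, Finset.prod_const] at hprod
    by_contra hlt
    push Not at hlt
    have hpos : (primitiveRoots (orderOf s) ℂ).card ≠ 0 :=
      (Finset.card_pos.2 ⟨ζ, (mem_primitiveRoots hm0).2 hζ⟩).ne'
    have := pow_lt_one₀ (norm_nonneg (ψ β)) hlt hpos
    linarith
  have hsum : ∑ β : IrrCharacter C, ψ β * conj (ψ β) = 1 := by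
    have h1 := partInner_parseval C hcl (t := s) hcomms
    rw [classInner_coset_eq_one G s C hcop hC χh hχh hχ] at h1
    exact h1
  have hsumR : ∑ β : IrrCharacter C, ‖ψ β‖ ^ 2 = 1 := by
    have h1 : ∀ β : IrrCharacter C, ψ β * conj (ψ β) = ((‖ψ β‖ ^ 2 : ℝ) : ℂ) := by
      intro β
      rw [Complex.mul_conj, Complex.normSq_eq_norm_sq]
    rw [Finset.sum_congr rfl (fun β _ => h1 β)] at hsum
    exact_mod_cast hsum
  obtain ⟨β₀, hβ₀⟩ : ∃ β₀ : IrrCharacter C, ψ β₀ ≠ 0 := by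
    by_contra hall
    push Not at hall
    have : ∑ β : IrrCharacter C, ‖ψ β‖ ^ 2 = 0 :=
      Finset.sum_eq_zero (fun β _ => by rw [hall β]; simp)
    rw [this] at hsumR
    exact zero_ne_one hsumR
  have hge := hbound β₀ hβ₀
  have hsplit := Finset.add_sum_erase Finset.univ (fun β : IrrCharacter C => ‖ψ β‖ ^ 2)
    (Finset.mem_univ β₀)
  rw [hsumR] at hsplit
  have hnn : ∀ β ∈ Finset.univ.erase β₀, 0 ≤ ‖ψ β‖ ^ 2 := fun β _ => by positivity
  have hrest_nonneg := Finset.sum_nonneg hnn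
  have hsq : 1 ≤ ‖ψ β₀‖ ^ 2 := by nlinarith
  have hrest0 : ∑ β ∈ Finset.univ.erase β₀, ‖ψ β‖ ^ 2 = 0 := by linarith
  have hnorm1 : ‖ψ β₀‖ ^ 2 = 1 := by linarith
  have hother : ∀ β : IrrCharacter C, β ≠ β₀ → ψ β = 0 := by
    intro β hβ
    have := (Finset.sum_eq_zero_iff_of_nonneg hnn).1 hrest0 β
      (Finset.mem_erase.2 ⟨hβ, Finset.mem_univ β⟩)
    have h2 : ‖ψ β‖ = 0 := by
      rcases pow_eq_zero_iff (two_ne_zero) |>.1 this with h
      exact h
    exact norm_eq_zero.1 h2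
  obtain ⟨r, hr⟩ := (Complex.conj_eq_iff_real).1 (hreal β₀)
  have hr1 : r = 1 ∨ r = -1 := by
    rw [hr, Complex.norm_real, Real.norm_eq_abs, sq_abs] at hnorm1
    have : (r - 1) * (r + 1) = 0 := by nlinarith
    rcases mul_eq_zero.1 this with h | h
    · left; linarith
    · right; linarith
  have hexp : ∀ c : C, χh ((c : Γ) * s) = ψ β₀ * (β₀ : C → ℂ) c := by
    intro c
    rw [partInner_expand C hcl hcomms c]
    rw [Finset.sum_eq_single β₀]
    · intro β _ hβ
      have : partInner C χh (β : C → ℂ) s = 0 := hother β hβ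
      rw [this, zero_mul]
    · intro h
      exact absurd (Finset.mem_univ β₀) h
  have hne0 : classInner (fun c : C => χh c) (β₀ : C → ℂ) ≠ 0 := by
    intro h0
    rw [← partInner_one] at h0
    have h1 := isCharacter_eq_zero_of_one (hψchar β₀) h0
    have h2 := congrFun h1 ⟨s, mem_zpowers s⟩
    exact hβ₀ h2
  rcases hr1 with h | h
  · refine ⟨β₀, 1, Or.inl rfl, fun c s' hs' => ?_, hne0⟩
    rw [hgenc s' hs' c, hexp c, hr, h]
    push_cast
    ring
  · refine ⟨β₀, -1, Or.inr rfl, fun c s' hs' => ?_, hne0⟩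
    rw [hgenc s' hs' c, hexp c, hr, h]
    push_cast
    ring

/-- injectivity of the cyclic Glauberman map. -/
theorem glauberman_cyclic_inj (hcop : (Nat.card G).Coprime (orderOf s))
    (hC : ∀ c : Γ, c ∈ C ↔ c ∈ G ∧ Commute c s)
    (χh χh' : Γ → ℂ) (hχh : IsIrrCharacter Γ χh) (hχh' : IsIrrCharacter Γ χh')
    (hχ : IsIrrCharacter G (fun g : G => χh g)) (hχ' : IsIrrCharacter G (fun g : G => χh' g))
    (β : C → ℂ) (hβ : IsIrrCharacter C β) (ε ε' : ℤ) (hε : ε = 1 ∨ ε = -1)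
    (hε' : ε' = 1 ∨ ε' = -1)
    (h : ∀ c : C, χh ((c : Γ) * s) = (ε : ℂ) * β c)
    (h' : ∀ c : C, χh' ((c : Γ) * s) = (ε' : ℂ) * β c) :
    (fun g : G => χh g) = (fun g : G => χh' g) := by
  by_contra hne
  have hcl := Cfsg.Agent.Lib.helper4.isClassFunction_of_isIrrCharacter hχh
  have hcl' := Cfsg.Agent.Lib.helper4.isClassFunction_of_isIrrCharacter hχh'
  have h0 : gallagherFun G χh χh' = 0 := by
    rcases gallagherFun_dichotomy G χh hχh hχ χh' hχh' with h | ⟨hirr, -, -⟩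
    · exact h
    · exfalso
      have h1 := gallagherFun_one G χh χh'
      rw [Cfsg.Agent.Lib.helper4.classInner_irr_ne hχ' hχ (Ne.symm hne)] at h1
      exact Cfsg.Agent.Lib.helper4.irr_degree_ne_zero hirr h1
  have hG0 : (Nat.card G : ℂ) ≠ 0 := by exact_mod_cast (Nat.card_pos (α := G)).ne'
  have hC0 : (Nat.card C : ℂ) ≠ 0 := by exact_mod_cast (Nat.card_pos (α := C)).ne'
  have h1 : ∑ g : G, χh' ((g : Γ) * s) * conj (χh ((g : Γ) * s)) = 0 := by
    have := congrFun h0 s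
    unfold gallagherFun at this
    simp only [Pi.zero_apply] at this
    rcases mul_eq_zero.1 this with h | h
    · exact absurd (inv_eq_zero.1 h) hG0
    · exact h
  have hF : IsClassFunction Γ (fun x => χh' x * conj (χh x)) := by
    intro g k
    show χh' (k * g * k⁻¹) * conj (χh (k * g * k⁻¹)) = χh' g * conj (χh g)
    rw [hcl g k, hcl' g k]
  have h2 := sum_coset_centralizer G s C hcop hC _ hF
  beta_reduce at h2
  rw [h1, mul_zero] at h2
  have h3 : ∑ c : C, χh' ((c : Γ) * s) * conj (χh ((c : Γ) * s)) = 0 := by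
    rcases mul_eq_zero.1 h2.symm with h | h
    · exact absurd h hG0
    · exact h
  have h4 : ∑ c : C, χh' ((c : Γ) * s) * conj (χh ((c : Γ) * s))
      = (ε' : ℂ) * (ε : ℂ) * (Nat.card C : ℂ) := by
    have hββ := Cfsg.Agent.Lib.helper4.classInner_irr_self hβ
    unfold Cfsg.classInner at hββ
    have h5 : ∑ c : C, β c * conj (β c) = (Nat.card C : ℂ) := by
      have := congrArg (fun z => (Nat.card C : ℂ) * z) hββ
      beta_reduce at this
      rw [← mul_assoc, mul_inv_cancel₀ hC0, one_mul, mul_one] at this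
      exact this
    rw [← h5, Finset.mul_sum]
    refine Finset.sum_congr rfl (fun c _ => ?_)
    rw [h c, h' c, map_mul]
    have : conj ((ε : ℂ)) = (ε : ℂ) := map_intCast (starRingEnd ℂ) ε
    rw [this]
    ring
  rw [h4] at h3
  have hεne : (ε : ℂ) ≠ 0 := by
    rcases hε with h | h <;> rw [h] <;> norm_num
  have hε'ne : (ε' : ℂ) ≠ 0 := by
    rcases hε' with h | h <;> rw [h] <;> norm_num
  exact mul_ne_zero (mul_ne_zero hε'ne hεne) hC0 h3

end Cfsg.Agent.Lib.helper19
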