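import Mathlib
import Cfsg.Agent.Lib.helper15.ZassDefs

/-!
# S0690 (Zassenhaus) piece D: the formula for the element of order three of a standard triple,
and `l5` (helper19)
-/

set_option autoImplicit false
set_option linter.unusedSimpArgs false
set_option linter.unusedSectionVars false

namespace Cfsg.Agent.Lib.helper19

open Cfsg.Agent.Lib.helper15.Zass

section ring

/-- The ring-theoretic core: relations of a standard triple force `2X + 1 + U + V + UV = 0`
(here: four times it). -/
theorem zass_ring_core {R : Type*} [Ring R] (U V X : R) (hU : U * U = -1) (hV : V * V = -1)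
    (hVU : V * U = -(U * V)) (hX : X * X = -X - 1) (hXU : X * U = V * X)
    (hXV : X * V = U * (V * X)) :
    (X + X + 1 + U + V + U * V) + (X + X + 1 + U + V + U * V) + (X + X + 1 + U + V + U * V)
      + (X + X + 1 + U + V + U * V) = 0 := by
  have hU' : ∀ t, U * (U * t) = -t := fun t => by rw [← mul_assoc, hU, neg_one_mul]
  have hV' : ∀ t, V * (V * t) = -t := fun t => by rw [← mul_assoc, hV, neg_one_mul]
  have hVU' : ∀ t, V * (U * t) = -(U * (V * t)) := fun t => by
    rw [← mul_assoc, hVU, neg_mul, mul_assoc]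
  have hXU' : ∀ t, X * (U * t) = V * (X * t) := fun t => by rw [← mul_assoc, hXU, mul_assoc]
  have hXV' : ∀ t, X * (V * t) = U * (V * (X * t)) := fun t => by
    rw [← mul_assoc, hXV, mul_assoc, mul_assoc]
  set D := X + X + 1 + U + V + U * V with hD
  set E := X + X + 1 - U - V - U * V with hE
  have hDE : D * E = 0 := by
    simp only [hD, hE, mul_add, add_mul, mul_sub, sub_mul, mul_neg, neg_mul, mul_one, one_mul,
      mul_assoc, hU, hV, hVU, hX, hXU, hXV, hU', hV', hVU', hXU', hXV', neg_neg]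
    abel
  have hEU : E * U = V * E + (U - V) + (U - V) := by
    simp only [hE, mul_add, add_mul, mul_sub, sub_mul, mul_neg, neg_mul, mul_one, one_mul,
      mul_assoc, hU, hV, hVU, hXU, hXV, hU', hV', hVU', hXU', hXV', neg_neg]
    abel
  have hDV : D * V = U * (V * D) := by
    simp only [hD, mul_add, add_mul, mul_sub, sub_mul, mul_neg, neg_mul, mul_one, one_mul,
      mul_assoc, hU, hV, hVU, hXU, hXV, hU', hV', hVU', hXU', hXV', neg_neg]
    abel
  have hUV2 : (U - V) * (U - V) = -1 - 1 := by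
    simp only [mul_add, add_mul, mul_sub, sub_mul, mul_neg, neg_mul, mul_one, one_mul,
      mul_assoc, hU, hV, hVU, neg_neg]
    abel
  have h1 : D * (U - V) + D * (U - V) = 0 := by
    have h0 : D * E * U = 0 := by rw [hDE, zero_mul]
    rw [mul_assoc, hEU, mul_add, mul_add, ← mul_assoc, hDV, mul_assoc, mul_assoc, hDE, mul_zero,
      mul_zero, zero_add] at h0
    exact h0
  have h2 : (D * (U - V) + D * (U - V)) * (U - V) = 0 := by rw [h1, zero_mul]
  rw [add_mul, mul_assoc, hUV2] at h2
  have e : D * (-1 - 1) + D * (-1 - 1) = -(D + D + D + D) := by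
    simp only [mul_sub, mul_neg, mul_one]
    abel
  rw [e, neg_eq_zero] at h2
  exact h2

end ring

section helpers

variable {F : Type*} [Field F] {W : Type*} [AddCommGroup W] [Module F W] {G : Type*} [Group G]

/-- The representation as a monoid homomorphism into the endomorphism ring. -/
def zassR (ρ : G →* (W ≃ₗ[F] W)) : G →* Module.End F W where
  toFun g := (ρ g : W →ₗ[F] W)
  map_one' := by ext w; simp
  map_mul' := by intro a b; ext w; simp

theorem zassR_apply (ρ : G →* (W ≃ₗ[F] W)) (g : G) (w : W) : zassR ρ g w = ρ g w := rfl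

theorem zass_inj (ρ : G →* (W ≃ₗ[F] W)) (h : LinFpf ρ) : Function.Injective ρ := by
  rw [injective_iff_map_eq_one]
  intro g hg
  by_contra hne
  have := h.nt
  obtain ⟨w, hw⟩ := exists_ne (0 : W)
  exact hw (h.fpf g hne w (by rw [hg]; rfl))

theorem zass_neg_one (ρ : G →* (W ≃ₗ[F] W)) (h : LinFpf ρ) (z : G) (hz1 : z ≠ 1)
    (hz2 : z ^ 2 = 1) : zassR ρ z = -1 := by
  ext w
  have hfix : ρ z (ρ z w + w) = ρ z w + w := by
    have h2 : ρ z (ρ z w) = w := by
      have : ρ z (ρ z w) = ρ (z ^ 2) w := by rw [pow_two, map_mul]; rfl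
      rw [this, hz2, map_one]; rfl
    rw [map_add, h2, add_comm]
  have := h.fpf z hz1 _ hfix
  simp only [zassR_apply, LinearMap.neg_apply, Module.End.one_apply]
  exact eq_neg_of_add_eq_zero_left this

theorem zass_quad (ρ : G →* (W ≃ₗ[F] W)) (h : LinFpf ρ) (x : G) (hx1 : x ≠ 1)
    (hx3 : x ^ 3 = 1) : zassR ρ x * zassR ρ x = - zassR ρ x - 1 := by
  ext w
  have hfix : ρ x (ρ x (ρ x w) + ρ x w + w) = ρ x (ρ x w) + ρ x w + w := by
    have h3 : ρ x (ρ x (ρ x w)) = w := by
      have : ρ x (ρ x (ρ x w)) = ρ (x ^ 3) w := by rw [pow_three, map_mul, map_mul]; rfl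
      rw [this, hx3, map_one]; rfl
    rw [map_add, map_add, h3]
    abel
  have := h.fpf x hx1 _ hfix
  simp only [Module.End.mul_apply, zassR_apply, LinearMap.sub_apply, LinearMap.neg_apply,
    Module.End.one_apply]
  rw [eq_sub_iff_add_eq, eq_neg_iff_add_eq_zero, ← this]
  abel

theorem zass_std_ne_one (u v x : G) (hs : Std u v x) : x ≠ 1 := by
  intro hx
  have huv : u = v := by
    have := hs.xu
    rw [hx] at this
    simpa using this
  have h1 := hs.vu
  rw [← huv] at h1
  have h2 : u = u⁻¹ := by simpa using h1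
  apply hs.u2
  rw [pow_two]
  nth_rewrite 2 [h2]
  exact mul_inv_cancel u

/-- `2X + 1 + U + V + UV = 0` in the endomorphism ring. -/
theorem zass_std_end (ρ : G →* (W ≃ₗ[F] W)) (h : LinFpf ρ) (u v x : G) (hs : Std u v x) :
    zassR ρ x + zassR ρ x + 1 + zassR ρ u + zassR ρ v + zassR ρ u * zassR ρ v = 0 := by
  have hx1 : x ≠ 1 := zass_std_ne_one u v x hs
  have hz2 : (u ^ 2) ^ 2 = 1 := by rw [← pow_mul]; exact hs.u4
  have hU : zassR ρ u * zassR ρ u = -1 := by
    rw [← map_mul, ← pow_two]; exact zass_neg_one ρ h _ hs.u2 hz2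
  have hV : zassR ρ v * zassR ρ v = -1 := by
    rw [← map_mul, ← pow_two, hs.v2]; exact zass_neg_one ρ h _ hs.u2 hz2
  have huinv : zassR ρ u⁻¹ = - zassR ρ u := by
    have e : u⁻¹ = u ^ 2 * u := by
      apply inv_eq_of_mul_eq_one_left
      rw [← pow_succ, ← pow_succ]
      exact hs.u4
    rw [e, map_mul, zass_neg_one ρ h _ hs.u2 hz2, neg_one_mul]
  have hVU : zassR ρ v * zassR ρ u = -(zassR ρ u * zassR ρ v) := by
    have e : v * u = u⁻¹ * v := by rw [← hs.vu]; group
    rw [← map_mul, e, map_mul, huinv, neg_mul]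
  have hXU : zassR ρ x * zassR ρ u = zassR ρ v * zassR ρ x := by
    rw [← map_mul, ← map_mul]
    congr 1
    rw [← hs.xu]; group
  have hXV : zassR ρ x * zassR ρ v = zassR ρ u * (zassR ρ v * zassR ρ x) := by
    rw [← map_mul, ← map_mul, ← map_mul]
    congr 1
    rw [← mul_assoc, ← hs.xv]; group
  have h4 := zass_ring_core (zassR ρ u) (zassR ρ v) (zassR ρ x) hU hV hVU
    (zass_quad ρ h x hx1 hs.x3) hXU hXV
  set D := zassR ρ x + zassR ρ x + 1 + zassR ρ u + zassR ρ v + zassR ρ u * zassR ρ v with hD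
  have h5 : (2 : F) • ((2 : F) • D) = 0 := by
    rw [two_smul, two_smul, ← h4]
    abel
  rcases smul_eq_zero.mp h5 with h6 | h6
  · exact absurd h6 h.two
  · rcases smul_eq_zero.mp h6 with h7 | h7
    · exact absurd h7 h.two
    · exact h7

end helpers

section main

variable {F : Type*} [Field F] [Fintype F] {W : Type*} [AddCommGroup W] [Module F W]
  {G : Type*} [Group G]

/-- PIECE D (1). -/
theorem std_formula (ρ : G →* (W ≃ₗ[F] W)) (h : LinFpf ρ) (u v x : G) (hs : Std u v x) (w : W) :
    (2 : F) • ρ x w = -(w + ρ u w + ρ v w + ρ u (ρ v w)) := by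
  have hD := zass_std_end ρ h u v x hs
  have := congrArg (fun T : Module.End F W => T w) hD
  simp only [LinearMap.add_apply, Module.End.mul_apply, Module.End.one_apply, zassR_apply,
    LinearMap.zero_apply] at this
  rw [two_smul, eq_neg_iff_add_eq_zero, ← this]
  abel

/-- PIECE D (2). -/
theorem l5 (ρ : G →* (W ≃ₗ[F] W)) (h : LinFpf ρ) (u v x k : G) (hs : Std u v x)
    (hku : k * u = u * k) (hkv : k * v = v * k) : k * x = x * k := by
  have hD := zass_std_end ρ h u v x hs
  have hKU : zassR ρ k * zassR ρ u = zassR ρ u * zassR ρ k := by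
    rw [← map_mul, ← map_mul, hku]
  have hKV : zassR ρ k * zassR ρ v = zassR ρ v * zassR ρ k := by
    rw [← map_mul, ← map_mul, hkv]
  have hXX : zassR ρ x + zassR ρ x
      = -(1 + zassR ρ u + zassR ρ v + zassR ρ u * zassR ρ v) := by
    rw [eq_neg_iff_add_eq_zero, ← hD]; abel
  have h2 : zassR ρ k * (zassR ρ x + zassR ρ x) = (zassR ρ x + zassR ρ x) * zassR ρ k := by
    rw [hXX, mul_neg, neg_mul, mul_add, mul_add, mul_add, add_mul, add_mul, add_mul, mul_one,
      one_mul, hKU, hKV, ← mul_assoc, hKU, mul_assoc, hKV, ← mul_assoc]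
  have h3 : zassR ρ k * zassR ρ x = zassR ρ x * zassR ρ k := by
    rw [mul_add, add_mul] at h2
    have : (2 : F) • (zassR ρ k * zassR ρ x) = (2 : F) • (zassR ρ x * zassR ρ k) := by
      rw [two_smul, two_smul]; exact h2
    exact smul_right_injective _ h.two this
  apply zass_inj ρ h
  apply LinearEquiv.toLinearMap_injective
  rw [← map_mul, ← map_mul] at h3
  exact h3

end main

end Cfsg.Agent.Lib.helper19
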