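import Cfsg.Agent.Lib.helper19.ZassD

/-!
# S0690 (Zassenhaus) piece E: the plane preserved by `⟨u, v, x, a, x₂⟩` (helper19)
-/

set_option autoImplicit false
set_option linter.unusedSimpArgs false
set_option linter.unusedSectionVars false

namespace Cfsg.Agent.Lib.helper19

open Cfsg.Agent.Lib.helper15.Zass

section helpersE

variable {F : Type*} [Field F] {W : Type*} [AddCommGroup W] [Module F W] {G : Type*} [Group G]

/-- The subgroup of the elements preserving a subspace together with their inverses. -/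
def zassStab (ρ : G →* (W ≃ₗ[F] W)) (P : Submodule F W) : Subgroup G where
  carrier := {g | (∀ w ∈ P, ρ g w ∈ P) ∧ (∀ w ∈ P, ρ g⁻¹ w ∈ P)}
  mul_mem' := by
    rintro g k ⟨hg1, hg2⟩ ⟨hk1, hk2⟩
    refine ⟨fun w hw => ?_, fun w hw => ?_⟩
    · rw [map_mul]; exact hg1 _ (hk1 w hw)
    · rw [mul_inv_rev, map_mul]; exact hk2 _ (hg2 w hw)
  one_mem' := by
    refine ⟨fun w hw => ?_, fun w hw => ?_⟩
    · rw [map_one]; exact hw
    · rw [inv_one, map_one]; exact hw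
  inv_mem' := by
    rintro g ⟨hg1, hg2⟩
    exact ⟨hg2, by rw [inv_inv]; exact hg1⟩

theorem zass_inv_apply (ρ : G →* (W ≃ₗ[F] W)) (g : G) (w : W) : ρ g⁻¹ (ρ g w) = w := by
  rw [← LinearEquiv.mul_apply, ← map_mul, inv_mul_cancel, map_one]; rfl

theorem zass_inv_eig (ρ : G →* (W ≃ₗ[F] W)) (g : G) (w : W) (k : F) (hk : k ≠ 0)
    (h : ρ g w = k • w) : ρ g⁻¹ w = k⁻¹ • w := by
  have h1 := zass_inv_apply ρ g w
  rw [h, map_smul] at h1
  calc ρ g⁻¹ w = k⁻¹ • (k • ρ g⁻¹ w) := by rw [smul_smul, inv_mul_cancel₀ hk, one_smul]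
    _ = k⁻¹ • w := by rw [h1]

theorem zass_conj_inv_comm {g k : G} (h : k * g * k⁻¹ = g⁻¹) : g * k = k * g⁻¹ := by
  have e : k * g⁻¹ * k⁻¹ = g := by
    have := congrArg Inv.inv h
    simpa [mul_assoc] using this
  calc g * k = (k * g⁻¹ * k⁻¹) * k := by rw [e]
    _ = k * g⁻¹ := by group

theorem zass_sq (ρ : G →* (W ≃ₗ[F] W)) (h : LinFpf ρ) (g z : G) (hz1 : z ≠ 1) (hz2 : z ^ 2 = 1)
    (hg : g ^ 2 = z) (w : W) : ρ g (ρ g w) = -w := by
  have h1 := congrArg (fun T : Module.End F W => T w) (zass_neg_one ρ h z hz1 hz2)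
  simp only [LinearMap.neg_apply, Module.End.one_apply] at h1
  have h2 : ρ g (ρ g w) = ρ (g ^ 2) w := by rw [pow_two, map_mul]; rfl
  rw [h2, hg]
  exact h1

theorem zass_pres_pair (ρ : G →* (W ≃ₗ[F] W)) (w₁ w₂ : W) (g : G)
    (h1 : ρ g w₁ ∈ Submodule.span F {w₁, w₂}) (h2 : ρ g w₂ ∈ Submodule.span F {w₁, w₂}) :
    ∀ w ∈ Submodule.span F {w₁, w₂}, ρ g w ∈ Submodule.span F {w₁, w₂} := by
  intro w hw
  obtain ⟨s, t, rfl⟩ := Submodule.mem_span_pair.mp hw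
  rw [map_add, map_smul, map_smul]
  exact Submodule.add_mem _ (Submodule.smul_mem _ _ h1) (Submodule.smul_mem _ _ h2)

end helpersE

section mainE

variable {F : Type*} [Field F] [Fintype F] {W : Type*} [AddCommGroup W] [Module F W]
  {G : Type*} [Group G]

/-- PIECE E. -/
theorem l1_plane (ρ : G →* (W ≃ₗ[F] W)) (h : LinFpf ρ)
    (hform : ∀ u v x : G, Std u v x → ∀ w : W,
      (2 : F) • ρ x w = -(w + ρ u w + ρ v w + ρ u (ρ v w)))
    (u v x a b x₂ : G) (hs : Std u v x) (hau : a * u = u * a) (hva : v * a * v⁻¹ = a⁻¹)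
    (hb : b ∈ Subgroup.closure {u, v, a}) (hb2 : b ^ 2 = u ^ 2) (hbu : b * u * b⁻¹ = u⁻¹)
    (hx₂ : x₂ ^ 3 = 1) (hx₂u : x₂ * u * x₂⁻¹ = b) (hx₂b : x₂ * b * x₂⁻¹ = u * b) :
    ∃ w₁ w₂ : W, LinearIndependent F ![w₁, w₂] ∧
      ∀ g ∈ ({u, v, x, a, x₂} : Set G), ∃ p q r s : F,
        ρ g w₁ = p • w₁ + r • w₂ ∧ ρ g w₂ = q • w₁ + s • w₂ ∧ p * s - q * r = 1 := by
  have hnt := h.nt
  have h2 := h.two
  have hz2 : (u ^ 2) ^ 2 = 1 := by rw [← pow_mul]; exact hs.u4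
  have huu : ∀ w, ρ u (ρ u w) = -w := zass_sq ρ h u (u ^ 2) hs.u2 hz2 rfl
  have hvv : ∀ w, ρ v (ρ v w) = -w := zass_sq ρ h v (u ^ 2) hs.u2 hz2 hs.v2
  have hbb : ∀ w, ρ b (ρ b w) = -w := zass_sq ρ h b (u ^ 2) hs.u2 hz2 hb2
  -- an eigenvector of `u`
  obtain ⟨w₀, -, hw₀, c, hc⟩ := h.eig u ⊤ (by
    intro h'
    obtain ⟨w, hw⟩ := exists_ne (0 : W)
    exact hw ((Submodule.mem_bot F).mp (h' ▸ Submodule.mem_top))) (fun w _ => Submodule.mem_top)
  have hc2 : c * c = -1 := by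
    have h1 := huu w₀
    rw [hc, map_smul, hc, smul_smul] at h1
    have h3 : (c * c + 1) • w₀ = 0 := by rw [add_smul, one_smul, h1]; abel
    rcases smul_eq_zero.mp h3 with h4 | h4
    · exact eq_neg_of_add_eq_zero_left h4
    · exact absurd h4 hw₀
  have hc0 : c ≠ 0 := by
    intro h0
    rw [h0, mul_zero] at hc2
    have : (1 : F) = 0 := by linear_combination hc2
    exact one_ne_zero this
  have hcinv : c⁻¹ = -c := inv_eq_of_mul_eq_one_right (by rw [mul_neg, hc2, neg_neg])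
  have hcinv' : (-c)⁻¹ = c := inv_eq_of_mul_eq_one_right (by rw [neg_mul, hc2, neg_neg])
  -- the eigenspace of `u`, invariant under `a`
  let E : Submodule F W := LinearMap.ker (zassR ρ u - c • (1 : Module.End F W))
  have hEmem : ∀ w, w ∈ E ↔ ρ u w = c • w := by
    intro w
    simp only [E, LinearMap.mem_ker, LinearMap.sub_apply, LinearMap.smul_apply,
      Module.End.one_apply, sub_eq_zero, zassR_apply]
  have hEne : E ≠ ⊥ := by
    intro hE
    have : w₀ ∈ E := (hEmem w₀).mpr hc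
    rw [hE, Submodule.mem_bot] at this
    exact hw₀ this
  have hEinv : ∀ w ∈ E, ρ a w ∈ E := by
    intro w hw
    rw [hEmem] at hw ⊢
    have e : ρ u (ρ a w) = ρ a (ρ u w) := by
      have e1 : ρ u (ρ a w) = ρ (u * a) w := by rw [map_mul]; rfl
      have e2 : ρ a (ρ u w) = ρ (a * u) w := by rw [map_mul]; rfl
      rw [e1, e2, hau]
    rw [e, hw, map_smul]
  obtain ⟨w₁, hw₁E, hw₁, lam, hlam⟩ := h.eig a E hEne hEinv
  have hu1 : ρ u w₁ = c • w₁ := (hEmem w₁).mp hw₁E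
  have hlam0 : lam ≠ 0 := by
    intro h0
    rw [h0, zero_smul] at hlam
    exact hw₁ ((LinearEquiv.map_eq_zero_iff _).mp hlam)
  have hui1 : ρ u⁻¹ w₁ = (-c) • w₁ := by rw [zass_inv_eig ρ u w₁ c hc0 hu1, hcinv]
  have hai1 : ρ a⁻¹ w₁ = lam⁻¹ • w₁ := zass_inv_eig ρ a w₁ lam hlam0 hlam
  set w₂ := ρ v w₁ with hw₂
  have huv : ∀ w, ρ u (ρ v w) = ρ v (ρ u⁻¹ w) := by
    intro w
    have e1 : ρ u (ρ v w) = ρ (u * v) w := by rw [map_mul]; rfl
    have e2 : ρ v (ρ u⁻¹ w) = ρ (v * u⁻¹) w := by rw [map_mul]; rfl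
    rw [e1, e2, zass_conj_inv_comm hs.vu]
  have hav : ∀ w, ρ a (ρ v w) = ρ v (ρ a⁻¹ w) := by
    intro w
    have e1 : ρ a (ρ v w) = ρ (a * v) w := by rw [map_mul]; rfl
    have e2 : ρ v (ρ a⁻¹ w) = ρ (v * a⁻¹) w := by rw [map_mul]; rfl
    rw [e1, e2, zass_conj_inv_comm hva]
  have hub : ∀ w, ρ u (ρ b w) = ρ b (ρ u⁻¹ w) := by
    intro w
    have e1 : ρ u (ρ b w) = ρ (u * b) w := by rw [map_mul]; rfl
    have e2 : ρ b (ρ u⁻¹ w) = ρ (b * u⁻¹) w := by rw [map_mul]; rfl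
    rw [e1, e2, zass_conj_inv_comm hbu]
  have hu2 : ρ u w₂ = (-c) • w₂ := by rw [hw₂, huv, hui1, map_smul]
  have hui2 : ρ u⁻¹ w₂ = c • w₂ := by
    rw [zass_inv_eig ρ u w₂ (-c) (neg_ne_zero.mpr hc0) hu2, hcinv']
  have hv2 : ρ v w₂ = -w₁ := hvv w₁
  have ha2 : ρ a w₂ = lam⁻¹ • w₂ := by rw [hw₂, hav, hai1, map_smul]
  have hai2 : ρ a⁻¹ w₂ = lam⁻¹⁻¹ • w₂ := zass_inv_eig ρ a w₂ lam⁻¹ (inv_ne_zero hlam0) ha2
  have hvi2 : ρ v⁻¹ w₂ = w₁ := zass_inv_apply ρ v w₁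
  have hvi1 : ρ v⁻¹ w₁ = -w₂ := by
    have e := zass_inv_apply ρ v w₂
    rw [hv2, map_neg] at e
    rw [← e, neg_neg]
  have hw₂0 : w₂ ≠ 0 := fun h0 => hw₁ ((LinearEquiv.map_eq_zero_iff _).mp h0)
  -- independence
  have hli : LinearIndependent F ![w₁, w₂] := by
    rw [LinearIndependent.pair_iff' hw₁]
    intro k hk
    have e1 : ρ u w₂ = c • w₂ := by rw [← hk, map_smul, hu1, smul_comm]
    rw [hu2] at e1
    have e2 : (2 * c) • w₂ = 0 := by
      have : (2 * c) • w₂ = c • w₂ - (-c) • w₂ := by module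
      rw [this, e1, sub_self]
    rcases smul_eq_zero.mp e2 with e3 | e3
    · exact (mul_ne_zero h2 hc0) e3
    · exact hw₂0 e3
  -- the plane
  set P : Submodule F W := Submodule.span F {w₁, w₂} with hP
  have hw₁P : w₁ ∈ P := Submodule.subset_span (by simp)
  have hw₂P : w₂ ∈ P := Submodule.subset_span (by simp)
  have hbP : ∀ w ∈ P, ρ b w ∈ P := by
    have hle : Subgroup.closure {u, v, a} ≤ zassStab ρ P := by
      rw [Subgroup.closure_le]
      intro g hg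
      simp only [Set.mem_insert_iff, Set.mem_singleton_iff] at hg
      rcases hg with hg | hg | hg
      · rw [hg]
        exact ⟨zass_pres_pair ρ w₁ w₂ u (by rw [hu1]; exact P.smul_mem _ hw₁P)
            (by rw [hu2]; exact P.smul_mem _ hw₂P),
          zass_pres_pair ρ w₁ w₂ u⁻¹ (by rw [hui1]; exact P.smul_mem _ hw₁P)
            (by rw [hui2]; exact P.smul_mem _ hw₂P)⟩
      · rw [hg]
        exact ⟨zass_pres_pair ρ w₁ w₂ v hw₂P (by rw [hv2]; exact P.neg_mem hw₁P),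
          zass_pres_pair ρ w₁ w₂ v⁻¹ (by rw [hvi1]; exact P.neg_mem hw₂P)
            (by rw [hvi2]; exact hw₁P)⟩
      · rw [hg]
        exact ⟨zass_pres_pair ρ w₁ w₂ a (by rw [hlam]; exact P.smul_mem _ hw₁P)
            (by rw [ha2]; exact P.smul_mem _ hw₂P),
          zass_pres_pair ρ w₁ w₂ a⁻¹ (by rw [hai1]; exact P.smul_mem _ hw₁P)
            (by rw [hai2]; exact P.smul_mem _ hw₂P)⟩
    exact (hle hb).1
  -- the matrix of `b`
  obtain ⟨p₀, r₀, hb1⟩ := Submodule.mem_span_pair.mp (hbP w₁ hw₁P)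
  obtain ⟨q₀, s₀, hb2'⟩ := Submodule.mem_span_pair.mp (hbP w₂ hw₂P)
  have hp0 : p₀ = 0 := by
    have e1 : ρ u (ρ b w₁) = (-c) • ρ b w₁ := by rw [hub, hui1, map_smul]
    rw [← hb1, map_add, map_smul, map_smul, hu1, hu2] at e1
    have key : (2 * c * p₀) • w₁ + (0 : F) • w₂ = 0 := by
      have : (2 * c * p₀) • w₁ + (0 : F) • w₂
          = (p₀ • c • w₁ + r₀ • (-c) • w₂) - (-c) • (p₀ • w₁ + r₀ • w₂) := by module
      rw [this, e1, sub_self]
    have := (LinearIndependent.pair_iff.mp hli _ _ key).1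
    rcases mul_eq_zero.mp this with h3 | h3
    · exact absurd h3 (mul_ne_zero h2 hc0)
    · exact h3
  have hs0 : s₀ = 0 := by
    have e1 : ρ u (ρ b w₂) = c • ρ b w₂ := by rw [hub, hui2, map_smul]
    rw [← hb2', map_add, map_smul, map_smul, hu1, hu2] at e1
    have key : (0 : F) • w₁ + (2 * c * s₀) • w₂ = 0 := by
      have : (0 : F) • w₁ + (2 * c * s₀) • w₂
          = c • (q₀ • w₁ + s₀ • w₂) - (q₀ • c • w₁ + s₀ • (-c) • w₂) := by module
      rw [this, e1, sub_self]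
    have := (LinearIndependent.pair_iff.mp hli _ _ key).2
    rcases mul_eq_zero.mp this with h3 | h3
    · exact absurd h3 (mul_ne_zero h2 hc0)
    · exact h3
  have hbw1 : ρ b w₁ = r₀ • w₂ := by rw [← hb1, hp0, zero_smul, zero_add]
  have hbw2 : ρ b w₂ = q₀ • w₁ := by rw [← hb2', hs0, zero_smul, add_zero]
  have hqr : r₀ * q₀ = -1 := by
    have e1 := hbb w₁
    rw [hbw1, map_smul, hbw2, smul_smul] at e1
    have e2 : (r₀ * q₀ + 1) • w₁ = 0 := by rw [add_smul, one_smul, e1]; abel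
    rcases smul_eq_zero.mp e2 with e3 | e3
    · exact eq_neg_of_add_eq_zero_left e3
    · exact absurd e3 hw₁
  -- one half
  set i : F := 2⁻¹ with hi
  have h2i : 2 * i = 1 := mul_inv_cancel₀ h2
  have hhalf : ∀ w : W, w = i • ((2 : F) • w) := by
    intro w
    rw [smul_smul, mul_comm, h2i, one_smul]
  have hsb : Std u b x₂ := ⟨hs.u2, hs.u4, hb2, hbu, hx₂, hx₂u, hx₂b⟩
  refine ⟨w₁, w₂, hli, ?_⟩
  intro g hg
  simp only [Set.mem_insert_iff, Set.mem_singleton_iff] at hg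
  rcases hg with hg | hg | hg | hg | hg
  · rw [hg]
    exact ⟨c, 0, 0, -c, by rw [hu1, zero_smul, add_zero], by rw [hu2, zero_smul, zero_add],
      by linear_combination -hc2⟩
  · rw [hg]
    exact ⟨0, -1, 1, 0, by rw [zero_smul, zero_add, one_smul],
      by rw [hv2, zero_smul, add_zero, neg_one_smul], by ring⟩
  · rw [hg]
    have e1 := hform u v x hs w₁
    have e2 := hform u v x hs w₂
    rw [hu1, ← hw₂, hu2] at e1
    rw [hu2, hv2, map_neg, hu1] at e2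
    refine ⟨-(1 + c) * i, (1 + c) * i, -(1 - c) * i, -(1 - c) * i, ?_, ?_, ?_⟩
    · rw [hhalf (ρ x w₁), e1]; module
    · rw [hhalf (ρ x w₂), e2]; module
    · linear_combination (-2 * i ^ 2) * hc2 + (2 * i + 1) * h2i
  · rw [hg]
    exact ⟨lam, 0, 0, lam⁻¹, by rw [hlam, zero_smul, add_zero], by rw [ha2, zero_smul, zero_add],
      by rw [mul_inv_cancel₀ hlam0]; ring⟩
  · rw [hg]
    have e1 := hform u b x₂ hsb w₁
    have e2 := hform u b x₂ hsb w₂
    rw [hu1, hbw1, map_smul, hu2] at e1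
    rw [hu2, hbw2, map_smul, hu1] at e2
    refine ⟨-(1 + c) * i, -(q₀ * (1 + c)) * i, -(r₀ * (1 - c)) * i, -(1 - c) * i, ?_, ?_, ?_⟩
    · rw [hhalf (ρ x₂ w₁), e1]; module
    · rw [hhalf (ρ x₂ w₂), e2]; module
    · linear_combination (-(i ^ 2 * (2 - (r₀ * q₀ + 1)))) * hc2 + (2 * i + 1) * h2i
        + (-2 * i ^ 2) * hqr

end mainE

end Cfsg.Agent.Lib.helper19
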