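import Cfsg.Agent.Lib.helper19.ZassD

/-!
# S0690 (Zassenhaus) piece F: two non-commuting elements of order three preserve a plane
(helper19)
-/

set_option autoImplicit false
set_option linter.unusedSimpArgs false
set_option linter.unusedSectionVars false

namespace Cfsg.Agent.Lib.helper19

open Cfsg.Agent.Lib.helper15.Zass

theorem zassF_ring {R : Type*} [Ring R] (Y Y' : R) (hY : Y * Y = -Y - 1)
    (hY' : Y' * Y' = -Y' - 1) :
    (Y * Y' + Y' * Y + Y + Y' + 1) * Y = Y * (Y * Y' + Y' * Y + Y + Y' + 1) ∧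
    (Y * Y' + Y' * Y + Y + Y' + 1) * Y' = Y' * (Y * Y' + Y' * Y + Y + Y' + 1) ∧
    (Y' * Y + Y + Y' + 1) * (Y * Y') = 1 := by
  have hYt : ∀ t, Y * (Y * t) = -(Y * t) - t := fun t => by
    rw [← mul_assoc, hY, sub_mul, neg_mul, one_mul]
  have hYt' : ∀ t, Y' * (Y' * t) = -(Y' * t) - t := fun t => by
    rw [← mul_assoc, hY', sub_mul, neg_mul, one_mul]
  refine ⟨?_, ?_, ?_⟩
  · simp only [mul_add, add_mul, mul_sub, sub_mul, mul_neg, neg_mul, mul_one, one_mul, mul_assoc,
      hY, hY', hYt, hYt']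
    abel
  · simp only [mul_add, add_mul, mul_sub, sub_mul, mul_neg, neg_mul, mul_one, one_mul, mul_assoc,
      hY, hY', hYt, hYt']
    abel
  · simp only [mul_add, add_mul, mul_sub, sub_mul, mul_neg, neg_mul, mul_one, one_mul, mul_assoc,
      hY, hY', hYt, hYt']
    abel

section mainF

variable {F : Type*} [Field F] [Fintype F] {W : Type*} [AddCommGroup W] [Module F W]
  {G : Type*} [Group G]

/-- PIECE F. -/
theorem l2_plane (ρ : G →* (W ≃ₗ[F] W)) (h : LinFpf ρ) (y y' z : G) (hy : y ^ 3 = 1)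
    (hy' : y' ^ 3 = 1) (hnc : y * y' ≠ y' * y) (hz1 : z ≠ 1) (hz2 : z ^ 2 = 1) :
    ∃ w₁ w₂ : W, LinearIndependent F ![w₁, w₂] ∧
      ∀ g ∈ ({y, y', z} : Set G), ∃ p q r s : F,
        ρ g w₁ = p • w₁ + r • w₂ ∧ ρ g w₂ = q • w₁ + s • w₂ ∧ p * s - q * r = 1 := by
  have hy1 : y ≠ 1 := by rintro rfl; exact hnc (by simp)
  have hy1' : y' ≠ 1 := by rintro rfl; exact hnc (by simp)
  have hY := zass_quad ρ h y hy1 hy
  have hY' := zass_quad ρ h y' hy1' hy'
  obtain ⟨hCY, hCY', hB⟩ := zassF_ring (zassR ρ y) (zassR ρ y') hY hY'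
  set Y := zassR ρ y with hYdef
  set Y' := zassR ρ y' with hYdef'
  set C : Module.End F W := Y * Y' + Y' * Y + Y + Y' + 1 with hC
  have hnt := h.nt
  obtain ⟨w₀, -, hw₀, lam, hlam⟩ := h.eig (y * y') ⊤ (by
    intro h'
    obtain ⟨w, hw⟩ := exists_ne (0 : W)
    exact hw ((Submodule.mem_bot F).mp (h' ▸ Submodule.mem_top))) (fun w _ => Submodule.mem_top)
  have hlam0 : lam ≠ 0 := by
    intro h0
    rw [h0, zero_smul] at hlam
    exact hw₀ ((LinearEquiv.map_eq_zero_iff _).mp hlam)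
  have hYY'w : (Y * Y') w₀ = lam • w₀ := by
    rw [← hlam, map_mul]; rfl
  have hBw : (Y' * Y + Y + Y' + 1) w₀ = lam⁻¹ • w₀ := by
    have h1 : ((Y' * Y + Y + Y' + 1) * (Y * Y')) w₀ = w₀ := by rw [hB]; rfl
    rw [Module.End.mul_apply, hYY'w, map_smul] at h1
    calc (Y' * Y + Y + Y' + 1) w₀ = lam⁻¹ • (lam • (Y' * Y + Y + Y' + 1) w₀) := by
          rw [smul_smul, inv_mul_cancel₀ hlam0, one_smul]
      _ = lam⁻¹ • w₀ := by rw [h1]
  set mu := lam + lam⁻¹ with hmu
  have hCw₀ : C w₀ = mu • w₀ := by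
    have : C = Y * Y' + (Y' * Y + Y + Y' + 1) := by rw [hC]; abel
    rw [this, LinearMap.add_apply, hYY'w, hBw, hmu, add_smul]
  let E : Submodule F W := LinearMap.ker (C - mu • (1 : Module.End F W))
  have hEmem : ∀ w, w ∈ E ↔ C w = mu • w := by
    intro w
    simp only [E, LinearMap.mem_ker, LinearMap.sub_apply, LinearMap.smul_apply,
      Module.End.one_apply, sub_eq_zero]
  have hEne : E ≠ ⊥ := by
    intro hE
    have : w₀ ∈ E := (hEmem w₀).mpr hCw₀
    rw [hE, Submodule.mem_bot] at this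
    exact hw₀ this
  have hEinv : ∀ w ∈ E, ρ y w ∈ E := by
    intro w hw
    rw [hEmem] at hw ⊢
    have hc : C (Y w) = Y (C w) := by
      have := congrArg (fun T : Module.End F W => T w) hCY
      simpa only [Module.End.mul_apply] using this
    show C (Y w) = mu • Y w
    rw [hc, hw, map_smul]
  obtain ⟨w₁, hw₁E, hw₁, α, hα⟩ := h.eig y E hEne hEinv
  have hYw₁ : Y w₁ = α • w₁ := hα
  have hCw₁ : C w₁ = mu • w₁ := (hEmem w₁).mp hw₁E
  have hα2 : α * α + α + 1 = 0 := by
    have h1 := congrArg (fun T : Module.End F W => T w₁) hY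
    simp only [Module.End.mul_apply, LinearMap.sub_apply, LinearMap.neg_apply,
      Module.End.one_apply] at h1
    rw [hYw₁, map_smul, hYw₁, smul_smul] at h1
    have h2 : (α * α + α + 1) • w₁ = 0 := by
      rw [add_smul, add_smul, one_smul, h1]; abel
    rcases smul_eq_zero.mp h2 with h3 | h3
    · exact h3
    · exact absurd h3 hw₁
  set w₂ := ρ y' w₁ with hw₂
  have hY'w₁ : Y' w₁ = w₂ := rfl
  have hY'w₂ : Y' w₂ = -w₂ - w₁ := by
    have h1 := congrArg (fun T : Module.End F W => T w₁) hY'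
    simp only [Module.End.mul_apply, LinearMap.sub_apply, LinearMap.neg_apply,
      Module.End.one_apply] at h1
    exact h1
  have hYw₂ : Y w₂ = (mu - α - 1) • w₁ + (-(α + 1)) • w₂ := by
    have h1 := hCw₁
    rw [hC] at h1
    simp only [LinearMap.add_apply, Module.End.mul_apply, Module.End.one_apply] at h1
    rw [hYw₁, map_smul, hY'w₁] at h1
    have : Y w₂ = mu • w₁ - (α • w₂ + α • w₁ + w₂ + w₁) := by rw [← h1]; abel
    rw [this]
    module
  refine ⟨w₁, w₂, ?_, ?_⟩
  · rw [LinearIndependent.pair_iff' hw₁]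
    intro c hc
    apply hnc
    have hfix : ρ ((y' * y)⁻¹ * (y * y')) w₁ = w₁ := by
      have e1 : ρ (y * y') w₁ = ρ (y' * y) w₁ := by
        rw [map_mul, map_mul, LinearEquiv.mul_apply, LinearEquiv.mul_apply]
        show Y (Y' w₁) = Y' (Y w₁)
        rw [hYw₁, map_smul, hY'w₁, ← hc, map_smul, hYw₁, smul_smul, smul_smul, mul_comm]
      rw [map_mul, LinearEquiv.mul_apply, e1, ← LinearEquiv.mul_apply, ← map_mul, inv_mul_cancel,
        map_one]
      rfl
    by_contra hne
    have hg : (y' * y)⁻¹ * (y * y') ≠ 1 := by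
      intro hg
      apply hne
      exact (inv_mul_eq_one.mp hg).symm
    exact hw₁ (h.fpf _ hg w₁ hfix)
  · intro g hg
    simp only [Set.mem_insert_iff, Set.mem_singleton_iff] at hg
    rcases hg with hg | hg | hg
    · rw [hg]
      exact ⟨α, mu - α - 1, 0, -(α + 1), by rw [zero_smul, add_zero]; exact hYw₁, hYw₂,
        by linear_combination -hα2⟩
    · rw [hg]
      refine ⟨0, -1, 1, -1, by rw [zero_smul, zero_add, one_smul], ?_, by ring⟩
      show Y' w₂ = _
      rw [hY'w₂]; module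
    · rw [hg]
      have hzz := zass_neg_one ρ h z hz1 hz2
      have hzw : ∀ w, ρ z w = -w := fun w => by
        have := congrArg (fun T : Module.End F W => T w) hzz
        simp only [LinearMap.neg_apply, Module.End.one_apply] at this
        exact this
      exact ⟨-1, 0, 0, -1, by rw [hzw]; module, by rw [hzw]; module, by ring⟩

end mainF

end Cfsg.Agent.Lib.helper19
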