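import Cfsg.Agent.Lib.helper84.Def1Defs
import Cfsg.Agent.Lib.helper32.CyclicTIGalois

/-!
# S4441 piece C1: `d1Eps` is the integer it should be (helper19)
-/

set_option autoImplicit false

namespace Cfsg.Agent.Lib.helper19

open Cfsg Cfsg.Agent.Lib.helper84

variable {G : Type*} [Group G] [Fintype G]

/-- The Galois conjugate of an irreducible character. -/
noncomputable def d1Conj (σ : ℂ ≃+* ℂ) (χ : IrrCharacter G) : IrrCharacter G :=
  ⟨fun g => σ ((χ : G → ℂ) g),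
    Cfsg.Agent.Lib.helper79.isIrrCharacter_ringHom_comp (σ : ℂ →+* ℂ) χ.2⟩

theorem d1Conj_apply (σ : ℂ ≃+* ℂ) (χ : IrrCharacter G) (g : G) :
    (d1Conj σ χ : G → ℂ) g = σ ((χ : G → ℂ) g) := rfl

theorem d1Conj_coe (σ : ℂ ≃+* ℂ) (χ : IrrCharacter G) :
    (d1Conj σ χ : G → ℂ) = fun g => σ ((χ : G → ℂ) g) := rfl

theorem d1Conj_injective (σ : ℂ ≃+* ℂ) : Function.Injective (d1Conj (G := G) σ) := by
  intro χ ψ h
  apply Subtype.ext
  funext g
  have := congrFun (congrArg Subtype.val h) g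
  exact σ.injective this

theorem d1Conj_mem {S : Finset (IrrCharacter G)} (hS : d1GalStable S) (σ : ℂ ≃+* ℂ)
    {χ : IrrCharacter G} (hχ : χ ∈ S) : d1Conj σ χ ∈ S :=
  hS σ χ (d1Conj σ χ) hχ rfl

/-- Summing over a Galois-stable set is invariant under Galois conjugation of the summation
variable. -/
theorem d1_sum_conj {S : Finset (IrrCharacter G)} (hS : d1GalStable S) (σ : ℂ ≃+* ℂ)
    (f : IrrCharacter G → ℂ) : ∑ χ ∈ S, f (d1Conj σ χ) = ∑ χ ∈ S, f χ := by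
  classical
  have himg : S.image (d1Conj σ) = S := by
    apply Finset.eq_of_subset_of_card_le
    · intro ψ hψ
      obtain ⟨χ, hχ, rfl⟩ := Finset.mem_image.mp hψ
      exact d1Conj_mem hS σ hχ
    · rw [Finset.card_image_of_injective _ (d1Conj_injective σ)]
  conv_rhs => rw [← himg]
  rw [Finset.sum_image (fun x _ y _ h => d1Conj_injective σ h)]

theorem d1_irr_isIntegral (χ : IrrCharacter G) (g : G) : IsIntegral ℤ ((χ : G → ℂ) g) := by
  obtain ⟨n, ρ, -, h⟩ := χ.2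
  exact Cfsg.Agent.Lib.helper4.isIntegral_of_isCharacter ⟨n, ρ, h⟩ g

/-- PIECE C1. -/
theorem d1Eps_cast (S : Finset (IrrCharacter G)) (hS : d1GalStable S) (g : G) :
    (d1Eps S g : ℂ) = ∑ χ ∈ S, (χ : G → ℂ) 1 * (χ : G → ℂ) g⁻¹ := by
  have hint : IsIntegral ℤ (∑ χ ∈ S, (χ : G → ℂ) 1 * (χ : G → ℂ) g⁻¹) :=
    IsIntegral.sum _ fun χ _ => IsIntegral.mul (d1_irr_isIntegral χ 1) (d1_irr_isIntegral χ g⁻¹)
  have hfix : ∀ τ : ℂ ≃+* ℂ, τ (∑ χ ∈ S, (χ : G → ℂ) 1 * (χ : G → ℂ) g⁻¹)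
      = ∑ χ ∈ S, (χ : G → ℂ) 1 * (χ : G → ℂ) g⁻¹ := by
    intro τ
    rw [map_sum]
    simp_rw [map_mul]
    exact d1_sum_conj hS τ (fun χ => (χ : G → ℂ) 1 * (χ : G → ℂ) g⁻¹)
  obtain ⟨n, hn⟩ := Cfsg.Agent.Lib.helper32.int_of_fixed_by_aut _ hint hfix
  unfold d1Eps
  rw [hn]
  simp

end Cfsg.Agent.Lib.helper19
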