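import Cfsg.Agent.Lib.helper84.Def1Defs

/-!
# S4441 piece Y2: Gaussian periods (helper19)
-/

set_option autoImplicit false

namespace Cfsg.Agent.Lib.helper19

open Cfsg Cfsg.Agent.Lib.helper84

open scoped Classical in
/-- The Gaussian period as a function of a residue class. -/
noncomputable def d1PerZ (p : ℕ) [Fact p.Prime] (H : Subgroup (ZMod p)ˣ) (a : (ZMod p)ˣ)
    (z : ZMod p) : ℂ :=
  ∑ h ∈ Finset.univ.filter (fun h : (ZMod p)ˣ => h ∈ H),
    ZMod.stdAddChar (N := p) ((a : ZMod p) * (h : ZMod p) * z)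

open scoped Classical in
theorem d1Per_eq_perZ (p : ℕ) [Fact p.Prime] (H : Subgroup (ZMod p)ˣ) (a : (ZMod p)ˣ) (u : ℕ) :
    d1Per p H a u = d1PerZ p H a (u : ZMod p) := by
  unfold d1Per d1PerZ
  rw [Finset.sum_filter]
  refine Finset.sum_congr rfl fun h _ => ?_
  rw [Set.indicator_apply]
  simp only [SetLike.mem_coe]
  by_cases hh : h ∈ H
  · rw [if_pos hh, if_pos hh]
    have := ZMod.stdAddChar_coe (N := p) (((((a * h : (ZMod p)ˣ) : ZMod p).val * u : ℕ) : ℤ))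
    rw [Int.cast_natCast, Int.cast_natCast, Nat.cast_mul, ZMod.natCast_zmod_val,
      Units.val_mul] at this
    rw [this, Units.val_mul]
  · rw [if_neg hh, if_neg hh]

open scoped Classical in
theorem d1_card_hF (p : ℕ) [Fact p.Prime] (H : Subgroup (ZMod p)ˣ) :
    (Finset.univ.filter (fun h : (ZMod p)ˣ => h ∈ H)).card = Nat.card H := by
  rw [Nat.card_eq_fintype_card, Fintype.card_subtype]

theorem d1_sum_Ico_stdAddChar (p : ℕ) [Fact p.Prime] (c : ZMod p) :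
    ∑ v ∈ Finset.Ico 1 p, ZMod.stdAddChar (N := p) (c * (v : ZMod p))
      = (if c = 0 then (p : ℂ) else 0) - 1 := by
  classical
  have hp : 0 < p := (Fact.out : p.Prime).pos
  have h1 : ∑ v ∈ Finset.range p, ZMod.stdAddChar (N := p) (c * (v : ZMod p))
      = ∑ x : ZMod p, ZMod.stdAddChar (N := p) (x * c) := by
    refine Finset.sum_nbij' (fun v => (v : ZMod p)) (fun x => x.val) ?_ ?_ ?_ ?_ ?_
    · intro v _; exact Finset.mem_univ _
    · intro x _; exact Finset.mem_range.mpr (ZMod.val_lt x)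
    · intro v hv; exact ZMod.val_natCast_of_lt (Finset.mem_range.mp hv)
    · intro x _; exact ZMod.natCast_zmod_val x
    · intro v _; rw [mul_comm]
  have h2 := AddChar.sum_mulShift (ψ := ZMod.stdAddChar (N := p)) c (ZMod.isPrimitive_stdAddChar p)
  rw [Finset.range_eq_Ico, Finset.sum_eq_sum_Ico_succ_bot hp] at h1
  simp only [Nat.cast_zero, mul_zero, AddChar.map_zero_eq_one, zero_add] at h1
  rw [ZMod.card] at h2
  rw [eq_sub_iff_add_eq, add_comm, h1, h2]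
  split_ifs <;> simp

theorem d1_sum_units_zmod (p : ℕ) [Fact p.Prime] (f : ZMod p → ℂ) :
    ∑ b : (ZMod p)ˣ, f (b : ZMod p) = ∑ x : ZMod p, f x - f 0 := by
  classical
  rw [eq_sub_iff_add_eq, ← Finset.sum_erase_add _ _ (Finset.mem_univ (0 : ZMod p))]
  congr 1
  refine Finset.sum_nbij' (fun b => (b : ZMod p))
    (fun x => if h : x = 0 then 1 else Units.mk0 x h) ?_ ?_ ?_ ?_ ?_
  · intro b _; exact Finset.mem_erase.mpr ⟨b.ne_zero, Finset.mem_univ _⟩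
  · intro x _; exact Finset.mem_univ _
  · intro b _; simp [b.ne_zero]
  · intro x hx
    have := (Finset.mem_erase.mp hx).1
    simp [this]
  · intro b _; rfl

/-- PIECE Y2 (1). -/
theorem d1Per_mod (p : ℕ) [Fact p.Prime] (H : Subgroup (ZMod p)ˣ) (a : (ZMod p)ˣ) (u u' : ℕ)
    (h : u ≡ u' [MOD p]) : d1Per p H a u = d1Per p H a u' := by
  rw [d1Per_eq_perZ, d1Per_eq_perZ, (ZMod.natCast_eq_natCast_iff u u' p).mpr h]

/-- PIECE Y2 (2). -/
theorem d1Per_sum_Y (p : ℕ) [Fact p.Prime] (H : Subgroup (ZMod p)ˣ)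
    {ι : Type*} (Y : Finset ι) (a : ι → (ZMod p)ˣ)
    (ha : ∀ b : (ZMod p)ˣ, ∃! θh : ι × (ZMod p)ˣ, θh.1 ∈ Y ∧ θh.2 ∈ H ∧ a θh.1 * θh.2 = b)
    (u : ℕ) (hu : ¬ p ∣ u) : ∑ θ ∈ Y, d1Per p H (a θ) u = -1 := by
  classical
  simp_rw [d1Per_eq_perZ, d1PerZ]
  rw [← Finset.sum_product']
  have hu0 : (u : ZMod p) ≠ 0 := by
    rwa [Ne, ZMod.natCast_eq_zero_iff]
  have key : ∑ x ∈ Y ×ˢ Finset.univ.filter (fun h : (ZMod p)ˣ => h ∈ H),
      ZMod.stdAddChar (N := p) ((a x.1 : ZMod p) * (x.2 : ZMod p) * (u : ZMod p))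
      = ∑ b : (ZMod p)ˣ, ZMod.stdAddChar (N := p) ((b : ZMod p) * (u : ZMod p)) := by
    refine Finset.sum_nbij (fun x => a x.1 * x.2) ?_ ?_ ?_ ?_
    · intro x _; exact Finset.mem_univ _
    · intro x hx x' hx' hxx'
      have hx2 := Finset.mem_product.mp (Finset.mem_coe.mp hx)
      have hx2' := Finset.mem_product.mp (Finset.mem_coe.mp hx')
      obtain ⟨w, -, hw⟩ := ha (a x.1 * x.2)
      have h1 := hw x ⟨hx2.1, (Finset.mem_filter.mp hx2.2).2, rfl⟩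
      have h2 := hw x' ⟨hx2'.1, (Finset.mem_filter.mp hx2'.2).2, hxx'.symm⟩
      rw [h1, h2]
    · intro b _
      obtain ⟨w, ⟨hw1, hw2, hw3⟩, -⟩ := ha b
      exact ⟨w, Finset.mem_coe.mpr (Finset.mem_product.mpr
        ⟨hw1, Finset.mem_filter.mpr ⟨Finset.mem_univ _, hw2⟩⟩), hw3⟩
    · intro x _; rw [Units.val_mul]
  rw [key, d1_sum_units_zmod p (fun x => ZMod.stdAddChar (N := p) (x * (u : ZMod p))),
    AddChar.sum_mulShift _ (ZMod.isPrimitive_stdAddChar p), if_neg hu0]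
  simp

/-- PIECE Y2 (3). -/
theorem d1Per_sum_v (p : ℕ) [Fact p.Prime] (H : Subgroup (ZMod p)ˣ) (a : (ZMod p)ˣ) :
    ∑ v ∈ Finset.Ico 1 p, d1Per p H a v = -(Nat.card H : ℂ) := by
  classical
  simp_rw [d1Per_eq_perZ, d1PerZ]
  rw [Finset.sum_comm]
  have : ∀ h ∈ Finset.univ.filter (fun h : (ZMod p)ˣ => h ∈ H),
      ∑ v ∈ Finset.Ico 1 p,
        ZMod.stdAddChar (N := p) ((a : ZMod p) * (h : ZMod p) * (v : ZMod p)) = -1 := by
    intro h _
    rw [d1_sum_Ico_stdAddChar, if_neg (mul_ne_zero a.ne_zero h.ne_zero)]; ring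
  rw [Finset.sum_congr rfl this, Finset.sum_const, d1_card_hF]; simp

/-- PIECE Y2 (4). -/
theorem d1Per_orth (p : ℕ) [Fact p.Prime] (H : Subgroup (ZMod p)ˣ)
    {ι : Type*} [DecidableEq ι] (Y : Finset ι) (a : ι → (ZMod p)ˣ)
    (ha : ∀ b : (ZMod p)ˣ, ∃! θh : ι × (ZMod p)ˣ, θh.1 ∈ Y ∧ θh.2 ∈ H ∧ a θh.1 * θh.2 = b)
    (θ θ' : ι) (hθ : θ ∈ Y) (hθ' : θ' ∈ Y) :
    ∑ v ∈ Finset.Ico 1 p, d1Per p H (a θ') (p - v) * d1Per p H (a θ) v
      = (if θ = θ' then (p : ℂ) * (Nat.card H : ℂ) else 0) - (Nat.card H : ℂ) ^ 2 := by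
  classical
  set HF := Finset.univ.filter (fun h : (ZMod p)ˣ => h ∈ H) with hHF
  have step1 : ∀ v ∈ Finset.Ico 1 p, d1Per p H (a θ') (p - v) * d1Per p H (a θ) v
      = ∑ h' ∈ HF, ∑ h ∈ HF, ZMod.stdAddChar (N := p)
          (((a θ : ZMod p) * (h : ZMod p) - (a θ' : ZMod p) * (h' : ZMod p)) * (v : ZMod p)) := by
    intro v hv
    have hvp : v ≤ p := (Finset.mem_Ico.mp hv).2.le
    rw [d1Per_eq_perZ, d1Per_eq_perZ, d1PerZ, d1PerZ, Nat.cast_sub hvp, ZMod.natCast_self,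
      zero_sub, Finset.sum_mul_sum]
    refine Finset.sum_congr rfl fun h' _ => Finset.sum_congr rfl fun h _ => ?_
    rw [← AddChar.map_add_eq_mul]
    congr 1; ring
  rw [Finset.sum_congr rfl step1, Finset.sum_comm]
  have step2 : ∀ h' ∈ HF, ∑ v ∈ Finset.Ico 1 p, ∑ h ∈ HF, ZMod.stdAddChar (N := p)
        (((a θ : ZMod p) * (h : ZMod p) - (a θ' : ZMod p) * (h' : ZMod p)) * (v : ZMod p))
      = (if θ = θ' then (p : ℂ) else 0) - (Nat.card H : ℂ) := by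
    intro h' hh'
    rw [Finset.sum_comm]
    simp_rw [d1_sum_Ico_stdAddChar]
    rw [Finset.sum_sub_distrib, Finset.sum_const, d1_card_hF, nsmul_one]
    congr 1
    by_cases hθθ : θ = θ'
    · subst hθθ
      rw [if_pos rfl, Finset.sum_eq_single h']
      · simp
      · intro h _ hne
        rw [if_neg]
        intro h0
        apply hne
        exact Units.ext (mul_left_cancel₀ (a θ).ne_zero (sub_eq_zero.mp h0))
      · intro hn; exact absurd hh' hn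
    · rw [if_neg hθθ]
      apply Finset.sum_eq_zero
      intro h hh
      rw [if_neg]
      intro h0
      apply hθθ
      have e1 : a θ * h = a θ' * h' :=
        Units.ext (by simpa [Units.val_mul] using sub_eq_zero.mp h0)
      obtain ⟨w, -, hw⟩ := ha (a θ * h)
      have h1 := hw (θ, h) ⟨hθ, (Finset.mem_filter.mp hh).2, rfl⟩
      have h2 := hw (θ', h') ⟨hθ', (Finset.mem_filter.mp hh').2, e1.symm⟩
      exact congrArg Prod.fst (h1.trans h2.symm)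
  rw [Finset.sum_congr rfl step2, Finset.sum_const, d1_card_hF]
  split_ifs <;> simp <;> ring

theorem d1_stdAddChar_sub_one_mem (p : ℕ) [Fact p.Prime] (M : Ideal Cfsg.AlgInt)
    (hM : Cfsg.IsPModular p M) (z : ZMod p) :
    ∃ m : Cfsg.AlgInt, m ∈ M ∧ (m : ℂ) = ZMod.stdAddChar (N := p) z - 1 := by
  obtain ⟨hp, hmax, hpM⟩ := hM
  have hpow : (ZMod.stdAddChar (N := p) z) ^ p = 1 := by
    rw [← AddChar.map_nsmul_eq_pow]; simp
  have hint : IsIntegral ℤ (ZMod.stdAddChar (N := p) z) := by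
    refine ⟨Polynomial.X ^ p - Polynomial.C 1, Polynomial.monic_X_pow_sub_C 1 hp.ne_zero, ?_⟩
    simp [hpow]
  let w : Cfsg.AlgInt := ⟨ZMod.stdAddChar (N := p) z, hint⟩
  have hw : w ^ p = 1 := Subtype.ext (by simpa [w] using hpow)
  refine ⟨w - 1, ?_, by simp [w]⟩
  have := hmax
  have : M.IsPrime := hmax.isPrime
  have hchar : CharP (Cfsg.AlgInt ⧸ M) p := by
    rw [CharP.charP_iff_prime_eq_zero hp]
    have : ((p : Cfsg.AlgInt) : Cfsg.AlgInt ⧸ M) = 0 := Ideal.Quotient.eq_zero_iff_mem.mpr hpM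
    simpa using this
  have h1 : (Ideal.Quotient.mk M (w - 1)) ^ p = 0 := by
    rw [map_sub, map_one, sub_pow_char, ← map_pow, hw, map_one, one_pow, sub_self]
  exact Ideal.Quotient.eq_zero_iff_mem.mp ((pow_eq_zero_iff hp.ne_zero).mp h1)

/-- PIECE Y2 (5). -/
theorem d1Per_cong (p : ℕ) [Fact p.Prime] (M : Ideal Cfsg.AlgInt) (hM : Cfsg.IsPModular p M)
    (H : Subgroup (ZMod p)ˣ) (a : (ZMod p)ˣ) (u : ℕ) :
    ∃ m : Cfsg.AlgInt, m ∈ M ∧ (m : ℂ) = d1Per p H a u - (Nat.card H : ℂ) := by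
  classical
  rw [d1Per_eq_perZ, d1PerZ]
  choose m hm1 hm2 using fun z => d1_stdAddChar_sub_one_mem p M hM z
  refine ⟨∑ h ∈ Finset.univ.filter (fun h : (ZMod p)ˣ => h ∈ H),
    m ((a : ZMod p) * (h : ZMod p) * (u : ZMod p)), Ideal.sum_mem _ (fun h _ => hm1 _), ?_⟩
  rw [← d1_card_hF]
  rw [AddSubmonoidClass.coe_finsetSum]
  simp_rw [hm2]
  rw [Finset.sum_sub_distrib]; simp

end Cfsg.Agent.Lib.helper19
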