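import Mathlib
import Cfsg.Prelude.Def_OddOrderLocal
import Cfsg.Agent.S1350
import Cfsg.Agent.S1430
import Cfsg.Agent.Lib.helper59.BG1431Fin
import Cfsg.Agent.Lib.helper74.BGCount
import Cfsg.Agent.Lib.helper13.BGZhat
import Cfsg.Agent.Lib.helper25.BG1367
import Cfsg.Agent.Lib.helper87.BG1425Main
import Cfsg.Agent.Lib.helper3.BGCross
import Cfsg.Agent.Lib.helper69.BGKappaA

/-!
# Families of maximal subgroups of type P1 around a common `Z = K K*` do not exist (helper19)

Glue between the Bender–Glauberman structure (S1430, S1431) and the counting core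
`helper74.BGCount.count_core`.  The frozen statements S1377 and S1379 (clause 1) are hypotheses.
-/

set_option autoImplicit false

namespace Cfsg.Agent.Lib.helper19.BGFam

open Cfsg Subgroup

variable {G : Type*} [Group G]

/-- The frozen statement S1377 as a hypothesis. -/
def H1377 (G : Type*) [Group G] : Prop :=
  ∀ M : Subgroup G, IsCoatom M →
    Set.ncard (tildeOf M ((sigmaCore M : Set G) \ {1})) = (Nat.card (sigmaCore M) - 1) * M.index

/-- Clause 1 of the frozen statement S1379 as a hypothesis. -/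
def HTildeDisj (G : Type*) [Group G] : Prop :=
  ∀ M N : Subgroup G, IsCoatom M → IsCoatom N →
    (∀ g : G, N ≠ M.map (MulAut.conj g).toMonoidHom) →
    tildeOf M ((sigmaCore M : Set G) \ {1}) ∩ tildeOf N ((sigmaCore N : Set G) \ {1}) = ∅

theorem fam_h30 [Finite G] (hG : IsMinSimpleOddOrder G) : Cfsg.Agent.Lib.helper69.H1430 G :=
  fun M hM K hK hK1 => Cfsg.Agent.S1430.result hG M hM K hK hK1

/-- `Z ∩ M_σ = K*`. -/
theorem fam_inf [Finite G] (hG : IsMinSimpleOddOrder G) (M : Subgroup G) (hM : IsCoatom M)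
    (K : Subgroup G) (hK : IsPiHallOf (kappa M) K M) (hK1 : K ≠ ⊥) :
    (K ⊔ (sigmaCore M ⊓ centralizer (K : Set G))) ⊓ sigmaCore M =
      sigmaCore M ⊓ centralizer (K : Set G) := by
  obtain ⟨hcomm, -, -, hKσ⟩ := Cfsg.Agent.Lib.helper13.bgz_setup hG (fam_h30 hG) M hM K hK hK1
  apply le_antisymm
  · intro x hx
    obtain ⟨hxZ, hxS⟩ := Subgroup.mem_inf.mp hx
    obtain ⟨a, ha, b, hb, rfl⟩ := Cfsg.Agent.Lib.helper13.bgz_decomp hcomm hxZ
    have ha' : a ∈ K ⊓ sigmaCore M := by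
      refine Subgroup.mem_inf.mpr ⟨ha, ?_⟩
      have e : a = a * b * b⁻¹ := by group
      rw [e]
      exact (sigmaCore M).mul_mem hxS ((sigmaCore M).inv_mem (Subgroup.mem_inf.mp hb).1)
    rw [hKσ, Subgroup.mem_bot] at ha'
    rw [ha', one_mul]
    exact hb
  · exact le_inf le_sup_right inf_le_left

/-- `|Z| = |K| |K*|`. -/
theorem fam_card_Z [Finite G] (hG : IsMinSimpleOddOrder G) (M : Subgroup G) (hM : IsCoatom M)
    (K : Subgroup G) (hK : IsPiHallOf (kappa M) K M) (hK1 : K ≠ ⊥) :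
    Nat.card K * Nat.card ↥(sigmaCore M ⊓ centralizer (K : Set G)) =
      Nat.card ↥(K ⊔ (sigmaCore M ⊓ centralizer (K : Set G))) := by
  obtain ⟨hcomm, -, -, hKσ⟩ := Cfsg.Agent.Lib.helper13.bgz_setup hG (fam_h30 hG) M hM K hK hK1
  have hc : IsComplIn K (sigmaCore M ⊓ centralizer (K : Set G))
      (K ⊔ (sigmaCore M ⊓ centralizer (K : Set G))) := by
    refine ⟨le_sup_left, le_sup_right, ?_, fun m hm => Cfsg.Agent.Lib.helper13.bgz_decomp hcomm hm⟩
    apply le_bot_iff.mp
    rw [← hKσ]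
    exact inf_le_inf_left K inf_le_left
  exact Cfsg.Agent.Lib.helper29.IsComplIn.card_mul hc

/-- For a maximal subgroup of type P1, `|M| = |M_σ| |K|`. -/
theorem fam_card_M [Finite G] (hG : IsMinSimpleOddOrder G) (M : Subgroup G) (hM : IsCoatom M)
    (K : Subgroup G) (hK : IsPiHallOf (kappa M) K M)
    (hP1 : ∀ q : ℕ, q.Prime → q ∣ Nat.card M → q ∉ sigma M → q ∈ kappa M) :
    Nat.card (sigmaCore M) * Nat.card K = Nat.card M := by
  have hHall := (Cfsg.Agent.S1350.result hG M hM).1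
  have h1 := Cfsg.Agent.Lib.helper69.bgk_card_sup hK hHall
  have hle : K ⊔ sigmaCore M ≤ M := sup_le hK.1 hHall.1
  have h2 := Cfsg.Agent.Lib.helper69.bgk_card_mul_relIndex hle
  have h3 : (K ⊔ sigmaCore M).relIndex M = 1 := by
    by_contra hne
    obtain ⟨q, hq, hqd⟩ := Nat.exists_prime_and_dvd hne
    have hqM : q ∣ Nat.card M := by
      rw [← h2]; exact Dvd.dvd.mul_left hqd _
    by_cases hqσ : q ∈ sigma M
    · apply hHall.2.2 q hq hqσ
      exact hqd.trans (Subgroup.relIndex_dvd_of_le_left M le_sup_right)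
    · apply hK.2.2 q hq (hP1 q hq hqM hqσ)
      exact hqd.trans (Subgroup.relIndex_dvd_of_le_left M le_sup_left)
  rw [h3, mul_one] at h2
  rw [h1, h2]

/-- `3 |K*| ≤ |M_σ|`. -/
theorem fam_three [Finite G] (hG : IsMinSimpleOddOrder G) (M : Subgroup G) (hM : IsCoatom M)
    (K : Subgroup G) (hK : IsPiHallOf (kappa M) K M) (hK1 : K ≠ ⊥) :
    3 * Nat.card ↥(sigmaCore M ⊓ centralizer (K : Set G)) ≤ Nat.card (sigmaCore M) := by
  obtain ⟨-, -, hKs1, -⟩ := Cfsg.Agent.Lib.helper13.bgz_setup hG (fam_h30 hG) M hM K hK hK1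
  obtain ⟨-, -, h3, -⟩ :=
    Cfsg.Agent.Lib.helper59.BG1431.s1431_of_h1430 hG (fam_h30 hG) M hM K hK hK1
  have hle : sigmaCore M ⊓ centralizer (K : Set G) ≤ sigmaCore M := inf_le_left
  have hmul := Cfsg.Agent.Lib.helper69.bgk_card_mul_relIndex hle
  have hcard1 : Nat.card ↥(sigmaCore M ⊓ centralizer (K : Set G)) ≠ 1 :=
    fun h => hKs1 (Subgroup.card_eq_one.mp h)
  obtain ⟨p, hp, hpd⟩ := Nat.exists_prime_and_dvd hcard1
  have hfact : Fact p.Prime := ⟨hp⟩
  obtain ⟨S⟩ : Nonempty (Sylow p ↥(sigmaCore M)) := inferInstance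
  have hS := (h3 p hp hpd S).2.2
  have hidx1 : (sigmaCore M ⊓ centralizer (K : Set G)).relIndex (sigmaCore M) ≠ 1 := by
    intro h
    apply hS
    have hge : sigmaCore M ≤ sigmaCore M ⊓ centralizer (K : Set G) :=
      Subgroup.relIndex_eq_one.mp h
    exact (Subgroup.map_subtype_le _).trans hge
  have hodd : Odd ((sigmaCore M ⊓ centralizer (K : Set G)).relIndex (sigmaCore M)) := by
    have hG1 : Odd (Nat.card G) := hG.1
    have hd : (sigmaCore M ⊓ centralizer (K : Set G)).relIndex (sigmaCore M) ∣ Nat.card G := by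
      refine Dvd.dvd.trans ?_ (Subgroup.card_subgroup_dvd_card (sigmaCore M))
      rw [← hmul]; exact dvd_mul_left _ _
    exact Odd.of_dvd_nat hG1 hd
  have hge3 : 3 ≤ (sigmaCore M ⊓ centralizer (K : Set G)).relIndex (sigmaCore M) := by
    obtain ⟨k, hk⟩ := hodd
    omega
  calc 3 * Nat.card ↥(sigmaCore M ⊓ centralizer (K : Set G))
      = Nat.card ↥(sigmaCore M ⊓ centralizer (K : Set G)) * 3 := by ring
    _ ≤ Nat.card ↥(sigmaCore M ⊓ centralizer (K : Set G)) *
          (sigmaCore M ⊓ centralizer (K : Set G)).relIndex (sigmaCore M) :=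
        Nat.mul_le_mul_left _ hge3
    _ = Nat.card (sigmaCore M) := hmul

/-- An element of `K K*` killed by `|K*|` lies in `K*`; killed by `|K|` lies in `K`. -/
theorem fam_pow [Finite G] {K Ks : Subgroup G}
    (hcomm : ∀ a ∈ K, ∀ b ∈ Ks, a * b = b * a) (hcop : (Nat.card K).Coprime (Nat.card Ks))
    {z : G} (hz : z ∈ K ⊔ Ks) :
    (z ^ Nat.card Ks = 1 → z ∈ Ks) ∧ (z ^ Nat.card K = 1 → z ∈ K) := by
  obtain ⟨a, ha, b, hb, rfl⟩ := Cfsg.Agent.Lib.helper13.bgz_decomp hcomm hz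
  have hab : Commute a b := hcomm a ha b hb
  have hb1 : b ^ Nat.card Ks = 1 := Cfsg.Agent.Lib.helper13.bgz_pow_card hb
  have ha1 : a ^ Nat.card K = 1 := Cfsg.Agent.Lib.helper13.bgz_pow_card ha
  constructor
  · intro h
    rw [hab.mul_pow, hb1, mul_one] at h
    have h1 : orderOf a ∣ Nat.card Ks := orderOf_dvd_of_pow_eq_one h
    have h2 : orderOf a ∣ Nat.card K := orderOf_dvd_of_pow_eq_one ha1
    have h3 : orderOf a = 1 := Nat.eq_one_of_dvd_coprimes hcop h2 h1
    rw [orderOf_eq_one_iff.mp h3, one_mul]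
    exact hb
  · intro h
    rw [hab.mul_pow, ha1, one_mul] at h
    have h1 : orderOf b ∣ Nat.card K := orderOf_dvd_of_pow_eq_one h
    have h2 : orderOf b ∣ Nat.card Ks := orderOf_dvd_of_pow_eq_one hb1
    have h3 : orderOf b = 1 := Nat.eq_one_of_dvd_coprimes hcop h1 h2
    rw [orderOf_eq_one_iff.mp h3, mul_one]
    exact ha

/-- The `TI` property of the regular part of `Z` with respect to one member. -/
theorem fam_TI_member [Finite G] (hG : IsMinSimpleOddOrder G) (M : Subgroup G) (hM : IsCoatom M)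
    (K : Subgroup G) (hK : IsPiHallOf (kappa M) K M) (hK1 : K ≠ ⊥) {z g : G}
    (hz : z ∈ K ⊔ (sigmaCore M ⊓ centralizer (K : Set G))) (hzK : z ∉ K)
    (hzKs : z ∉ sigmaCore M ⊓ centralizer (K : Set G))
    (hgz : g * z * g⁻¹ ∈ K ⊔ (sigmaCore M ⊓ centralizer (K : Set G))) :
    g ∈ K ⊔ (sigmaCore M ⊓ centralizer (K : Set G)) := by
  obtain ⟨hcomm, hcop, -, -⟩ := Cfsg.Agent.Lib.helper13.bgz_setup hG (fam_h30 hG) M hM K hK hK1
  obtain ⟨h1, h2, -, -⟩ :=
    Cfsg.Agent.Lib.helper59.BG1431.s1431_of_h1430 hG (fam_h30 hG) M hM K hK hK1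
  have hKsM : sigmaCore M ⊓ centralizer (K : Set G) ≤ M :=
    inf_le_left.trans (Cfsg.Agent.Lib.helper71.BGA.sigmaCore_le M)
  have hpz := fam_pow hcomm hcop hz
  have hpg := fam_pow hcomm hcop hgz
  have hconj : ∀ n : ℕ, (g * z * g⁻¹) ^ n = 1 → z ^ n = 1 := by
    intro n hn
    rw [conj_pow] at hn
    have e : z ^ n = g⁻¹ * (g * z ^ n * g⁻¹) * g := by group
    rw [e, hn]; group
  refine Cfsg.Agent.Lib.helper13.bgz_conj_mem hcomm hcop h1 h2 hKsM (z := z) (g := g)
    ⟨hz, ?_⟩ ⟨hgz, ?_⟩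
  · rintro (h | h)
    · exact hzK h
    · exact hzKs h
  · rintro (h | h)
    · exact hzK (hpz.2 (hconj _ (Cfsg.Agent.Lib.helper13.bgz_pow_card h)))
    · exact hzKs (hpz.1 (hconj _ (Cfsg.Agent.Lib.helper13.bgz_pow_card h)))

/-- An element of `M` of prime order `t ∈ σ(M)` lies in `M_σ`. -/
theorem fam_mem_sigmaCore [Finite G] (hG : IsMinSimpleOddOrder G) (M : Subgroup G)
    (hM : IsCoatom M) {x : G} (hxM : x ∈ M)
    (hx : ∀ p : ℕ, p.Prime → p ∣ orderOf x → p ∈ sigma M) : x ∈ sigmaCore M := by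
  have h := Cfsg.Agent.Lib.helper87.BG133.le_sigmaCore_of_pi hG M hM (Subgroup.zpowers x)
    (by rw [Subgroup.zpowers_le]; exact hxM)
    (fun p hp hpd => hx p hp (by rwa [Nat.card_zpowers] at hpd))
  exact h (Subgroup.mem_zpowers x)

theorem fam_map_conj_of_mem {M : Subgroup G} {d : G} (hd : d ∈ M) :
    M.map (MulAut.conj d).toMonoidHom = M := by
  ext y
  constructor
  · rintro ⟨m, hm, rfl⟩
    simp only [MulEquiv.coe_toMonoidHom, MulAut.conj_apply]
    exact M.mul_mem (M.mul_mem hd hm) (M.inv_mem hd)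
  · intro hy
    refine ⟨d⁻¹ * y * d, M.mul_mem (M.mul_mem (M.inv_mem hd) hy) hd, ?_⟩
    simp only [MulEquiv.coe_toMonoidHom, MulAut.conj_apply]
    group

theorem fam_orderOf_conj (w a : G) : orderOf (w * a * w⁻¹) = orderOf a := by
  have h := MulEquiv.orderOf_eq (MulAut.conj w) a
  rwa [MulAut.conj_apply] at h

/-- **No family of type-P1 maximal subgroups around a common `Z`.** -/
theorem no_p1_family [Finite G] (hG : IsMinSimpleOddOrder G) (h77 : H1377 G) (hD : HTildeDisj G)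
    (Z : Subgroup G) {ι : Type*} [Fintype ι] (hι : 2 ≤ Fintype.card ι)
    (M K : ι → Subgroup G) (hMinj : Function.Injective M)
    (hM : ∀ i, IsCoatom (M i)) (hK : ∀ i, IsPiHallOf (kappa (M i)) (K i) (M i))
    (hK1 : ∀ i, K i ≠ ⊥)
    (hZ : ∀ i, K i ⊔ (sigmaCore (M i) ⊓ centralizer (K i : Set G)) = Z)
    (hP1 : ∀ i, ∀ q : ℕ, q.Prime → q ∣ Nat.card (M i) → q ∉ sigma (M i) → q ∈ kappa (M i))
    (hcov : ∀ t : ℕ, t.Prime → t ∣ Nat.card Z → ∃ i, t ∈ sigma (M i)) : False := by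
  have hHall : ∀ i, IsPiHallOf (sigma (M i)) (sigmaCore (M i)) (M i) :=
    fun i => (Cfsg.Agent.S1350.result hG (M i) (hM i)).1
  have hZM : ∀ i, Z ≤ M i := by
    intro i
    rw [← hZ i]
    exact sup_le (hK i).1 (inf_le_left.trans (hHall i).1)
  have hZinf : ∀ i, Z ⊓ sigmaCore (M i) = sigmaCore (M i) ⊓ centralizer (K i : Set G) := by
    intro i
    rw [← hZ i]
    exact fam_inf hG (M i) (hM i) (K i) (hK i) (hK1 i)
  have hne : Nonempty ι := by
    rw [← Fintype.card_pos_iff]; omega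
  obtain ⟨i₀⟩ := hne
  -- the TI property
  have hTI : ∀ z ∈ Z, (∀ i, z ∉ sigmaCore (M i)) → ∀ g : G, g * z * g⁻¹ ∈ Z → g ∈ Z := by
    intro z hzZ hz g hg
    have hz1 : z ≠ 1 := by
      intro h
      apply hz i₀
      rw [h]
      exact (sigmaCore (M i₀)).one_mem
    have ho1 : orderOf z ≠ 1 := fun h => hz1 (orderOf_eq_one_iff.mp h)
    have htp : (orderOf z).minFac.Prime := Nat.minFac_prime ho1
    have htd : (orderOf z).minFac ∣ orderOf z := Nat.minFac_dvd _
    obtain ⟨i, hti⟩ := hcov _ htp (htd.trans (Subgroup.orderOf_dvd_natCard Z hzZ))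
    have hzZ' : z ∈ K i ⊔ (sigmaCore (M i) ⊓ centralizer (K i : Set G)) := by
      rw [hZ i]; exact hzZ
    have hg' : g * z * g⁻¹ ∈ K i ⊔ (sigmaCore (M i) ⊓ centralizer (K i : Set G)) := by
      rw [hZ i]; exact hg
    have hzK : z ∉ K i := by
      intro h
      have h1 : (orderOf z).minFac ∣ Nat.card (K i) :=
        htd.trans (Subgroup.orderOf_dvd_natCard (K i) h)
      exact ((hK i).2.1 _ htp h1).2.2.1 hti
    have hzKs : z ∉ sigmaCore (M i) ⊓ centralizer (K i : Set G) :=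
      fun h => hz i (Subgroup.mem_inf.mp h).1
    have := fam_TI_member hG (M i) (hM i) (K i) (hK i) (hK1 i) hzZ' hzK hzKs hg'
    rwa [hZ i] at this
  -- cardinalities
  have hcard : ∀ i, Nat.card (M i) * Nat.card ↥(Z ⊓ sigmaCore (M i))
      = Nat.card (sigmaCore (M i)) * Nat.card Z := by
    intro i
    rw [hZinf i]
    have e1 := fam_card_M hG (M i) (hM i) (K i) (hK i) (hP1 i)
    have e2 := fam_card_Z hG (M i) (hM i) (K i) (hK i) (hK1 i)
    rw [hZ i] at e2
    rw [← e1, ← e2]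
    ring
  have h3 : ∀ i, 3 * Nat.card ↥(Z ⊓ sigmaCore (M i)) ≤ Nat.card (sigmaCore (M i)) := by
    intro i
    rw [hZinf i]
    exact fam_three hG (M i) (hM i) (K i) (hK i) (hK1 i)
  have hT : ∀ i, Set.ncard (tildeOf (M i) ((sigmaCore (M i) : Set G) \ {1}))
      = (Nat.card (sigmaCore (M i)) - 1) * (M i).index := fun i => h77 (M i) (hM i)
  -- prime-order elements of `Z` with order in `σ(M i)` lie in `K_i*`
  have hmemKs : ∀ i, ∀ x ∈ Z, (∀ p : ℕ, p.Prime → p ∣ orderOf x → p ∈ sigma (M i)) →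
      x ∈ sigmaCore (M i) ⊓ centralizer (K i : Set G) := by
    intro i x hxZ hx
    rw [← hZinf i]
    exact Subgroup.mem_inf.mpr ⟨hxZ, fam_mem_sigmaCore hG (M i) (hM i) (hZM i hxZ) hx⟩
  -- non-conjugacy
  have hnc : ∀ i j, i ≠ j → ∀ g : G, M j ≠ (M i).map (MulAut.conj g).toMonoidHom := by
    intro i j hij g hg
    obtain ⟨-, -, hKs1, -⟩ :=
      Cfsg.Agent.Lib.helper13.bgz_setup hG (fam_h30 hG) (M j) (hM j) (K j) (hK j) (hK1 j)
    obtain ⟨x, hx, hx1⟩ : ∃ x ∈ sigmaCore (M j) ⊓ centralizer (K j : Set G), x ≠ 1 := by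
      by_contra hcon
      push Not at hcon
      exact hKs1 ((Subgroup.eq_bot_iff_forall _).mpr hcon)
    have hxZ : x ∈ Z := by
      rw [← hZ j]; exact (le_sup_right : _ ≤ K j ⊔ _) hx
    have hxσ : ∀ p : ℕ, p.Prime → p ∣ orderOf x → p ∈ sigma (M i) := by
      intro p hp hpd
      have h1 : p ∈ sigma (M j) :=
        (hHall j).2.1 p hp (hpd.trans (Subgroup.orderOf_dvd_natCard _ (Subgroup.mem_inf.mp hx).1))
      rw [hg, Cfsg.Agent.Lib.helper3.sigma_map_conj] at h1
      exact h1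
    have hxKs := hmemKs i x hxZ hxσ
    obtain ⟨h1, -, -, -⟩ :=
      Cfsg.Agent.Lib.helper59.BG1431.s1431_of_h1430 hG (fam_h30 hG) (M i) (hM i) (K i) (hK i)
        (hK1 i)
    have hgM : g ∈ M i := by
      by_contra hgM
      have h2 := h1 g hgM
      have h3 : x ∈ (sigmaCore (M i) ⊓ centralizer (K i : Set G)) ⊓
          (M i).map (MulAut.conj g).toMonoidHom := by
        refine Subgroup.mem_inf.mpr ⟨hxKs, ?_⟩
        rw [← hg]
        exact (hHall j).1 (Subgroup.mem_inf.mp hx).1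
      rw [h2, Subgroup.mem_bot] at h3
      exact hx1 h3
    rw [fam_map_conj_of_mem hgM] at hg
    exact hij (hMinj hg).symm
  have hdisj : ∀ i j, i ≠ j → Disjoint (tildeOf (M i) ((sigmaCore (M i) : Set G) \ {1}))
      (tildeOf (M j) ((sigmaCore (M j) : Set G) \ {1})) := by
    intro i j hij
    rw [Set.disjoint_iff_inter_eq_empty]
    exact hD (M i) (M j) (hM i) (hM j) (hnc i j hij)
  -- the regular part of `Z` misses the tilde sets
  have hdisjZ : ∀ i, ∀ z ∈ Z, (∀ j, z ∉ sigmaCore (M j)) → ∀ y : G,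
      y * z * y⁻¹ ∉ tildeOf (M i) ((sigmaCore (M i) : Set G) \ {1}) := by
    intro i z hzZ hz y hmem
    unfold tildeOf at hmem
    obtain ⟨a, ⟨haS, ha1⟩, r, hr, v, hv⟩ := hmem
    have ha1' : a ≠ 1 := fun h => ha1 (Set.mem_singleton_iff.mpr h)
    have hzw : z = (y⁻¹ * v) * (a * r) * (y⁻¹ * v)⁻¹ := by
      have e : z = y⁻¹ * (y * z * y⁻¹) * y := by group
      rw [e, hv]; group
    have hprime_a : ∀ p : ℕ, p.Prime → p ∣ orderOf a → p ∈ sigma (M i) := fun p hp hpd =>
      (hHall i).2.1 p hp (hpd.trans (Subgroup.orderOf_dvd_natCard _ haS))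
    by_cases hr1 : r = 1
    · rw [hr1, mul_one] at hzw
      apply hz i
      apply fam_mem_sigmaCore hG (M i) (hM i) (hZM i hzZ)
      intro p hp hpd
      rw [hzw, fam_orderOf_conj] at hpd
      exact hprime_a p hp hpd
    · have hsupp : ¬ centralizer ({a} : Set G) ≤ M i ∧ r ∈ centralizer ({a} : Set G) := by
        unfold supportR at hr
        split_ifs at hr with h
        · exact ⟨h.1, (Subgroup.mem_inf.mp hr).2⟩
        · exact absurd (Subgroup.mem_bot.mp hr) hr1
      obtain ⟨hnle, hrc⟩ := hsupp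
      have har : a * r = r * a := (Subgroup.mem_centralizer_iff.mp hrc) a rfl
      -- a' := w⁻¹ a w with w = v⁻¹ y, i.e. conjugation by u = y⁻¹ v
      set u : G := y⁻¹ * v with hu
      have hcz : (u * a * u⁻¹) * z * (u * a * u⁻¹)⁻¹ = z := by
        rw [hzw]
        have e : (u * a * u⁻¹) * (u * (a * r) * u⁻¹) * (u * a * u⁻¹)⁻¹
            = u * (a * (a * r) * a⁻¹) * u⁻¹ := by group
        rw [e]
        have e2 : a * (a * r) * a⁻¹ = a * r := by
          calc a * (a * r) * a⁻¹ = a * (r * a) * a⁻¹ := by rw [har]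
            _ = a * r := by group
        rw [e2]
      have ha'Z : u * a * u⁻¹ ∈ Z := hTI z hzZ hz _ (by rw [hcz]; exact hzZ)
      have ho : orderOf (u * a * u⁻¹) = orderOf a := fam_orderOf_conj u a
      have ho1 : orderOf a ≠ 1 := fun h => ha1' (orderOf_eq_one_iff.mp h)
      have htp : (orderOf a).minFac.Prime := Nat.minFac_prime ho1
      have htd : (orderOf a).minFac ∣ orderOf a := Nat.minFac_dvd _
      have ho0 : orderOf (u * a * u⁻¹) ≠ 0 := (orderOf_pos _).ne'
      set m : ℕ := orderOf (u * a * u⁻¹) / (orderOf a).minFac with hm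
      set x : G := (u * a * u⁻¹) ^ m with hx
      have hxo : orderOf x = (orderOf a).minFac :=
        orderOf_pow_orderOf_div ho0 (by rw [ho]; exact htd)
      have hxZ : x ∈ Z := Z.pow_mem ha'Z m
      have hx1 : x ≠ 1 := by
        intro h
        rw [h, orderOf_one] at hxo
        exact htp.one_lt.ne hxo
      have hxKs : x ∈ sigmaCore (M i) ⊓ centralizer (K i : Set G) := by
        apply hmemKs i x hxZ
        intro p hp hpd
        rw [hxo] at hpd
        have : p = (orderOf a).minFac := (Nat.prime_dvd_prime_iff_eq hp htp).mp hpd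
        rw [this]
        exact hprime_a _ htp htd
      obtain ⟨h1, -, -, -⟩ :=
        Cfsg.Agent.Lib.helper59.BG1431.s1431_of_h1430 hG (fam_h30 hG) (M i) (hM i) (K i) (hK i)
          (hK1 i)
      have huM : u ∈ M i := by
        by_contra huM
        have h2 := h1 u huM
        have h3 : x ∈ (sigmaCore (M i) ⊓ centralizer (K i : Set G)) ⊓
            (M i).map (MulAut.conj u).toMonoidHom := by
          refine Subgroup.mem_inf.mpr ⟨hxKs, ?_⟩
          refine ⟨a ^ m, (M i).pow_mem ((hHall i).1 haS) m, ?_⟩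
          simp only [MulEquiv.coe_toMonoidHom, MulAut.conj_apply]
          rw [hx, conj_pow]
        rw [h2, Subgroup.mem_bot] at h3
        exact hx1 h3
      have hcu := (Cfsg.Agent.Lib.helper25.BG1367.cent_uniq hG (fam_h30 hG) (M i) (hM i) (K i)
        (hK i) (hK1 i) (Subgroup.zpowers x)
        (by rw [Subgroup.zpowers_le]; exact hxKs)
        (by rw [Nat.card_zpowers, hxo]; exact htp)).1
      apply hnle
      intro c hc
      have hca : c * a = a * c := ((Subgroup.mem_centralizer_iff.mp hc) a rfl).symm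
      have hc' : u * c * u⁻¹ ∈ centralizer ((Subgroup.zpowers x : Subgroup G) : Set G) := by
        rw [Subgroup.mem_centralizer_iff]
        rintro _ ⟨k, rfl⟩
        have hcomm1 : Commute (u * c * u⁻¹) (u * a * u⁻¹) := by
          show (u * c * u⁻¹) * (u * a * u⁻¹) = (u * a * u⁻¹) * (u * c * u⁻¹)
          have e1 : (u * c * u⁻¹) * (u * a * u⁻¹) = u * (c * a) * u⁻¹ := by group
          have e2 : (u * a * u⁻¹) * (u * c * u⁻¹) = u * (a * c) * u⁻¹ := by group
          rw [e1, e2, hca]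
        have hcomm2 : Commute (u * c * u⁻¹) x := hcomm1.pow_right m
        exact ((hcomm2.zpow_right k).eq).symm
      have h5 := hcu hc'
      have e : c = u⁻¹ * (u * c * u⁻¹) * u := by group
      rw [e]
      exact (M i).mul_mem ((M i).mul_mem ((M i).inv_mem huM) h5) huM
  exact Cfsg.Agent.Lib.helper74.BGCount.count_core Z hι M hTI hcard h3 hT hdisj hdisjZ

end Cfsg.Agent.Lib.helper19.BGFam
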