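import Mathlib
import Cfsg.Prelude.Def_Characters
import Cfsg.Prelude.Def_Blocks
import Cfsg.Agent.Lib.helper84.BrDefs
import Cfsg.Agent.Lib.helper20.BT_Data
import Cfsg.Agent.Lib.helper56.BT_DEGEQ
import Cfsg.Agent.Lib.helper6.BT_THSQ
import Cfsg.Agent.Lib.helper29.BT_SYL
import Cfsg.Agent.Lib.helper78.BR_GT8
import Cfsg.Agent.Lib.helper46.D1GS
import Cfsg.Agent.Lib.helper76.KazCore
import Cfsg.Agent.Lib.helper53.BU_AR1
import Cfsg.Agent.Lib.helper56.BU_AR2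
import Cfsg.Agent.Lib.helper56.BU_AR3
import Cfsg.Agent.Lib.helper57.BU_AVG
import Cfsg.Agent.Lib.helper57.BU_DEG
import Cfsg.Agent.Lib.helper48.BU_DSQ
import Cfsg.Agent.Lib.helper48.BU_FAITH
import Cfsg.Agent.Lib.helper48.BU_NV
import Cfsg.Agent.Lib.helper21.BU_PBKER
import Cfsg.Agent.Lib.helper31.BU_PSO
import Cfsg.Agent.Lib.helper69.BU_SMALL
import Cfsg.Agent.Lib.helper69.BU_VR
import Cfsg.Agent.Lib.helper82.BU_T1
import Cfsg.Agent.Lib.helper53.BU_T3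
import Cfsg.Agent.Lib.helper75.BU_T4
import Cfsg.Agent.Lib.helper64.BU_T5
import Cfsg.Agent.Lib.helper72.BU_THX

/-!
# S0997 (Brauer–Tuan, `|G| = p q^b g₀`, `g₀ < p - 1`): assembly of the pieces

`cent_self` : the Sylow `p`-subgroup is self-centralizing.
`bu_main` : an element `z` of order `p` with `C(z) = ⟨z⟩`, few Sylow `p`-subgroups, `p = 2^m ± 1`.
-/

set_option autoImplicit false

namespace Cfsg.Agent.Lib.helper19.BU

open Cfsg Cfsg.Agent.Lib.helper81 Cfsg.Agent.Lib.helper84.Br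
open scoped ComplexConjugate

universe u

/-! ### small arithmetic facts -/

theorem h19_le_half {e n : ℕ} (h : e ∣ n) (hn : 0 < n) (hlt : e < n) : 2 * e ≤ n := by
  obtain ⟨k, rfl⟩ := h
  have hk2 : 2 ≤ k := by
    by_contra hk2
    have hk01 : k = 0 ∨ k = 1 := by omega
    rcases hk01 with rfl | rfl
    · simp at hn
    · simp at hlt
  nlinarith

theorem h19_eq_of_dvd {f g : ℕ} (h : f ∣ g) (hg : 0 < g) (hlt : g < 2 * f) : g = f := by
  obtain ⟨k, rfl⟩ := h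
  have hk1 : k = 1 := by
    by_contra hk1
    have hk02 : k = 0 ∨ 2 ≤ k := by omega
    rcases hk02 with rfl | h2
    · simp at hg
    · nlinarith
  rw [hk1, mul_one]

theorem h19_fin_plus {p e N d : ℕ} (hpe : p - 1 = 2 * e) (he : 1 ≤ e) (h1 : e * N ≤ d * e)
    (h2 : d * d < e * p * N) : 2 * N < (p + 1) * (p + 2) := by
  have hNd : N ≤ d := by nlinarith
  have hNep : N < e * p := by nlinarith
  have h2e : 2 * e + 1 = p := by omega
  subst h2e
  nlinarith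

theorem h19_fin_two {p N : ℕ} (hp : 3 ≤ p) (h : 2 * N ≤ (p - 1) * (p - 2)) :
    2 * N < (p + 1) * (p + 2) := by
  have h5 : (p - 1) * (p - 2) < (p + 1) * (p + 2) :=
    Nat.mul_lt_mul'' (by omega) (by omega)
  omega

theorem h19_card_cancel {p e N Q f : ℕ} (hp : 0 < p) (h1 : e * p * N = p * Q * f) :
    e * N = Q * f := by
  have h2 : p * (e * N) = p * (Q * f) := by rw [← mul_assoc p Q f, ← h1]; ring
  exact Nat.eq_of_mul_eq_mul_left hp h2


variable {G : Type u} [Group G] [Fintype G] {p : ℕ} [Fact p.Prime] {P : Sylow p G}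

/-- CENT : the Sylow `p`-subgroup is self-centralizing. -/
theorem cent_self [IsSimpleGroup G] (q b g₀ : ℕ) (hq : q.Prime) (hpq : p ≠ q)
    (hcard : Nat.card G = p * q ^ b * g₀) (hg : g₀ < p - 1) (hP : Nat.card P = p) :
    Subgroup.centralizer ((P : Subgroup G) : Set G) = (P : Subgroup G) := by
  classical
  have hp : p.Prime := Fact.out
  have hG0 : Nat.card G ≠ 0 := Nat.card_pos.ne'
  have hg0 : g₀ ≠ 0 := by
    rintro rfl
    rw [mul_zero] at hcard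
    exact hG0 hcard
  obtain ⟨M, hM⟩ := Cfsg.Agent.Lib.helper76.exists_isPModular p hp
  obtain ⟨θ, hθB, hθ1, hθd⟩ := Cfsg.Agent.Lib.helper69.BU.exists_small q b g₀ hq hpq hcard (by omega) M hM
  have hdeg : charDegree (θ : G → ℂ) < p :=
    lt_of_le_of_lt (Nat.le_of_dvd (Nat.pos_of_ne_zero hg0) hθd) (by omega)
  have hcyc : IsCyclic P := isCyclic_of_prime_card hP
  have hle : (P : Subgroup G) ≤ Subgroup.centralizer ((P : Subgroup G) : Set G) := by
    intro g hg'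
    rw [Subgroup.mem_centralizer_iff]
    intro h hh
    have hcomm := (IsCyclic.isMulCommutative (α := P)).is_comm.comm ⟨h, hh⟩ ⟨g, hg'⟩
    exact congrArg Subtype.val hcomm
  have hreg : ∀ y ∈ Subgroup.centralizer ((P : Subgroup G) : Set G), ¬ p ∣ orderOf y → y = 1 :=
    fun y hy hpy =>
      Cfsg.Agent.Lib.helper48.BU.faithful_of_simple θ hθ1 y (Cfsg.Agent.Lib.helper21.BU.pb_ker M hM hP θ hθB hdeg y hy hpy)
  have hpow : ∀ l : ℕ, l.Prime →
      l ∣ Nat.card (Subgroup.centralizer ((P : Subgroup G) : Set G)) → l = p := by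
    intro l hl hlC
    by_contra hne
    have : Fact l.Prime := ⟨hl⟩
    obtain ⟨x, hx⟩ := exists_prime_orderOf_dvd_card' l hlC
    have hx' : orderOf (x : G) = l := by rw [Subgroup.orderOf_coe]; exact hx
    have h1 := hreg (x : G) x.2
      (by rw [hx']; intro h; exact hne ((Nat.prime_dvd_prime_iff_eq hp hl).mp h).symm)
    rw [h1, orderOf_one] at hx'
    exact hl.one_lt.ne hx'
  have hCpos : Nat.card (Subgroup.centralizer ((P : Subgroup G) : Set G)) ≠ 0 :=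
    Nat.card_pos.ne'
  have hk := Nat.eq_prime_pow_of_unique_prime_dvd hCpos (fun {d} hd hdvd => hpow d hd hdvd)
  set k := (Nat.card (Subgroup.centralizer ((P : Subgroup G) : Set G))).primeFactorsList.length
  have hk1 : k ≤ 1 := by
    by_contra hk2
    have hk2' : 2 ≤ k := by omega
    have h1 : p ^ 2 ∣ Nat.card G :=
      (pow_dvd_pow p hk2').trans (hk ▸ Subgroup.card_subgroup_dvd_card _)
    rw [hcard, pow_two, mul_assoc] at h1
    have h2 : p ∣ q ^ b * g₀ := Nat.dvd_of_mul_dvd_mul_left hp.pos h1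
    rcases (Nat.Prime.dvd_mul hp).mp h2 with h3 | h3
    · exact hpq ((Nat.prime_dvd_prime_iff_eq hp hq).mp (hp.dvd_of_dvd_pow h3))
    · have := Nat.le_of_dvd (Nat.pos_of_ne_zero hg0) h3
      omega
  refine (Subgroup.eq_of_le_of_card_ge hle ?_).symm
  rw [hk, hP]
  calc p ^ k ≤ p ^ 1 := Nat.pow_le_pow_right hp.pos hk1
    _ = p := pow_one p

/-- MAIN : an element of order `p` with `C(z) = ⟨z⟩`, few Sylow `p`-subgroups, `p = 2^m ± 1`. -/
theorem bu_core [IsSimpleGroup G] (hG : ¬ IsCyclic G) (q b g₀ : ℕ) (hq : q.Prime) (hpq : p ≠ q)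
    (hcard : Nat.card G = p * q ^ b * g₀) (hg : g₀ < p - 1) (hP : Nat.card P = p)
    (hC : Subgroup.centralizer ((P : Subgroup G) : Set G) = (P : Subgroup G)) {e : ℕ}
    (he2 : 2 ≤ e) (hep : e ∣ p - 1)
    (hN : Nat.card (Subgroup.normalizer ((P : Subgroup G) : Set G)) = e * p)
    (D : Data G p P e) (N : ℕ) (hNdef : Nat.card (Sylow p G) = N) :
    2 * N < (p + 1) * (p + 2) ∧ ∃ m : ℕ, p = 2 ^ m + 1 ∨ p = 2 ^ m - 1 := by
  classical
  have hp : p.Prime := Fact.out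
  have hG0 : Nat.card G ≠ 0 := Nat.card_pos.ne'
  have hg0 : g₀ ≠ 0 := by
    rintro rfl
    rw [mul_zero] at hcard
    exact hG0 hcard
  have hg0' : 0 < g₀ := Nat.pos_of_ne_zero hg0
  have hp3 : 3 ≤ p := by omega
  have hGN : Nat.card G = e * p * N := by
    have h1 := Subgroup.card_mul_index (Subgroup.normalizer ((P : Subgroup G) : Set G))
    have h0 : Nat.card (Sylow p G) = (Subgroup.normalizer ((P : Subgroup G) : Set G)).index :=
      Sylow.card_eq_index_normalizer P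
    rw [← h0, hN, hNdef] at h1
    exact h1.symm
  have hNpos : 0 < N := hNdef ▸ Nat.card_pos
  obtain ⟨x, hx, hx1⟩ := Cfsg.Agent.Lib.helper56.BT.h56_exists_ne_one (P := P) hP
  obtain ⟨hXq, hYd, hcase⟩ := Cfsg.Agent.Lib.helper57.BU.deg_facts hG hP D he2 hep q b g₀ hq hpq hcard hg
  have hδ1 : D.δ (trivChar G) = 1 := D.δ_triv x hx hx1
  have htriv1 : charDegree ((trivChar G : IrrCharacter G) : G → ℂ) = 1 := by
    have h := irr_one_eq_charDegree (trivChar G)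
    rw [trivChar_apply] at h
    exact_mod_cast h.symm
  obtain ⟨θ₀, hθ₀⟩ : D.Y.Nonempty := by
    apply Finset.card_pos.mp
    have h := D.cardY
    rcases Nat.eq_zero_or_pos D.Y.card with h0 | h0
    · rw [h0, zero_mul] at h
      omega
    · exact h0
  obtain ⟨χ₀, hχ₀X, hχ₀1⟩ : ∃ χ ∈ D.X, χ ≠ trivChar G := by
    by_contra hcon
    push Not at hcon
    have h1 : D.X ⊆ {trivChar G} := fun χ hχ => Finset.mem_singleton.mpr (hcon χ hχ)
    have h2 := Finset.card_le_card h1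
    rw [D.cardX, Finset.card_singleton] at h2
    omega
  have hqG : q ∣ Nat.card G := (hXq χ₀ hχ₀X hχ₀1).1.trans (irr_degree_dvd_card χ₀)
  have hpsum : ∀ θ ∈ D.Y, psum (P : Subgroup G) (θ : G → ℂ) = -(D.ε : ℂ) * (e : ℂ) :=
    fun θ hθ => (Cfsg.Agent.Lib.helper20.BT.psum_Y_gen hP hC hN D θ hθ).1
  have hpsum2 : ∀ θ ∈ D.Y,
      psum (P : Subgroup G) (fun g => (θ : G → ℂ) g * conj ((θ : G → ℂ) g)) =
        (e : ℂ) * ((p : ℂ) - (e : ℂ)) :=
    fun θ hθ => (Cfsg.Agent.Lib.helper20.BT.psum_Y_gen hP hC hN D θ hθ).2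
  have horth : ∀ x : G, x ∈ (P : Subgroup G) → x ≠ 1 →
      ∑ θ ∈ D.Y, (θ : G → ℂ) x = -(D.ε : ℂ) :=
    fun x hx hx1 => Cfsg.Agent.Lib.helper20.BT.orth_Y_gen D x hx hx1
  obtain ⟨M', hM'⟩ := Cfsg.Agent.Lib.helper76.exists_isPModular q hq
  have hreg : ∀ y : G, q ∣ orderOf y → ¬ p ∣ orderOf y := by
    intro y hy hpy
    have h1 := Cfsg.Agent.Lib.helper31.BU.psing_order hP hC y hpy
    rw [h1] at hy
    exact hpq ((Nat.prime_dvd_prime_iff_eq hq hp).mp hy).symm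
  have hnv : ∀ θ ∈ D.Y, ∃ y : G, q ∣ orderOf y ∧ (θ : G → ℂ) y ≠ 0 :=
    fun θ hθ => Cfsg.Agent.Lib.helper48.BU.exists_sing_ne_zero q hq hqG θ (hYd θ hθ).1
  have hYB : ∀ B' : Set (IrrCharacter G), IsPBlock M' B' →
      (∀ θ ∈ D.Y, θ ∈ B') ∨ (∀ θ ∈ D.Y, θ ∉ B') := by
    intro B' hB'
    exact Cfsg.Agent.Lib.helper53.BU.Y_block hP D q B' hreg hpsum hnv
      (fun x hx hx1 y hy => Cfsg.Agent.Lib.helper82.BU.two_prime_rel D q hpq M' hM' B' hB' x hx hx1 y hy)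
  have htail : ∀ χ₁ : IrrCharacter G, χ₁ ∈ D.X → χ₁ ≠ trivChar G → ∀ k : ℕ,
      charDegree (χ₁ : G → ℂ) = q ^ k → charDegree (θ₀ : G → ℂ) = g₀ →
      ∃ χ₂ ∈ D.X, D.δ χ₂ = D.ε ∧ e * N ≤ charDegree (χ₂ : G → ℂ) * g₀ := by
    intro χ₁ hχ₁ hχ₁1 k hk hθd
    obtain ⟨B', hB', hYB', χ, hχX, hχB⟩ :=
      Cfsg.Agent.Lib.helper64.BU.exists_block hG D q M' hM' hYB χ₁ hχ₁ hχ₁1 k hk
    have hvan : ∀ g : G, g ≠ 1 → ¬ p ∣ orderOf g → ¬ q ∣ orderOf g → (θ₀ : G → ℂ) g = 0 :=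
      fun g hg1 hgp hgq =>
        Cfsg.Agent.Lib.helper69.BU.vanish_rest q b g₀ hq hpq hcard (by omega) θ₀ hθd g hg1 hgp hgq
    have h4 := Cfsg.Agent.Lib.helper75.BU.eta_deg hP hC D q g₀ θ₀ hθ₀ hθd (hpsum θ₀ hθ₀) hvan B' hYB'
      (fun x hx hx1 y hy => Cfsg.Agent.Lib.helper82.BU.two_prime_rel D q hpq M' hM' B' hB' x hx hx1 y hy)
    rw [hNdef] at h4
    have hne : (D.X.filter (· ∈ B')).Nonempty := ⟨χ, Finset.mem_filter.mpr ⟨hχX, hχB⟩⟩
    obtain ⟨χ₂, hχ₂, hδ₂, hbig⟩ := Cfsg.Agent.Lib.helper57.BU.exists_big (D.X.filter (· ∈ B')) hne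
      (fun χ => charDegree (χ : G → ℂ)) D.δ D.ε D.ε_sq
      (fun χ hχ => D.δ_sq χ (Finset.mem_filter.mp hχ).1) g₀ (e * N)
      (Nat.mul_pos (by omega) hNpos) (by rw [h4]; push_cast; ring)
    exact ⟨χ₂, (Finset.mem_filter.mp hχ₂).1, hδ₂, hbig⟩
  have hdsq : ∀ χ : IrrCharacter G,
      charDegree (χ : G → ℂ) * charDegree (χ : G → ℂ) < e * p * N :=
    fun χ => hGN ▸ Cfsg.Agent.Lib.helper48.BU.deg_sq_lt χ
  have hθ₀d := hYd θ₀ hθ₀
  have hp1 : 0 < p - 1 := by omega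
  rcases hcase with ⟨hε, hYe, hq1⟩ | ⟨hε, hYf⟩
  · -- ε = 1
    have hfe : charDegree (θ₀ : G → ℂ) = e := hYe θ₀ hθ₀
    have heg : e ∣ g₀ := hfe ▸ hθ₀d.2.1
    have hnl : ∀ χ ∈ D.X, χ ≠ trivChar G → charDegree (χ : G → ℂ) ≠ 1 := by
      intro χ hχ hχ1 h1
      have := (hXq χ hχ hχ1).2
      omega
    obtain ⟨hle, hex⟩ := Cfsg.Agent.Lib.helper6.BT.theta_sq hP D he2 hε hYe hnl hpsum hpsum2
    have heg' := Nat.le_of_dvd hg0' heg
    have hpe : p - 1 = 2 * e :=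
      le_antisymm hle (h19_le_half hep hp1 (lt_of_le_of_lt heg' hg))
    obtain ⟨χ₁, hχ₁, hδχ₁, hχ₁d⟩ := hex hpe
    have hχ₁1 : χ₁ ≠ trivChar G := by
      rintro rfl
      rw [htriv1] at hχ₁d
      omega
    have hge : g₀ = e := h19_eq_of_dvd heg hg0' (hpe ▸ hg)
    have hq2 := (hXq χ₁ hχ₁ hχ₁1).1
    rw [hχ₁d] at hq2
    have h3 : p + 1 ∣ p * q ^ b * e := by
      have h := irr_degree_dvd_card χ₁
      rw [hχ₁d, hcard, hge] at h
      exact h
    obtain ⟨hq2', c, hc⟩ := Cfsg.Agent.Lib.helper53.BU.ar_plus p q e b hp hq he2 hpe hq1 hq2 h3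
    obtain ⟨χ₂, hχ₂, hδ₂, hbig⟩ :=
      htail χ₁ hχ₁ hχ₁1 c (by rw [hχ₁d, hc, hq2']) (by rw [hfe, hge])
    rw [hge] at hbig
    exact ⟨h19_fin_plus hpe (by omega) hbig (hdsq χ₂), c, Or.inr (by omega)⟩
  · -- ε = -1
    have hfe : charDegree (θ₀ : G → ℂ) + e = p := hYf θ₀ hθ₀
    have hf2 := hθ₀d.2.2
    have hfg := hθ₀d.2.1
    have hef : e + 2 ≤ p := by omega
    have h2e : 2 * e ≤ p - 1 := h19_le_half hep hp1 (by omega)
    have hf : charDegree (θ₀ : G → ℂ) = p - e := by omega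
    have hge : g₀ = p - e := by
      rw [hf] at hfg
      exact h19_eq_of_dvd hfg hg0' (by omega)
    have hθd : charDegree (θ₀ : G → ℂ) = g₀ := by omega
    have hN' : e * N = q ^ b * (p - e) :=
      h19_card_cancel hp.pos (by rw [← hGN, hcard, hge])
    have hdeq := Cfsg.Agent.Lib.helper56.BT.deg_eq hP D θ₀ hθ₀
    have hsum : ∑ χ ∈ D.X.erase (trivChar G), D.δ χ * (charDegree (χ : G → ℂ) : ℤ) =
        -((p : ℤ) - (e : ℤ)) - 1 := by
      have hfz : (charDegree (θ₀ : G → ℂ) : ℤ) = (p : ℤ) - (e : ℤ) := by omega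
      rw [hε, hfz] at hdeq
      linarith
    have hScard : (D.X.erase (trivChar G)).card + 1 = e := by
      rw [Finset.card_erase_of_mem D.one_mem, D.cardX]
      omega
    have hSmem : ∀ χ ∈ D.X.erase (trivChar G), χ ∈ D.X ∧ χ ≠ trivChar G :=
      fun χ hχ => ⟨Finset.mem_of_mem_erase hχ, Finset.ne_of_mem_erase hχ⟩
    have hdd : ∀ χ ∈ D.X.erase (trivChar G), charDegree (χ : G → ℂ) ∣ q ^ b * (p - e) := by
      intro χ hχ
      obtain ⟨hχX, hχ1⟩ := hSmem χ hχ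
      have h1 := irr_degree_dvd_card χ
      rw [hcard, hge, mul_assoc] at h1
      have hcop : Nat.Coprime (charDegree (χ : G → ℂ)) p := by
        rw [Nat.coprime_comm, Nat.Prime.coprime_iff_not_dvd hp]
        intro hpd
        have hm := D.deg_X χ hχX
        have hpd' : (p : ℤ) ∣ (charDegree (χ : G → ℂ) : ℤ) := by exact_mod_cast hpd
        have h2 : (p : ℤ) ∣ D.δ χ :=
          Int.modEq_zero_iff_dvd.mp (hm.symm.trans (Int.modEq_zero_iff_dvd.mpr hpd'))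
        rcases D.δ_sq χ hχX with h | h <;> rw [h] at h2
        · have := Int.le_of_dvd one_pos h2
          omega
        · have := Int.le_of_dvd one_pos ((dvd_neg).mp h2)
          omega
      exact hcop.dvd_of_dvd_mul_left h1
    obtain ⟨hq2, hAB⟩ := Cfsg.Agent.Lib.helper56.BU.ar_minus p q e b N hp hq hpq he2 hep hef hN'
      (D.X.erase (trivChar G)) (fun χ => charDegree (χ : G → ℂ)) D.δ hScard
      (fun χ hχ => D.δ_sq χ (hSmem χ hχ).1)
      (fun χ hχ => (hXq χ (hSmem χ hχ).1 (hSmem χ hχ).2).1) hdd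
      (fun χ hχ => D.deg_X χ (hSmem χ hχ).1) hsum
    rcases hAB with ⟨he, χ', hχ'S, hδ', hd', k, hk⟩ | ⟨he4, hpe, a, ha⟩
    · -- e = 2
      obtain ⟨hχ'X, hχ'1⟩ := hSmem χ' hχ'S
      obtain ⟨χ₂, hχ₂, hδ₂, hbig⟩ := htail χ' hχ'X hχ'1 k (by rw [hd', hk, hq2]) hθd
      have hχ₂1 : χ₂ ≠ trivChar G := by
        rintro rfl
        rw [hδ1, hε] at hδ₂
        omega
      have hχ₂S : χ₂ ∈ D.X.erase (trivChar G) := Finset.mem_erase.mpr ⟨hχ₂1, hχ₂⟩
      have hc1 : (D.X.erase (trivChar G)).card = 1 := by omega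
      obtain ⟨a, ha⟩ := Finset.card_eq_one.mp hc1
      rw [ha, Finset.mem_singleton] at hχ₂S hχ'S
      have hd2 : charDegree (χ₂ : G → ℂ) = p - 1 := by rw [hχ₂S, ← hχ'S]; exact hd'
      rw [hd2, hge, he] at hbig
      exact ⟨h19_fin_two hp3 hbig, k, Or.inl (by omega)⟩
    · -- e = 2^a ≥ 4, p = 2e + 1
      have hYd' : ∀ θ ∈ D.Y, charDegree (θ : G → ℂ) = e + 1 := by
        intro θ hθ
        have := hYf θ hθ
        omega
      have hX' : ∀ χ ∈ D.X, χ ≠ trivChar G → p - 1 ≤ charDegree (χ : G → ℂ) :=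
        fun χ hχ hχ1 => (hXq χ hχ hχ1).2
      obtain ⟨χ₁, hχ₁, hδχ₁, hχ₁d⟩ :=
        Cfsg.Agent.Lib.helper72.BU.theta_cross hP D he4 hpe hε hYd' hX' hpsum hpsum2 horth
      have hχ₁1 : χ₁ ≠ trivChar G := by
        rintro rfl
        rw [hδ1] at hδχ₁
        omega
      obtain ⟨χ₂, hχ₂, hδ₂, hbig⟩ :=
        htail χ₁ hχ₁ hχ₁1 (a + 1) (by rw [hχ₁d, hpe, ha, hq2, pow_succ]; ring) hθd
      have hpe1 : p - e = e + 1 := by omega
      have hN'' : e * N = 2 ^ b * (e + 1) := by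
        rw [hN', hq2, hpe1]
      have h1 : e * N ≤ charDegree (χ₂ : G → ℂ) * (e + 1) := by
        rw [hge, hpe1] at hbig
        exact hbig
      refine ⟨Cfsg.Agent.Lib.helper56.BU.ar_fin_minus p e a b N _ hpe ha he4 hN'' h1 (hdsq χ₂), a + 1, Or.inl ?_⟩
      rw [pow_succ, ← ha]
      omega

/-- MAIN : an element of order `p` with `C(z) = ⟨z⟩`, few Sylow `p`-subgroups, `p = 2^m ± 1`. -/
theorem bu_main [IsSimpleGroup G] (hG : ¬ IsCyclic G) (q b g₀ : ℕ) (hq : q.Prime) (hpq : p ≠ q)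
    (hcard : Nat.card G = p * q ^ b * g₀) (hg : g₀ < p - 1) :
    ∃ z : G, orderOf z = p ∧ Subgroup.centralizer ({z} : Set G) = Subgroup.zpowers z ∧
      2 * Nat.card (Sylow p G) < (p + 1) * (p + 2) ∧
      ∃ m : ℕ, p = 2 ^ m + 1 ∨ p = 2 ^ m - 1 := by
  classical
  have hp : p.Prime := Fact.out
  have hG0 : Nat.card G ≠ 0 := Nat.card_pos.ne'
  have hg0 : g₀ ≠ 0 := by
    rintro rfl
    rw [mul_zero] at hcard
    exact hG0 hcard
  obtain ⟨P⟩ : Nonempty (Sylow p G) := inferInstance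
  have hpm : ¬ p ∣ q ^ b * g₀ := by
    intro h2
    rcases (Nat.Prime.dvd_mul hp).mp h2 with h3 | h3
    · exact hpq ((Nat.prime_dvd_prime_iff_eq hp hq).mp (hp.dvd_of_dvd_pow h3))
    · have := Nat.le_of_dvd (Nat.pos_of_ne_zero hg0) h3
      omega
  have hP : Nat.card P = p :=
    Cfsg.Agent.Lib.helper29.BT.sylow_card_prime p (q ^ b * g₀) (by rw [hcard, mul_assoc]) hpm P
  have hC := cent_self (P := P) q b g₀ hq hpq hcard hg hP
  obtain ⟨e, he2, hep, hN, ⟨D⟩⟩ := Cfsg.Agent.Lib.helper20.BT.exists_data_simple hG hP hC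
  obtain ⟨x, hx, hx1⟩ := Cfsg.Agent.Lib.helper56.BT.h56_exists_ne_one (P := P) hP
  obtain ⟨hPz, hxo⟩ := Cfsg.Agent.Lib.helper46.d1gs_eq_zpowers p (P : Subgroup G) hP x hx hx1
  have hCx : Subgroup.centralizer ({x} : Set G) = Subgroup.zpowers x := by
    rw [Cfsg.Agent.Lib.helper21.BR.centralizer_singleton_eq p (P : Subgroup G) hP x hx hx1, hC]
    exact hPz
  exact ⟨x, hxo, hCx, bu_core hG q b g₀ hq hpq hcard hg hP hC he2 hep hN D _ rfl⟩

end Cfsg.Agent.Lib.helper19.BU
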