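import Mathlib
import Cfsg.Prelude.Def_Characters
import Cfsg.Agent.Lib.helper82.GlaubSub
import Cfsg.Agent.Lib.helper82.CliffordCorr
import Cfsg.Agent.Lib.helper1.Coprime
import Cfsg.Agent.Lib.helper4.CharTheory

/-!
# Coprime actions on sets of irreducible characters (helper19)

* `autIrr`, `autPerm` : the action of `MulAut N` on `IrrCharacter N`.
* `exists_fixed_of_coprime` : Glauberman's lemma for two groups acting on a finite set.
* `clifford_conj_sub`, `exists_constituent_res` : Clifford conjugacy inside an ambient group.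
* `exists_invariant_constituent` : an `S`-invariant irreducible character of `G` has an
  `S`-invariant constituent on an `S`-invariant normal subgroup of coprime index.
-/

set_option autoImplicit false

namespace Cfsg.Agent.Lib.helper19

open Cfsg
open scoped ComplexConjugate Pointwise

universe u

section AutIrr

variable {N : Type u} [Group N]

/-- Action of an automorphism on an irreducible character: `θ ↦ θ ∘ α⁻¹`. -/
noncomputable def autIrr (α : MulAut N) (θ : IrrCharacter N) : IrrCharacter N :=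
  ⟨fun n => (θ : N → ℂ) (α⁻¹ n), helper82.isIrrCharacter_comp_aut α⁻¹ θ.2⟩

theorem autIrr_apply (α : MulAut N) (θ : IrrCharacter N) (n : N) :
    (autIrr α θ : N → ℂ) n = (θ : N → ℂ) (α⁻¹ n) := rfl

theorem autIrr_one (θ : IrrCharacter N) : autIrr 1 θ = θ := by
  apply Subtype.ext
  funext n
  simp [autIrr_apply]

theorem autIrr_mul (α β : MulAut N) (θ : IrrCharacter N) :
    autIrr (α * β) θ = autIrr α (autIrr β θ) := by
  apply Subtype.ext
  funext n
  simp [autIrr_apply, mul_inv_rev]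

/-- The action as a homomorphism to permutations. -/
noncomputable def autPerm : MulAut N →* Equiv.Perm (IrrCharacter N) where
  toFun α :=
    { toFun := autIrr α
      invFun := autIrr α⁻¹
      left_inv := fun θ => by rw [← autIrr_mul, inv_mul_cancel, autIrr_one]
      right_inv := fun θ => by rw [← autIrr_mul, mul_inv_cancel, autIrr_one] }
  map_one' := by
    ext θ
    exact congrArg (fun t : IrrCharacter N => (t : N → ℂ) _) (autIrr_one θ)
  map_mul' := fun α β => by
    ext θ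
    exact congrArg (fun t : IrrCharacter N => (t : N → ℂ) _) (autIrr_mul α β θ)

theorem autPerm_apply (α : MulAut N) (θ : IrrCharacter N) : autPerm α θ = autIrr α θ := rfl

end AutIrr

/-- Glauberman's lemma for two groups acting on a set, via the symmetric group. -/
theorem exists_fixed_of_coprime {X : Type*} [Finite X] {S G : Type*} [Group S] [Group G]
    (σ : S →* Equiv.Perm X) (τ : G →* Equiv.Perm X)
    (hnorm : ∀ s g, ∃ g', σ s * τ g * (σ s)⁻¹ = τ g')
    (hcop : (Nat.card σ.range).Coprime (Nat.card τ.range))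
    (hsolv : Group.IsSolvable σ.range ∨ Group.IsSolvable τ.range) (x₀ : X)
    (htrans : ∀ s, ∃ g, τ g (σ s x₀) = x₀) : ∃ g, ∀ s, σ s (τ g x₀) = τ g x₀ := by
  have hAK : σ.range ≤ Subgroup.normalizer (τ.range : Set (Equiv.Perm X)) := by
    rintro _ ⟨s, rfl⟩
    rw [Subgroup.mem_normalizer_iff]
    intro k
    constructor
    · rintro ⟨g, rfl⟩
      obtain ⟨g', hg'⟩ := hnorm s g
      exact ⟨g', hg'.symm⟩
    · rintro ⟨g', hg'⟩
      obtain ⟨g'', hg''⟩ := hnorm s⁻¹ g'
      refine ⟨g'', ?_⟩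
      rw [← hg'', hg', map_inv]
      group
  obtain ⟨n, ⟨g, rfl⟩, hn⟩ := helper1.glauberman_exists σ.range τ.range
    (MulAction.stabilizer (Equiv.Perm X) x₀) hAK hcop hsolv (by
      rintro _ ⟨s, rfl⟩
      obtain ⟨g, hg⟩ := htrans s
      refine ⟨τ g, ⟨g, rfl⟩, ?_⟩
      rw [MulAction.mem_stabilizer_iff, Equiv.Perm.smul_def, Equiv.Perm.mul_apply]
      exact hg)
  refine ⟨g⁻¹, fun s => ?_⟩
  have h1 : MulAut.conj (τ g) • σ s ∈ MulAut.conj (τ g) • σ.range :=
    Subgroup.smul_mem_pointwise_smul _ _ _ ⟨s, rfl⟩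
  have h2 := hn h1
  rw [MulAction.mem_stabilizer_iff, MulAut.smul_def, MulAut.conj_apply, Equiv.Perm.smul_def,
    Equiv.Perm.mul_apply, Equiv.Perm.mul_apply] at h2
  rw [map_inv]
  have h3 := congrArg (fun y => (τ g)⁻¹ y) h2
  simpa using h3

section Sub

variable {Γ : Type u} [Group Γ]

theorem conjHom_inv_coe (G S : Subgroup Γ) (hnorm : ∀ s ∈ S, ∀ g ∈ G, s * g * s⁻¹ ∈ G)
    (s : S) (g : G) :
    (((helper82.conjHom G S hnorm s)⁻¹ g : G) : Γ) = (s : Γ)⁻¹ * g * (s : Γ) := rfl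

/-- The restriction of an irreducible character to a subgroup has an irreducible constituent. -/
theorem exists_constituent_res (G N : Subgroup Γ) [Fintype G] [Fintype N] (hNG : N ≤ G)
    (χ : IrrCharacter G) :
    ∃ θ : IrrCharacter N, classInner (fun n : N => (χ : G → ℂ) ⟨n, hNG n.2⟩) (θ : N → ℂ) ≠ 0 := by
  classical
  by_contra hcon
  have h0 : ∀ θ : IrrCharacter N,
      classInner (fun n : N => (χ : G → ℂ) ⟨n, hNG n.2⟩) (θ : N → ℂ) = 0 := by
    intro θ
    by_contra h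
    exact hcon ⟨θ, h⟩
  have hcf : IsClassFunction N (fun n : N => (χ : G → ℂ) ⟨n, hNG n.2⟩) := by
    intro g h
    exact helper4.isClassFunction_of_isIrrCharacter χ.2 ⟨g, hNG g.2⟩ ⟨h, hNG h.2⟩
  have := Fintype.ofFinite (IrrCharacter N)
  have h1 := helper4.classFunction_eq_sum_irr hcf
  have h2 := congrFun h1 1
  rw [Finset.sum_apply] at h2
  simp only [h0, zero_smul, Pi.zero_apply, Finset.sum_const_zero] at h2
  exact helper83.irr_one_ne_zero χ h2

/-- Clifford: two constituents of `χ_N` are conjugate under `G`. -/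
theorem clifford_conj_sub (G N : Subgroup Γ) [Fintype G] [Fintype N] (hNG : N ≤ G)
    [hNn : (N.subgroupOf G).Normal] {χ : G → ℂ} (hχ : IsIrrCharacter G χ) {θ φ : N → ℂ}
    (hθ : IsIrrCharacter N θ) (hφ : IsIrrCharacter N φ)
    (h1 : classInner (fun n : N => χ ⟨n, hNG n.2⟩) θ ≠ 0)
    (h2 : classInner (fun n : N => χ ⟨n, hNG n.2⟩) φ ≠ 0) :
    ∃ x : G, ∀ n m : N, (m : Γ) = (x : Γ)⁻¹ * n * x → φ n = θ m := by
  classical
  have : Fintype (N.subgroupOf G) := Fintype.ofFinite _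
  have h1' : classInner (fun n : N.subgroupOf G => χ n) (helper82.subRes N G θ) ≠ 0 := by
    rw [← helper82.subRes_restrict N G hNG χ, helper82.classInner_subRes N G hNG]
    exact h1
  have h2' : classInner (fun n : N.subgroupOf G => χ n) (helper82.subRes N G φ) ≠ 0 := by
    rw [← helper82.subRes_restrict N G hNG χ, helper82.classInner_subRes N G hNG]
    exact h2
  obtain ⟨x, hx⟩ := helper82.clifford_conj (N := N.subgroupOf G) hχ
    (helper82.isIrrCharacter_subRes N G hNG hθ) (helper82.isIrrCharacter_subRes N G hNG hφ) h1' h2'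
  refine ⟨x, fun n m hm => ?_⟩
  have h3 := congrFun hx ⟨⟨n, hNG n.2⟩, Subgroup.mem_subgroupOf.mpr n.2⟩
  rw [helper82.subRes_apply, helper82.cconj_apply, helper82.subRes_apply] at h3
  have h4 : (⟨(n : Γ), n.2⟩ : N) = n := rfl
  rw [show φ n = φ ⟨((⟨⟨n, hNG n.2⟩, Subgroup.mem_subgroupOf.mpr n.2⟩ : N.subgroupOf G) : G),
    Subgroup.mem_subgroupOf.mp (⟨⟨n, hNG n.2⟩, Subgroup.mem_subgroupOf.mpr n.2⟩ :
      N.subgroupOf G).2⟩ from rfl, h3]
  congr 1
  exact Subtype.ext hm.symm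

end Sub

section Main

variable {Γ : Type u} [Group Γ]

theorem conjHom_conj (G S N : Subgroup Γ) (hnorm : ∀ s ∈ S, ∀ g ∈ G, s * g * s⁻¹ ∈ G)
    (hGN : ∀ g ∈ G, ∀ n ∈ N, g * n * g⁻¹ ∈ N) (hNS : ∀ s ∈ S, ∀ n ∈ N, s * n * s⁻¹ ∈ N)
    (s : S) (g : G) :
    helper82.conjHom N S hNS s * helper82.conjHom N G hGN g * (helper82.conjHom N S hNS s)⁻¹ =
      helper82.conjHom N G hGN ⟨s * g * s⁻¹, hnorm s s.2 g g.2⟩ := by
  apply MulEquiv.ext
  intro n
  apply Subtype.ext
  simp only [MulAut.mul_apply]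
  rw [helper82.conjHom_apply, helper82.conjHom_apply, conjHom_inv_coe, helper82.conjHom_apply]
  simp [mul_assoc]

/-- Multiplicities in a restriction are unchanged by conjugation with elements fixing `χ`. -/
theorem classInner_res_autIrr (G N X : Subgroup Γ) [Fintype G] [Fintype N] (hNG : N ≤ G)
    (hXN : ∀ x ∈ X, ∀ n ∈ N, x * n * x⁻¹ ∈ N) (χ : G → ℂ)
    (hχ : ∀ x ∈ X, ∀ n n' : N, (n' : Γ) = x * n * x⁻¹ → χ ⟨n', hNG n'.2⟩ = χ ⟨n, hNG n.2⟩)
    (x : X) (θ : IrrCharacter N) :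
    classInner (fun n : N => χ ⟨n, hNG n.2⟩) (autIrr (helper82.conjHom N X hXN x) θ : N → ℂ) =
      classInner (fun n : N => χ ⟨n, hNG n.2⟩) (θ : N → ℂ) := by
  have h1 := helper82.classInner_comp_equiv ((helper82.conjHom N X hXN x)⁻¹ : N ≃* N)
    (fun n : N => χ ⟨n, hNG n.2⟩) (θ : N → ℂ)
  rw [← h1]
  congr 1
  funext n
  exact hχ x x.2 ((helper82.conjHom N X hXN x)⁻¹ n) n (by rw [conjHom_inv_coe]; group)

/-- The kernel of the action of `G` on `Irr N` contains `N`. -/
theorem subgroupOf_le_ker_autPerm (G N : Subgroup Γ) (hNG : N ≤ G)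
    (hGN : ∀ g ∈ G, ∀ n ∈ N, g * n * g⁻¹ ∈ N) :
    N.subgroupOf G ≤ (autPerm.comp (helper82.conjHom N G hGN)).ker := by
  intro x hx
  have hx' : (x : Γ) ∈ N := Subgroup.mem_subgroupOf.mp hx
  rw [MonoidHom.mem_ker]
  apply Equiv.ext
  intro θ
  apply Subtype.ext
  funext n
  show (θ : N → ℂ) ((helper82.conjHom N G hGN x)⁻¹ n) = (θ : N → ℂ) n
  have h1 := helper4.isClassFunction_of_isIrrCharacter θ.2 n ⟨(x : Γ)⁻¹, N.inv_mem hx'⟩
  have h2 : (helper82.conjHom N G hGN x)⁻¹ n =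
      (⟨(x : Γ)⁻¹, N.inv_mem hx'⟩ : N) * n * (⟨(x : Γ)⁻¹, N.inv_mem hx'⟩ : N)⁻¹ := by
    apply Subtype.ext
    rw [conjHom_inv_coe]
    simp
  rw [h2]
  exact h1

/-- Isaacs 13.27: an `S`-invariant irreducible character of `G` has an `S`-invariant irreducible
constituent on an `S`-invariant normal subgroup `N` with `(|G:N|, |S|) = 1`. -/
theorem exists_invariant_constituent (G S N : Subgroup Γ) [Fintype G] [Fintype N]
    (hnorm : ∀ s ∈ S, ∀ g ∈ G, s * g * s⁻¹ ∈ G) (hNG : N ≤ G)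
    [hNn : (N.subgroupOf G).Normal] (hNS : ∀ s ∈ S, ∀ n ∈ N, s * n * s⁻¹ ∈ N)
    (hcop : (N.relIndex G).Coprime (Nat.card S))
    (hsolv : Group.IsSolvable S ∨ Group.IsSolvable (G ⧸ N.subgroupOf G))
    (χ : IrrCharacter G)
    (hinv : ∀ s ∈ S, ∀ g g' : G, (g' : Γ) = s * g * s⁻¹ → (χ : G → ℂ) g' = (χ : G → ℂ) g) :
    ∃ θ : IrrCharacter N,
      classInner (fun n : N => (χ : G → ℂ) ⟨n, hNG n.2⟩) (θ : N → ℂ) ≠ 0 ∧
      (∀ s ∈ S, ∀ g g' : N, (g' : Γ) = s * g * s⁻¹ → (θ : N → ℂ) g' = (θ : N → ℂ) g) := by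
  classical
  have hGN : ∀ g ∈ G, ∀ n ∈ N, g * n * g⁻¹ ∈ N := by
    intro g hg n hn
    exact Subgroup.mem_subgroupOf.mp
      (hNn.conj_mem ⟨n, hNG hn⟩ (Subgroup.mem_subgroupOf.mpr hn) ⟨g, hg⟩)
  obtain ⟨θ₀, hθ₀⟩ := exists_constituent_res G N hNG χ
  have hχS : ∀ x ∈ S, ∀ n n' : N, (n' : Γ) = x * n * x⁻¹ →
      (χ : G → ℂ) ⟨n', hNG n'.2⟩ = (χ : G → ℂ) ⟨n, hNG n.2⟩ :=
    fun x hx n n' h => hinv x hx ⟨n, hNG n.2⟩ ⟨n', hNG n'.2⟩ h
  have hχG : ∀ x ∈ G, ∀ n n' : N, (n' : Γ) = x * n * x⁻¹ →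
      (χ : G → ℂ) ⟨n', hNG n'.2⟩ = (χ : G → ℂ) ⟨n, hNG n.2⟩ := by
    intro x hx n n' h
    have h1 := helper4.isClassFunction_of_isIrrCharacter χ.2 ⟨n, hNG n.2⟩ ⟨x, hx⟩
    have h2 : (⟨n', hNG n'.2⟩ : G) = ⟨x, hx⟩ * ⟨n, hNG n.2⟩ * (⟨x, hx⟩ : G)⁻¹ := Subtype.ext h
    rw [h2]
    exact h1
  have hker := subgroupOf_le_ker_autPerm G N hNG hGN
  have hfin : Finite (IrrCharacter N) := inferInstance
  have key : ∃ g, ∀ s, (autPerm.comp (helper82.conjHom N S hNS)) s
      ((autPerm.comp (helper82.conjHom N G hGN)) g θ₀) =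
        (autPerm.comp (helper82.conjHom N G hGN)) g θ₀ := by
    refine exists_fixed_of_coprime (autPerm.comp (helper82.conjHom N S hNS))
      (autPerm.comp (helper82.conjHom N G hGN)) ?_ ?_ ?_ θ₀ ?_
    · intro s g
      refine ⟨⟨s * g * s⁻¹, hnorm s s.2 g g.2⟩, ?_⟩
      simp only [MonoidHom.comp_apply]
      rw [← map_inv, ← map_mul, ← map_mul, conjHom_conj G S N hnorm hGN hNS]
    · have h1 : Nat.card (autPerm.comp (helper82.conjHom N S hNS)).range ∣ Nat.card S :=
        Subgroup.card_range_dvd _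
      have h2 : Nat.card (autPerm.comp (helper82.conjHom N G hGN)).range ∣ N.relIndex G := by
        rw [← Subgroup.index_ker]
        exact Subgroup.index_dvd_of_le hker
      exact Nat.Coprime.coprime_dvd_right h2 (Nat.Coprime.coprime_dvd_left h1 hcop.symm)
    · rcases hsolv with h | h
      · left
        exact Group.isSolvable_of_surjective
          (f := (autPerm.comp (helper82.conjHom N S hNS)).rangeRestrict)
          (MonoidHom.rangeRestrict_surjective _)
      · right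
        have hφ : ∀ q, QuotientGroup.lift (N.subgroupOf G)
            (autPerm.comp (helper82.conjHom N G hGN)) hker q ∈
              (autPerm.comp (helper82.conjHom N G hGN)).range := by
          intro q
          induction q using QuotientGroup.induction_on with
          | H g => exact ⟨g, rfl⟩
        exact Group.isSolvable_of_surjective
          (f := (QuotientGroup.lift (N.subgroupOf G)
            (autPerm.comp (helper82.conjHom N G hGN)) hker).codRestrict _ hφ) (by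
            rintro ⟨_, ⟨g, rfl⟩⟩
            exact ⟨(g : G ⧸ N.subgroupOf G), Subtype.ext rfl⟩)
    · intro s
      have h1 : classInner (fun n : N => (χ : G → ℂ) ⟨n, hNG n.2⟩)
          (autIrr (helper82.conjHom N S hNS s) θ₀ : N → ℂ) ≠ 0 := by
        rw [classInner_res_autIrr G N S hNG hNS (χ : G → ℂ) hχS s θ₀]
        exact hθ₀
      obtain ⟨x, hx⟩ := clifford_conj_sub G N hNG χ.2
        (autIrr (helper82.conjHom N S hNS s) θ₀).2 θ₀.2 h1 hθ₀
      refine ⟨x, Subtype.ext (funext fun n => ?_)⟩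
      exact (hx n ((helper82.conjHom N G hGN x)⁻¹ n) (conjHom_inv_coe N G hGN x n)).symm
  obtain ⟨g, hg⟩ := key
  · refine ⟨autIrr (helper82.conjHom N G hGN g) θ₀, ?_, ?_⟩
    · rw [classInner_res_autIrr G N G hNG hGN (χ : G → ℂ) hχG g θ₀]
      exact hθ₀
    · intro s hs n n' hn'
      have h1 := hg ⟨s, hs⟩
      have h2 := congrArg (fun t : IrrCharacter N => (t : N → ℂ) n') h1
      have h3 : (helper82.conjHom N S hNS ⟨s, hs⟩)⁻¹ n' = n := by
        apply Subtype.ext
        rw [conjHom_inv_coe, hn']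
        simp [mul_assoc]
      show (autIrr (helper82.conjHom N G hGN g) θ₀ : N → ℂ) n' =
        (autIrr (helper82.conjHom N G hGN g) θ₀ : N → ℂ) n
      rw [← h3]
      exact h2.symm

end Main

end Cfsg.Agent.Lib.helper19
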