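import Mathlib
import Cfsg.Prelude.Def_Characters
import Cfsg.Agent.Lib.helper19.CoprimeOrb
import Cfsg.Agent.Lib.helper19.AbelianOver
import Cfsg.Agent.Lib.helper19.LinChar
import Cfsg.Agent.Lib.helper5.NormalDeg

/-!
# Invariant characters over invariant characters, coprime action (helper19)

* `exists_linear_mul_eq` : `G/N` abelian, `θ` invariant: `Irr(G/N)` is transitive on `Irr(G|θ)`.
* `linKer`, `linMulIrr`, `linMulPerm` : multiplication by linear characters as permutations.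
* `exists_invariant_over_abelian_inv` : `G/N` abelian, `θ ∈ Irr(N)` invariant in `G` and under a
  group `S` of automorphisms with `(|G:N|,|S|) = 1`: some `χ ∈ Irr(G|θ)` is `S`-invariant.
-/

set_option autoImplicit false

namespace Cfsg.Agent.Lib.helper19

open scoped ComplexConjugate
open Cfsg
open Cfsg.Agent.Lib.helper4

universe u

/-- If `G/N` is abelian and `θ` is `G`-invariant, any two irreducible characters of `G` over `θ`
differ by a linear character trivial on `N`. -/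
theorem exists_linear_mul_eq {G : Type*} [Group G] [Fintype G] (N : Subgroup G) [hN : N.Normal]
    [Fintype N] (hab : ∀ x y : G, x * y * x⁻¹ * y⁻¹ ∈ N) (θ : N → ℂ) (hθ : IsIrrCharacter N θ)
    (hinv : ∀ (g : G) (n : N), θ ⟨g * n * g⁻¹, hN.conj_mem (n : G) n.2 g⟩ = θ n)
    (ψ χ : IrrCharacter G) (hψ : classInner (fun n : N => (ψ : G → ℂ) n) θ ≠ 0)
    (hχ : classInner (fun n : N => (χ : G → ℂ) n) θ ≠ 0) :
    ∃ f : G →* ℂˣ, (∀ n ∈ N, f n = 1) ∧ ∀ g, (χ : G → ℂ) g = (ψ : G → ℂ) g * (f g : ℂ) := by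
  classical
  have hfin : Fintype (IrrCharacter G) := Fintype.ofFinite _
  have hres := restrict_of_invariant N θ hθ hinv ψ ψ.2 hψ
  have hπ := indFun_one_eq_sum_linear N hab
  have hstar : (ψ : G → ℂ) * indFun N (fun _ => (1 : ℂ)) =
      classInner (fun n : N => (ψ : G → ℂ) n) θ • indFun N θ := by
    have h1 := indFun_mul_restrict N (fun _ => (1 : ℂ)) (ψ : G → ℂ)
      (isClassFunction_of_isIrrCharacter ψ.2)
    rw [mul_comm, ← h1]
    have : ((fun _ : N => (1 : ℂ)) * fun n : N => (ψ : G → ℂ) n) =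
        classInner (fun n : N => (ψ : G → ℂ) n) θ • θ := by
      rw [← hres]
      funext n
      simp
    rw [this, indFun_smul]
  have h2 : classInner (indFun N θ) (χ : G → ℂ) ≠ 0 := by
    rw [frobenius_reciprocity N θ (isClassFunction_of_isIrrCharacter χ.2), ← classInner_conj_symm]
    exact (map_ne_zero _).mpr hχ
  have h3 : classInner ((ψ : G → ℂ) * indFun N (fun _ => (1 : ℂ))) (χ : G → ℂ) ≠ 0 := by
    rw [hstar, classInner_smul_left]
    exact mul_ne_zero hψ h2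
  rw [hπ, Finset.mul_sum, classInner_sum_left] at h3
  obtain ⟨lam, hlam, hne⟩ := Finset.exists_ne_zero_of_sum_ne_zero h3
  have hlamN := (Finset.mem_filter.1 hlam).2
  have hl1 : (lam : G → ℂ) 1 = 1 := linear_of_abelian_quot N hab lam lam.2 hlamN
  have hirr := isIrr_mul_linear (ψ : G → ℂ) (lam : G → ℂ) ψ.2 lam.2 hl1
  have heq : (ψ : G → ℂ) * (lam : G → ℂ) = (χ : G → ℂ) := by
    by_contra h
    exact hne (classInner_irr_ne hirr χ.2 h)
  obtain ⟨f, hf⟩ := exists_hom_of_linear (lam : G → ℂ) (isCharacter_of_isIrrCharacter lam.2) hl1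
  refine ⟨f, ?_, ?_⟩
  · intro n hn
    apply Units.ext
    rw [← hf, hlamN n hn, hl1]
    simp
  · intro g
    rw [← heq, Pi.mul_apply, hf]

section AbInv

variable {G : Type u} [Group G] [Fintype G]

/-- The linear characters of `G` trivial on `N`. -/
def linKer (N : Subgroup G) : Subgroup (G →* ℂˣ) where
  carrier := {f | ∀ n ∈ N, f n = 1}
  mul_mem' := by
    intro a b ha hb n hn
    rw [MonoidHom.mul_apply, ha n hn, hb n hn, one_mul]
  one_mem' := by
    intro n _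
    rfl
  inv_mem' := by
    intro a ha n hn
    rw [MonoidHom.inv_apply, ha n hn, inv_one]

theorem mem_linKer (N : Subgroup G) (f : G →* ℂˣ) : f ∈ linKer N ↔ ∀ n ∈ N, f n = 1 := Iff.rfl

/-- Multiplication by a linear character on `Irr(G)`. -/
noncomputable def linMulIrr (f : G →* ℂˣ) (χ : IrrCharacter G) : IrrCharacter G :=
  ⟨(χ : G → ℂ) * (fun g => (f g : ℂ)),
    isIrr_mul_linear _ _ χ.2 (helper82.isIrrCharacter_of_hom f) (by simp)⟩

theorem linMulIrr_apply (f : G →* ℂˣ) (χ : IrrCharacter G) (g : G) :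
    (linMulIrr f χ : G → ℂ) g = (χ : G → ℂ) g * (f g : ℂ) := rfl

theorem linMulIrr_one (χ : IrrCharacter G) : linMulIrr 1 χ = χ :=
  Subtype.ext (funext fun g => by simp [linMulIrr_apply])

theorem linMulIrr_mul (f h : G →* ℂˣ) (χ : IrrCharacter G) :
    linMulIrr (f * h) χ = linMulIrr f (linMulIrr h χ) :=
  Subtype.ext (funext fun g => by
    simp only [linMulIrr_apply, MonoidHom.mul_apply, Units.val_mul]
    ring)

/-- Multiplication by linear characters, as a homomorphism to permutations of `Irr(G)`. -/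
noncomputable def linMulPerm : (G →* ℂˣ) →* Equiv.Perm (IrrCharacter G) where
  toFun f :=
    { toFun := linMulIrr f
      invFun := linMulIrr f⁻¹
      left_inv := fun χ => Subtype.ext (funext fun g => by
        rw [linMulIrr_apply, linMulIrr_apply, MonoidHom.inv_apply, mul_assoc, ← Units.val_mul,
          mul_inv_cancel, Units.val_one, mul_one])
      right_inv := fun χ => Subtype.ext (funext fun g => by
        rw [linMulIrr_apply, linMulIrr_apply, MonoidHom.inv_apply, mul_assoc, ← Units.val_mul,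
          inv_mul_cancel, Units.val_one, mul_one]) }
  map_one' := Equiv.ext fun χ => linMulIrr_one χ
  map_mul' := fun f h => Equiv.ext fun χ => linMulIrr_mul f h χ

theorem linMulPerm_apply (f : G →* ℂˣ) (χ : IrrCharacter G) :
    linMulPerm f χ = linMulIrr f χ := rfl

theorem pow_index_eq_one_of_mem_linKer (N : Subgroup G) [N.Normal] (f : G →* ℂˣ)
    (hf : f ∈ linKer N) : f ^ N.index = 1 := by
  apply MonoidHom.ext
  intro g
  rw [MonoidHom.pow_apply, ← map_pow, MonoidHom.one_apply]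
  exact hf _ (Subgroup.pow_index_mem N g)

/-- `G/N` abelian, `θ ∈ Irr(N)` invariant in `G` and under a group `S` acting on `G` with
`(|G:N|,|S|) = 1`: some irreducible character of `G` over `θ` is `S`-invariant. -/
theorem exists_invariant_over_abelian_inv (N : Subgroup G) [hN : N.Normal] [Fintype N]
    (hab : ∀ x y : G, x * y * x⁻¹ * y⁻¹ ∈ N) (θ : N → ℂ) (hθ : IsIrrCharacter N θ)
    (hinv : ∀ (g : G) (n : N), θ ⟨g * n * g⁻¹, hN.conj_mem (n : G) n.2 g⟩ = θ n)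
    {S : Type*} [Group S] (c : S →* MulAut G) (hcN : ∀ s, ∀ n ∈ N, c s n ∈ N)
    (hθS : ∀ s (n : N), θ ⟨c s n, hcN s n n.2⟩ = θ n)
    (hcop : (N.index).Coprime (Nat.card S)) :
    ∃ χ : IrrCharacter G, classInner (fun n : N => (χ : G → ℂ) n) θ ≠ 0 ∧
      ∀ s g, (χ : G → ℂ) (c s g) = (χ : G → ℂ) g := by
  classical
  obtain ⟨χ₁, hχ₁, e, he0, he, -⟩ := helper5.exists_irr_over N hθ
  obtain ⟨χ₀, hχ₀def⟩ : ∃ χ₀ : IrrCharacter G, χ₀ = ⟨χ₁, hχ₁⟩ := ⟨_, rfl⟩
  have hχ₀ : classInner (fun n : N => (χ₀ : G → ℂ) n) θ ≠ 0 := by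
    rw [hχ₀def]
    show classInner (fun n : N => χ₁ n) θ ≠ 0
    rw [he]
    exact_mod_cast he0
  have hres₀ := restrict_of_invariant N θ hθ hinv χ₀ χ₀.2 hχ₀
  have hcinv : ∀ s, ∀ n ∈ N, (c s)⁻¹ n ∈ N := by
    intro s n hn
    rw [← map_inv]
    exact hcN s⁻¹ n hn
  have hfin : Finite (IrrCharacter G) := inferInstance
  have key : ∃ f : linKer N, ∀ s, (autPerm.comp c) s
      ((linMulPerm.comp (linKer N).subtype) f χ₀) = (linMulPerm.comp (linKer N).subtype) f χ₀ := by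
    refine exists_fixed_of_coprime (autPerm.comp c) (linMulPerm.comp (linKer N).subtype)
      ?_ ?_ ?_ χ₀ ?_
    · intro s f
      refine ⟨⟨(f : G →* ℂˣ).comp ((c s)⁻¹ : MulAut G).toMonoidHom, ?_⟩, ?_⟩
      · intro n hn
        exact f.2 _ (hcinv s n hn)
      · apply Equiv.ext
        intro χ
        apply Subtype.ext
        funext g
        show (χ : G → ℂ) (((c s)⁻¹)⁻¹ ((c s)⁻¹ g)) * (((f : G →* ℂˣ) ((c s)⁻¹ g) : ℂˣ) : ℂ) =
          (χ : G → ℂ) g * (((f : G →* ℂˣ) ((c s)⁻¹ g) : ℂˣ) : ℂ)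
        rw [inv_inv, MulAut.apply_inv_self]
    · apply Nat.Coprime.symm
      apply Nat.coprime_of_dvd
      intro p hp hpτ hpσ
      have hpS : p ∣ Nat.card S := hpσ.trans (Subgroup.card_range_dvd _)
      have : Fact p.Prime := ⟨hp⟩
      obtain ⟨y, hy⟩ := exists_prime_orderOf_dvd_card' p hpτ
      have hy1 : y ^ N.index = 1 := by
        obtain ⟨y, ⟨f, rfl⟩⟩ := y
        apply Subtype.ext
        show (linMulPerm.comp (linKer N).subtype) f ^ N.index = 1
        rw [← map_pow]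
        have : f ^ N.index = 1 := Subtype.ext (pow_index_eq_one_of_mem_linKer N f f.2)
        rw [this, map_one]
      have hpN : p ∣ N.index := by
        rw [← hy]
        exact orderOf_dvd_of_pow_eq_one hy1
      have h1 := Nat.dvd_gcd hpN hpS
      rw [show Nat.gcd N.index (Nat.card S) = 1 from hcop] at h1
      exact hp.one_lt.ne' (Nat.dvd_one.mp h1)
    · right
      apply Group.isSolvable_of_comm
      rintro ⟨_, ⟨f, rfl⟩⟩ ⟨_, ⟨h, rfl⟩⟩
      apply Subtype.ext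
      show (linMulPerm.comp (linKer N).subtype) f * (linMulPerm.comp (linKer N).subtype) h =
        (linMulPerm.comp (linKer N).subtype) h * (linMulPerm.comp (linKer N).subtype) f
      rw [← map_mul, ← map_mul, mul_comm]
    · intro s
      have hσ : (fun n : N => ((autPerm.comp c) s χ₀ : G → ℂ) n) =
          classInner (fun n : N => (χ₀ : G → ℂ) n) θ • θ := by
        funext n
        show (χ₀ : G → ℂ) ((c s)⁻¹ n) = _
        have h1 := congrFun hres₀ ⟨(c s)⁻¹ n, hcinv s n n.2⟩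
        have h2 := hθS s ⟨(c s)⁻¹ n, hcinv s n n.2⟩
        have h3 : (⟨c s ((c s)⁻¹ n), hcN s _ (hcinv s n n.2)⟩ : N) = n :=
          Subtype.ext (MulAut.apply_inv_self _ _ _)
        rw [h3] at h2
        rw [Pi.smul_apply, smul_eq_mul, h2]
        exact h1
      have hσ' : classInner (fun n : N => ((autPerm.comp c) s χ₀ : G → ℂ) n) θ ≠ 0 := by
        rw [hσ, classInner_smul_left, classInner_irr_self hθ, mul_one]
        exact hχ₀
      obtain ⟨f, hfN, hf⟩ := exists_linear_mul_eq N hab θ hθ hinv ((autPerm.comp c) s χ₀) χ₀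
        hσ' hχ₀
      exact ⟨⟨f, hfN⟩, Subtype.ext (funext fun g => (hf g).symm)⟩
  obtain ⟨f, hf⟩ := key
  refine ⟨linMulIrr (f : G →* ℂˣ) χ₀, ?_, ?_⟩
  · have h1 : (fun n : N => (linMulIrr (f : G →* ℂˣ) χ₀ : G → ℂ) n) =
        fun n : N => (χ₀ : G → ℂ) n := by
      funext n
      rw [linMulIrr_apply, f.2 n n.2]
      simp
    rw [h1]
    exact hχ₀
  · intro s g
    have h1 := congrArg (fun t : IrrCharacter G => (t : G → ℂ) (c s g)) (hf s)
    have h2 : (linMulIrr (f : G →* ℂˣ) χ₀ : G → ℂ) ((c s)⁻¹ (c s g)) =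
        (linMulIrr (f : G →* ℂˣ) χ₀ : G → ℂ) (c s g) := h1
    rw [MulAut.inv_apply_self] at h2
    exact h2.symm

end AbInv

/-- Induction commutes with an automorphism preserving the subgroup and the function. -/
theorem indFun_comp_aut {G : Type*} [Group G] [Fintype G] (T : Subgroup G) (η : T → ℂ)
    (α : MulAut G) (hT : ∀ z, α z ∈ T ↔ z ∈ T) (hη : ∀ (z : T) (h : α z ∈ T), η ⟨α z, h⟩ = η z)
    (g : G) : indFun T η (α g) = indFun T η g := by
  rw [indFun_apply, indFun_apply]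
  congr 1
  rw [← Equiv.sum_comp α.toEquiv]
  apply Finset.sum_congr rfl
  intro y _
  show extendByZero T η ((α y)⁻¹ * α g * α y) = extendByZero T η (y⁻¹ * g * y)
  rw [← map_inv, ← map_mul, ← map_mul]
  by_cases hz : y⁻¹ * g * y ∈ T
  · rw [extendByZero_of_mem T η _ hz, extendByZero_of_mem T η _ ((hT _).mpr hz)]
    exact hη ⟨_, hz⟩ _
  · rw [extendByZero_of_not_mem T η _ hz,
      extendByZero_of_not_mem T η _ (fun h => hz ((hT _).mp h))]

section SubOver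

variable {Γ : Type u} [Group Γ]

/-- Γ-level form of `exists_invariant_over_abelian_inv`. -/
theorem exists_invariant_over_abelian_inv_sub (G S N : Subgroup Γ) [Fintype G] [Fintype N]
    (hnorm : ∀ s ∈ S, ∀ g ∈ G, s * g * s⁻¹ ∈ G) (hNG : N ≤ G)
    (hGN : ∀ g ∈ G, ∀ n ∈ N, g * n * g⁻¹ ∈ N)
    (hNS : ∀ s ∈ S, ∀ n ∈ N, s * n * s⁻¹ ∈ N)
    (hab : ∀ a ∈ G, ∀ b ∈ G, a * b * a⁻¹ * b⁻¹ ∈ N)
    (hcop : (N.relIndex G).Coprime (Nat.card S))
    (θ : IrrCharacter N)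
    (hGθ : ∀ x ∈ G, ∀ n n' : N, (n' : Γ) = x * n * x⁻¹ → (θ : N → ℂ) n' = (θ : N → ℂ) n)
    (hSθ : ∀ s ∈ S, ∀ n n' : N, (n' : Γ) = s * n * s⁻¹ → (θ : N → ℂ) n' = (θ : N → ℂ) n) :
    ∃ χ : IrrCharacter G,
      classInner (fun n : N => (χ : G → ℂ) ⟨n, hNG n.2⟩) (θ : N → ℂ) ≠ 0 ∧
      ∀ s ∈ S, ∀ g g' : G, (g' : Γ) = s * g * s⁻¹ → (χ : G → ℂ) g' = (χ : G → ℂ) g := by
  classical
  have hNn : (N.subgroupOf G).Normal :=
    ⟨fun n hn g => Subgroup.mem_subgroupOf.mpr (hGN g g.2 n (Subgroup.mem_subgroupOf.mp hn))⟩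
  have hfN : Fintype (N.subgroupOf G) := Fintype.ofFinite _
  obtain ⟨χ, hχ, hχS⟩ := exists_invariant_over_abelian_inv (N.subgroupOf G)
    (fun x y => Subgroup.mem_subgroupOf.mpr (hab x x.2 y y.2))
    (helper82.subRes N G (θ : N → ℂ)) (helper82.isIrrCharacter_subRes N G hNG θ.2)
    (fun g n => hGθ g g.2 ⟨(n : G), Subgroup.mem_subgroupOf.mp n.2⟩
      ⟨(g : Γ) * (n : G) * (g : Γ)⁻¹, hGN g g.2 _ (Subgroup.mem_subgroupOf.mp n.2)⟩ rfl)
    (helper82.conjHom G S hnorm)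
    (fun s n hn => Subgroup.mem_subgroupOf.mpr (hNS s s.2 n (Subgroup.mem_subgroupOf.mp hn)))
    (fun s n => hSθ s s.2 ⟨(n : G), Subgroup.mem_subgroupOf.mp n.2⟩
      ⟨(s : Γ) * (n : G) * (s : Γ)⁻¹, hNS s s.2 _ (Subgroup.mem_subgroupOf.mp n.2)⟩ rfl)
    hcop
  refine ⟨χ, ?_, ?_⟩
  · rw [← helper82.classInner_subRes N G hNG, helper82.subRes_restrict N G hNG]
    exact hχ
  · intro s hs g g' hg'
    have h1 := hχS ⟨s, hs⟩ g
    have h2 : g' = helper82.conjHom G S hnorm ⟨s, hs⟩ g := Subtype.ext hg'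
    rw [h2]
    exact h1

/-- The stabilizer in `G` of a function on `N`, as a subgroup of the ambient group. -/
def stabSub (G N : Subgroup Γ) (hGN : ∀ g ∈ G, ∀ n ∈ N, g * n * g⁻¹ ∈ N) (θ : N → ℂ) :
    Subgroup Γ where
  carrier := {x | x ∈ G ∧ ∀ n n' : N, (n' : Γ) = x * n * x⁻¹ → θ n' = θ n}
  mul_mem' := by
    rintro x y ⟨hx, hx'⟩ ⟨hy, hy'⟩
    refine ⟨G.mul_mem hx hy, fun n n' h => ?_⟩
    have h1 := hy' n ⟨y * n * y⁻¹, hGN y hy n n.2⟩ rfl
    have h2 := hx' ⟨y * n * y⁻¹, hGN y hy n n.2⟩ n' (by rw [h]; simp [mul_assoc])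
    rw [h2, h1]
  one_mem' := ⟨G.one_mem, fun n n' h => by
    have : n' = n := Subtype.ext (by rw [h]; simp)
    rw [this]⟩
  inv_mem' := by
    rintro x ⟨hx, hx'⟩
    refine ⟨G.inv_mem hx, fun n n' h => ?_⟩
    exact (hx' n' n (by rw [h]; simp [mul_assoc])).symm

theorem mem_stabSub (G N : Subgroup Γ) (hGN : ∀ g ∈ G, ∀ n ∈ N, g * n * g⁻¹ ∈ N) (θ : N → ℂ)
    (x : Γ) : x ∈ stabSub G N hGN θ ↔
      x ∈ G ∧ ∀ n n' : N, (n' : Γ) = x * n * x⁻¹ → θ n' = θ n := Iff.rfl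

theorem stabSub_le (G N : Subgroup Γ) (hGN : ∀ g ∈ G, ∀ n ∈ N, g * n * g⁻¹ ∈ N) (θ : N → ℂ) :
    stabSub G N hGN θ ≤ G := fun _ hx => hx.1

theorem le_stabSub (G N : Subgroup Γ) (hNG : N ≤ G) (hGN : ∀ g ∈ G, ∀ n ∈ N, g * n * g⁻¹ ∈ N)
    (θ : N → ℂ) (hθ : IsClassFunction N θ) : N ≤ stabSub G N hGN θ := by
  intro x hx
  refine ⟨hNG hx, fun n n' h => ?_⟩
  have h1 := hθ n ⟨x, hx⟩
  have h2 : n' = ⟨x, hx⟩ * n * (⟨x, hx⟩ : N)⁻¹ := Subtype.ext h
  rw [h2]
  exact h1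

theorem stabSub_conj (G S N : Subgroup Γ) (hnorm : ∀ s ∈ S, ∀ g ∈ G, s * g * s⁻¹ ∈ G)
    (hGN : ∀ g ∈ G, ∀ n ∈ N, g * n * g⁻¹ ∈ N) (hNS : ∀ s ∈ S, ∀ n ∈ N, s * n * s⁻¹ ∈ N)
    (θ : N → ℂ)
    (hSθ : ∀ s ∈ S, ∀ n n' : N, (n' : Γ) = s * n * s⁻¹ → θ n' = θ n) :
    ∀ s ∈ S, ∀ x ∈ stabSub G N hGN θ, s * x * s⁻¹ ∈ stabSub G N hGN θ := by
  rintro s hs x ⟨hx, hx'⟩
  refine ⟨hnorm s hs x hx, fun n n' h => ?_⟩
  have hm : s⁻¹ * n * s ∈ N := by
    have := hNS s⁻¹ (S.inv_mem hs) n n.2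
    simpa using this
  have h1 := hSθ s hs ⟨s⁻¹ * n * s, hm⟩ n (by simp [mul_assoc])
  have h2 := hx' ⟨s⁻¹ * n * s, hm⟩ ⟨x * (s⁻¹ * n * s) * x⁻¹, hGN x hx _ hm⟩ rfl
  have h3 := hSθ s hs ⟨x * (s⁻¹ * n * s) * x⁻¹, hGN x hx _ hm⟩ n' (by rw [h]; simp [mul_assoc])
  rw [h3, h2, h1]

theorem stabSub_subgroupOf (G N : Subgroup Γ) (hNG : N ≤ G)
    (hGN : ∀ g ∈ G, ∀ n ∈ N, g * n * g⁻¹ ∈ N) [hNn : (N.subgroupOf G).Normal] (θ : N → ℂ) :
    (stabSub G N hGN θ).subgroupOf G =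
      helper82.inertia (N.subgroupOf G) (helper82.subRes N G θ) := by
  ext g
  rw [Subgroup.mem_subgroupOf, helper82.mem_inertia_iff]
  constructor
  · rintro ⟨-, hg⟩ n
    exact hg ⟨(n : G), Subgroup.mem_subgroupOf.mp n.2⟩
      ⟨(g : Γ) * (n : G) * (g : Γ)⁻¹, hGN g g.2 _ (Subgroup.mem_subgroupOf.mp n.2)⟩ rfl
  · intro hg
    refine ⟨g.2, fun n n' h => ?_⟩
    have h1 := hg ⟨⟨n, hNG n.2⟩, Subgroup.mem_subgroupOf.mpr n.2⟩
    have h2 : n' = ⟨(g : Γ) * n * (g : Γ)⁻¹, hGN g g.2 n n.2⟩ := Subtype.ext h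
    rw [h2]
    exact h1

/-- Clifford correspondence, Γ-level: a character of the stabilizer over `θ` induces to an
irreducible character of `G` over `θ`, which is `S`-invariant if everything is. -/
theorem exists_induced_over (G S N : Subgroup Γ) [Fintype G] [Fintype N]
    (hnorm : ∀ s ∈ S, ∀ g ∈ G, s * g * s⁻¹ ∈ G) (hNG : N ≤ G)
    (hGN : ∀ g ∈ G, ∀ n ∈ N, g * n * g⁻¹ ∈ N)
    (hNS : ∀ s ∈ S, ∀ n ∈ N, s * n * s⁻¹ ∈ N)
    (θ : IrrCharacter N)
    (hSθ : ∀ s ∈ S, ∀ n n' : N, (n' : Γ) = s * n * s⁻¹ → (θ : N → ℂ) n' = (θ : N → ℂ) n)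
    (T : Subgroup Γ) (hT : T = stabSub G N hGN (θ : N → ℂ)) [Fintype T] (hNT : N ≤ T)
    (η : IrrCharacter T)
    (hη : classInner (fun n : N => (η : T → ℂ) ⟨n, hNT n.2⟩) (θ : N → ℂ) ≠ 0)
    (hηS : ∀ s ∈ S, ∀ t t' : T, (t' : Γ) = s * t * s⁻¹ → (η : T → ℂ) t' = (η : T → ℂ) t) :
    ∃ χ : IrrCharacter G,
      classInner (fun n : N => (χ : G → ℂ) ⟨n, hNG n.2⟩) (θ : N → ℂ) ≠ 0 ∧
      ∀ s ∈ S, ∀ g g' : G, (g' : Γ) = s * g * s⁻¹ → (χ : G → ℂ) g' = (χ : G → ℂ) g := by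
  classical
  have hNn : (N.subgroupOf G).Normal :=
    ⟨fun n hn g => Subgroup.mem_subgroupOf.mpr (hGN g g.2 n (Subgroup.mem_subgroupOf.mp hn))⟩
  have hfN : Fintype (N.subgroupOf G) := Fintype.ofFinite _
  have hfT : Fintype (T.subgroupOf G) := Fintype.ofFinite _
  have hTG : T ≤ G := by
    rw [hT]
    exact stabSub_le G N hGN _
  have hNT' : N.subgroupOf G ≤ T.subgroupOf G := by
    intro x hx
    exact Subgroup.mem_subgroupOf.mpr (hNT (Subgroup.mem_subgroupOf.mp hx))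
  have hT' : T.subgroupOf G = helper82.inertia (N.subgroupOf G) (helper82.subRes N G θ) := by
    rw [hT]
    exact stabSub_subgroupOf G N hNG hGN _
  have hηθ' : classInner (fun n : N.subgroupOf G =>
      helper82.subRes T G (η : T → ℂ) ⟨n, hNT' n.2⟩) (helper82.subRes N G (θ : N → ℂ)) ≠ 0 := by
    have h1 : (fun n : N.subgroupOf G => helper82.subRes T G (η : T → ℂ) ⟨n, hNT' n.2⟩) =
        helper82.subRes N G (fun n : N => (η : T → ℂ) ⟨n, hNT n.2⟩) := rfl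
    rw [h1, helper82.classInner_subRes N G hNG]
    exact hη
  obtain ⟨hirr, hover⟩ := helper82.clifford_corr_irr (N := N.subgroupOf G) (T := T.subgroupOf G)
    hNT' (helper82.isIrrCharacter_subRes N G hNG θ.2) hT'
    (helper82.isIrrCharacter_subRes T G hTG η.2) hηθ'
  refine ⟨⟨_, hirr⟩, ?_, ?_⟩
  · rw [← helper82.classInner_subRes N G hNG, helper82.subRes_restrict N G hNG]
    show classInner (fun n : N.subgroupOf G =>
      indFun (T.subgroupOf G) (helper82.subRes T G (η : T → ℂ)) n) _ ≠ 0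
    rw [hover]
    exact hηθ'
  · intro s hs g g' hg'
    have h2 : g' = helper82.conjHom G S hnorm ⟨s, hs⟩ g := Subtype.ext hg'
    rw [h2]
    show indFun (T.subgroupOf G) (helper82.subRes T G (η : T → ℂ))
      (helper82.conjHom G S hnorm ⟨s, hs⟩ g) =
        indFun (T.subgroupOf G) (helper82.subRes T G (η : T → ℂ)) g
    have hTS : ∀ s ∈ S, ∀ x ∈ T, s * x * s⁻¹ ∈ T := by
      rw [hT]
      exact stabSub_conj G S N hnorm hGN hNS _ hSθ
    apply indFun_comp_aut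
    · intro z
      rw [Subgroup.mem_subgroupOf, Subgroup.mem_subgroupOf]
      constructor
      · intro hz
        have h3 := hTS s⁻¹ (S.inv_mem hs) _ hz
        rw [helper82.conjHom_apply] at h3
        simpa [mul_assoc] using h3
      · intro hz
        exact hTS s hs _ hz
    · intro z hz
      exact hηS s hs ⟨(z : G), Subgroup.mem_subgroupOf.mp z.2⟩
        ⟨s * (z : G) * s⁻¹, hTS s hs _ (Subgroup.mem_subgroupOf.mp z.2)⟩ rfl

/-- `G/N` abelian, coprime action: an `S`-invariant `θ ∈ Irr(N)` lies under an `S`-invariant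
irreducible character of `G`. -/
theorem exists_invariant_over_abelian_sub (G S N : Subgroup Γ) [Finite Γ] [Fintype G] [Fintype N]
    (hnorm : ∀ s ∈ S, ∀ g ∈ G, s * g * s⁻¹ ∈ G) (hNG : N ≤ G)
    (hGN : ∀ g ∈ G, ∀ n ∈ N, g * n * g⁻¹ ∈ N)
    (hNS : ∀ s ∈ S, ∀ n ∈ N, s * n * s⁻¹ ∈ N)
    (hab : ∀ a ∈ G, ∀ b ∈ G, a * b * a⁻¹ * b⁻¹ ∈ N)
    (hcop : (N.relIndex G).Coprime (Nat.card S))
    (θ : IrrCharacter N)
    (hSθ : ∀ s ∈ S, ∀ n n' : N, (n' : Γ) = s * n * s⁻¹ → (θ : N → ℂ) n' = (θ : N → ℂ) n) :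
    ∃ χ : IrrCharacter G,
      classInner (fun n : N => (χ : G → ℂ) ⟨n, hNG n.2⟩) (θ : N → ℂ) ≠ 0 ∧
      ∀ s ∈ S, ∀ g g' : G, (g' : Γ) = s * g * s⁻¹ → (χ : G → ℂ) g' = (χ : G → ℂ) g := by
  classical
  obtain ⟨T, hT⟩ : ∃ T : Subgroup Γ, T = stabSub G N hGN (θ : N → ℂ) := ⟨_, rfl⟩
  have hfT : Fintype T := Fintype.ofFinite _
  have hTG : T ≤ G := by
    rw [hT]
    exact stabSub_le G N hGN _
  have hNT : N ≤ T := by
    rw [hT]
    exact le_stabSub G N hNG hGN _ (isClassFunction_of_isIrrCharacter θ.2)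
  have hTS : ∀ s ∈ S, ∀ x ∈ T, s * x * s⁻¹ ∈ T := by
    rw [hT]
    exact stabSub_conj G S N hnorm hGN hNS _ hSθ
  have hcopT : (N.relIndex T).Coprime (Nat.card S) := by
    apply Nat.Coprime.coprime_dvd_left _ hcop
    exact Dvd.intro _ (Subgroup.relIndex_mul_relIndex N T G hNT hTG)
  obtain ⟨η, hη, hηS⟩ := exists_invariant_over_abelian_inv_sub T S N hTS hNT
    (fun g hg n hn => hGN g (hTG hg) n hn) hNS
    (fun a ha b hb => hab a (hTG ha) b (hTG hb)) hcopT θ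
    (fun x hx n n' h => by
      rw [hT] at hx
      exact hx.2 n n' h) hSθ
  exact exists_induced_over G S N hnorm hNG hGN hNS θ hSθ T hT hNT η hη hηS

end SubOver

section Solv

variable {Γ : Type u} [Group Γ]

/-- "`G/N` is solvable", phrased with subgroups of the ambient group. -/
def RelSolv (G N : Subgroup Γ) : Prop :=
  ∀ K : Subgroup Γ, N ≤ K → K ≤ G → K ≠ N → N ⊔ ⁅K, K⁆ ≠ K

theorem relSolv_of_isSolvable (G N : Subgroup Γ) (hNG : N ≤ G) [hNn : (N.subgroupOf G).Normal]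
    (hsolv : Group.IsSolvable (G ⧸ N.subgroupOf G)) : RelSolv G N := by
  intro K hNK hKG hKN hcon
  obtain ⟨φ, hφ⟩ : ∃ φ : K →* G ⧸ N.subgroupOf G,
      φ = (QuotientGroup.mk' (N.subgroupOf G)).comp (Subgroup.inclusion hKG) := ⟨_, rfl⟩
  have hker : ∀ x : K, φ x = 1 ↔ (x : Γ) ∈ N := by
    intro x
    rw [hφ, MonoidHom.comp_apply, QuotientGroup.mk'_apply, QuotientGroup.eq_one_iff,
      Subgroup.mem_subgroupOf]
    rfl
  have h1 : N.subgroupOf K ⊔ commutator K = ⊤ := by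
    apply Subgroup.map_injective K.subtype_injective
    rw [Subgroup.map_sup, Subgroup.map_subgroupOf_eq_of_le hNK, commutator_def,
      Subgroup.map_commutator, ← MonoidHom.range_eq_map, Subgroup.range_subtype]
    exact hcon
  have h2 : commutator φ.range = ⊤ := by
    have h3 := congrArg (Subgroup.map φ.rangeRestrict) h1
    rw [Subgroup.map_sup, Subgroup.map_top_of_surjective _ φ.rangeRestrict_surjective] at h3
    have h4 : Subgroup.map φ.rangeRestrict (N.subgroupOf K) = ⊥ := by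
      rw [Subgroup.map_eq_bot_iff]
      intro x hx
      rw [MonoidHom.mem_ker]
      apply Subtype.ext
      exact (hker x).mpr (Subgroup.mem_subgroupOf.mp hx)
    have h5 : Subgroup.map φ.rangeRestrict (commutator K) = commutator φ.range := by
      rw [commutator_def, Subgroup.map_commutator,
        Subgroup.map_top_of_surjective _ φ.rangeRestrict_surjective, commutator_def]
    rw [h4, h5, bot_sup_eq] at h3
    exact h3
  by_cases hnt : Nontrivial φ.range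
  · exact (Group.IsSolvable.commutator_lt_top_of_nontrivial φ.range).ne h2
  · rw [not_nontrivial_iff_subsingleton] at hnt
    apply hKN
    apply le_antisymm _ hNK
    intro x hx
    have h6 : (⟨φ ⟨x, hx⟩, ⟨⟨x, hx⟩, rfl⟩⟩ : φ.range) = 1 := Subsingleton.elim _ _
    exact (hker ⟨x, hx⟩).mp (congrArg Subtype.val h6)

theorem conj_mem_sup_commutator (X G N : Subgroup Γ)
    (hXG : ∀ x ∈ X, ∀ g ∈ G, x * g * x⁻¹ ∈ G) (hXN : ∀ x ∈ X, ∀ n ∈ N, x * n * x⁻¹ ∈ N) :
    ∀ x ∈ X, ∀ m ∈ N ⊔ ⁅G, G⁆, x * m * x⁻¹ ∈ N ⊔ ⁅G, G⁆ := by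
  intro x hx m hm
  have h1 : Subgroup.map (MulAut.conj x).toMonoidHom (N ⊔ ⁅G, G⁆) ≤ N ⊔ ⁅G, G⁆ := by
    rw [Subgroup.map_sup, Subgroup.map_commutator]
    apply sup_le_sup
    · rintro _ ⟨n, hn, rfl⟩
      exact hXN x hx n hn
    · apply Subgroup.commutator_mono <;>
      · rintro _ ⟨g, hg, rfl⟩
        exact hXG x hx g hg
  exact h1 ⟨m, hm, rfl⟩

/-- Transitivity of "lying over". -/
theorem constituent_trans (G M N : Subgroup Γ) [Fintype G] [Fintype M] [Fintype N] (hNM : N ≤ M)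
    (hMG : M ≤ G) (χ : IrrCharacter G) (ψ : IrrCharacter M) (θ : IrrCharacter N)
    (h1 : classInner (fun m : M => (χ : G → ℂ) ⟨m, hMG m.2⟩) (ψ : M → ℂ) ≠ 0)
    (h2 : classInner (fun n : N => (ψ : M → ℂ) ⟨n, hNM n.2⟩) (θ : N → ℂ) ≠ 0) :
    classInner (fun n : N => (χ : G → ℂ) ⟨n, hMG (hNM n.2)⟩) (θ : N → ℂ) ≠ 0 := by
  classical
  have hfin : Fintype (IrrCharacter M) := Fintype.ofFinite _
  have hχM : IsCharacter M (fun m : M => (χ : G → ℂ) ⟨m, hMG m.2⟩) := by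
    obtain ⟨n, ρ, hρ⟩ := isCharacter_of_isIrrCharacter χ.2
    refine ⟨n, helper82.compRep (Subgroup.inclusion hMG) ρ, ?_⟩
    funext m
    rw [helper82.character_comp, hρ]
    rfl
  obtain ⟨m, hm1, hm2, -⟩ := helper82.exists_nat_decomp hχM
  have hk : ∀ φ : IrrCharacter M, ∃ k : ℕ,
      classInner (fun n : N => (φ : M → ℂ) ⟨n, hNM n.2⟩) (θ : N → ℂ) = k := by
    intro φ
    apply exists_nat_classInner_irr _ θ.2
    obtain ⟨n, ρ, hρ⟩ := isCharacter_of_isIrrCharacter φ.2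
    refine ⟨n, helper82.compRep (Subgroup.inclusion hNM) ρ, ?_⟩
    funext x
    rw [helper82.character_comp, hρ]
    rfl
  choose k hk using hk
  have hsum : classInner (fun n : N => (χ : G → ℂ) ⟨n, hMG (hNM n.2)⟩) (θ : N → ℂ) =
      ((∑ φ : IrrCharacter M, m φ * k φ : ℕ) : ℂ) := by
    have h3 : (fun n : N => (χ : G → ℂ) ⟨n, hMG (hNM n.2)⟩) =
        ∑ φ : IrrCharacter M, (m φ : ℂ) • (fun n : N => (φ : M → ℂ) ⟨n, hNM n.2⟩) := by
      funext n
      rw [Finset.sum_apply]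
      simpa using hm2 ⟨n, hNM n.2⟩
    rw [h3, classInner_sum_left]
    push_cast
    apply Finset.sum_congr rfl
    intro φ _
    rw [classInner_smul_left, hk]
  rw [hsum]
  have hmψ : m ψ ≠ 0 := by
    intro h0
    apply h1
    rw [hm1 ψ, h0]
    simp
  have hkψ : k ψ ≠ 0 := by
    intro h0
    apply h2
    rw [hk ψ, h0]
    simp
  have hpos : 0 < ∑ φ : IrrCharacter M, m φ * k φ :=
    lt_of_lt_of_le (Nat.mul_pos (Nat.pos_of_ne_zero hmψ) (Nat.pos_of_ne_zero hkψ))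
      (Finset.single_le_sum (f := fun φ => m φ * k φ) (fun _ _ => Nat.zero_le _)
        (Finset.mem_univ ψ))
  exact_mod_cast hpos.ne'

theorem relIndex_ne_zero_of_finite (A B : Subgroup Γ) [Finite Γ] : A.relIndex B ≠ 0 := by
  unfold Subgroup.relIndex
  exact Subgroup.index_ne_zero_of_finite

/-- Isaacs 13.28, induction form. -/
theorem exists_invariant_over_aux (S : Subgroup Γ) [Finite Γ] (n : ℕ) :
    ∀ (G N : Subgroup Γ) [Fintype G] [Fintype N] (hNG : N ≤ G), N.relIndex G ≤ n →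
      (∀ s ∈ S, ∀ g ∈ G, s * g * s⁻¹ ∈ G) → (∀ g ∈ G, ∀ n ∈ N, g * n * g⁻¹ ∈ N) →
      (∀ s ∈ S, ∀ n ∈ N, s * n * s⁻¹ ∈ N) → RelSolv G N →
      (N.relIndex G).Coprime (Nat.card S) →
      ∀ θ : IrrCharacter N,
        (∀ s ∈ S, ∀ n n' : N, (n' : Γ) = s * n * s⁻¹ → (θ : N → ℂ) n' = (θ : N → ℂ) n) →
        ∃ χ : IrrCharacter G,
          classInner (fun n : N => (χ : G → ℂ) ⟨n, hNG n.2⟩) (θ : N → ℂ) ≠ 0 ∧
          ∀ s ∈ S, ∀ g g' : G, (g' : Γ) = s * g * s⁻¹ → (χ : G → ℂ) g' = (χ : G → ℂ) g := by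
  induction n with
  | zero =>
    intro G N _ _ hNG hle
    exact absurd (Nat.le_zero.mp hle) (relIndex_ne_zero_of_finite N G)
  | succ n ih =>
    intro G N instG instN hNG hle hnorm hGN hNS hsolv hcop θ hSθ
    by_cases hNeq : N = G
    · subst hNeq
      obtain rfl : instG = instN := Subsingleton.elim _ _
      refine ⟨θ, ?_, hSθ⟩
      have : (fun n : N => (θ : N → ℂ) ⟨n, hNG n.2⟩) = (θ : N → ℂ) := rfl
      rw [this, classInner_irr_self θ.2]
      exact one_ne_zero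
    · obtain ⟨M, hM⟩ : ∃ M : Subgroup Γ, M = N ⊔ ⁅G, G⁆ := ⟨_, rfl⟩
      have hDG : ⁅G, G⁆ ≤ G := by
        rw [Subgroup.commutator_le]
        intro a ha b hb
        rw [commutatorElement_def]
        exact G.mul_mem (G.mul_mem (G.mul_mem ha hb) (G.inv_mem ha)) (G.inv_mem hb)
      have hNM : N ≤ M := by
        rw [hM]
        exact le_sup_left
      have hMG : M ≤ G := by
        rw [hM]
        exact sup_le hNG hDG
      have hMne : M ≠ G := by
        rw [hM]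
        exact hsolv G hNG le_rfl (Ne.symm hNeq)
      have hfM : Fintype M := Fintype.ofFinite _
      have hmul := Subgroup.relIndex_mul_relIndex N M G hNM hMG
      have h2 : 2 ≤ M.relIndex G := by
        have h0 : M.relIndex G ≠ 0 := relIndex_ne_zero_of_finite M G
        have h1 : M.relIndex G ≠ 1 := by
          intro h
          exact hMne (le_antisymm hMG (Subgroup.relIndex_eq_one.mp h))
        omega
      have h0' : N.relIndex M ≠ 0 := relIndex_ne_zero_of_finite N M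
      have hle' : N.relIndex M ≤ n := by
        have h3 : N.relIndex M * 2 ≤ N.relIndex M * M.relIndex G := Nat.mul_le_mul_left _ h2
        rw [hmul] at h3
        omega
      have hMS : ∀ s ∈ S, ∀ m ∈ M, s * m * s⁻¹ ∈ M := by
        rw [hM]
        exact conj_mem_sup_commutator S G N hnorm hNS
      have hGM : ∀ g ∈ G, ∀ m ∈ M, g * m * g⁻¹ ∈ M := by
        rw [hM]
        exact conj_mem_sup_commutator G G N
          (fun x hx g hg => G.mul_mem (G.mul_mem hx hg) (G.inv_mem hx)) hGN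
      have hsolvM : RelSolv M N := fun K hNK hKM hKN => hsolv K hNK (hKM.trans hMG) hKN
      have hcopM : (N.relIndex M).Coprime (Nat.card S) :=
        Nat.Coprime.coprime_dvd_left (Dvd.intro _ hmul) hcop
      obtain ⟨ψ, hψθ, hψS⟩ := ih M N hNM hle' hMS (fun g hg n hn => hGN g (hMG hg) n hn) hNS
        hsolvM hcopM θ hSθ
      have hcopG : (M.relIndex G).Coprime (Nat.card S) :=
        Nat.Coprime.coprime_dvd_left (Dvd.intro_left _ hmul) hcop
      obtain ⟨χ, hχψ, hχS⟩ := exists_invariant_over_abelian_sub G S M hnorm hMG hGM hMS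
        (fun a ha b hb => by
          rw [hM]
          apply Subgroup.mem_sup_right
          rw [← commutatorElement_def]
          exact Subgroup.commutator_mem_commutator ha hb) hcopG ψ hψS
      exact ⟨χ, constituent_trans G M N hNM hMG χ ψ θ hχψ hψθ, hχS⟩

/-- Isaacs 13.28: `S` acts on `G ⊵ N` with `(|G:N|,|S|) = 1` and `G/N` solvable; an
`S`-invariant `θ ∈ Irr(N)` lies under an `S`-invariant irreducible character of `G`. -/
theorem exists_invariant_over (G S N : Subgroup Γ) [Finite Γ] [Fintype G] [Fintype N]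
    (hnorm : ∀ s ∈ S, ∀ g ∈ G, s * g * s⁻¹ ∈ G) (hNG : N ≤ G)
    [hNn : (N.subgroupOf G).Normal] (hNS : ∀ s ∈ S, ∀ n ∈ N, s * n * s⁻¹ ∈ N)
    (hcop : (N.relIndex G).Coprime (Nat.card S))
    (hsolv : Group.IsSolvable (G ⧸ N.subgroupOf G)) (θ : IrrCharacter N)
    (hinv : ∀ s ∈ S, ∀ g g' : N, (g' : Γ) = s * g * s⁻¹ → (θ : N → ℂ) g' = (θ : N → ℂ) g) :
    ∃ χ : IrrCharacter G,
      classInner (fun n : N => (χ : G → ℂ) ⟨n, hNG n.2⟩) (θ : N → ℂ) ≠ 0 ∧
      ∀ s ∈ S, ∀ g g' : G, (g' : Γ) = s * g * s⁻¹ → (χ : G → ℂ) g' = (χ : G → ℂ) g := by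
  have hGN : ∀ g ∈ G, ∀ n ∈ N, g * n * g⁻¹ ∈ N := by
    intro g hg n hn
    exact Subgroup.mem_subgroupOf.mp
      (hNn.conj_mem ⟨n, hNG hn⟩ (Subgroup.mem_subgroupOf.mpr hn) ⟨g, hg⟩)
  exact exists_invariant_over_aux S (N.relIndex G) G N hNG le_rfl hnorm hGN hNS
    (relSolv_of_isSolvable G N hNG hsolv) hcop θ hinv

end Solv

end Cfsg.Agent.Lib.helper19
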