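import Cfsg.Agent.Lib.helper19.D1Y2
import Cfsg.Agent.Lib.helper19.D1C1

/-!
# S4441 piece Y3: period expansion with integer coefficients (helper19)
-/

set_option autoImplicit false

namespace Cfsg.Agent.Lib.helper19

open Cfsg Cfsg.Agent.Lib.helper84

variable {G : Type*} [Group G] [Fintype G]

theorem d1_int_dvd_of_mem {p : ℕ} {M : Ideal AlgInt} (hM : IsPModular p M) {z : ℤ}
    (h : (z : AlgInt) ∈ M) : (p : ℤ) ∣ z := by
  obtain ⟨hp, hmax, hpM⟩ := hM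
  by_contra hnd
  have hcop : IsCoprime (p : ℤ) z :=
    (Nat.prime_iff_prime_int.mp hp).coprime_iff_not_dvd.mpr hnd
  obtain ⟨u, v, huv⟩ := hcop
  apply hmax.ne_top
  rw [Ideal.eq_top_iff_one]
  have h1 : (1 : AlgInt) = (u : AlgInt) * (p : AlgInt) + (v : AlgInt) * (z : AlgInt) := by
    have := congrArg (Int.cast : ℤ → AlgInt) huv
    push_cast at this
    exact this.symm
  rw [h1]
  exact M.add_mem (M.mul_mem_left _ hpM) (M.mul_mem_left _ h)

/-- PIECE Y3. -/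
theorem d1_period_expansion (p : ℕ) [Fact p.Prime] (M : Ideal Cfsg.AlgInt)
    (hM : Cfsg.IsPModular p M) (H : Subgroup (ZMod p)ˣ)
    (Y : Finset (IrrCharacter G)) (hY : d1GalStable Y) (a : IrrCharacter G → (ZMod p)ˣ)
    (ha : ∀ b : (ZMod p)ˣ, ∃! θh : IrrCharacter G × (ZMod p)ˣ,
      θh.1 ∈ Y ∧ θh.2 ∈ H ∧ a θh.1 * θh.2 = b)
    (hper : ∀ (σ : ℂ ≃+* ℂ) (θ θ' : IrrCharacter G), θ ∈ Y →
      (θ' : G → ℂ) = (fun g => σ ((θ : G → ℂ) g)) →
      ∀ u : ℕ, d1Per p H (a θ') u = σ (d1Per p H (a θ) u))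
    (α : IrrCharacter G → ℂ) (hint : ∀ θ ∈ Y, IsIntegral ℤ (α θ))
    (heq : ∀ (σ : ℂ ≃+* ℂ) (θ θ' : IrrCharacter G), θ ∈ Y →
      (θ' : G → ℂ) = (fun g => σ ((θ : G → ℂ) g)) → α θ' = σ (α θ)) :
    ∃ y : ℕ → ℤ,
      (∀ θ ∈ Y, (Nat.card H : ℂ) * α θ
        = ∑ v ∈ Finset.Ico 1 p, (y v : ℂ) * d1Per p H (a θ) v) ∧
      ((∑ v ∈ Finset.Ico 1 p, y v : ℤ) : ℂ) = -(Nat.card H : ℂ) * ∑ θ ∈ Y, α θ := by
  classical
  have hp : p.Prime := Fact.out
  have hp0 : (p : ℂ) ≠ 0 := Nat.cast_ne_zero.mpr hp.ne_zero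
  set e : ℂ := (Nat.card H : ℂ) with he
  -- the numerators
  set N : ℕ → ℂ := fun v => ∑ θ ∈ Y, (d1Per p H (a θ) (p - v) - e) * α θ with hN
  -- each numerator is the image of an element of `M`
  have hmem : ∀ v, ∃ μ : AlgInt, μ ∈ M ∧ (μ : ℂ) = N v := by
    intro v
    choose m hm1 hm2 using fun θ : IrrCharacter G => d1Per_cong p M hM H (a θ) (p - v)
    refine ⟨∑ θ ∈ Y.attach, m θ.1 * ⟨α θ.1, hint θ.1 θ.2⟩,
      Ideal.sum_mem _ (fun θ _ => M.mul_mem_right _ (hm1 θ.1)), ?_⟩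
    rw [AddSubmonoidClass.coe_finsetSum, hN]
    simp only
    rw [← Finset.sum_attach Y]
    refine Finset.sum_congr rfl fun θ _ => ?_
    rw [MulMemClass.coe_mul, hm2]
  -- each numerator is fixed by all automorphisms
  have hfix : ∀ v, ∀ τ : ℂ ≃+* ℂ, τ (N v) = N v := by
    intro v τ
    rw [hN]
    simp only
    rw [map_sum]
    have : ∀ θ ∈ Y, τ ((d1Per p H (a θ) (p - v) - e) * α θ)
        = (d1Per p H (a (d1Conj τ θ)) (p - v) - e) * α (d1Conj τ θ) := by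
      intro θ hθ
      rw [map_mul, map_sub, he, map_natCast, hper τ θ (d1Conj τ θ) hθ rfl,
        heq τ θ (d1Conj τ θ) hθ rfl]
    rw [Finset.sum_congr rfl this]
    exact d1_sum_conj hY τ (fun θ => (d1Per p H (a θ) (p - v) - e) * α θ)
  -- hence it is an integer divisible by `p`
  have hdiv : ∀ v, ∃ k : ℤ, N v = (p : ℂ) * (k : ℂ) := by
    intro v
    obtain ⟨μ, hμM, hμ⟩ := hmem v
    obtain ⟨n, hn⟩ := Cfsg.Agent.Lib.helper32.int_of_fixed_by_aut (N v) (hμ ▸ μ.2) (hfix v)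
    have hμn : μ = (n : AlgInt) := Subtype.ext (by rw [hμ, hn]; simp)
    obtain ⟨k, hk⟩ := d1_int_dvd_of_mem hM (hμn ▸ hμM)
    exact ⟨k, by rw [hn, hk]; push_cast; ring⟩
  choose y hy using hdiv
  have hrefl : ∀ θ : IrrCharacter G,
      ∑ v ∈ Finset.Ico 1 p, d1Per p H (a θ) (p - v) = -e := by
    intro θ
    rw [Finset.sum_Ico_reflect (fun v => d1Per p H (a θ) v) 1 (Nat.le_succ p)]
    simp only [Nat.add_sub_cancel_left, Nat.add_sub_cancel]
    exact d1Per_sum_v p H (a θ)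
  refine ⟨y, ?_, ?_⟩
  · intro θ hθ
    apply mul_left_cancel₀ hp0
    rw [Finset.mul_sum]
    have h1 : ∀ v ∈ Finset.Ico 1 p, (p : ℂ) * ((y v : ℂ) * d1Per p H (a θ) v)
        = ∑ θ' ∈ Y, α θ' * (d1Per p H (a θ') (p - v) * d1Per p H (a θ) v
            - e * d1Per p H (a θ) v) := by
      intro v _
      rw [← mul_assoc, ← hy v, hN]
      simp only
      rw [Finset.sum_mul]
      refine Finset.sum_congr rfl fun θ' _ => ?_
      ring
    rw [Finset.sum_congr rfl h1, Finset.sum_comm]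
    have h2 : ∀ θ' ∈ Y, ∑ v ∈ Finset.Ico 1 p, α θ' * (d1Per p H (a θ') (p - v) * d1Per p H (a θ) v
            - e * d1Per p H (a θ) v) = if θ = θ' then (p : ℂ) * (e * α θ) else 0 := by
      intro θ' hθ'
      rw [← Finset.mul_sum, Finset.sum_sub_distrib, ← Finset.mul_sum,
        d1Per_orth p H Y a ha θ θ' hθ hθ', d1Per_sum_v]
      split_ifs with h
      · subst h; ring
      · ring
    rw [Finset.sum_congr rfl h2, Finset.sum_ite_eq Y θ, if_pos hθ]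
  · apply mul_left_cancel₀ hp0
    rw [Int.cast_sum, Finset.mul_sum]
    have h1 : ∀ v ∈ Finset.Ico 1 p, (p : ℂ) * ((y v : ℤ) : ℂ) = N v := fun v _ => (hy v).symm
    rw [Finset.sum_congr rfl h1, hN]
    rw [Finset.sum_comm]
    have h2 : ∀ θ ∈ Y, ∑ v ∈ Finset.Ico 1 p, (d1Per p H (a θ) (p - v) - e) * α θ
        = -(p : ℂ) * e * α θ := by
      intro θ _
      rw [← Finset.sum_mul, Finset.sum_sub_distrib, hrefl, Finset.sum_const, Nat.card_Ico,
        nsmul_eq_mul, Nat.cast_sub hp.one_le]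
      push_cast
      ring
    rw [Finset.sum_congr rfl h2, Finset.mul_sum, Finset.mul_sum]
    refine Finset.sum_congr rfl fun θ _ => ?_
    ring

end Cfsg.Agent.Lib.helper19
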