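import Mathlib
import Cfsg.Prelude.Def_Classical
import Cfsg.Prelude.Def_GeometricClasses

/-!
S5977B piece BEXT (`fe_extend`): extending an isometry of a nondegenerate form `N` on `F^κ`, embedded
isometrically in `(F^ι, Q)`, to an isometry of `Q` with the same `Φ_r`-kernel dimension.
-/

set_option autoImplicit false

namespace Cfsg.Agent.Lib.helper96.FE

open Polynomial

/-- the polar form of a nondegenerate quadratic form as a Mathlib bilinear form -/
noncomputable def helper19_polarBil {F : Type*} [Field F] {ι : Type} [Fintype ι] [DecidableEq ι]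
    (Q : (ι → F) → F) (hQ : Cfsg.Geo.IsNondegenerateQuadraticForm Q) : LinearMap.BilinForm F (ι → F) :=
  LinearMap.mk₂ F (QuadraticMap.polar Q) hQ.polar_bilinear.add_left hQ.polar_bilinear.smul_left
    hQ.polar_bilinear.add_right hQ.polar_bilinear.smul_right

theorem helper19_polarBil_apply {F : Type*} [Field F] {ι : Type} [Fintype ι] [DecidableEq ι]
    (Q : (ι → F) → F) (hQ : Cfsg.Geo.IsNondegenerateQuadraticForm Q) (u v : ι → F) :
    helper19_polarBil Q hQ u v = QuadraticMap.polar Q u v := rfl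

theorem helper19_polarBil_nondeg {F : Type*} [Field F] {ι : Type} [Fintype ι] [DecidableEq ι]
    (Q : (ι → F) → F) (hQ : Cfsg.Geo.IsNondegenerateQuadraticForm Q) :
    (helper19_polarBil Q hQ).Nondegenerate := by
  constructor
  · intro x hx
    by_contra hx0
    obtain ⟨y, hy⟩ := (hQ.nondegenerate x hx0).2
    exact hy (hx y)
  · intro x hx
    by_contra hx0
    obtain ⟨y, hy⟩ := (hQ.nondegenerate x hx0).1
    exact hy (hx y)

/-- BEXT (L) -/
theorem fe_extend {F : Type*} [Field F] {ι κ : Type} [Fintype ι] [DecidableEq ι] [Fintype κ] [DecidableEq κ]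
    (h2 : (2 : F) ≠ 0)
    (Q : (ι → F) → F) (hQ : Cfsg.Geo.IsNondegenerateQuadraticForm Q)
    (N : (κ → F) → F) (hN : Cfsg.Geo.IsNondegenerateQuadraticForm N)
    (φ : (κ → F) →ₗ[F] (ι → F)) (hφ : ∀ u, Q (φ u) = N u)
    (r : ℕ) [Fact r.Prime] (hrF : (r : F) ≠ 0)
    (x₀ : GL κ F) (hx₀ : x₀ ∈ Cfsg.isometryGroup F N) (hx₀r : x₀ ^ r = 1) :
    ∃ x : GL ι F, x ∈ Cfsg.isometryGroup F Q ∧ x ^ r = 1 ∧
      Module.finrank F (LinearMap.ker (aeval (Matrix.toLin' (x : Matrix ι ι F)) (cyclotomic r F)))
        = Module.finrank F (LinearMap.ker (aeval (Matrix.toLin' (x₀ : Matrix κ κ F)) (cyclotomic r F))) := by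
  classical
  have hBQa : ∀ u v, helper19_polarBil Q hQ u v = QuadraticMap.polar Q u v := fun u v => rfl
  have hBNa : ∀ u v, helper19_polarBil N hN u v = QuadraticMap.polar N u v := fun u v => rfl
  have hBNnd := helper19_polarBil_nondeg N hN
  have hiso : ∀ u v, QuadraticMap.polar Q (φ u) (φ v) = QuadraticMap.polar N u v := by
    intro u v
    simp only [QuadraticMap.polar]
    rw [← map_add, hφ, hφ, hφ]
  have hsymN : ∀ u v, QuadraticMap.polar N u v = QuadraticMap.polar N v u :=
    fun u v => QuadraticMap.polar_comm N u v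
  -- the projection
  let Λ : (ι → F) →ₗ[F] Module.Dual F (κ → F) :=
    ((helper19_polarBil Q hQ).compl₁₂ φ (LinearMap.id : (ι → F) →ₗ[F] (ι → F))).flip
  have hΛ : ∀ v u', Λ v u' = QuadraticMap.polar Q (φ u') v := fun v u' => rfl
  let π : (ι → F) →ₗ[F] (κ → F) :=
    (((helper19_polarBil N hN).toDual hBNnd).symm : Module.Dual F (κ → F) →ₗ[F] (κ → F)) ∘ₗ Λ
  have hπ : ∀ v u', QuadraticMap.polar N (π v) u' = QuadraticMap.polar Q (φ u') v := by
    intro v u'
    rw [← hΛ, ← hBNa]
    exact LinearMap.BilinForm.apply_toDual_symm_apply (hB := hBNnd) (Λ v) u'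
  have hπφ : ∀ u, π (φ u) = u := by
    intro u
    have h0 : ∀ u', helper19_polarBil N hN (π (φ u) - u) u' = 0 := by
      intro u'
      rw [map_sub, LinearMap.sub_apply, hBNa, hBNa, hπ, hiso, hsymN u' u, sub_self]
    exact sub_eq_zero.mp (hBNnd.1 _ h0)
  have hφinj : Function.Injective φ := Function.LeftInverse.injective hπφ
  -- the transfer of endomorphisms
  let Tr : Module.End F (κ → F) → Module.End F (ι → F) := fun X => 1 + φ ∘ₗ (X - 1) ∘ₗ π
  have hTr : ∀ X v, Tr X v = v + φ (X (π v) - π v) := fun X v => rfl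
  have hπTr : ∀ X v, π (Tr X v) = X (π v) := by
    intro X v
    rw [hTr, map_add, hπφ]; abel
  have hTr_mul : ∀ X Y, Tr X * Tr Y = Tr (X * Y) := by
    intro X Y
    apply LinearMap.ext
    intro v
    show Tr X (Tr Y v) = Tr (X * Y) v
    rw [hTr X, hπTr, hTr Y, hTr (X * Y)]
    show v + φ (Y (π v) - π v) + φ (X (Y (π v)) - Y (π v)) = v + φ (X (Y (π v)) - π v)
    rw [map_sub, map_sub, map_sub]; abel
  have hTr_one : Tr 1 = 1 := by
    apply LinearMap.ext
    intro v
    rw [hTr]
    show v + φ (π v - π v) = v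
    rw [sub_self, map_zero, add_zero]
  have hTr_pow : ∀ (X : Module.End F (κ → F)) (k : ℕ), Tr X ^ k = Tr (X ^ k) := by
    intro X k
    induction k with
    | zero => rw [pow_zero, pow_zero, hTr_one]
    | succ k ih => rw [pow_succ, pow_succ, ih, hTr_mul]
  set X₀ : Module.End F (κ → F) := Matrix.toLin' (x₀ : Matrix κ κ F) with hX₀
  set X₀' : Module.End F (κ → F) := Matrix.toLin' ((x₀⁻¹ : GL κ F) : Matrix κ κ F) with hX₀'
  have hXX' : X₀ * X₀' = 1 := by
    rw [hX₀, hX₀', Module.End.mul_eq_comp, ← Matrix.toLin'_mul, ← Units.val_mul, mul_inv_cancel,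
      Units.val_one, Matrix.toLin'_one]; rfl
  have hX'X : X₀' * X₀ = 1 := by
    rw [hX₀, hX₀', Module.End.mul_eq_comp, ← Matrix.toLin'_mul, ← Units.val_mul, inv_mul_cancel,
      Units.val_one, Matrix.toLin'_one]; rfl
  have hXpow : ∀ k : ℕ, X₀ ^ k = Matrix.toLin' ((x₀ : Matrix κ κ F) ^ k) := by
    intro k
    induction k with
    | zero => rw [pow_zero, pow_zero, Matrix.toLin'_one]; rfl
    | succ k ih => rw [pow_succ, pow_succ, ih, Matrix.toLin'_mul]; rfl
  have hXr : X₀ ^ r = 1 := by
    rw [hXpow, ← Units.val_pow_eq_pow_val, hx₀r, Units.val_one, Matrix.toLin'_one]; rfl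
  have hmat_pow : ∀ (T : Module.End F (ι → F)) (k : ℕ),
      (LinearMap.toMatrix' T) ^ k = LinearMap.toMatrix' (T ^ k) := by
    intro T k
    induction k with
    | zero => rw [pow_zero, pow_zero]; exact LinearMap.toMatrix'_one.symm
    | succ k ih => rw [pow_succ, pow_succ, ih, ← LinearMap.toMatrix'_mul]
  let x : GL ι F := ⟨LinearMap.toMatrix' (Tr X₀), LinearMap.toMatrix' (Tr X₀'),
    by rw [← LinearMap.toMatrix'_mul, hTr_mul, hXX', hTr_one]; exact LinearMap.toMatrix'_one,
    by rw [← LinearMap.toMatrix'_mul, hTr_mul, hX'X, hTr_one]; exact LinearMap.toMatrix'_one⟩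
  have hxlin : Matrix.toLin' (x : Matrix ι ι F) = Tr X₀ := Matrix.toLin'_toMatrix' _
  have hx₀N : ∀ u, N (X₀ u) = N u := by
    intro u
    have := hx₀ u u
    exact this
  refine ⟨x, ?_, ?_, ?_⟩
  · -- isometry
    intro v _
    show Q (Matrix.mulVec (x : Matrix ι ι F) v) = Q v
    rw [← Matrix.toLin'_apply, hxlin, hTr]
    set u := π v with hu
    set v' := v - φ u with hv'
    have hperp : ∀ a, QuadraticMap.polar Q (φ a) v' = 0 := by
      intro a
      have h1 := hQ.polar_bilinear.add_right (φ a) v' (φ u)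
      rw [hv', sub_add_cancel] at h1
      rw [hv', eq_sub_of_add_eq h1.symm, ← hπ v a, hiso, hsymN a u, sub_self]
    have hQadd : ∀ a, Q (φ a + v') = N a + Q v' := by
      intro a
      have h1 := hperp a
      simp only [QuadraticMap.polar] at h1
      rw [hφ] at h1
      linear_combination h1
    have e1 : v + φ (X₀ u - u) = φ (X₀ u) + v' := by
      rw [hv', map_sub]; abel
    have e2 : v = φ u + v' := by rw [hv']; abel
    rw [e1, hQadd, hx₀N]
    conv_rhs => rw [e2]
    rw [hQadd]
  · -- order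
    apply Units.ext
    rw [Units.val_pow_eq_pow_val, Units.val_one]
    show (LinearMap.toMatrix' (Tr X₀)) ^ r = 1
    rw [hmat_pow, hTr_pow, hXr, hTr_one]
    exact LinearMap.toMatrix'_one
  · -- kernel
    rw [hxlin]
    have hpoly : ∀ (f : F[X]) (v : ι → F),
        aeval (Tr X₀) f v = f.eval 1 • (v - φ (π v)) + φ (aeval X₀ f (π v)) := by
      intro f
      induction f using Polynomial.induction_on' with
      | add p q hp hq =>
        intro v
        rw [map_add, LinearMap.add_apply, hp, hq, eval_add, add_smul, map_add, LinearMap.add_apply,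
          map_add]; abel
      | monomial n a =>
        intro v
        rw [aeval_monomial, aeval_monomial, eval_monomial, one_pow, mul_one, hTr_pow]
        show a • (Tr (X₀ ^ n) v) = a • (v - φ (π v)) + φ (a • ((X₀ ^ n) (π v)))
        rw [hTr, map_smul, map_sub, smul_add, smul_sub, smul_sub]; abel
    have hev : (cyclotomic r F).eval 1 = (r : F) := Polynomial.eval_one_cyclotomic_prime
    have hker : LinearMap.ker (aeval (Tr X₀) (cyclotomic r F))
        = (LinearMap.ker (aeval X₀ (cyclotomic r F))).map φ := by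
      ext v
      rw [LinearMap.mem_ker, Submodule.mem_map]
      constructor
      · intro hv
        rw [hpoly, hev] at hv
        have h1 := congrArg π hv
        rw [map_add, map_smul, map_sub, hπφ, hπφ, sub_self, smul_zero, zero_add, map_zero] at h1
        rw [h1, map_zero, add_zero] at hv
        have h3 : v - φ (π v) = 0 := by
          rcases smul_eq_zero.mp hv with h | h
          · exact absurd h hrF
          · exact h
        exact ⟨π v, LinearMap.mem_ker.mpr h1, (sub_eq_zero.mp h3).symm⟩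
      · rintro ⟨u, hu, rfl⟩
        rw [hpoly, hπφ, sub_self, smul_zero, zero_add, LinearMap.mem_ker.mp hu, map_zero]
    rw [hker]
    exact (Submodule.equivMapOfInjective φ hφinj _).finrank_eq.symm

end Cfsg.Agent.Lib.helper96.FE
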