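import Mathlib
import Cfsg.Prelude.Def_Classical
import Cfsg.Prelude.Def_GeometricClasses
import Cfsg.Agent.Lib.helper19.FeBEXT
import Cfsg.Agent.S0288

/-!
S5977B piece GOODBP, core: `helper19_good_b_plus_core` (the statements of NDP, NDM, BDIM enter as hypotheses).
-/

set_option autoImplicit false

namespace Cfsg.Agent.Lib.helper96.FE

open Polynomial

/-- `x`-coordinates of the embedding of the minus-type space into the plus-type space -/
def helper19_feA {F : Type*} [Field F] (j e : ℕ) (v : (Fin j ⊕ Fin j) ⊕ Fin 2 → F) :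
    Fin j ⊕ (Fin 2 ⊕ Fin e) → F :=
  Sum.elim (fun k => v (Sum.inl (Sum.inl k))) (Sum.elim (fun t => v (Sum.inr t)) (fun _ => 0))

/-- `y`-coordinates of the embedding -/
def helper19_feB {F : Type*} [Field F] (j e : ℕ) (a b : F) (v : (Fin j ⊕ Fin j) ⊕ Fin 2 → F) :
    Fin j ⊕ (Fin 2 ⊕ Fin e) → F :=
  Sum.elim (fun k => v (Sum.inl (Sum.inr k)))
    (Sum.elim (fun t => if t = 0 then v (Sum.inr 0) + a * v (Sum.inr 1) else b * v (Sum.inr 1))
      (fun _ => 0))

/-- the embedding -/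
def helper19_fePhi {F : Type*} [Field F] (j e d : ℕ) (a b : F) (ε : Fin d ≃ Fin j ⊕ (Fin 2 ⊕ Fin e)) :
    ((Fin j ⊕ Fin j) ⊕ Fin 2 → F) →ₗ[F] (Fin d ⊕ Fin d → F) where
  toFun v := Sum.elim (fun k => helper19_feA j e v (ε k)) (fun k => helper19_feB j e a b v (ε k))
  map_add' v w := by
    funext c
    rcases c with k | k
    · simp only [Sum.elim_inl, Pi.add_apply]
      rcases ε k with k' | t | s <;> simp [helper19_feA]
    · simp only [Sum.elim_inr, Pi.add_apply]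
      rcases ε k with k' | t | s <;> simp [helper19_feB]
      split_ifs <;> ring
  map_smul' c v := by
    funext x
    rcases x with k | k
    · simp only [Sum.elim_inl, Pi.smul_apply, RingHom.id_apply, smul_eq_mul]
      rcases ε k with k' | t | s <;> simp [helper19_feA]
    · simp only [Sum.elim_inr, Pi.smul_apply, RingHom.id_apply, smul_eq_mul]
      rcases ε k with k' | t | s <;> simp [helper19_feB]
      split_ifs <;> ring

theorem helper19_fePhi_quad {F : Type*} [Field F] (j e d : ℕ) (a b : F)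
    (ε : Fin d ≃ Fin j ⊕ (Fin 2 ⊕ Fin e)) (v : (Fin j ⊕ Fin j) ⊕ Fin 2 → F) :
    Cfsg.quadFormPlus d F (helper19_fePhi j e d a b ε v) = Cfsg.quadFormMinus j F a b v := by
  unfold Cfsg.quadFormPlus Cfsg.quadFormMinus
  show ∑ k : Fin d, helper19_feA j e v (ε k) * helper19_feB j e a b v (ε k) = _
  rw [Equiv.sum_comp ε (fun s => helper19_feA j e v s * helper19_feB j e a b v s)]
  rw [Fintype.sum_sum_type, Fintype.sum_sum_type, Fin.sum_univ_two]
  simp [helper19_feA, helper19_feB]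
  ring

/-- GOODBP, core form -/
theorem helper19_good_b_plus_core {F : Type*} [Field F] [Fintype F] (hodd : Odd (Fintype.card F)) (d : ℕ)
    (r : ℕ) [Fact r.Prime] (hrF : (r : F) ≠ 0)
    (j : ℕ) (hj : orderOf ((Fintype.card F : ℕ) : ZMod r) = 2 * (j + 1)) (hjd : j + 2 ≤ d)
    (hNDQ : Cfsg.Geo.IsNondegenerateQuadraticForm (Cfsg.quadFormPlus d F))
    (hNDN : ∀ a b : F, (∀ x y : F, x ^ 2 + a * x * y + b * y ^ 2 = 0 → x = 0 ∧ y = 0) →
      Cfsg.Geo.IsNondegenerateQuadraticForm (Cfsg.quadFormMinus j F a b))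
    (hBDIM : ∀ x : GL ((Fin j ⊕ Fin j) ⊕ Fin 2) F, x ≠ 1 → x ^ r = 1 →
      aeval (Matrix.toLin' (x : Matrix ((Fin j ⊕ Fin j) ⊕ Fin 2) ((Fin j ⊕ Fin j) ⊕ Fin 2) F))
        (cyclotomic r F) = 0) :
    ∃ x : GL (Fin d ⊕ Fin d) F, x ∈ Cfsg.isometryGroup F (Cfsg.quadFormPlus d F) ∧ x ^ r = 1 ∧
      Module.finrank F (LinearMap.ker
        (aeval (Matrix.toLin' (x : Matrix (Fin d ⊕ Fin d) (Fin d ⊕ Fin d) F)) (cyclotomic r F)))
        = orderOf ((Fintype.card F : ℕ) : ZMod r) := by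
  classical
  have hrp : r.Prime := Fact.out
  have hchar : ringChar F ≠ 2 := by
    intro h
    have := FiniteField.even_card_iff_char_two.mp h
    rcases hodd with ⟨k, hk⟩
    omega
  have h2 : (2 : F) ≠ 0 := Ring.two_ne_zero hchar
  obtain ⟨δ, hδ⟩ := FiniteField.exists_nonsquare hchar
  have hab : ∀ x y : F, x ^ 2 + (0 : F) * x * y + (-δ) * y ^ 2 = 0 → x = 0 ∧ y = 0 := by
    intro x y h
    have hy : y = 0 := by
      by_contra hy
      apply hδ
      refine ⟨x / y, ?_⟩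
      field_simp
      linear_combination (-1 : F) * h
    subst hy
    simp at h
    exact ⟨h, rfl⟩
  have hdvd : r ∣ Fintype.card F ^ (j + 1) + 1 := by
    have h1 : ((Fintype.card F : ℕ) : ZMod r) ^ (2 * (j + 1)) = 1 := by
      rw [← hj]; exact pow_orderOf_eq_one _
    have h2' : ((Fintype.card F : ℕ) : ZMod r) ^ (j + 1) ≠ 1 := by
      apply pow_ne_one_of_lt_orderOf (by omega)
      rw [hj]; omega
    have h3 : (((Fintype.card F : ℕ) : ZMod r) ^ (j + 1) - 1) *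
        (((Fintype.card F : ℕ) : ZMod r) ^ (j + 1) + 1) = 0 := by
      rw [pow_mul'] at h1
      linear_combination h1
    rcases mul_eq_zero.mp h3 with h4 | h4
    · exact absurd (sub_eq_zero.mp h4) h2'
    · rw [← ZMod.natCast_eq_zero_iff]
      push_cast
      exact h4
  have hcardN : Nat.card (Cfsg.isometryGroup F (Cfsg.quadFormMinus j F (0 : F) (-δ))) =
      2 * Fintype.card F ^ ((j + 1) * j) * (Fintype.card F ^ (j + 1) + 1) *
        ∏ i ∈ Finset.range j, (Fintype.card F ^ (2 * (i + 1)) - 1) :=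
    Cfsg.Agent.S0288.result (F := F) (q := Fintype.card F) rfl (j + 1) (by omega) (0 : F) (-δ) hab
  have hr_dvd : r ∣ Nat.card (Cfsg.isometryGroup F (Cfsg.quadFormMinus j F (0 : F) (-δ))) := by
    rw [hcardN]
    exact Dvd.dvd.mul_right (Dvd.dvd.mul_left hdvd _) _
  obtain ⟨y, hy⟩ := exists_prime_orderOf_dvd_card' r hr_dvd
  have hx₀ : (y : GL ((Fin j ⊕ Fin j) ⊕ Fin 2) F) ∈
      Cfsg.isometryGroup F (Cfsg.quadFormMinus j F (0 : F) (-δ)) := y.2
  have hx₀r : (y : GL ((Fin j ⊕ Fin j) ⊕ Fin 2) F) ^ r = 1 := by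
    have h1 := pow_orderOf_eq_one y
    rw [hy] at h1
    exact congrArg Subtype.val h1
  have hx₀1 : (y : GL ((Fin j ⊕ Fin j) ⊕ Fin 2) F) ≠ 1 := by
    intro h
    have h1 : y = 1 := Subtype.ext h
    rw [h1, orderOf_one] at hy
    exact hrp.one_lt.ne hy
  have hd : d = j + (2 + (d - (j + 2))) := by omega
  let ε : Fin d ≃ Fin j ⊕ (Fin 2 ⊕ Fin (d - (j + 2))) :=
    (finCongr hd).trans (finSumFinEquiv.symm.trans
      (Equiv.sumCongr (Equiv.refl (Fin j)) finSumFinEquiv.symm))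
  obtain ⟨x, hx, hxr, hfin⟩ := fe_extend h2 (Cfsg.quadFormPlus d F) hNDQ
    (Cfsg.quadFormMinus j F (0 : F) (-δ)) (hNDN 0 (-δ) hab)
    (helper19_fePhi j (d - (j + 2)) d 0 (-δ) ε)
    (helper19_fePhi_quad j (d - (j + 2)) d 0 (-δ) ε) r hrF
    (y : GL ((Fin j ⊕ Fin j) ⊕ Fin 2) F) hx₀ hx₀r
  refine ⟨x, hx, hxr, ?_⟩
  rw [hfin, hBDIM _ hx₀1 hx₀r, LinearMap.ker_zero, finrank_top, Module.finrank_fintype_fun_eq_card, hj]
  simp [Fintype.card_sum]
  ring

end Cfsg.Agent.Lib.helper96.FE
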