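import Mathlib
import Cfsg.Prelude.Def_Classical
import Cfsg.Prelude.Def_GeometricClasses
import Cfsg.Agent.Lib.helper19.FeGOODBPcore
import Cfsg.Agent.Lib.helper85.FeBDIM
import Cfsg.Agent.Lib.helper69.FeNDP
import Cfsg.Agent.Lib.helper69.FeNDM

/-!
S5977B piece GOODBP (`fe_good_b_plus`): case (b), plus type.
-/

set_option autoImplicit false

namespace Cfsg.Agent.Lib.helper96.FE

open Polynomial

/-- GOODBP (L+; uses BDIM, BEXT, Cauchy in `O^-` via the order formula S0288): case (b), plus type. -/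
theorem h19_fe_good_b_plus {F : Type*} [Field F] [Fintype F] (hodd : Odd (Fintype.card F)) (d : ℕ)
    (r : ℕ) [Fact r.Prime] (hr2 : r ≠ 2) (hrF : (r : F) ≠ 0)
    (hi : orderOf ((Fintype.card F : ℕ) : ZMod r) % 4 = 2)
    (hid : orderOf ((Fintype.card F : ℕ) : ZMod r) + 2 ≤ 2 * d) :
    ∃ x : GL (Fin d ⊕ Fin d) F, x ∈ Cfsg.isometryGroup F (Cfsg.quadFormPlus d F) ∧ x ^ r = 1 ∧
      Module.finrank F (LinearMap.ker
        (aeval (Matrix.toLin' (x : Matrix (Fin d ⊕ Fin d) (Fin d ⊕ Fin d) F)) (cyclotomic r F)))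
        = orderOf ((Fintype.card F : ℕ) : ZMod r) := by
  classical
  have hchar : ringChar F ≠ 2 := by
    intro h
    have := FiniteField.even_card_iff_char_two.mp h
    rcases hodd with ⟨k, hk⟩
    omega
  have h2 : (2 : F) ≠ 0 := Ring.two_ne_zero hchar
  obtain ⟨j, hj⟩ : ∃ j : ℕ, orderOf ((Fintype.card F : ℕ) : ZMod r) = 2 * (j + 1) :=
    ⟨orderOf ((Fintype.card F : ℕ) : ZMod r) / 2 - 1, by omega⟩
  refine helper19_good_b_plus_core hodd d r hrF j hj (by omega) (fe_nd_plus d)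
    (fun a b hab => fe_nd_minus h2 j a b hab) ?_
  intro x hx1 hxr
  refine fe_cyc_zero r hrF ?_ x hx1 hxr
  rw [hj]
  simp [Fintype.card_sum]
  ring

end Cfsg.Agent.Lib.helper96.FE
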