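import Mathlib
import Cfsg.Prelude.Def_Characters
import Cfsg.Agent.Lib.helper19.Gallagher
import Cfsg.Agent.Lib.helper19.CycNorm
import Cfsg.Agent.Lib.helper19.IndInv
import Cfsg.Agent.Lib.helper19.CoprimeOver
import Cfsg.Agent.Lib.helper82.Ramification
import Cfsg.Agent.Lib.helper82.CharDeg
import Cfsg.Agent.Lib.helper82.CharQuot

/-!
# Fully ramified characters and Frobenius actions (helper19)

* `gallagher_mult_char` : if `ϑ ∈ Irr(H)` restricts irreducibly to `N ⊴ H` and `ψ` is a character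
  of `H` with `ψ_N = e ϑ_N`, then `f = gallagherFun N ϑ ψ` is a character with `f 1 = e` and
  `ψ = ϑ f`.
* `dvd_of_norm_one_off_normal` : a character `f` of `H` trivial on `N` (`H/N` cyclic) with
  `|f h| = 1` off `N` has `|H:N|` dividing `f 1 ∓ 1`.
* `sum_coset_frobenius`, `fully_ramified_frobenius` (S4454).
-/

set_option autoImplicit false

namespace Cfsg.Agent.Lib.helper19

open scoped ComplexConjugate
open Cfsg
open Cfsg.Agent.Lib.helper4

theorem gallagherFun_sum_smul {G : Type*} [Group G] (N : Subgroup G) [Fintype N] (χ : G → ℂ)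
    {ι : Type*} (s : Finset ι) (c : ι → ℂ) (ψ : ι → G → ℂ) :
    gallagherFun N χ (∑ i ∈ s, c i • ψ i) = ∑ i ∈ s, c i • gallagherFun N χ (ψ i) := by
  funext g
  simp only [gallagherFun, Finset.sum_apply, Pi.smul_apply, smul_eq_mul, Finset.sum_mul,
    Finset.mul_sum]
  rw [Finset.sum_comm]
  apply Finset.sum_congr rfl
  intro i _
  apply Finset.sum_congr rfl
  intro n _
  ring

/-- The multiplicity character in Gallagher's theorem. -/
theorem gallagher_mult_char {H : Type*} [Group H] [Fintype H] (N : Subgroup H) [N.Normal]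
    [Fintype N] (ϑ : H → ℂ) (hϑ : IsIrrCharacter H ϑ)
    (hϑN : IsIrrCharacter N (fun n : N => ϑ n)) (ψ : H → ℂ) (hψ : IsCharacter H ψ) (e : ℕ)
    (hψN : ∀ n : N, ψ n = e * ϑ n) :
    IsCharacter H (gallagherFun N ϑ ψ) ∧ gallagherFun N ϑ ψ 1 = e ∧
      ψ = ϑ * gallagherFun N ϑ ψ := by
  classical
  have hfin : Fintype (IrrCharacter H) := Fintype.ofFinite _
  obtain ⟨m, hm1, hm2, -⟩ := helper82.exists_nat_decomp hψ
  have hψsum : ψ = ∑ ξ : IrrCharacter H, (m ξ : ℂ) • (ξ : H → ℂ) := by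
    funext g
    rw [Finset.sum_apply]
    simpa using hm2 g
  have hdich := fun ξ : IrrCharacter H => gallagherFun_dichotomy N ϑ hϑ hϑN (ξ : H → ℂ) ξ.2
  have hfsum : gallagherFun N ϑ ψ =
      ∑ ξ : IrrCharacter H, (m ξ : ℂ) • gallagherFun N ϑ (ξ : H → ℂ) := by
    conv_lhs => rw [hψsum]
    exact gallagherFun_sum_smul N ϑ _ _ _
  have hf1 : gallagherFun N ϑ ψ 1 = e := by
    rw [gallagherFun_one]
    have : (fun n : N => ψ n) = (e : ℂ) • (fun n : N => ϑ n) := by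
      funext n
      simp [hψN n]
    rw [this, classInner_smul_left, classInner_irr_self hϑN, mul_one]
  have hchar : IsCharacter H (gallagherFun N ϑ ψ) := by
    rw [hfsum]
    apply isCharacter_sum
    intro ξ _
    have h1 : ((m ξ : ℂ) • gallagherFun N ϑ (ξ : H → ℂ)) =
        m ξ • gallagherFun N ϑ (ξ : H → ℂ) := by
      rw [Nat.cast_smul_eq_nsmul ℂ]
    rw [h1]
    apply isCharacter_nsmul
    rcases hdich ξ with h | ⟨h, -, -⟩
    · rw [h]
      exact isCharacter_zero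
    · exact isCharacter_of_isIrrCharacter h
  refine ⟨hchar, hf1, ?_⟩
  have hd : ∀ ξ : IrrCharacter H, ∃ d : ℕ, d ≠ 0 ∧ (ξ : H → ℂ) 1 = d := by
    intro ξ
    refine ⟨charDegree (ξ : H → ℂ), ?_,
      helper82.isCharacter_one_eq (isCharacter_of_isIrrCharacter ξ.2)⟩
    intro h0
    apply helper83.irr_one_ne_zero ξ
    rw [helper82.isCharacter_one_eq (isCharacter_of_isIrrCharacter ξ.2), h0]
    simp
  choose d hd0 hd using hd
  have hA : (e : ℂ) * ϑ 1 = ∑ ξ : IrrCharacter H, (m ξ : ℂ) * (d ξ : ℂ) := by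
    have h1 := hψN 1
    rw [Subgroup.coe_one] at h1
    rw [← h1, hm2 1]
    apply Finset.sum_congr rfl
    intro ξ _
    rw [hd ξ]
  have hB : (e : ℂ) * ϑ 1 = ∑ ξ : IrrCharacter H, (m ξ : ℂ) *
      (if gallagherFun N ϑ (ξ : H → ℂ) = 0 then 0 else (d ξ : ℂ)) := by
    have h1 : (e : ℂ) = ∑ ξ : IrrCharacter H, (m ξ : ℂ) * gallagherFun N ϑ (ξ : H → ℂ) 1 := by
      rw [← hf1, hfsum, Finset.sum_apply]
      simp
    rw [h1, Finset.sum_mul]
    apply Finset.sum_congr rfl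
    intro ξ _
    rcases hdich ξ with h | ⟨-, -, h⟩
    · rw [if_pos h, h]
      simp
    · have hne : gallagherFun N ϑ (ξ : H → ℂ) ≠ 0 := by
        intro h0
        rw [h0, mul_zero] at h
        apply helper83.irr_one_ne_zero ξ
        rw [h]
        rfl
      rw [if_neg hne, ← hd ξ]
      conv_rhs => rw [h]
      rw [Pi.mul_apply]
      ring
  have hC : ∑ ξ : IrrCharacter H, (m ξ : ℂ) *
      (if gallagherFun N ϑ (ξ : H → ℂ) = 0 then (d ξ : ℂ) else 0) = 0 := by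
    have h1 : ∀ ξ : IrrCharacter H, (m ξ : ℂ) *
        (if gallagherFun N ϑ (ξ : H → ℂ) = 0 then (d ξ : ℂ) else 0) =
        (m ξ : ℂ) * d ξ - (m ξ : ℂ) *
          (if gallagherFun N ϑ (ξ : H → ℂ) = 0 then 0 else (d ξ : ℂ)) := by
      intro ξ
      split_ifs <;> ring
    rw [Finset.sum_congr rfl (fun ξ _ => h1 ξ), Finset.sum_sub_distrib, ← hA, ← hB, sub_self]
  have hC' : ∑ ξ : IrrCharacter H,
      m ξ * (if gallagherFun N ϑ (ξ : H → ℂ) = 0 then d ξ else 0) = 0 := by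
    have h1 : ((∑ ξ : IrrCharacter H,
        m ξ * (if gallagherFun N ϑ (ξ : H → ℂ) = 0 then d ξ else 0) : ℕ) : ℂ) = 0 := by
      rw [← hC]
      push_cast
      apply Finset.sum_congr rfl
      intro ξ _
      split_ifs <;> simp
    exact_mod_cast h1
  have hkey : ∀ ξ : IrrCharacter H, gallagherFun N ϑ (ξ : H → ℂ) = 0 → m ξ = 0 := by
    intro ξ hξ
    have h2 := Finset.sum_eq_zero_iff.mp hC' ξ (Finset.mem_univ ξ)
    rw [if_pos hξ] at h2
    exact (Nat.mul_eq_zero.mp h2).resolve_right (hd0 ξ)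
  calc ψ = ∑ ξ : IrrCharacter H, (m ξ : ℂ) • (ξ : H → ℂ) := hψsum
    _ = ∑ ξ : IrrCharacter H, ϑ * ((m ξ : ℂ) • gallagherFun N ϑ (ξ : H → ℂ)) := by
        apply Finset.sum_congr rfl
        intro ξ _
        rcases hdich ξ with h | ⟨-, -, h⟩
        · rw [hkey ξ h]
          simp
        · conv_lhs => rw [h]
          funext g
          simp only [Pi.smul_apply, Pi.mul_apply, smul_eq_mul]
          ring
    _ = ϑ * gallagherFun N ϑ ψ := by
        rw [hfsum, Finset.mul_sum]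

theorem exists_faithful_hom_of_isCyclic (S : Type*) [Group S] [Finite S] [hS : IsCyclic S] :
    ∃ ν : S →* ℂˣ, ∀ x, ν x = 1 → x = 1 := by
  obtain ⟨g, hg⟩ := hS.exists_generator
  obtain ⟨ν, hν⟩ := exists_faithful_hom_zpowers g
  let ι : S →* Subgroup.zpowers g :=
    { toFun := fun x => ⟨x, hg x⟩
      map_one' := rfl
      map_mul' := fun _ _ => rfl }
  refine ⟨ν.comp ι, fun x hx => ?_⟩
  have := hν (ι x) hx
  exact congrArg Subtype.val this

/-- A character `f` of `H`, trivial on `N ⊴ H` with `H/N` cyclic, with `|f h| = 1` for `h ∉ N`: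
then `|H : N|` divides `f 1 - 1` or `f 1 + 1`. -/
theorem dvd_of_norm_one_off_normal {H : Type*} [Group H] [Fintype H] (N : Subgroup H) [N.Normal]
    (hcyc : IsCyclic (H ⧸ N)) (hN : N ≠ ⊤) (f : H → ℂ) (hf : IsCharacter H f)
    (hfN : ∀ n ∈ N, f n = f 1) (e : ℕ) (hf1 : f 1 = e)
    (hnorm : ∀ h : H, h ∉ N → f h * conj (f h) = 1) :
    (N.index : ℤ) ∣ (e : ℤ) - 1 ∨ (N.index : ℤ) ∣ (e : ℤ) + 1 := by
  classical
  obtain ⟨F, hF, hFf⟩ := helper82.isCharacter_deflation N hf hfN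
  have hfq : Fintype (H ⧸ N) := Fintype.ofFinite _
  obtain ⟨ν, hν⟩ := exists_faithful_hom_of_isCyclic (H ⧸ N)
  have hab : ∀ a b : H ⧸ N, a * b = b * a := by
    intro a b
    obtain ⟨g, hg⟩ := hcyc.exists_generator
    obtain ⟨i, rfl⟩ := Subgroup.mem_zpowers_iff.mp (hg a)
    obtain ⟨j, rfl⟩ := Subgroup.mem_zpowers_iff.mp (hg b)
    exact zpow_mul_comm g i j
  obtain ⟨x₀, hx₀⟩ : ∃ x₀ : H ⧸ N, x₀ ≠ 1 := by
    obtain ⟨h, hh⟩ : ∃ h : H, h ∉ N := by
      by_contra hcon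
      push Not at hcon
      exact hN (eq_top_iff.mpr fun x _ => hcon x)
    exact ⟨(h : H ⧸ N), fun h1 => hh ((QuotientGroup.eq_one_iff h).mp h1)⟩
  have hnormF : ∀ x : H ⧸ N, x ≠ 1 → ∑ _i : Unit, F x * conj (F x) = 1 := by
    intro x hx
    induction x using QuotientGroup.induction_on with
    | H h =>
      rw [Finset.sum_const, Finset.card_univ, Fintype.card_unit, one_smul, hFf]
      exact hnorm h (fun hh => hx ((QuotientGroup.eq_one_iff h).mpr hh))
  obtain ⟨-, ε, φ, hε, hφ⟩ := cyclic_norm_two hab ν hν (fun _ : Unit => F) (fun _ => hF) hnormF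
    () x₀ hx₀ (by
      intro h0
      have := hnormF x₀ hx₀
      simp [h0] at this)
  obtain ⟨a, ha⟩ := exists_nat_classInner_irr hF (helper82.isIrrCharacter_of_hom φ)
  have hF1 : F 1 = e := by
    rw [← hf1, ← hFf 1]
    rfl
  have hsum : ∑ x : H ⧸ N, F x * conj ((φ x : ℂ)) =
      (e : ℂ) + (ε : ℂ) * ((Nat.card (H ⧸ N) : ℂ) - 1) := by
    rw [← Finset.add_sum_erase Finset.univ _ (Finset.mem_univ (1 : H ⧸ N))]
    congr 1
    · rw [hF1]
      simp
    · rw [Finset.sum_congr rfl (fun x hx => by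
        rw [hφ x (Finset.ne_of_mem_erase hx), mul_assoc, hom_val_mul_conj, mul_one])]
      rw [Finset.sum_const, Finset.card_erase_of_mem (Finset.mem_univ _), Finset.card_univ,
        nsmul_eq_mul, ← Nat.card_eq_fintype_card, Nat.cast_sub Nat.card_pos, Nat.cast_one]
      ring
  have hm : (Nat.card (H ⧸ N) : ℂ) * a = (e : ℂ) + (ε : ℂ) * ((Nat.card (H ⧸ N) : ℂ) - 1) := by
    rw [← hsum, ← ha]
    unfold classInner
    have h0 : (Nat.card (H ⧸ N) : ℂ) ≠ 0 := by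
      exact_mod_cast (Nat.card_pos (α := H ⧸ N)).ne'
    field_simp
  have hmZ : (Nat.card (H ⧸ N) : ℤ) * ((a : ℤ) - ε) = (e : ℤ) - ε := by
    have h1 : (((Nat.card (H ⧸ N) : ℤ) * ((a : ℤ) - ε) : ℤ) : ℂ) = (((e : ℤ) - ε : ℤ) : ℂ) := by
      push_cast
      linear_combination hm
    exact_mod_cast h1
  rw [Subgroup.index_eq_card]
  rcases hε with rfl | rfl
  · left
    exact Dvd.intro _ hmZ
  · right
    refine Dvd.intro ((a : ℤ) - -1) ?_
    rw [hmZ]
    ring

/-- Basic facts for a fully ramified character: `θ^G = e χ` with `θ` invariant. -/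
theorem fully_ramified_basic {G : Type*} [Group G] [Fintype G] (N : Subgroup G) [hN : N.Normal]
    [Fintype N] (θ : N → ℂ) (hθ : IsIrrCharacter N θ)
    (hinv : ∀ (g : G) (n : N), θ ⟨g * n * g⁻¹, hN.conj_mem (n : G) n.2 g⟩ = θ n)
    (χ : G → ℂ) (hχ : IsIrrCharacter G χ) (e : ℕ)
    (hram : indFun N θ = fun g => (e : ℂ) * χ g) :
    e ≠ 0 ∧ ∀ n : N, χ n = e * θ n := by
  have h1 : ∀ n : N, (e : ℂ) * χ n = (N.index : ℂ) * θ n := by
    intro n
    rw [← indFun_invariant_apply N θ hinv n, hram]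
  have hidx : (N.index : ℂ) ≠ 0 := by
    exact_mod_cast (Subgroup.index_ne_zero_of_finite (H := N))
  have hθ1 : θ 1 ≠ 0 := helper83.irr_one_ne_zero ⟨θ, hθ⟩
  have he : e ≠ 0 := by
    intro h0
    have h2 := h1 1
    rw [h0, Nat.cast_zero, zero_mul] at h2
    exact mul_ne_zero hidx hθ1 h2.symm
  have heC : (e : ℂ) ≠ 0 := by exact_mod_cast he
  have h2 : classInner (indFun N θ) χ = e := by
    rw [hram]
    have : (fun g => (e : ℂ) * χ g) = (e : ℂ) • χ := rfl
    rw [this, classInner_smul_left, classInner_irr_self hχ, mul_one]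
  rw [frobenius_reciprocity N θ (isClassFunction_of_isIrrCharacter hχ)] at h2
  have h3 : (fun n : N => χ n) = ((N.index : ℂ) / e) • θ := by
    funext n
    rw [Pi.smul_apply, smul_eq_mul, div_mul_eq_mul_div, ← h1 n]
    field_simp
  rw [h3, classInner_smul_right, classInner_irr_self hθ, mul_one] at h2
  have h4 : (N.index : ℂ) / e = e := by
    have h5 := congrArg (starRingEnd ℂ) h2
    simpa using h5
  refine ⟨he, fun n => ?_⟩
  have h6 := congrFun h3 n
  rw [h6, Pi.smul_apply, smul_eq_mul, h4]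

/-- Under the Frobenius condition for `x`, every coset of `N` in `G` contains a commutator
`u x u⁻¹ x⁻¹` with `u ∈ G`. -/
theorem exists_commutator_coset {Γ : Type*} [Group Γ] [Finite Γ] (G N : Subgroup Γ)
    [hG : G.Normal] [hN : N.Normal] (x : Γ)
    (hx : ∀ g ∈ G, x * g * x⁻¹ * g⁻¹ ∈ N → g ∈ N) :
    ∀ g ∈ G, ∃ u ∈ G, (u * x * u⁻¹ * x⁻¹)⁻¹ * g ∈ N := by
  classical
  have hGbn : (G.map (QuotientGroup.mk' N)).Normal :=
    Subgroup.Normal.map hG _ (QuotientGroup.mk'_surjective N)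
  have hmem : ∀ u : G.map (QuotientGroup.mk' N),
      (u : Γ ⧸ N) * (QuotientGroup.mk' N x) * (u : Γ ⧸ N)⁻¹ * (QuotientGroup.mk' N x)⁻¹ ∈
        G.map (QuotientGroup.mk' N) := by
    intro u
    have h1 : (QuotientGroup.mk' N x) * (u : Γ ⧸ N)⁻¹ * (QuotientGroup.mk' N x)⁻¹ ∈
        G.map (QuotientGroup.mk' N) :=
      hGbn.conj_mem _ ((G.map (QuotientGroup.mk' N)).inv_mem u.2) _
    have h2 := (G.map (QuotientGroup.mk' N)).mul_mem u.2 h1
    simpa [mul_assoc] using h2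
  have hinj : Function.Injective (fun u : G.map (QuotientGroup.mk' N) =>
      (⟨_, hmem u⟩ : G.map (QuotientGroup.mk' N))) := by
    intro u v huv
    have h1 : (u : Γ ⧸ N) * (QuotientGroup.mk' N x) * (u : Γ ⧸ N)⁻¹ * (QuotientGroup.mk' N x)⁻¹ =
        (v : Γ ⧸ N) * (QuotientGroup.mk' N x) * (v : Γ ⧸ N)⁻¹ * (QuotientGroup.mk' N x)⁻¹ :=
      congrArg Subtype.val huv
    obtain ⟨w, hwG, hw⟩ : ∃ w ∈ G, QuotientGroup.mk' N w = (v : Γ ⧸ N)⁻¹ * (u : Γ ⧸ N) :=
      (G.map (QuotientGroup.mk' N)).mul_mem ((G.map (QuotientGroup.mk' N)).inv_mem v.2) u.2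
    have h3 : (u : Γ ⧸ N) * (QuotientGroup.mk' N x) * (u : Γ ⧸ N)⁻¹ =
        (v : Γ ⧸ N) * (QuotientGroup.mk' N x) * (v : Γ ⧸ N)⁻¹ := mul_right_cancel h1
    have h4 : (v : Γ ⧸ N)⁻¹ * (u : Γ ⧸ N) * (QuotientGroup.mk' N x) =
        (QuotientGroup.mk' N x) * ((v : Γ ⧸ N)⁻¹ * (u : Γ ⧸ N)) := by
      calc (v : Γ ⧸ N)⁻¹ * (u : Γ ⧸ N) * (QuotientGroup.mk' N x)
          = (v : Γ ⧸ N)⁻¹ * ((u : Γ ⧸ N) * (QuotientGroup.mk' N x) * (u : Γ ⧸ N)⁻¹) * u := by group
        _ = (v : Γ ⧸ N)⁻¹ * ((v : Γ ⧸ N) * (QuotientGroup.mk' N x) * (v : Γ ⧸ N)⁻¹) * u := by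
            rw [h3]
        _ = (QuotientGroup.mk' N x) * ((v : Γ ⧸ N)⁻¹ * (u : Γ ⧸ N)) := by group
    have h2 : QuotientGroup.mk' N (x * w * x⁻¹ * w⁻¹) = 1 := by
      rw [map_mul, map_mul, map_mul, map_inv, map_inv, hw, ← h4]
      group
    have h5 : w ∈ N := hx w hwG ((QuotientGroup.eq_one_iff _).mp h2)
    have h6 : (v : Γ ⧸ N)⁻¹ * (u : Γ ⧸ N) = 1 := by
      rw [← hw]
      exact (QuotientGroup.eq_one_iff w).mpr h5
    exact Subtype.ext (inv_mul_eq_one.mp h6).symm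
  have hsur := Finite.injective_iff_surjective.mp hinj
  intro g hg
  obtain ⟨u, hu⟩ := hsur ⟨QuotientGroup.mk' N g, Subgroup.mem_map_of_mem _ hg⟩
  obtain ⟨u', hu'G, hu'⟩ := u.2
  refine ⟨u', hu'G, ?_⟩
  have h1 : (u : Γ ⧸ N) * (QuotientGroup.mk' N x) * (u : Γ ⧸ N)⁻¹ * (QuotientGroup.mk' N x)⁻¹ =
      QuotientGroup.mk' N g := congrArg Subtype.val hu
  rw [← hu'] at h1
  have h2 : QuotientGroup.mk' N (u' * x * u'⁻¹ * x⁻¹) = QuotientGroup.mk' N g := by
    rw [map_mul, map_mul, map_mul, map_inv, map_inv]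
    exact h1
  exact QuotientGroup.eq.mp h2

/-- Under the Frobenius condition for `x`, a class function summed over the coset `G x` is
`|G : N|` times its sum over `N x`. -/
theorem sum_coset_frobenius {Γ : Type*} [Group Γ] [Fintype Γ] (G N : Subgroup Γ) [hG : G.Normal]
    [hN : N.Normal] [Fintype G] [Fintype N] (hNG : N ≤ G) (x : Γ)
    (hx : ∀ g ∈ G, x * g * x⁻¹ * g⁻¹ ∈ N → g ∈ N)
    (K : Γ → ℂ) (hK : ∀ a b : Γ, K (b * a * b⁻¹) = K a) :
    (Nat.card N : ℂ) * ∑ g : G, K ((g : Γ) * x) =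
      (Nat.card G : ℂ) * ∑ n : N, K ((n : Γ) * x) := by
  classical
  have hsurj := exists_commutator_coset G N x hx
  have hκ : ∀ g ∈ G, ∑ n : N, K ((n : Γ) * g * x) = ∑ n : N, K ((n : Γ) * x) := by
    intro g hg
    obtain ⟨u, huG, hu⟩ := hsurj g hg
    have hn₀ : g * (u * x * u⁻¹ * x⁻¹)⁻¹ ∈ N := by
      have h0 := hN.conj_mem _ hu (u * x * u⁻¹ * x⁻¹)
      have h00 : (u * x * u⁻¹ * x⁻¹) * ((u * x * u⁻¹ * x⁻¹)⁻¹ * g) * (u * x * u⁻¹ * x⁻¹)⁻¹ =
          g * (u * x * u⁻¹ * x⁻¹)⁻¹ := by group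
      rw [h00] at h0
      exact h0
    have h1 : ∀ n : N, K ((n : Γ) * g * x) =
        K (((n * ⟨_, hn₀⟩ : N) : Γ) * (u * x * u⁻¹)) := by
      intro n
      congr 1
      rw [Subgroup.coe_mul]
      group
    rw [Finset.sum_congr rfl (fun n _ => h1 n)]
    rw [Fintype.sum_equiv (Equiv.mulRight (⟨_, hn₀⟩ : N))
      (fun n : N => K (((n * ⟨_, hn₀⟩ : N) : Γ) * (u * x * u⁻¹)))
      (fun n : N => K ((n : Γ) * (u * x * u⁻¹))) (fun n => rfl)]
    have h2 : ∀ n : N, K ((n : Γ) * (u * x * u⁻¹)) =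
        K (((MulAut.conjNormal u⁻¹ n : N) : Γ) * x) := by
      intro n
      rw [MulAut.conjNormal_apply, ← hK _ u⁻¹]
      congr 1
      group
    rw [Finset.sum_congr rfl (fun n _ => h2 n)]
    exact Fintype.sum_equiv (MulAut.conjNormal u⁻¹ : N ≃* N).toEquiv _ _ (fun n => rfl)
  have h3 : ∑ g : G, ∑ n : N, K ((n : Γ) * g * x) =
      (Nat.card N : ℂ) * ∑ g : G, K ((g : Γ) * x) := by
    rw [Finset.sum_comm]
    have h : ∀ n : N, ∑ g : G, K ((n : Γ) * g * x) = ∑ g : G, K ((g : Γ) * x) := by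
      intro n
      exact Fintype.sum_equiv (Equiv.mulLeft (⟨n, hNG n.2⟩ : G)) _ _ (fun g => rfl)
    rw [Finset.sum_congr rfl (fun n _ => h n), Finset.sum_const, Finset.card_univ, nsmul_eq_mul,
      Nat.card_eq_fintype_card]
  rw [← h3, Finset.sum_congr rfl (fun (g : G) _ => hκ (g : Γ) g.2), Finset.sum_const,
    Finset.card_univ, nsmul_eq_mul, Nat.card_eq_fintype_card]

/-- S4454: `θ ∈ Irr(N)` invariant in `Γ`, fully ramified in `G` (`θ^G = e χ`), `Γ/G` cyclic and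
every element outside `G` acting fixed-point-freely on `G/N`: then `|Γ : G|` divides `e ∓ 1`. -/
theorem fully_ramified_frobenius {Γ : Type*} [Group Γ] [Fintype Γ] (G N : Subgroup Γ)
    [hG : G.Normal] [hN : N.Normal] [Fintype G] [Fintype N] (hNG : N ≤ G) (hGlt : G ≠ ⊤)
    (hcyc : IsCyclic (Γ ⧸ G))
    (hfrob : ∀ x : Γ, x ∉ G → ∀ g : Γ, g ∈ G → x * g * x⁻¹ * g⁻¹ ∈ N → g ∈ N)
    (θ : IrrCharacter N)
    (hinv : ∀ (x : Γ) (n : N), (θ : N → ℂ) ⟨x * n * x⁻¹, hN.conj_mem n n.2 x⟩ = (θ : N → ℂ) n)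
    (χ : IrrCharacter G) (e : ℕ)
    (hram : indFun (N.subgroupOf G) (fun n : N.subgroupOf G => (θ : N → ℂ) ⟨(n : G), n.2⟩) =
      fun g => (e : ℂ) * (χ : G → ℂ) g) :
    (G.index : ℤ) ∣ (e : ℤ) - 1 ∨ (G.index : ℤ) ∣ (e : ℤ) + 1 := by
  classical
  have hNGn : (N.subgroupOf G).Normal := inferInstance
  have hfNG : Fintype (N.subgroupOf G) := Fintype.ofFinite _
  have hθG : IsIrrCharacter (N.subgroupOf G)
      (fun n : N.subgroupOf G => (θ : N → ℂ) ⟨(n : G), n.2⟩) :=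
    helper82.isIrrCharacter_subRes N G hNG θ.2
  obtain ⟨he, hχN⟩ := fully_ramified_basic (N.subgroupOf G) _ hθG
    (fun g n => hinv (g : Γ) ⟨(n : G), n.2⟩) (χ : G → ℂ) χ.2 e hram
  have heC : (e : ℂ) ≠ 0 := by exact_mod_cast he
  -- `χ` is `Γ`-invariant
  have hχinv : ∀ (x : Γ) (g : G),
      (χ : G → ℂ) ⟨x * g * x⁻¹, hG.conj_mem g g.2 x⟩ = (χ : G → ℂ) g := by
    intro x g
    have h1 := indFun_comp_aut (N.subgroupOf G)
      (fun n : N.subgroupOf G => (θ : N → ℂ) ⟨(n : G), n.2⟩) (MulAut.conjNormal x : MulAut G)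
      (by
        intro z
        rw [Subgroup.mem_subgroupOf, Subgroup.mem_subgroupOf, MulAut.conjNormal_apply]
        constructor
        · intro h
          have h2 := hN.conj_mem _ h x⁻¹
          simpa [mul_assoc] using h2
        · intro h
          exact hN.conj_mem _ h x)
      (fun z hz => hinv x ⟨(z : G), z.2⟩) g
    rw [hram] at h1
    exact mul_left_cancel₀ heC h1
  -- extension of `χ` to `Γ`
  obtain ⟨χh, hχh, hχhG⟩ := helper82.exists_extension_of_cyclic G hcyc χ.2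
    (fun x => (helper82.cconj_eq_iff G x _).mpr (hχinv x))
  have hχhGirr : IsIrrCharacter G (fun g : G => χh g) := by
    have : (fun g : G => χh g) = (χ : G → ℂ) := funext hχhG
    rw [this]
    exact χ.2
  -- a generator
  obtain ⟨q, hq⟩ := hcyc.exists_generator
  obtain ⟨x₀, rfl⟩ := QuotientGroup.mk_surjective q
  have hx₀G : x₀ ∉ G := by
    intro h
    apply hGlt
    rw [eq_top_iff]
    intro y _
    have h1 := hq (y : Γ ⧸ G)
    rw [(QuotientGroup.eq_one_iff x₀).mpr h, Subgroup.zpowers_one_eq_bot, Subgroup.mem_bot] at h1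
    exact (QuotientGroup.eq_one_iff y).mp h1
  obtain ⟨H, hH⟩ : ∃ H : Subgroup Γ, H = N ⊔ Subgroup.zpowers x₀ := ⟨_, rfl⟩
  have hNH : N ≤ H := by
    rw [hH]
    exact le_sup_left
  have hx₀H : x₀ ∈ H := by
    rw [hH]
    exact Subgroup.mem_sup_right (Subgroup.mem_zpowers x₀)
  have hHmem : ∀ h ∈ H, ∃ n ∈ N, ∃ k : ℤ, h = n * x₀ ^ k := by
    intro h hh
    rw [hH, ← SetLike.mem_coe, Subgroup.normal_mul] at hh
    obtain ⟨n, hn, c, hc, rfl⟩ := Set.mem_mul.mp hh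
    obtain ⟨k, rfl⟩ := Subgroup.mem_zpowers_iff.mp hc
    exact ⟨n, hn, k, rfl⟩
  have hHG : ∀ h ∈ H, h ∈ G → h ∈ N := by
    intro h hh hhG
    obtain ⟨n, hn, k, rfl⟩ := hHmem h hh
    have h1 : x₀ ^ k ∈ G := by
      have h2 := G.mul_mem (G.inv_mem (hNG hn)) hhG
      simpa using h2
    have h2 : x₀ ^ k ∈ N := hfrob x₀ hx₀G _ h1 (by
      have h3 : x₀ * x₀ ^ k * x₀⁻¹ * (x₀ ^ k)⁻¹ = 1 := by group
      rw [h3]
      exact N.one_mem)
    exact N.mul_mem hn h2
  have hfH : Fintype H := Fintype.ofFinite _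
  have hfNH : Fintype (N.subgroupOf H) := Fintype.ofFinite _
  have hNHn : (N.subgroupOf H).Normal := inferInstance
  have hcycH : IsCyclic (H ⧸ N.subgroupOf H) := by
    refine ⟨⟨((⟨x₀, hx₀H⟩ : H) : H ⧸ N.subgroupOf H), fun q => ?_⟩⟩
    induction q using QuotientGroup.induction_on with
    | H h =>
      obtain ⟨n, hn, k, hk⟩ := hHmem h h.2
      refine ⟨k, ?_⟩
      show ((⟨x₀, hx₀H⟩ : H) : H ⧸ N.subgroupOf H) ^ k = (h : H ⧸ N.subgroupOf H)
      rw [← QuotientGroup.mk_zpow, QuotientGroup.eq, Subgroup.mem_subgroupOf]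
      simp only [Subgroup.coe_mul, Subgroup.coe_inv, Subgroup.coe_zpow, hk]
      have h1 := hN.conj_mem n hn (x₀ ^ k)⁻¹
      simpa [mul_assoc] using h1
  have hθH : IsIrrCharacter (N.subgroupOf H) (helper82.subRes N H (θ : N → ℂ)) :=
    helper82.isIrrCharacter_subRes N H hNH θ.2
  obtain ⟨ϑ, hϑ, hϑN⟩ := helper82.exists_extension_of_cyclic (N.subgroupOf H) hcycH hθH
    (fun h => (helper82.cconj_eq_iff (N.subgroupOf H) h _).mpr
      (fun n => hinv (h : Γ) ⟨(n : H), Subgroup.mem_subgroupOf.mp n.2⟩))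
  have hϑNirr : IsIrrCharacter (N.subgroupOf H) (fun n : N.subgroupOf H => ϑ n) := by
    have : (fun n : N.subgroupOf H => ϑ n) = helper82.subRes N H (θ : N → ℂ) := funext hϑN
    rw [this]
    exact hθH
  have hψ : IsCharacter H (fun h : H => χh h) :=
    isCharacter_restrict H (isCharacter_of_isIrrCharacter hχh)
  have hψN : ∀ n : N.subgroupOf H, (fun h : H => χh h) n = e * ϑ n := by
    intro n
    have hn : ((n : H) : Γ) ∈ N := Subgroup.mem_subgroupOf.mp n.2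
    rw [hϑN n, helper82.subRes_apply]
    show χh ((n : H) : Γ) = _
    have h1 := hχhG ⟨((n : H) : Γ), hNG hn⟩
    rw [h1]
    exact hχN ⟨⟨((n : H) : Γ), hNG hn⟩, Subgroup.mem_subgroupOf.mpr hn⟩
  obtain ⟨hfchar, hf1, hψf⟩ := gallagher_mult_char (N.subgroupOf H) ϑ hϑ hϑNirr
    (fun h : H => χh h) hψ e hψN
  have hNHtop : N.subgroupOf H ≠ ⊤ := by
    intro htop
    have h1 : (⟨x₀, hx₀H⟩ : H) ∈ N.subgroupOf H := by
      rw [htop]
      trivial
    exact hx₀G (hNG (Subgroup.mem_subgroupOf.mp h1))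
  have hfN : ∀ n ∈ N.subgroupOf H,
      gallagherFun (N.subgroupOf H) ϑ (fun h : H => χh h) n =
        gallagherFun (N.subgroupOf H) ϑ (fun h : H => χh h) 1 := by
    intro n hn
    have h1 := gallagherFun_coset (N.subgroupOf H) ϑ (fun h : H => χh h) n hn 1
    rwa [mul_one] at h1
  have hnorm : ∀ h : H, h ∉ N.subgroupOf H →
      gallagherFun (N.subgroupOf H) ϑ (fun h : H => χh h) h *
        conj (gallagherFun (N.subgroupOf H) ϑ (fun h : H => χh h) h) = 1 := by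
    intro h hh
    have hhG : (h : Γ) ∉ G := fun hG' => hh (Subgroup.mem_subgroupOf.mpr (hHG h h.2 hG'))
    have hcard : Nat.card (N.subgroupOf H) = Nat.card N :=
      Nat.card_congr (Subgroup.subgroupOfEquivOfLe hNH).toEquiv
    have h1 : ∑ n : N.subgroupOf H,
        χh (((n : H) * h : H) : Γ) * conj (χh (((n : H) * h : H) : Γ)) =
        gallagherFun (N.subgroupOf H) ϑ (fun h : H => χh h) h *
          conj (gallagherFun (N.subgroupOf H) ϑ (fun h : H => χh h) h) *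
            (Nat.card (N.subgroupOf H) : ℂ) := by
      have h2 : ∀ n : N.subgroupOf H,
          χh (((n : H) * h : H) : Γ) * conj (χh (((n : H) * h : H) : Γ)) =
          (gallagherFun (N.subgroupOf H) ϑ (fun h : H => χh h) h *
            conj (gallagherFun (N.subgroupOf H) ϑ (fun h : H => χh h) h)) *
              (ϑ ((n : H) * h) * conj (ϑ ((n : H) * h))) := by
        intro n
        have h3 : χh (((n : H) * h : H) : Γ) =
            ϑ ((n : H) * h) * gallagherFun (N.subgroupOf H) ϑ (fun h : H => χh h) ((n : H) * h) :=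
          congrFun hψf ((n : H) * h)
        have h4 := gallagherFun_coset (N.subgroupOf H) ϑ (fun h : H => χh h) (n : H) n.2 h
        rw [h3, h4, map_mul]
        ring
      rw [Finset.sum_congr rfl (fun n _ => h2 n), ← Finset.mul_sum,
        sum_coset_norm (N.subgroupOf H) ϑ hϑ hϑNirr h]
    have h5 : ∑ n : N.subgroupOf H,
        χh (((n : H) * h : H) : Γ) * conj (χh (((n : H) * h : H) : Γ)) =
        ∑ n : N, χh ((n : Γ) * (h : Γ)) * conj (χh ((n : Γ) * (h : Γ))) :=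
      Fintype.sum_equiv (Subgroup.subgroupOfEquivOfLe hNH).toEquiv _ _ (fun n => rfl)
    have h6 := sum_coset_frobenius G N hNG (h : Γ) (hfrob (h : Γ) hhG)
      (fun γ => χh γ * conj (χh γ)) (fun a b => by
        rw [isClassFunction_of_isIrrCharacter hχh a b])
    have h7 := sum_coset_norm G χh hχh hχhGirr (h : Γ)
    rw [h7] at h6
    have hG0 : (Nat.card G : ℂ) ≠ 0 := by exact_mod_cast (Nat.card_pos (α := G)).ne'
    have hN0 : (Nat.card N : ℂ) ≠ 0 := by exact_mod_cast (Nat.card_pos (α := N)).ne'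
    have h8 : ∑ n : N, χh ((n : Γ) * (h : Γ)) * conj (χh ((n : Γ) * (h : Γ))) =
        (Nat.card N : ℂ) := by
      apply mul_left_cancel₀ hG0
      rw [← h6]
      ring
    rw [h5, h8, hcard] at h1
    apply mul_right_cancel₀ hN0
    rw [← h1, one_mul]
  have hB := dvd_of_norm_one_off_normal (N.subgroupOf H) hcycH hNHtop
    (gallagherFun (N.subgroupOf H) ϑ (fun h : H => χh h)) hfchar hfN e hf1 hnorm
  have hdvd : G.index ∣ (N.subgroupOf H).index := by
    rw [Subgroup.index_eq_card, Subgroup.index_eq_card]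
    apply Subgroup.card_dvd_of_surjective (QuotientGroup.map (N.subgroupOf H) G H.subtype
      (fun n hn => hNG (Subgroup.mem_subgroupOf.mp hn)))
    intro q
    obtain ⟨k, rfl⟩ := Subgroup.mem_zpowers_iff.mp (hq q)
    exact ⟨((⟨x₀, hx₀H⟩ : H) : H ⧸ N.subgroupOf H) ^ k, by
      rw [map_zpow]
      rfl⟩
  rcases hB with h | h
  · left
    exact dvd_trans (Int.natCast_dvd_natCast.mpr hdvd) h
  · right
    exact dvd_trans (Int.natCast_dvd_natCast.mpr hdvd) h

end Cfsg.Agent.Lib.helper19
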