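import Mathlib

set_option autoImplicit false

namespace Cfsg.Agent.Lib.helper19

/-- the number of monic polynomials of degree `d` with non-zero constant term over a field
with `q` elements -/
def tyW (q d : ℕ) : ℕ := if d = 0 then 1 else q ^ d - q ^ (d - 1)

/-- weighted number of "types" of size `m` with parts of size at most `K` -/
def tyA (q : ℕ) : ℕ → ℕ → ℕ
  | 0, m => if m = 0 then 1 else 0
  | K + 1, m => ∑ d ∈ Finset.range (m / (K + 1) + 1), tyW q d * tyA q K (m - (K + 1) * d)

/-- the defect `q ^ m - [K ≤ m] q ^ (m - K) - tyA q K m` (for `1 ≤ K`), given by a recursion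
with non-negative terms -/
def tyR (q : ℕ) : ℕ → ℕ → ℕ
  | 0, _ => 0
  | 1, _ => 0
  | K + 2, m => ∑ d ∈ Finset.range (m / (K + 2) + 1),
      tyW q d * ((if m - (K + 2) * d = K + 1 then 1 else 0) + tyR q (K + 1) (m - (K + 2) * d))

theorem tyW_zero (q : ℕ) : tyW q 0 = 1 := by simp [tyW]

theorem tyW_succ_cast (q : ℕ) (hq : 1 ≤ q) (d : ℕ) :
    ((tyW q (d + 1) : ℕ) : ℤ) = (q : ℤ) * (tyW q d : ℤ) - (if d = 0 then 1 else 0) := by
  rcases Nat.eq_zero_or_pos d with rfl | hd
  · simp only [tyW, zero_add, one_ne_zero, if_false, if_true, pow_one, Nat.sub_self, pow_zero]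
    push_cast [Nat.cast_sub hq]
    ring
  · have h1 : d + 1 ≠ 0 := by omega
    have h2 : d ≠ 0 := by omega
    simp only [tyW, h1, h2, if_false, Nat.add_sub_cancel]
    have e1 : q ^ d ≤ q ^ (d + 1) := Nat.pow_le_pow_right hq (by omega)
    have e2 : q ^ (d - 1) ≤ q ^ d := Nat.pow_le_pow_right hq (by omega)
    push_cast [Nat.cast_sub e1, Nat.cast_sub e2]
    have e3 : (q : ℤ) ^ d = (q : ℤ) * (q : ℤ) ^ (d - 1) := by
      rw [← pow_succ']
      congr 1
      omega
    rw [pow_succ]
    linear_combination (-1 : ℤ) * e3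

/-- the numeric core: a telescoping identity -/
theorem ty_core (q : ℤ) (L : ℕ) (hL : 2 ≤ L) (w u : ℕ → ℤ) (hw0 : w 0 = 1)
    (hw : ∀ d, w (d + 1) = q * w d - (if d = 0 then 1 else 0))
    (hu1 : ∀ x, x < L → u x = q ^ x)
    (hu2 : ∀ x, L ≤ x → u x = q ^ x - q ^ (x - (L - 1))) :
    ∀ m, ∑ d ∈ Finset.range (m / L + 1), w d * u (m - L * d)
      + (if L ≤ m then q ^ (m - L) else 0) = q ^ m := by
  intro m
  induction m using Nat.strong_induction_on with
  | _ m ih =>
    by_cases hm : m < L
    · have h0 : m / L = 0 := Nat.div_eq_of_lt hm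
      have h1 : ¬ L ≤ m := by omega
      rw [h0]
      simp [hw0, hu1 m hm, h1]
    · have hLm : L ≤ m := by omega
      obtain ⟨m', rfl⟩ : ∃ m', m = m' + L := ⟨m - L, by omega⟩
      have hdiv : (m' + L) / L = m' / L + 1 := by
        rw [Nat.add_div_right _ (by omega : 0 < L)]
      have ih' := ih m' (by omega)
      rw [hdiv, Finset.sum_range_succ']
      have hsum : ∑ k ∈ Finset.range (m' / L + 1), w (k + 1) * u (m' + L - L * (k + 1))
          = q * ∑ k ∈ Finset.range (m' / L + 1), w k * u (m' - L * k) - u m' := by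
        have e1 : ∀ k ∈ Finset.range (m' / L + 1), w (k + 1) * u (m' + L - L * (k + 1))
            = q * (w k * u (m' - L * k)) - (if k = 0 then u m' else 0) := by
          intro k _
          have e2 : m' + L - L * (k + 1) = m' - L * k := by
            rw [Nat.mul_succ]; omega
          rw [e2, hw k]
          by_cases hk : k = 0
          · subst hk; simp; ring
          · simp [hk]; ring
        rw [Finset.sum_congr rfl e1, Finset.sum_sub_distrib, ← Finset.mul_sum,
          Finset.sum_ite_eq' (Finset.range (m' / L + 1)) 0 (fun _ => u m')]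
        simp
      rw [hsum]
      simp only [Nat.mul_zero, Nat.sub_zero, hw0, one_mul, hLm, if_true, Nat.add_sub_cancel]
      have hum : u (m' + L) = q ^ (m' + L) - q ^ (m' + 1) := by
        rw [hu2 _ hLm]
        congr 2
        omega
      rw [hum]
      by_cases hm' : L ≤ m'
      · rw [if_pos hm'] at ih'
        have hum' : u m' = q ^ m' - q ^ (m' - (L - 1)) := hu2 _ hm'
        have e3 : q ^ (m' - (L - 1)) = q * q ^ (m' - L) := by
          rw [← pow_succ']
          congr 1
          omega
        rw [hum', e3]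
        have e4 : q ^ (m' + 1) = q * q ^ m' := pow_succ' q m'
        rw [e4]
        linear_combination q * ih'
      · rw [if_neg hm'] at ih'
        have hum' : u m' = q ^ m' := hu1 _ (by omega)
        rw [hum']
        have e4 : q ^ (m' + 1) = q * q ^ m' := pow_succ' q m'
        rw [e4]
        linear_combination q * ih'

theorem tyA_one (q m : ℕ) : tyA q 1 m = tyW q m := by
  show ∑ d ∈ Finset.range (m / (0 + 1) + 1), tyW q d * tyA q 0 (m - (0 + 1) * d) = tyW q m
  rw [Finset.sum_eq_single m]
  · simp [tyA]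
  · intro b hb hbm
    have hb' : b < m / (0 + 1) + 1 := Finset.mem_range.1 hb
    have hb2 : b ≤ m := by
      simp at hb'; omega
    have h3 : m - (0 + 1) * b ≠ 0 := by omega
    show tyW q b * tyA q 0 (m - (0 + 1) * b) = 0
    have h4 : tyA q 0 (m - (0 + 1) * b) = 0 := by
      show (if m - (0 + 1) * b = 0 then 1 else 0) = 0
      rw [if_neg h3]
    rw [h4, mul_zero]
  · intro h
    exact absurd (Finset.mem_range.2 (by simp)) h

/-- the exact identity behind `k(GL_n(q)) ≤ q ^ n` -/
theorem tyA_add_tyR (q : ℕ) (hq : 1 ≤ q) (K m : ℕ) :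
    tyA q (K + 1) m + tyR q (K + 1) m + (if K + 1 ≤ m then q ^ (m - (K + 1)) else 0) = q ^ m := by
  induction K generalizing m with
  | zero =>
    rw [tyA_one]
    show tyW q m + 0 + _ = _
    rcases Nat.eq_zero_or_pos m with rfl | hm
    · simp [tyW]
    · have h1 : m ≠ 0 := by omega
      have h2 : 0 + 1 ≤ m := by omega
      simp only [tyW, h1, if_false, h2, if_true, add_zero]
      have e2 : q ^ (m - 1) ≤ q ^ m := Nat.pow_le_pow_right hq (by omega)
      have : m - (0 + 1) = m - 1 := by omega
      rw [this]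
      omega
  | succ K ih =>
    -- abbreviations
    set L := K + 2 with hLdef
    let U : ℕ → ℕ := fun x => tyA q (K + 1) x + ((if x = K + 1 then 1 else 0) + tyR q (K + 1) x)
    have hAR : tyA q (K + 1 + 1) m + tyR q (K + 1 + 1) m
        = ∑ d ∈ Finset.range (m / L + 1), tyW q d * U (m - L * d) := by
      show (∑ d ∈ Finset.range (m / (K + 1 + 1) + 1), tyW q d * tyA q (K + 1) (m - (K + 1 + 1) * d))
        + (∑ d ∈ Finset.range (m / (K + 2) + 1),
            tyW q d * ((if m - (K + 2) * d = K + 1 then 1 else 0)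
              + tyR q (K + 1) (m - (K + 2) * d))) = _
      rw [← Finset.sum_add_distrib]
      refine Finset.sum_congr rfl (fun d _ => ?_)
      show _ = tyW q d * (tyA q (K + 1) (m - (K + 2) * d)
        + ((if m - (K + 2) * d = K + 1 then 1 else 0) + tyR q (K + 1) (m - (K + 2) * d)))
      ring
    have hU1 : ∀ x, x < L → ((U x : ℕ) : ℤ) = (q : ℤ) ^ x := by
      intro x hx
      have h := ih x
      show ((tyA q (K + 1) x + ((if x = K + 1 then 1 else 0) + tyR q (K + 1) x) : ℕ) : ℤ) = _
      by_cases hx1 : x = K + 1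
      · subst hx1
        simp only [le_refl, if_true, Nat.sub_self, pow_zero] at h
        simp only [if_true]
        have : tyA q (K + 1) (K + 1) + (1 + tyR q (K + 1) (K + 1)) = q ^ (K + 1) := by omega
        rw [this]; push_cast; ring
      · have hx2 : ¬ K + 1 ≤ x := by omega
        simp only [hx2, if_false, add_zero] at h
        simp only [hx1, if_false, zero_add]
        rw [h]; push_cast; ring
    have hU2 : ∀ x, L ≤ x → ((U x : ℕ) : ℤ) = (q : ℤ) ^ x - (q : ℤ) ^ (x - (L - 1)) := by
      intro x hx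
      have h := ih x
      have hx1 : x ≠ K + 1 := by omega
      have hx2 : K + 1 ≤ x := by omega
      simp only [hx2, if_true] at h
      show ((tyA q (K + 1) x + ((if x = K + 1 then 1 else 0) + tyR q (K + 1) x) : ℕ) : ℤ) = _
      simp only [hx1, if_false, zero_add]
      have hL1 : L - 1 = K + 1 := by omega
      rw [hL1]
      have hz : ((tyA q (K + 1) x + tyR q (K + 1) x + q ^ (x - (K + 1)) : ℕ) : ℤ)
          = ((q ^ x : ℕ) : ℤ) := by rw [h]
      push_cast at hz ⊢
      linarith
    have hcore := ty_core (q : ℤ) L (by omega) (fun d => (tyW q d : ℤ)) (fun x => (U x : ℤ))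
      (by simp [tyW_zero]) (fun d => tyW_succ_cast q hq d) hU1 hU2 m
    have hcast : (((tyA q (K + 1 + 1) m + tyR q (K + 1 + 1) m
        + (if K + 1 + 1 ≤ m then q ^ (m - (K + 1 + 1)) else 0) : ℕ)) : ℤ) = ((q ^ m : ℕ) : ℤ) := by
      rw [hAR]
      push_cast
      rw [← hcore]
    exact_mod_cast hcast

theorem tyA_le (q : ℕ) (hq : 1 ≤ q) (K m : ℕ) : tyA q K m ≤ q ^ m := by
  cases K with
  | zero =>
    show (if m = 0 then 1 else 0) ≤ q ^ m
    split_ifs with h
    · exact Nat.one_le_pow _ _ (by omega)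
    · exact Nat.zero_le _
  | succ K =>
    have := tyA_add_tyR q hq K m
    omega

end Cfsg.Agent.Lib.helper19
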