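import Mathlib
import Cfsg.Agent.Lib.helper45.SemisimpleExist
import Cfsg.Agent.Lib.helper19.GLClassNum

set_option autoImplicit false

namespace Cfsg.Agent.Lib.helper19

open Polynomial

section
variable (F : Type*) [Field F]

/-- monic polynomials of degree `d` with non-zero constant coefficient -/
def monSet (d : ℕ) : Set F[X] := {f | f.Monic ∧ f.natDegree = d ∧ f.coeff 0 ≠ 0}

/-- the type data: sequences `(g_1, …, g_K)` of monic polynomials with non-zero constant
coefficients and `∑ i · deg g_i = m` -/
def tySet (K m : ℕ) : Set (Fin K → F[X]) :=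
  {g | (∀ i, (g i).Monic ∧ (g i).coeff 0 ≠ 0) ∧ ∑ i, (i.val + 1) * (g i).natDegree = m}

end

variable {F : Type*} [Field F] [Fintype F]

theorem ncard_monSet (d : ℕ) : (monSet F d).ncard = tyW (Fintype.card F) d := by
  rw [← Nat.card_coe_set_eq]
  rcases Nat.eq_zero_or_pos d with rfl | hd
  · rw [tyW_zero, Nat.card_eq_one_iff_unique]
    refine ⟨⟨?_⟩, ⟨⟨1, monic_one, natDegree_one, by simp⟩⟩⟩
    rintro ⟨f, hf1, hf2, -⟩ ⟨g, hg1, hg2, -⟩
    apply Subtype.ext
    show f = g
    rw [eq_one_of_monic_natDegree_zero hf1 hf2, eq_one_of_monic_natDegree_zero hg1 hg2]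
  · have h := Cfsg.Agent.Lib.helper45.card_monic_coeff_zero_ne_zero (F := F) d hd
    have h' : Nat.card ↥(monSet F d) = (Fintype.card F - 1) * Fintype.card F ^ (d - 1) := h
    rw [h']
    have hd0 : d ≠ 0 := by omega
    simp only [tyW, hd0, if_false]
    have : Fintype.card F ^ d = Fintype.card F * Fintype.card F ^ (d - 1) := by
      rw [← pow_succ']
      congr 1
      omega
    rw [this, Nat.sub_mul, one_mul]

theorem finite_monSet (d : ℕ) : (monSet F d).Finite := by
  apply Set.finite_of_ncard_ne_zero
  rw [ncard_monSet]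
  have hq : 2 ≤ Fintype.card F := Fintype.one_lt_card
  rcases Nat.eq_zero_or_pos d with rfl | hd
  · simp [tyW]
  · have hd0 : d ≠ 0 := by omega
    simp only [tyW, hd0, if_false]
    have : Fintype.card F ^ (d - 1) < Fintype.card F ^ d :=
      Nat.pow_lt_pow_right hq (by omega)
    omega

theorem ncard_biUnion_le' {α ι : Type*} (s : Finset ι) (t : ι → Set α)
    (ht : ∀ i ∈ s, (t i).Finite) :
    (⋃ i ∈ s, t i).ncard ≤ ∑ i ∈ s, (t i).ncard := by
  classical
  induction s using Finset.induction_on with
  | empty => simp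
  | insert a s ha ih =>
    rw [Finset.set_biUnion_insert, Finset.sum_insert ha]
    have h1 := Set.ncard_union_le (t a) (⋃ x ∈ s, t x)
    have h2 := ih (fun i hi => ht i (Finset.mem_insert_of_mem hi))
    omega

/-- the number of type data is at most `tyA` -/
theorem tySet_finite_ncard (K : ℕ) :
    ∀ m, (tySet F K m).Finite ∧ (tySet F K m).ncard ≤ tyA (Fintype.card F) K m := by
  induction K with
  | zero =>
    intro m
    have hfin : (tySet F 0 m).Finite := Set.toFinite _
    refine ⟨hfin, ?_⟩
    show _ ≤ (if m = 0 then 1 else 0)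
    split_ifs with hm
    · rw [Set.ncard_le_one_iff_subsingleton]
      exact Set.subsingleton_of_subsingleton
    · have : tySet F 0 m = ∅ := by
        ext g
        simp only [tySet, Set.mem_ofPred_eq, Set.mem_empty_iff_false, iff_false, not_and]
        intro _
        simp only [Finset.univ_eq_empty, Finset.sum_empty]
        exact fun h => hm h.symm
      rw [this, Set.ncard_empty]
  | succ K ih =>
    intro m
    -- the splitting map
    let π : (Fin (K + 1) → F[X]) → F[X] × (Fin K → F[X]) :=
      fun g => (g (Fin.last K), fun i => g i.castSucc)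
    have hπ : Function.Injective π := by
      intro g g' h
      have h1 : g (Fin.last K) = g' (Fin.last K) := congrArg Prod.fst h
      have h2 : (fun i : Fin K => g i.castSucc) = fun i => g' i.castSucc := congrArg Prod.snd h
      funext i
      refine Fin.lastCases h1 (fun j => congrFun h2 j) i
    let S : Set (F[X] × (Fin K → F[X])) :=
      ⋃ d ∈ Finset.range (m / (K + 1) + 1), monSet F d ×ˢ tySet F K (m - (K + 1) * d)
    have hSfin : ∀ d ∈ Finset.range (m / (K + 1) + 1),
        (monSet F d ×ˢ tySet F K (m - (K + 1) * d)).Finite :=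
      fun d _ => (finite_monSet d).prod (ih _).1
    have hS : S.Finite := Set.Finite.biUnion (Finset.finite_toSet _) hSfin
    have hsub : π '' tySet F (K + 1) m ⊆ S := by
      rintro _ ⟨g, hg, rfl⟩
      obtain ⟨hg1, hg2⟩ := hg
      rw [Fin.sum_univ_castSucc] at hg2
      simp only [Fin.val_last, Fin.val_castSucc] at hg2
      have hle : (K + 1) * (g (Fin.last K)).natDegree ≤ m := by omega
      have hd : (g (Fin.last K)).natDegree ≤ m / (K + 1) :=
        (Nat.le_div_iff_mul_le (by omega)).2 (by rw [mul_comm]; exact hle)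
      simp only [S, Set.mem_iUnion, Finset.mem_range, exists_prop]
      refine ⟨(g (Fin.last K)).natDegree, by omega, ?_⟩
      refine Set.mk_mem_prod ⟨(hg1 _).1, rfl, (hg1 _).2⟩ ⟨fun i => hg1 _, ?_⟩
      show ∑ i : Fin K, (i.val + 1) * (g i.castSucc).natDegree = _
      omega
    have hfin : (tySet F (K + 1) m).Finite :=
      Set.Finite.of_finite_image (hS.subset hsub) hπ.injOn
    refine ⟨hfin, ?_⟩
    calc (tySet F (K + 1) m).ncard = (π '' tySet F (K + 1) m).ncard :=
          (Set.ncard_image_of_injective _ hπ).symm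
      _ ≤ S.ncard := Set.ncard_le_ncard hsub hS
      _ ≤ ∑ d ∈ Finset.range (m / (K + 1) + 1),
            (monSet F d ×ˢ tySet F K (m - (K + 1) * d)).ncard :=
          ncard_biUnion_le' _ _ hSfin
      _ ≤ ∑ d ∈ Finset.range (m / (K + 1) + 1),
            tyW (Fintype.card F) d * tyA (Fintype.card F) K (m - (K + 1) * d) := by
          refine Finset.sum_le_sum (fun d _ => ?_)
          rw [Set.ncard_prod, ncard_monSet]
          exact Nat.mul_le_mul_left _ (ih _).2
      _ = tyA (Fintype.card F) (K + 1) m := rfl

/-- the number of type data of size `n` is at most `q ^ n` -/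
theorem tySet_ncard_le (K m : ℕ) : (tySet F K m).ncard ≤ Fintype.card F ^ m :=
  ((tySet_finite_ncard K m).2).trans (tyA_le _ (Fintype.card_pos) K m)

end Cfsg.Agent.Lib.helper19
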