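import Mathlib
import Cfsg.Agent.Lib.helper48.ConjClass
import Cfsg.Agent.Lib.helper19.GLClassCount

set_option autoImplicit false

namespace Cfsg.Agent.Lib.helper19

open Polynomial Cfsg.Agent.Lib.helper48
open scoped Classical

universe u
variable {F : Type u} [Field F]

/-- the product of the (normalised) primes occurring with exponent exactly `j` -/
noncomputable def gData {ι : Type*} [Fintype ι] (p : ι → F[X]) (e : ι → ℕ) (j : ℕ) : F[X] :=
  ∏ i ∈ Finset.univ.filter (fun i => e i = j), normalize (p i)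

theorem gData_count {ι : Type*} [Fintype ι] (p : ι → F[X]) (e : ι → ℕ)
    (hp : ∀ i, Irreducible (p i)) (j : ℕ) (P : F[X]) :
    (UniqueFactorizationMonoid.normalizedFactors (gData p e j)).count (normalize P)
      = (Finset.univ.filter (fun i => e i = j ∧ Associated (p i) P)).card := by
  unfold gData
  rw [Finset.prod_eq_multiset_prod, UniqueFactorizationMonoid.normalizedFactors_prod_eq]
  · rw [Multiset.map_map, Multiset.count_map, ← Finset.filter_val, Finset.card_val,
      Finset.filter_filter]
    congr 1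
    refine Finset.filter_congr (fun i _ => ?_)
    refine and_congr Iff.rfl ?_
    show normalize P = normalize (normalize (p i)) ↔ _
    rw [normalize_idem, normalize_eq_normalize_iff, dvd_dvd_iff_associated]
    exact ⟨fun h => h.symm, fun h => h.symm⟩
  · intro a ha
    rw [Multiset.mem_map] at ha
    obtain ⟨i, -, rfl⟩ := ha
    exact (associated_normalize (p i)).irreducible (hp i)

theorem sum_assoc_min {ι : Type*} [Fintype ι] (e : ι → ℕ) (Q : ι → Prop) (N k : ℕ)
    (he : ∀ i, e i ≤ N) :
    ∑ i, (if Q i then min (e i) k else 0)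
      = ∑ j ∈ Finset.range (N + 1),
          min j k * (Finset.univ.filter (fun i => e i = j ∧ Q i)).card := by
  have h1 : ∀ i, (if Q i then min (e i) k else 0)
      = ∑ j ∈ Finset.range (N + 1), (if e i = j ∧ Q i then min j k else 0) := by
    intro i
    rw [Finset.sum_eq_single (e i)]
    · simp
    · intro b _ hb
      rw [if_neg]
      exact fun h => hb h.1.symm
    · intro h
      exact absurd (Finset.mem_range.2 (Nat.lt_succ_of_le (he i))) h
  rw [Finset.sum_congr rfl (fun i _ => h1 i), Finset.sum_comm]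
  refine Finset.sum_congr rfl (fun j _ => ?_)
  rw [← Finset.sum_filter, Finset.sum_const, smul_eq_mul, mul_comm]

/-- the kernel dimensions in terms of the data `gData` -/
theorem finrank_ker_eq_of_gData {V : Type*} [AddCommGroup V] [Module F V] (φ : V →ₗ[F] V)
    {ι : Type*} [Fintype ι] (p : ι → F[X]) (e : ι → ℕ) (hp : ∀ i, Irreducible (p i))
    (h : HasDecomp φ (fun i => p i ^ e i)) (N : ℕ) (he : ∀ i, e i ≤ N) {P : F[X]}
    (hP : Irreducible P) (k : ℕ) :
    Module.finrank F (LinearMap.ker (aeval φ (P ^ k)))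
      = P.natDegree * ∑ j ∈ Finset.range (N + 1),
          min j k * (UniqueFactorizationMonoid.normalizedFactors (gData p e j)).count
            (normalize P) := by
  rw [HasDecomp.finrank_ker_pow φ p e hp h hP k]
  congr 1
  have h2 := sum_assoc_min e (fun i => Associated (p i) P) N k he
  refine Eq.trans ?_ (h2.trans ?_)
  · exact Finset.sum_congr rfl (fun i _ => by congr)
  · refine Finset.sum_congr rfl (fun j _ => ?_)
    rw [gData_count p e hp j P]
    congr!

theorem exp_le_of_hasDecomp {V : Type*} [AddCommGroup V] [Module F V] (φ : V →ₗ[F] V)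
    {ι : Type*} [Fintype ι] (p : ι → F[X]) (e : ι → ℕ) (hp : ∀ i, Irreducible (p i))
    (h : HasDecomp φ (fun i => p i ^ e i)) (i : ι) : e i ≤ Module.finrank F V := by
  rw [HasDecomp.finrank_eq φ _ (fun i => pow_ne_zero _ (hp i).ne_zero) h]
  have h1 : e i ≤ (p i ^ e i).natDegree := by
    rw [natDegree_pow]
    exact Nat.le_mul_of_pos_right _
      (natDegree_pos_iff_degree_pos.2 (degree_pos_of_irreducible (hp i)))
  exact h1.trans (Finset.single_le_sum (f := fun i => (p i ^ e i).natDegree)
    (fun _ _ => Nat.zero_le _) (Finset.mem_univ i))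

theorem gData_monic {ι : Type*} [Fintype ι] (p : ι → F[X]) (e : ι → ℕ)
    (hp : ∀ i, Irreducible (p i)) (j : ℕ) : (gData p e j).Monic :=
  monic_prod_of_monic _ _ (fun i _ => monic_normalize (hp i).ne_zero)

theorem natDegree_normalize' (f : F[X]) : (normalize f).natDegree = f.natDegree :=
  natDegree_eq_of_degree_eq degree_normalize

theorem gData_natDegree {ι : Type*} [Fintype ι] (p : ι → F[X]) (e : ι → ℕ)
    (hp : ∀ i, Irreducible (p i)) (j : ℕ) :
    (gData p e j).natDegree = ∑ i, (if e i = j then (p i).natDegree else 0) := by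
  unfold gData
  rw [natDegree_prod_of_monic _ _ (fun i _ => monic_normalize (hp i).ne_zero),
    Finset.sum_filter]
  refine Finset.sum_congr rfl (fun i _ => ?_)
  rw [natDegree_normalize']

theorem sum_gData_natDegree {ι : Type*} [Fintype ι] (p : ι → F[X]) (e : ι → ℕ)
    (hp : ∀ i, Irreducible (p i)) (n : ℕ) (he : ∀ i, e i ≤ n) :
    ∑ j : Fin n, (j.val + 1) * (gData p e (j.val + 1)).natDegree
      = ∑ i, (p i ^ e i).natDegree := by
  have h1 : ∀ j : Fin n, (j.val + 1) * (gData p e (j.val + 1)).natDegree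
      = ∑ i, (if e i = j.val + 1 then e i * (p i).natDegree else 0) := by
    intro j
    rw [gData_natDegree p e hp, Finset.mul_sum]
    refine Finset.sum_congr rfl (fun i _ => ?_)
    split_ifs with h
    · rw [h]
    · rw [mul_zero]
  rw [Finset.sum_congr rfl (fun j _ => h1 j), Finset.sum_comm]
  refine Finset.sum_congr rfl (fun i _ => ?_)
  rw [natDegree_pow]
  rw [Fin.sum_univ_eq_sum_range (fun j => if e i = j + 1 then e i * (p i).natDegree else 0) n]
  rcases Nat.eq_zero_or_pos (e i) with h0 | hpos
  · rw [h0, zero_mul]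
    exact Finset.sum_eq_zero (fun j _ => by rw [if_neg (by omega)])
  · rw [Finset.sum_eq_single (e i - 1)]
    · rw [if_pos (by omega)]
    · intro b _ hb
      rw [if_neg (by omega)]
    · intro h
      exact absurd (Finset.mem_range.2 (by have := he i; omega)) h

theorem gData_coeff_zero {V : Type*} [AddCommGroup V] [Module F V] (φ : V →ₗ[F] V)
    (hφ : Function.Injective φ)
    {ι : Type*} [Fintype ι] (p : ι → F[X]) (e : ι → ℕ) (hp : ∀ i, Irreducible (p i))
    (h : HasDecomp φ (fun i => p i ^ e i)) (j : ℕ) (hj : 1 ≤ j) :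
    (gData p e j).coeff 0 ≠ 0 := by
  unfold gData
  rw [coeff_zero_prod, Finset.prod_ne_zero_iff]
  intro i hi
  have hei : e i = j := (Finset.mem_filter.1 hi).2
  intro h0
  have hX : (X : F[X]) ∣ normalize (p i) := X_dvd_iff.2 h0
  have hX' : (X : F[X]) ∣ p i := hX.trans (associated_normalize (p i)).symm.dvd
  have hass : Associated (p i) X := ((irreducible_X).associated_of_dvd (hp i) hX').symm
  have hk := HasDecomp.finrank_ker_pow φ p e hp h (irreducible_X (R := F)) 1
  have hker : LinearMap.ker (aeval φ ((X : F[X]) ^ 1)) = ⊥ := by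
    rw [pow_one, aeval_X]
    exact LinearMap.ker_eq_bot.2 hφ
  rw [hker, finrank_bot, natDegree_X, one_mul] at hk
  have hle : (if Associated (p i) X then min (e i) 1 else 0)
      ≤ ∑ i, (if Associated (p i) X then min (e i) 1 else 0) :=
    Finset.single_le_sum (f := fun i => if Associated (p i) X then min (e i) 1 else 0)
      (fun _ _ => Nat.zero_le _) (Finset.mem_univ i)
  rw [if_pos hass, ← hk] at hle
  have : min (e i) 1 = 1 := by rw [hei]; exact min_eq_right hj
  omega

/-- `g` is a type datum for `φ` -/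
def IsTyData {V : Type*} [AddCommGroup V] [Module F V] (φ : V →ₗ[F] V) (n : ℕ)
    (g : Fin n → F[X]) : Prop :=
  g ∈ tySet F n n ∧ ∀ P : F[X], Irreducible P → ∀ k : ℕ,
    Module.finrank F (LinearMap.ker (aeval φ (P ^ k)))
      = P.natDegree * ∑ j : Fin n,
          min (j.val + 1) k * (UniqueFactorizationMonoid.normalizedFactors (g j)).count
            (normalize P)

theorem exists_isTyData {V : Type*} [AddCommGroup V] [Module F V] [FiniteDimensional F V]
    (φ : V →ₗ[F] V) (hφ : Function.Injective φ) :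
    ∃ g : Fin (Module.finrank F V) → F[X], IsTyData φ (Module.finrank F V) g := by
  obtain ⟨ι, _, p, e, hp, hdec⟩ := exists_hasDecomp_irreducible φ
  have he : ∀ i, e i ≤ Module.finrank F V := exp_le_of_hasDecomp φ p e hp hdec
  refine ⟨fun j => gData p e (j.val + 1), ⟨fun j => ⟨gData_monic p e hp _,
    gData_coeff_zero φ hφ p e hp hdec _ (by omega)⟩, ?_⟩, ?_⟩
  · rw [sum_gData_natDegree p e hp _ he,
      ← HasDecomp.finrank_eq φ _ (fun i => pow_ne_zero _ (hp i).ne_zero) hdec]
  · intro P hP k
    rw [finrank_ker_eq_of_gData φ p e hp hdec _ he hP k, Finset.sum_range_succ']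
    simp only [Nat.zero_min, zero_mul, add_zero]
    rw [Fin.sum_univ_eq_sum_range (fun j => min (j + 1) k
      * (UniqueFactorizationMonoid.normalizedFactors (gData p e (j + 1))).count (normalize P))]

theorem exists_conj_of_isTyData {V W : Type*} [AddCommGroup V] [Module F V]
    [AddCommGroup W] [Module F W] [FiniteDimensional F V] [FiniteDimensional F W]
    (φ : V →ₗ[F] V) (ψ : W →ₗ[F] W) (n : ℕ) (g : Fin n → F[X])
    (h1 : IsTyData φ n g) (h2 : IsTyData ψ n g) :
    ∃ T : V ≃ₗ[F] W, ∀ v, T (φ v) = ψ (T v) :=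
  exists_conj_of_finrank_ker_eq φ ψ (fun P hP k => by rw [h1.2 P hP k, h2.2 P hP k])

/-- the type datum of an element of `GL_n(F)` -/
theorem exists_tyData (n : ℕ) :
    ∃ Φ : GL (Fin n) F → (Fin n → F[X]),
      (∀ A, Φ A ∈ tySet F n n) ∧ ∀ A B, Φ A = Φ B → IsConj A B := by
  have key : ∀ A : GL (Fin n) F, ∃ g : Fin n → F[X],
      IsTyData (Matrix.toLin' (A : Matrix (Fin n) (Fin n) F)) n g := by
    intro A
    have hinj : Function.Injective (Matrix.toLin' (A : Matrix (Fin n) (Fin n) F)) := by
      intro v w hvw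
      rw [Matrix.toLin'_apply, Matrix.toLin'_apply] at hvw
      exact (Matrix.mulVec_injective_iff_isUnit.2 A.isUnit) hvw
    have h := exists_isTyData (Matrix.toLin' (A : Matrix (Fin n) (Fin n) F)) hinj
    rw [Module.finrank_fin_fun] at h
    exact h
  choose Φ hΦ using key
  refine ⟨Φ, fun A => (hΦ A).1, fun A B hAB => ?_⟩
  have hB := hΦ B
  rw [← hAB] at hB
  obtain ⟨T, hT⟩ := exists_conj_of_isTyData _ _ n (Φ A) (hΦ A) hB
  -- turn `T` into an element of `GL`
  let P : Matrix (Fin n) (Fin n) F := LinearMap.toMatrix' (T : (Fin n → F) →ₗ[F] (Fin n → F))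
  let Q : Matrix (Fin n) (Fin n) F :=
    LinearMap.toMatrix' (T.symm : (Fin n → F) →ₗ[F] (Fin n → F))
  have hPQ : P * Q = 1 := by
    rw [← LinearMap.toMatrix'_comp, ← LinearMap.toMatrix'_id]
    congr 1
    ext v : 1
    simp
  have hQP : Q * P = 1 := by
    rw [← LinearMap.toMatrix'_comp, ← LinearMap.toMatrix'_id]
    congr 1
    ext v : 1
    simp
  let U : GL (Fin n) F := ⟨P, Q, hPQ, hQP⟩
  have hconj : P * (A : Matrix (Fin n) (Fin n) F) = (B : Matrix (Fin n) (Fin n) F) * P := by
    apply Matrix.toLin'.injective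
    rw [Matrix.toLin'_mul, Matrix.toLin'_mul, Matrix.toLin'_toMatrix']
    exact LinearMap.ext fun v => hT v
  rw [isConj_iff]
  refine ⟨U, ?_⟩
  rw [mul_inv_eq_iff_eq_mul]
  apply Units.ext
  exact hconj

/-- **Upper bound for the class number of `GL_n(q)`**. -/
theorem card_conjClasses_GL_le [Fintype F] (n : ℕ) :
    Nat.card (ConjClasses (GL (Fin n) F)) ≤ Fintype.card F ^ n := by
  obtain ⟨Φ, hΦ1, hΦ2⟩ := exists_tyData (F := F) n
  have hfin : (tySet F n n).Finite := (tySet_finite_ncard n n).1
  have : Finite ↥(tySet F n n) := hfin.to_subtype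
  let f : ConjClasses (GL (Fin n) F) → ↥(tySet F n n) := fun C => ⟨Φ C.out, hΦ1 _⟩
  have hf : Function.Injective f := by
    intro C C' h
    have h1 : Φ C.out = Φ C'.out := congrArg Subtype.val h
    have h2 := hΦ2 _ _ h1
    have h3 : ConjClasses.mk C.out = ConjClasses.mk C'.out :=
      ConjClasses.mk_eq_mk_iff_isConj.2 h2
    have e1 : ConjClasses.mk C.out = C := Quotient.out_eq C
    have e2 : ConjClasses.mk C'.out = C' := Quotient.out_eq C'
    rw [← e1, ← e2, h3]
  calc Nat.card (ConjClasses (GL (Fin n) F)) ≤ Nat.card ↥(tySet F n n) :=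
        Nat.card_le_card_of_injective f hf
    _ = (tySet F n n).ncard := Nat.card_coe_set_eq _
    _ ≤ Fintype.card F ^ n := tySet_ncard_le n n

end Cfsg.Agent.Lib.helper19
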