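import Mathlib
import Cfsg.Agent.Lib.helper45.SemisimpleCount
import Cfsg.Agent.Lib.helper19.GLClassData

set_option autoImplicit false

namespace Cfsg.Agent.Lib.helper19

/-- **The class number of `GL_n(q)`** lies between `q ^ n - q ^ (n - 1)` and `q ^ n`. -/
theorem gl_class_number_bounds {F : Type*} [Field F] [Fintype F] (n : ℕ) (hn : 1 ≤ n) :
    Fintype.card F ^ n - Fintype.card F ^ (n - 1)
        ≤ Nat.card (ConjClasses (Matrix.GeneralLinearGroup (Fin n) F)) ∧
      Nat.card (ConjClasses (Matrix.GeneralLinearGroup (Fin n) F)) ≤ Fintype.card F ^ n := by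
  refine ⟨?_, card_conjClasses_GL_le n⟩
  obtain ⟨p, hp⟩ := CharP.exists F
  haveI : Fact p.Prime := ⟨CharP.char_is_prime F p⟩
  have h := Cfsg.Agent.Lib.helper45.card_gl_classes_coprime (F := F) p n hn
  have hle : Nat.card {c : ConjClasses (GL (Fin n) F) //
      ∃ g : GL (Fin n) F, ConjClasses.mk g = c ∧ (orderOf g).Coprime p}
        ≤ Nat.card (ConjClasses (GL (Fin n) F)) :=
    Nat.card_le_card_of_injective Subtype.val Subtype.val_injective
  rw [h] at hle
  have e1 : Fintype.card F ^ n = Fintype.card F * Fintype.card F ^ (n - 1) := by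
    rw [← pow_succ']
    congr 1
    omega
  have e2 : Fintype.card F ^ n - Fintype.card F ^ (n - 1)
      = (Fintype.card F - 1) * Fintype.card F ^ (n - 1) := by
    rw [e1, Nat.sub_mul, one_mul]
  rw [e2]
  exact hle

end Cfsg.Agent.Lib.helper19
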