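import Cfsg.Agent.Lib.helper3.GfDefs

/-!
S4395 piece FORMS (racer copy by helper19): `h19_forms`.

Route without the field `E` and without the adjoint involution: `S := T + T⁻¹`,
`W := span {S ^ k v0}`.  `W` is totally isotropic for every invariant alternating form,
`W + T W = V`, the form is determined by `β v0 ·`, which kills `W`.
-/

set_option autoImplicit false

namespace Cfsg.Agent.Lib.helper3.Gf

open Module

/-- FORMS (racer copy) -/
theorem h19_forms (p q : ℕ) [Fact p.Prime] [Fact q.Prime] (hpq : p ≠ q) {V : Type*} [AddCommGroup V] [Finite V]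
    (T : V ≃+ V) (h : Irr p q T) (a : ℕ) (hcard : Nat.card V = p ^ a) :
    (a % 2 = 1 → ∀ β : V → V → ZMod p, InvAlt p T β → β = 0) ∧
    (a % 2 = 0 → Nat.card {β : V → V → ZMod p // InvAlt p T β} ≤ p ^ (a / 2)) := by
  classical
  have hpp : p.Prime := Fact.out
  obtain ⟨instM⟩ : Nonempty (Module (ZMod p) V) := ⟨AddCommGroup.zmodModule h.exp⟩
  have instF : Module.Finite (ZMod p) V := Module.Finite.of_finite
  have hfr : finrank (ZMod p) V = a := by
    have h1 : Nat.card V = Nat.card (ZMod p) ^ finrank (ZMod p) V := Module.natCard_eq_pow_finrank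
    rw [Nat.card_zmod, hcard] at h1
    exact (Nat.pow_right_injective hpp.two_le h1).symm
  obtain ⟨v1, hv1⟩ := h.ne
  have hv0' : ∃ v0 : V, v0 ≠ 0 := ⟨v1, fun h0 => hv1 (by rw [h0, map_zero])⟩
  obtain ⟨v0, hv0⟩ := hv0'
  -- irreducibility in a convenient form
  have hirr : ∀ X : AddSubgroup V, (∀ w ∈ X, T w ∈ X) → v0 ∈ X → ∀ x : V, x ∈ X := by
    intro X hX hv x
    rcases h.irr X hX with h1 | h1
    · rw [h1, AddSubgroup.mem_bot] at hv
      exact absurd hv hv0
    · rw [h1]; exact AddSubgroup.mem_top x
  -- linear maps
  let Tl : V →ₗ[ZMod p] V := T.toAddMonoidHom.toZModLinearMap p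
  let Tl' : V →ₗ[ZMod p] V := T.symm.toAddMonoidHom.toZModLinearMap p
  let S : V →ₗ[ZMod p] V := Tl + Tl'
  have hTl : ∀ x, Tl x = T x := fun x => rfl
  have hS : ∀ x, S x = T x + T.symm x := fun x => rfl
  have hSpow : ∀ (k : ℕ) (x : V), (S ^ (k + 1)) x = S ((S ^ k) x) := by
    intro k x
    rw [pow_succ']; rfl
  let W : Submodule (ZMod p) V := Submodule.span (ZMod p) (Set.range fun k : ℕ => (S ^ k) v0)
  have hgenW : ∀ k : ℕ, (S ^ k) v0 ∈ W := fun k => Submodule.subset_span ⟨k, rfl⟩
  have hv0W : v0 ∈ W := by
    have := hgenW 0
    simpa using this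
  have hSW : ∀ w ∈ W, S w ∈ W := by
    have : W ≤ W.comap S := by
      apply Submodule.span_le.mpr
      rintro _ ⟨k, rfl⟩
      show S ((S ^ k) v0) ∈ W
      rw [← hSpow]
      exact hgenW (k + 1)
    exact fun w hw => this hw
  -- (ii) W + T W = V
  have hsup : W ⊔ W.map Tl = ⊤ := by
    rw [eq_top_iff]
    intro x _
    refine hirr (W ⊔ W.map Tl).toAddSubgroup ?_ ?_ x
    · intro u hu
      have hu' : u ∈ W ⊔ W.map Tl := hu
      obtain ⟨y, hy, z, hz, rfl⟩ := Submodule.mem_sup.mp hu'
      obtain ⟨w', hw', rfl⟩ := Submodule.mem_map.mp hz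
      show T (y + Tl w') ∈ W ⊔ W.map Tl
      have e1 : T (y + Tl w') = -w' + Tl (y + S w') := by
        rw [hTl, hTl, hS, map_add, map_add, map_add, T.apply_symm_apply]
        abel
      rw [e1]
      exact Submodule.add_mem _ (Submodule.mem_sup_left (W.neg_mem hw'))
        (Submodule.mem_sup_right (Submodule.mem_map_of_mem (W.add_mem hy (hSW w' hw'))))
    · exact Submodule.mem_sup_left hv0W
  have hdim : a ≤ 2 * finrank (ZMod p) W := by
    have h1 : finrank (ZMod p) ↥(W ⊔ W.map Tl) ≤ finrank (ZMod p) W + finrank (ZMod p) ↥(W.map Tl) :=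
      Submodule.finrank_add_le_finrank_add_finrank _ _
    have h2 : finrank (ZMod p) ↥(W.map Tl) ≤ finrank (ZMod p) W := Submodule.finrank_map_le _ _
    rw [hsup, finrank_top, hfr] at h1
    omega
  have hann : finrank (ZMod p) W + finrank (ZMod p) W.dualAnnihilator = a := by
    rw [Subspace.finrank_add_finrank_dualAnnihilator_eq, hfr]
  -- facts about an invariant alternating form
  have hskew : ∀ β : V → V → ZMod p, InvAlt p T β → ∀ u v, β u v = - β v u := by
    intro β hβ u v
    obtain ⟨hl, hr, halt, hT⟩ := hβ
    have h1 := halt (u + v)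
    rw [hl, hr, hr, halt, halt, zero_add, add_zero] at h1
    exact eq_neg_of_add_eq_zero_left h1
  have hiso : ∀ β : V → V → ZMod p, InvAlt p T β → ∀ w ∈ W, ∀ w' ∈ W, β w w' = 0 := by
    intro β hβ
    have hsk := hskew β hβ
    obtain ⟨hl, hr, halt, hT⟩ := hβ
    have hadj : ∀ u v, β (S u) v = β u (S v) := by
      intro u v
      rw [hS, hS, hl, hr]
      have e1 : β (T u) v = β u (T.symm v) := by
        have := hT u (T.symm v)
        rwa [T.apply_symm_apply] at this
      have e2 : β (T.symm u) v = β u (T v) := by
        have := hT (T.symm u) v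
        rw [T.apply_symm_apply] at this
        exact this.symm
      rw [e1, e2, add_comm]
    have hxS : ∀ x, β x (S x) = 0 := by
      intro x
      rw [hS, hr]
      have e2 : β x (T.symm x) = β (T x) x := by
        have := hT x (T.symm x)
        rw [T.apply_symm_apply] at this
        exact this.symm
      rw [e2, hsk (T x) x, add_neg_cancel]
    have hmove : ∀ (i j : ℕ) (x y : V), β ((S ^ i) x) ((S ^ j) y) = β x ((S ^ (i + j)) y) := by
      intro i
      induction i with
      | zero => intro j x y; simp
      | succ i ih =>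
        intro j x y
        have e : i + 1 + j = i + (j + 1) := by omega
        rw [hSpow, hadj, ← hSpow, ih, e]
    have hzero : ∀ (k : ℕ) (x : V), β x ((S ^ k) x) = 0 := by
      intro k x
      rcases Nat.even_or_odd' k with ⟨m, rfl | rfl⟩
      · rw [two_mul, ← hmove]
        exact halt _
      · have e : 2 * m + 1 = m + (m + 1) := by omega
        rw [e, ← hmove, hSpow]
        exact hxS _
    have step1 : ∀ j : ℕ, ∀ w ∈ W, β w ((S ^ j) v0) = 0 := by
      intro j
      let φ : V →ₗ[ZMod p] ZMod p :=
        (AddMonoidHom.mk' (fun u => β u ((S ^ j) v0)) (fun u u' => hl u u' _)).toZModLinearMap p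
      have : W ≤ LinearMap.ker φ := by
        apply Submodule.span_le.mpr
        rintro _ ⟨i, rfl⟩
        show β ((S ^ i) v0) ((S ^ j) v0) = 0
        rw [hmove]
        exact hzero _ _
      exact fun w hw => this hw
    intro w hw
    let φ : V →ₗ[ZMod p] ZMod p :=
      (AddMonoidHom.mk' (fun u => β w u) (fun u u' => hr w u u')).toZModLinearMap p
    have : W ≤ LinearMap.ker φ := by
      apply Submodule.span_le.mpr
      rintro _ ⟨j, rfl⟩
      show β w ((S ^ j) v0) = 0
      exact step1 j w hw
    exact fun w' hw' => this hw'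
  constructor
  · -- a odd
    intro hodd β hβ
    by_contra hne
    have hsk := hskew β hβ
    have hisoβ := hiso β hβ
    obtain ⟨hl, hr, halt, hT⟩ := hβ
    -- nondegenerate
    have hnd : ∀ u, (∀ v, β u v = 0) → u = 0 := by
      intro u hu
      let R : AddSubgroup V :=
        { carrier := {u | ∀ v, β u v = 0}
          add_mem' := fun {x y} hx hy v => by rw [hl, hx v, hy v, add_zero]
          zero_mem' := fun v => by
            have := hl 0 0 v
            rw [add_zero] at this
            exact left_eq_add.mp this
          neg_mem' := fun {x} hx v => by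
            have h1 := hl x (-x) v
            rw [add_neg_cancel, hx v, zero_add] at h1
            have h0 : β 0 v = 0 := by
              have := hl 0 0 v
              rw [add_zero] at this
              exact left_eq_add.mp this
            rw [h0] at h1
            exact h1.symm }
      have hRT : ∀ w ∈ R, T w ∈ R := by
        intro w hw v
        have := hT w (T.symm v)
        rw [T.apply_symm_apply] at this
        rw [this]
        exact hw _
      rcases h.irr R hRT with h1 | h1
      · have : u ∈ R := hu
        rw [h1, AddSubgroup.mem_bot] at this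
        exact this
      · exfalso
        apply hne
        funext x y
        have : x ∈ R := by rw [h1]; exact AddSubgroup.mem_top x
        exact this y
    let Λ : V →ₗ[ZMod p] Module.Dual (ZMod p) V :=
      (AddMonoidHom.mk' (fun u => ((AddMonoidHom.mk' (fun v => β u v) (fun v v' => hr u v v')).toZModLinearMap p :
          Module.Dual (ZMod p) V))
        (fun u u' => by
          apply LinearMap.ext
          intro v
          exact hl u u' v)).toZModLinearMap p
    have hΛ : ∀ u v, Λ u v = β u v := fun u v => rfl
    have hΛinj : Function.Injective Λ := by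
      rw [← LinearMap.ker_eq_bot, Submodule.eq_bot_iff]
      intro u hu
      apply hnd
      intro v
      rw [← hΛ, LinearMap.mem_ker.mp hu]; rfl
    have hle : W.map Λ ≤ W.dualAnnihilator := by
      rintro _ ⟨w, hw, rfl⟩
      rw [Submodule.mem_dualAnnihilator]
      intro w' hw'
      rw [hΛ]
      exact hisoβ w hw w' hw'
    have h1 : finrank (ZMod p) ↥(W.map Λ) = finrank (ZMod p) W :=
      (Submodule.equivMapOfInjective Λ hΛinj W).finrank_eq.symm
    have h2 : finrank (ZMod p) ↥(W.map Λ) ≤ finrank (ZMod p) W.dualAnnihilator :=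
      Submodule.finrank_mono hle
    omega
  · -- a even
    intro hev
    have instFD : Finite (Module.Dual (ZMod p) V) :=
      Finite.of_injective (fun f : Module.Dual (ZMod p) V => (f : V → ZMod p)) DFunLike.coe_injective
    have hcardann : Nat.card W.dualAnnihilator = p ^ finrank (ZMod p) W.dualAnnihilator := by
      rw [Module.natCard_eq_pow_finrank (K := ZMod p), Nat.card_zmod]
    let Φ : {β : V → V → ZMod p // InvAlt p T β} → W.dualAnnihilator := fun b =>
      ⟨(AddMonoidHom.mk' (fun v => b.1 v0 v) (fun v v' => b.2.2.1 v0 v v')).toZModLinearMap p, by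
        rw [Submodule.mem_dualAnnihilator]
        intro w hw
        exact hiso b.1 b.2 v0 hv0W w hw⟩
    have hΦ : Function.Injective Φ := by
      intro b b' hbb
      have h0 : ∀ v, b.1 v0 v = b'.1 v0 v := by
        intro v
        have := congrArg (fun f : W.dualAnnihilator => (f : Module.Dual (ZMod p) V) v) hbb
        exact this
      obtain ⟨β, hl, hr, halt, hT⟩ := b
      obtain ⟨β', hl', hr', halt', hT'⟩ := b'
      apply Subtype.ext
      show β = β'
      have hz : ∀ v, β 0 v = 0 := fun v => by
        have := hl 0 0 v
        rw [add_zero] at this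
        exact left_eq_add.mp this
      have hz' : ∀ v, β' 0 v = 0 := fun v => by
        have := hl' 0 0 v
        rw [add_zero] at this
        exact left_eq_add.mp this
      let X : AddSubgroup V :=
        { carrier := {u | ∀ v, β u v = β' u v}
          add_mem' := fun {x y} hx hy v => by rw [hl, hl', hx v, hy v]
          zero_mem' := fun v => by rw [hz, hz']
          neg_mem' := fun {x} hx v => by
            have h1 := hl x (-x) v
            have h1' := hl' x (-x) v
            rw [add_neg_cancel, hz] at h1
            rw [add_neg_cancel, hz'] at h1'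
            have e1 : β (-x) v = - β x v := (neg_eq_of_add_eq_zero_right h1.symm).symm
            have e1' : β' (-x) v = - β' x v := (neg_eq_of_add_eq_zero_right h1'.symm).symm
            rw [e1, e1', hx v] }
      have hXT : ∀ w ∈ X, T w ∈ X := by
        intro w hw v
        have e := hT w (T.symm v)
        have e' := hT' w (T.symm v)
        rw [T.apply_symm_apply] at e e'
        rw [e, e']
        exact hw _
      funext x y
      exact hirr X hXT h0 x y
    have hle := Nat.card_le_card_of_injective Φ hΦ
    rw [hcardann] at hle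
    refine hle.trans (Nat.pow_le_pow_right hpp.pos ?_)
    omega

end Cfsg.Agent.Lib.helper3.Gf
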