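import Mathlib
import Cfsg.Prelude.Def_Characters
import Cfsg.Prelude.Def_CharExt
import Cfsg.Agent.Lib.helper19.GlaubChar
import Cfsg.Agent.Lib.helper84.Brauer

set_option autoImplicit false
set_option linter.unusedSectionVars false

/-!
# Glauberman correspondence for a cyclic group of operators: counting (helper19 library)

`G ⊴ Γ`, `s : Γ` with `(|G|, o(s)) = 1`, `C = C_G(s)`.
* `card_irr_invariant_eq` : the number of `s`-invariant irreducible characters of `G` is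
  `|Irr(C)|` (Brauer's permutation lemma and the class correspondence).
* `glauberman_cyclic_surj` : every `β ∈ Irr(C)` is the Glauberman correspondent of some
  `s`-invariant `χ`.
-/

namespace Cfsg.Agent.Lib.helper19

open Cfsg Subgroup
open scoped ComplexConjugate

variable {Γ : Type*} [Group Γ] [Fintype Γ] (G : Subgroup Γ) [hG : G.Normal] [Fintype G] (s : Γ)
  (C : Subgroup Γ) [Fintype C]

theorem card_irr_invariant_eq (hcop : (Nat.card G).Coprime (orderOf s))
    (hC : ∀ c : Γ, c ∈ C ↔ c ∈ G ∧ Commute c s) :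
    Nat.card {χ : IrrCharacter G // ∀ g : G,
        (χ : G → ℂ) ⟨s * g * s⁻¹, hG.conj_mem g g.2 s⟩ = (χ : G → ℂ) g}
      = Nat.card (IrrCharacter C) := by
  classical
  let τ : G ≃* G := MulAut.conjNormal s
  have hτ : ∀ g : G, ((τ g : G) : Γ) = s * g * s⁻¹ := fun g => rfl
  let T : IrrCharacter G → IrrCharacter G := fun χ =>
    ⟨fun g => (χ : G → ℂ) (τ g), Cfsg.Agent.Lib.helper84.irr_comp_mulEquiv τ χ⟩
  let P : ConjClasses G → Prop := fun K => ∃ c : G, Commute (c : Γ) s ∧ ConjClasses.mk c = K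
  have hP : ∀ g : G, P (ConjClasses.mk g) ↔ IsConj g (τ g) := by
    intro g
    constructor
    · rintro ⟨c, hcs, hc⟩
      rw [ConjClasses.mk_eq_mk_iff_isConj, isConj_iff] at hc
      obtain ⟨n, hn⟩ := hc
      have hτc : τ c = c := by
        apply Subtype.ext
        rw [hτ]
        have : s * (c : Γ) = (c : Γ) * s := hcs.eq.symm
        rw [this, mul_inv_cancel_right]
      rw [isConj_iff]
      refine ⟨τ n * n⁻¹, ?_⟩
      rw [← hn, map_mul, map_mul, hτc, map_inv]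
      group
    · intro hconj
      rw [isConj_iff] at hconj
      obtain ⟨h, hh⟩ := hconj
      have heq : s * (g : Γ) * s⁻¹ = (h : Γ) * g * (h : Γ)⁻¹ := by
        have := congrArg Subtype.val hh
        rw [hτ] at this
        exact this.symm
      obtain ⟨n, hn, hcomm⟩ := exists_conj_commute_of_invariant G s hcop h.2 heq
      refine ⟨⟨n, hn⟩ * g * ⟨n, hn⟩⁻¹, hcomm, ?_⟩
      rw [ConjClasses.mk_eq_mk_iff_isConj, isConj_comm, isConj_iff]
      exact ⟨⟨n, hn⟩, rfl⟩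
  have h1 := Cfsg.Agent.Lib.helper84.card_irr_fixed_eq (fun g => τ g) T (fun χ g => rfl) P hP
  have h2 : Nat.card {χ : IrrCharacter G // ∀ g : G,
        (χ : G → ℂ) ⟨s * g * s⁻¹, hG.conj_mem g g.2 s⟩ = (χ : G → ℂ) g}
      = Nat.card {χ : IrrCharacter G // T χ = χ} := by
    apply Nat.card_congr
    apply Equiv.subtypeEquivRight
    intro χ
    constructor
    · intro h
      apply Subtype.ext
      funext g
      exact h g
    · intro h g
      have := congrFun (congrArg Subtype.val h) g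
      exact this
  rw [h2, h1, Cfsg.Agent.Lib.helper4.card_irr_eq_card_conjClasses (G := C)]
  have hCG : C ≤ G := fun c hc => ((hC c).1 hc).1
  let f : ConjClasses C → {K : ConjClasses G // P K} := fun K' =>
    ⟨ConjClasses.map (Subgroup.inclusion hCG) K', by
      obtain ⟨c, rfl⟩ := ConjClasses.mk_surjective K'
      exact ⟨Subgroup.inclusion hCG c, ((hC c).1 c.2).2, rfl⟩⟩
  have hf : Function.Bijective f := by
    constructor
    · intro K₁ K₂ h
      obtain ⟨c, rfl⟩ := ConjClasses.mk_surjective K₁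
      obtain ⟨c', rfl⟩ := ConjClasses.mk_surjective K₂
      have h' := congrArg Subtype.val h
      change ConjClasses.mk (Subgroup.inclusion hCG c) = ConjClasses.mk (Subgroup.inclusion hCG c') at h'
      rw [ConjClasses.mk_eq_mk_iff_isConj, isConj_iff] at h'
      obtain ⟨g, hg⟩ := h'
      have heq : (g : Γ) * (c : Γ) * (g : Γ)⁻¹ = (c' : Γ) := congrArg Subtype.val hg
      obtain ⟨c₁, hc₁, hc₁s, hc₁eq⟩ := conj_in_centralizer G s hcop ((hC c).1 c.2).2
        ((hC c').1 c'.2).2 g.2 heq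
      rw [ConjClasses.mk_eq_mk_iff_isConj, isConj_iff]
      exact ⟨⟨c₁, (hC c₁).2 ⟨hc₁, hc₁s⟩⟩, Subtype.ext hc₁eq⟩
    · rintro ⟨K, c, hcs, rfl⟩
      refine ⟨ConjClasses.mk ⟨(c : Γ), (hC _).2 ⟨c.2, hcs⟩⟩, ?_⟩
      apply Subtype.ext
      rfl
  exact (Nat.card_congr (Equiv.ofBijective f hf)).symm

theorem index_eq_orderOf_of_sup_zpowers (hcop : (Nat.card G).Coprime (orderOf s))
    (htop : G ⊔ zpowers s = ⊤) : G.index = orderOf s := by
  have h1 := Subgroup.relIndex_sup_left (zpowers s) G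
  rw [htop, Subgroup.relIndex_top_right] at h1
  rw [h1, Subgroup.relIndex]
  have h2 : G.subgroupOf (zpowers s) = ⊥ := by
    rw [Subgroup.subgroupOf_eq_bot, disjoint_iff]
    exact inf_zpowers_eq_bot G s hcop
  rw [h2, Subgroup.index_bot, Nat.card_zpowers]

theorem card_eq_of_sup_zpowers (hcop : (Nat.card G).Coprime (orderOf s))
    (htop : G ⊔ zpowers s = ⊤) : Nat.card Γ = Nat.card G * orderOf s := by
  rw [← index_eq_orderOf_of_sup_zpowers G s hcop htop, Subgroup.card_mul_index]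

/-- an `s`-invariant character of `G` is `Γ`-invariant when `Γ = G ⟨s⟩`. -/
theorem invariant_of_sup_zpowers (htop : G ⊔ zpowers s = ⊤) (χ : G → ℂ)
    (hχ : IsClassFunction G χ)
    (hinv : ∀ g : G, χ ⟨s * g * s⁻¹, hG.conj_mem g g.2 s⟩ = χ g) (x : Γ) (n : G) :
    χ ⟨x * n * x⁻¹, hG.conj_mem (n : Γ) n.2 x⟩ = χ n := by
  have hle : G ⊔ zpowers s ≤ Cfsg.Agent.Lib.helper82.inertia G χ :=
    sup_le (Cfsg.Agent.Lib.helper82.le_inertia G hχ)
      (zpowers_le.2 ((Cfsg.Agent.Lib.helper82.mem_inertia_iff G χ s).2 hinv))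
  rw [htop] at hle
  exact (Cfsg.Agent.Lib.helper82.mem_inertia_iff G χ x).1 (hle (Subgroup.mem_top x)) n

/-- the canonical extension of an `s`-invariant `χ ∈ Irr(G)` and its Glauberman data. -/
theorem exists_glauberman_data (hcop : (Nat.card G).Coprime (orderOf s))
    (htop : G ⊔ zpowers s = ⊤) (hC : ∀ c : Γ, c ∈ C ↔ c ∈ G ∧ Commute c s)
    (χ : G → ℂ) (hχ : IsIrrCharacter G χ)
    (hinv : ∀ g : G, χ ⟨s * g * s⁻¹, hG.conj_mem g g.2 s⟩ = χ g) :
    ∃ (β : IrrCharacter C) (χh : Γ → ℂ) (ε : ℤ), IsIrrCharacter Γ χh ∧ (∀ g : G, χh g = χ g) ∧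
      (detOrder χh).Coprime (orderOf s) ∧ (ε = 1 ∨ ε = -1) ∧
      ∀ c : C, ∀ s' : Γ, zpowers s' = zpowers s →
        χh ((c : Γ) * s') = (ε : ℂ) * (β : C → ℂ) c := by
  have hcard := card_eq_of_sup_zpowers G s hcop htop
  have hidx := index_eq_orderOf_of_sup_zpowers G s hcop htop
  have hχc := isCharacter_of_isIrr hχ
  have hinvΓ := invariant_of_sup_zpowers G s htop χ
    (Cfsg.Agent.Lib.helper4.isClassFunction_of_isCharacter hχc) hinv
  obtain ⟨d, -, hd⟩ := Cfsg.Agent.Lib.helper4.exists_pos_nat_degree hχ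
  obtain ⟨χh, ⟨hχh, hext, hdo⟩, -⟩ := exists_canonical_extension G χ hχ hinvΓ d hd
    (coprime_index_detOrder_mul G χ hχ (by rw [hidx]; exact hcop) d hd)
  have hχ' : IsIrrCharacter G (fun g : G => χh g) := by
    have : (fun g : G => χh g) = χ := funext hext
    rw [this]; exact hχ
  have hdet : (detOrder χh).Coprime (orderOf s) := by
    rw [hdo]
    exact Nat.Coprime.coprime_dvd_left (detOrder_dvd_card hχc) hcop
  obtain ⟨β, ε, hε, hval, -⟩ := exists_glauberman_cyclic G s C hcop hcard hC χh hχh hχ' hdet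
  exact ⟨β, χh, ε, hχh, hext, hdet, hε, hval⟩

/-- every irreducible character of `C` is a Glauberman correspondent. -/
theorem glauberman_cyclic_surj (hcop : (Nat.card G).Coprime (orderOf s))
    (htop : G ⊔ zpowers s = ⊤) (hC : ∀ c : Γ, c ∈ C ↔ c ∈ G ∧ Commute c s)
    (β : IrrCharacter C) :
    ∃ (χ : IrrCharacter G) (χh : Γ → ℂ) (ε : ℤ),
      (∀ g : G, (χ : G → ℂ) ⟨s * g * s⁻¹, hG.conj_mem g g.2 s⟩ = (χ : G → ℂ) g) ∧
      IsIrrCharacter Γ χh ∧ (∀ g : G, χh g = (χ : G → ℂ) g) ∧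
      (detOrder χh).Coprime (orderOf s) ∧ (ε = 1 ∨ ε = -1) ∧
      ∀ c : C, ∀ s' : Γ, zpowers s' = zpowers s →
        χh ((c : Γ) * s') = (ε : ℂ) * (β : C → ℂ) c := by
  classical
  have hex : ∀ χ : {χ : IrrCharacter G // ∀ g : G,
        (χ : G → ℂ) ⟨s * g * s⁻¹, hG.conj_mem g g.2 s⟩ = (χ : G → ℂ) g},
      ∃ (β : IrrCharacter C) (χh : Γ → ℂ) (ε : ℤ), IsIrrCharacter Γ χh ∧
        (∀ g : G, χh g = (χ.1 : G → ℂ) g) ∧
        (detOrder χh).Coprime (orderOf s) ∧ (ε = 1 ∨ ε = -1) ∧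
        ∀ c : C, ∀ s' : Γ, zpowers s' = zpowers s →
          χh ((c : Γ) * s') = (ε : ℂ) * (β : C → ℂ) c :=
    fun χ => exists_glauberman_data G s C hcop htop hC χ.1.1 χ.1.2 χ.2
  let Φ : {χ : IrrCharacter G // ∀ g : G,
        (χ : G → ℂ) ⟨s * g * s⁻¹, hG.conj_mem g g.2 s⟩ = (χ : G → ℂ) g} → IrrCharacter C :=
    fun χ => Classical.choose (hex χ)
  have hΦ : ∀ χ, ∃ (χh : Γ → ℂ) (ε : ℤ), IsIrrCharacter Γ χh ∧
        (∀ g : G, χh g = (χ.1 : G → ℂ) g) ∧
        (detOrder χh).Coprime (orderOf s) ∧ (ε = 1 ∨ ε = -1) ∧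
        ∀ c : C, ∀ s' : Γ, zpowers s' = zpowers s →
          χh ((c : Γ) * s') = (ε : ℂ) * (Φ χ : C → ℂ) c :=
    fun χ => Classical.choose_spec (hex χ)
  have hinj : Function.Injective Φ := by
    intro χ χ' h
    obtain ⟨χh, ε, h1, h2, -, h4, h5⟩ := hΦ χ
    obtain ⟨χh', ε', h1', h2', -, h4', h5'⟩ := hΦ χ'
    rw [h] at h5
    have hr : IsIrrCharacter G (fun g : G => χh g) := by
      have : (fun g : G => χh g) = (χ.1 : G → ℂ) := funext h2
      rw [this]; exact χ.1.2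
    have hr' : IsIrrCharacter G (fun g : G => χh' g) := by
      have : (fun g : G => χh' g) = (χ'.1 : G → ℂ) := funext h2'
      rw [this]; exact χ'.1.2
    have := glauberman_cyclic_inj G s C hcop hC χh χh' h1 h1' hr hr' (Φ χ' : C → ℂ) (Φ χ').2
      ε ε' h4 h4' (fun c => h5 c s rfl) (fun c => h5' c s rfl)
    apply Subtype.ext
    apply Subtype.ext
    funext g
    rw [← h2 g, ← h2' g]
    exact congrFun this g
  have hbij := hinj.bijective_of_nat_card_le (le_of_eq (card_irr_invariant_eq G s C hcop hC).symm)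
  obtain ⟨χ, rfl⟩ := hbij.2 β
  obtain ⟨χh, ε, h1, h2, h3, h4, h5⟩ := hΦ χ
  exact ⟨χ.1, χh, ε, χ.2, h1, h2, h3, h4, h5⟩

end Cfsg.Agent.Lib.helper19
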