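import Mathlib
import Cfsg.Prelude.Def_Characters
import Cfsg.Prelude.Def_CharExt
import Cfsg.Agent.Lib.helper19.GlaubCount
import Cfsg.Agent.Lib.helper19.CycNorm

set_option autoImplicit false
set_option linter.unusedSectionVars false

/-!
# Glauberman correspondence for a cyclic group all of whose non-identity elements have the same
fixed points (helper19 library)

`glauberman_fpf` : `Γ = G ⟨s⟩`, `(|G|, o(s)) = 1`, `C_G(x) = C` for all `1 ≠ x ∈ ⟨s⟩`.  If `χ̂` is
the canonical extension of `χ ∈ Irr(G)` and `χ̂(c s) = ε₀ β(c)`, then `χ̂(c x) = ε β(c) μ(x)` for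
all `x ≠ 1`, with `μ² = 1`, and `χ_C = |S| ϑ + ε β`.
-/

namespace Cfsg.Agent.Lib.helper19

open Cfsg Subgroup
open scoped ComplexConjugate

variable {Γ : Type*} [Group Γ] [Fintype Γ] (G : Subgroup Γ) [hG : G.Normal] [Fintype G] (s : Γ)
  (C : Subgroup Γ) [Fintype C]

/-- the canonical extension takes the same value on `c x⁻¹` and `c x`. -/
theorem canon_inv_eq (hcop : (Nat.card G).Coprime (orderOf s))
    (hcard : Nat.card Γ = Nat.card G * orderOf s)
    (χh : Γ → ℂ) (hχh : IsIrrCharacter Γ χh)
    (hχ : IsIrrCharacter G (fun g : G => χh g))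
    (hdet : (detOrder χh).Coprime (orderOf s)) {c x : Γ} (hc : c ∈ G) (hx : x ∈ zpowers s)
    (hcx : Commute c x) : χh (c * x⁻¹) = χh (c * x) := by
  set m := orderOf s with hm
  have hm0 : 0 < m := orderOf_pos s
  have hidx : G.index = m := by
    have h1 := Subgroup.card_mul_index G
    rw [hcard] at h1
    have hG0 : 0 < Nat.card G := Nat.card_pos
    exact Nat.eq_of_mul_eq_mul_left hG0 h1
  set j := (Nat.chineseRemainder hcop 1 (m - 1) : ℕ) with hj
  have hj1 : j ≡ 1 [MOD Nat.card G] := (Nat.chineseRemainder hcop 1 (m - 1)).2.1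
  have hjm : j ≡ m - 1 [MOD m] := (Nat.chineseRemainder hcop 1 (m - 1)).2.2
  have hjG : j.Coprime (Nat.card G) := by
    have := hj1.gcd_eq
    rw [Nat.gcd_one_left] at this
    exact this
  have hm1 : Nat.Coprime (m - 1) m := by
    have h1 : m - 1 + 1 = m := Nat.sub_add_cancel hm0
    have h2 : Nat.Coprime (m - 1) (m - 1 + 1) := by
      rw [Nat.coprime_self_add_right]
      exact Nat.coprime_one_right _
    rw [h1] at h2
    exact h2
  have hjmc : j.Coprime m := by
    have := hjm.gcd_eq
    rw [hm1.gcd_eq_one] at this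
    exact this
  have hjΓ : j.Coprime (Nat.card Γ) := by
    rw [hcard]; exact Nat.Coprime.mul_right hjG hjmc
  have hpow := canon_pow_eq G χh hχh hχ (by rw [hidx]; exact hcop) (by rw [hidx]; exact hdet)
    j hjΓ hj1 (c * x)
  rw [hcx.mul_pow, pow_eq_self_of_modEq (pow_card_subgroup_eq_one G hc) hj1] at hpow
  have hox : orderOf x ∣ m := orderOf_dvd_of_mem_zpowers hx
  have hxm : x ^ m = 1 := pow_eq_one_of_dvd_exp (pow_orderOf_eq_one x) hox
  have hxj : x ^ j = x ^ (m - 1) := (pow_eq_pow_iff_modEq).2 (hjm.of_dvd hox)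
  have hxinv : x ^ (m - 1) = x⁻¹ := by
    apply eq_inv_of_mul_eq_one_left
    rw [← pow_succ, Nat.sub_add_cancel hm0, hxm]
  rw [hxj, hxinv] at hpow
  exact hpow

/-- see the module docstring. -/
theorem glauberman_fpf (hcop : (Nat.card G).Coprime (orderOf s)) (htop : G ⊔ zpowers s = ⊤)
    (hfpf : ∀ x ∈ zpowers s, x ≠ 1 → ∀ c : Γ, c ∈ C ↔ c ∈ G ∧ Commute c x)
    (hCs : ∀ c ∈ C, Commute c s) (hCG : C ≤ G)
    (χh : Γ → ℂ) (hχh : IsIrrCharacter Γ χh) (hχ : IsIrrCharacter G (fun g : G => χh g))
    (hdet : (detOrder χh).Coprime (orderOf s)) (β : IrrCharacter C) (ε₀ : ℤ)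
    (hε₀ : ε₀ = 1 ∨ ε₀ = -1)
    (hβ : ∀ c : C, χh ((c : Γ) * s) = (ε₀ : ℂ) * (β : C → ℂ) c) :
    ∃ ε : ℤ, (ε = 1 ∨ ε = -1) ∧
      (∃ μ : zpowers s → ℂ, IsCharacter (zpowers s) μ ∧ μ 1 = 1 ∧ (∀ x, μ x * μ x = 1) ∧
        ∀ c : C, ∀ x : zpowers s, x ≠ 1 →
          χh ((c : Γ) * x) = (ε : ℂ) * (β : C → ℂ) c * μ x) ∧
      (∃ ϑ : C → ℂ, IsCharacter C ϑ ∧
        ∀ c : C, χh c = (orderOf s : ℂ) * ϑ c + (ε : ℂ) * (β : C → ℂ) c) := by
  classical
  have : Fintype (IrrCharacter C) := Fintype.ofFinite _
  have : Fintype (zpowers s) := Fintype.ofFinite _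
  have hχhc := isCharacter_of_isIrr hχh
  have hcl := Cfsg.Agent.Lib.helper4.isClassFunction_of_isCharacter hχhc
  have hε₀ne : (ε₀ : ℂ) ≠ 0 := by
    rcases hε₀ with h | h <;> rw [h] <;> norm_num
  by_cases hs1 : s = 1
  · -- trivial group of operators
    have hε : ε₀ = 1 := by
      have h1 := hβ 1
      rw [hs1] at h1
      simp only [OneMemClass.coe_one, mul_one] at h1
      obtain ⟨n, hn, hn1⟩ := Cfsg.Agent.Lib.helper4.exists_pos_nat_degree hχh
      obtain ⟨b, hb, hb1⟩ := Cfsg.Agent.Lib.helper4.exists_pos_nat_degree β.2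
      rw [hn1, hb1] at h1
      have h2 : (n : ℤ) = ε₀ * (b : ℤ) := by exact_mod_cast h1
      rcases hε₀ with h | h
      · exact h
      · rw [h] at h2; omega
    refine ⟨1, Or.inl rfl, ⟨fun _ => 1, Cfsg.Agent.Lib.helper4.isCharacter_one, rfl,
      fun _ => by norm_num, ?_⟩, ⟨0, Cfsg.Agent.Lib.helper4.isCharacter_zero, ?_⟩⟩
    · intro c x hx
      exfalso
      apply hx
      have h1 : ∀ y ∈ zpowers s, y = 1 := by
        intro y hy
        rw [hs1, Subgroup.zpowers_one_eq_bot, Subgroup.mem_bot] at hy
        exact hy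
      exact Subtype.ext (h1 x x.2)
    · intro c
      have h1 := hβ c
      rw [hs1, mul_one, hε] at h1
      rw [h1]
      simp
  · -- main case
    have hcard := card_eq_of_sup_zpowers G s hcop htop
    have hm0 : 0 < orderOf s := orderOf_pos s
    have hm2 : 2 ≤ orderOf s := by
      have : orderOf s ≠ 1 := fun h => hs1 (orderOf_eq_one_iff.1 h)
      omega
    have hcommS : ∀ c ∈ C, ∀ t ∈ zpowers s, Commute c t :=
      fun c hc t ht => commute_of_mem_zpowers ht (hCs c hc)
    let f : IrrCharacter C → zpowers s → ℂ := fun β' t => partInner C χh (β' : C → ℂ) (t : Γ)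
    have hf : ∀ β' : IrrCharacter C, IsCharacter (zpowers s) (f β') :=
      fun β' => isCharacter_partInner C (zpowers s) hcommS (zpowers_mul_comm s) hχhc β'.2
    have hnorm : ∀ x : zpowers s, x ≠ 1 → ∑ β' : IrrCharacter C, f β' x * conj (f β' x) = 1 := by
      intro x hx
      have hx1 : (x : Γ) ≠ 1 := fun h => hx (Subtype.ext h)
      have hCx := hfpf x x.2 hx1
      have hcopx : (Nat.card G).Coprime (orderOf (x : Γ)) :=
        Nat.Coprime.coprime_dvd_right (orderOf_dvd_of_mem_zpowers x.2) hcop
      have h1 := partInner_parseval C hcl (t := (x : Γ)) (fun c hc => hcommS c hc x x.2)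
      rw [classInner_coset_eq_one G (x : Γ) C hcopx hCx χh hχh hχ] at h1
      exact h1
    let x₀ : zpowers s := ⟨s, mem_zpowers s⟩
    have hx₀ : x₀ ≠ 1 := fun h => hs1 (congrArg Subtype.val h)
    have hi₀ : f β x₀ ≠ 0 := by
      have h1 : f β x₀ = (ε₀ : ℂ) := by
        show partInner C χh (β : C → ℂ) s = _
        unfold partInner
        have h2 : (fun c : C => χh ((c : Γ) * s)) = (ε₀ : ℂ) • (β : C → ℂ) := by
          funext c
          rw [hβ c]
          rfl
        rw [h2, Cfsg.Agent.Lib.helper4.classInner_smul_left,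
          Cfsg.Agent.Lib.helper4.classInner_irr_self β.2, mul_one]
      rw [h1]
      exact hε₀ne
    obtain ⟨ν, hν⟩ := exists_faithful_hom_zpowers s
    obtain ⟨hzero, ε, φ, hε, hφ⟩ := cyclic_norm_two (zpowers_mul_comm s) ν hν f hf hnorm β x₀
      hx₀ hi₀
    have hεne : (ε : ℂ) ≠ 0 := by
      rcases hε with h | h <;> rw [h] <;> norm_num
    have hreal : ∀ x : zpowers s, x ≠ 1 → conj (f β x) = f β x := by
      intro x hx
      have h1 := Cfsg.Agent.Lib.helper83.isCharacter_inv (hf β) x
      rw [← h1]
      show partInner C χh (β : C → ℂ) ((x⁻¹ : zpowers s) : Γ) = partInner C χh (β : C → ℂ) (x : Γ)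
      unfold partInner
      congr 1
      funext c
      push_cast
      exact canon_inv_eq G s hcop hcard χh hχh hχ hdet (hCG c.2) x.2 (hcommS c c.2 x x.2)
    have hμsq : ∀ x : zpowers s, ((φ x : ℂˣ) : ℂ) * ((φ x : ℂˣ) : ℂ) = 1 := by
      intro x
      by_cases hx : x = 1
      · subst hx
        simp
      · have h1 := hreal x hx
        rw [hφ x hx, map_mul, map_intCast] at h1
        have h2 : conj ((φ x : ℂˣ) : ℂ) = ((φ x : ℂˣ) : ℂ) := mul_left_cancel₀ hεne h1
        have h3 := hom_val_mul_conj φ x
        rw [h2] at h3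
        exact h3
    refine ⟨ε, hε, ⟨fun x => ((φ x : ℂˣ) : ℂ), isCharacter_of_hom φ, by simp, hμsq, ?_⟩, ?_⟩
    · intro c x hx
      rw [partInner_expand C hcl (t := (x : Γ)) (fun c hc => hcommS c hc x x.2) c,
        Finset.sum_eq_single β]
      · have : partInner C χh (β : C → ℂ) (x : Γ) = (ε : ℂ) * ((φ x : ℂˣ) : ℂ) := hφ x hx
        rw [this]
        ring
      · intro β' _ hβ'
        have : partInner C χh (β' : C → ℂ) (x : Γ) = 0 := hzero β' hβ' x hx
        rw [this, zero_mul]
      · intro h
        exact absurd (Finset.mem_univ β) h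
    · -- the restriction to C
      have hcardS : (Nat.card (zpowers s) : ℂ) = (orderOf s : ℂ) := by rw [Nat.card_zpowers]
      have hm0c : (orderOf s : ℂ) ≠ 0 := by exact_mod_cast hm0.ne'
      have hK : ∀ β' : IrrCharacter C, ∃ K : ℕ,
          f β' 1 = (orderOf s : ℂ) * (K : ℂ) + (if β' = β then (ε : ℂ) else 0) := by
        intro β'
        by_cases hβ' : β' = β
        · subst hβ'
          simp only [if_true]
          obtain ⟨n, hn⟩ := Cfsg.Agent.Lib.helper4.exists_nat_classInner (hf β')
            (isCharacter_of_hom φ)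
          unfold Cfsg.classInner at hn
          rw [hcardS] at hn
          have hsum : ∑ x : zpowers s, f β' x * conj (((φ x : ℂˣ) : ℂ))
              = f β' 1 + (ε : ℂ) * ((orderOf s : ℂ) - 1) := by
            rw [← Finset.add_sum_erase Finset.univ _ (Finset.mem_univ (1 : zpowers s))]
            congr 1
            · simp
            · have h1 : ∀ x ∈ Finset.univ.erase (1 : zpowers s),
                  f β' x * conj (((φ x : ℂˣ) : ℂ)) = (ε : ℂ) := by
                intro x hx
                have hx1 : x ≠ 1 := (Finset.mem_erase.1 hx).1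
                rw [hφ x hx1, mul_assoc, hom_val_mul_conj φ x, mul_one]
              rw [Finset.sum_congr rfl h1, Finset.sum_const, Finset.card_erase_of_mem
                (Finset.mem_univ _), Finset.card_univ, ← Nat.card_eq_fintype_card,
                Nat.card_zpowers, nsmul_eq_mul, Nat.cast_sub hm0]
              push_cast
              ring
          rw [hsum] at hn
          have hval : f β' 1 = (orderOf s : ℂ) * (n : ℂ) - (ε : ℂ) * ((orderOf s : ℂ) - 1) := by
            field_simp at hn
            linear_combination hn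
          -- f β' 1 is a natural number
          obtain ⟨a, ha⟩ : ∃ a : ℕ, f β' 1 = a := by
            obtain ⟨a, ha⟩ := Cfsg.Agent.Lib.helper4.exists_nat_degree (hf β')
            exact ⟨a, ha⟩
          rcases hε with h | h
          · -- ε = 1 : K = n - 1
            have hn1 : 1 ≤ n := by
              by_contra hlt
              push Not at hlt
              have hn0 : n = 0 := by omega
              rw [ha, hn0, h] at hval
              have h2 : (a : ℤ) = (orderOf s : ℤ) * 0 - 1 * ((orderOf s : ℤ) - 1) := by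
                exact_mod_cast hval
              omega
            refine ⟨n - 1, ?_⟩
            rw [hval, h, Nat.cast_sub hn1]
            push_cast
            ring
          · refine ⟨n + 1, ?_⟩
            rw [hval, h]
            push_cast
            ring
        · simp only [if_neg hβ', add_zero]
          obtain ⟨n, hn⟩ := Cfsg.Agent.Lib.helper4.exists_nat_classInner (hf β')
            (Cfsg.Agent.Lib.helper4.isCharacter_one (G := zpowers s))
          unfold Cfsg.classInner at hn
          rw [hcardS] at hn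
          have hsum : ∑ x : zpowers s, f β' x * conj ((fun _ : zpowers s => (1 : ℂ)) x) = f β' 1 := by
            rw [Finset.sum_eq_single (1 : zpowers s)]
            · simp
            · intro x _ hx
              rw [hzero β' hβ' x hx, zero_mul]
            · intro h
              exact absurd (Finset.mem_univ _) h
          rw [hsum] at hn
          refine ⟨n, ?_⟩
          field_simp at hn
          linear_combination hn
      choose K hK using hK
      refine ⟨∑ β' : IrrCharacter C, K β' • (β' : C → ℂ),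
        Cfsg.Agent.Lib.helper4.isCharacter_sum _ _ (fun β' _ =>
          Cfsg.Agent.Lib.helper4.isCharacter_nsmul (K β')
            (Cfsg.Agent.Lib.helper4.isCharacter_of_isIrrCharacter β'.2)), ?_⟩
      intro c
      have h1 := partInner_expand C hcl (t := (1 : Γ)) (fun c _ => Commute.one_right c) c
      rw [mul_one] at h1
      rw [h1]
      have h2 : ∀ β' : IrrCharacter C, partInner C χh (β' : C → ℂ) 1 * (β' : C → ℂ) c
          = (orderOf s : ℂ) * ((K β' : ℂ) * (β' : C → ℂ) c)
            + (if β' = β then (ε : ℂ) * (β' : C → ℂ) c else 0) := by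
        intro β'
        have : partInner C χh (β' : C → ℂ) 1 = f β' 1 := rfl
        rw [this, hK β']
        split_ifs <;> ring
      rw [Finset.sum_congr rfl (fun β' _ => h2 β'), Finset.sum_add_distrib, ← Finset.mul_sum,
        Finset.sum_ite_eq' Finset.univ β, if_pos (Finset.mem_univ β)]
      simp [Finset.sum_apply]

end Cfsg.Agent.Lib.helper19
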