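import Mathlib
import Cfsg.Agent.Lib.helper86.IvDefs

/-!
S3928 piece CEN, core form: an `α`-invariant normal subgroup `N` modulo which the set `ivI α` of
inverted odd-order elements stays injective is central, GIVEN that `ivI α` generates `G`
(piece GEN is taken as a hypothesis here).
-/

set_option autoImplicit false

namespace Cfsg.Agent.Lib.helper86.IV

/-- In a finite group there is an exponent `e` such that every `k ^ e` has odd order (dividing a
fixed odd `b`) and `x ^ e = x` for every `x` of odd order. -/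
theorem helper19_odd_exp (G : Type*) [Group G] [Finite G] :
    ∃ e b : ℕ, Odd b ∧ (∀ k : G, (k ^ e) ^ b = 1) ∧ ∀ x : G, Odd (orderOf x) → x ^ e = x := by
  obtain ⟨a, b, hb, hcard⟩ := Nat.exists_eq_two_pow_mul_odd (n := Nat.card G) Nat.card_pos.ne'
  have hbpos : 0 < b := hb.pos
  have hcop : Nat.Coprime (2 ^ a) b := Nat.Coprime.pow_left a (Nat.coprime_two_left.mpr hb)
  refine ⟨(2 ^ a) ^ Nat.totient b, b, hb, ?_, ?_⟩
  · intro k
    have hdvd : Nat.card G ∣ (2 ^ a) ^ Nat.totient b * b := by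
      rw [hcard]
      exact Nat.mul_dvd_mul (dvd_pow_self _ (Nat.totient_pos.mpr hbpos).ne') (dvd_refl b)
    obtain ⟨c, hc⟩ := hdvd
    rw [← pow_mul, hc, pow_mul, pow_card_eq_one', one_pow]
  · intro x hx
    have hxb : orderOf x ∣ b := by
      have h1 : orderOf x ∣ 2 ^ a * b := hcard ▸ orderOf_dvd_natCard x
      have h2 : Nat.Coprime (orderOf x) (2 ^ a) :=
        Nat.Coprime.pow_right a (Nat.coprime_two_right.mpr hx)
      exact h2.dvd_of_dvd_mul_left h1
    have hmod : (2 ^ a) ^ Nat.totient b ≡ 1 [MOD orderOf x] :=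
      (Nat.ModEq.pow_totient hcop).of_dvd hxb
    have h3 := pow_eq_pow_iff_modEq.mpr hmod
    rw [pow_one] at h3
    exact h3

/-- PIECE CEN, core form (GEN as a hypothesis). -/
theorem helper19_iv_central_core {G : Type*} [Group G] [Finite G] (α : MulAut G)
    (h2 : ∀ g, α (α g) = g) (hgen : Subgroup.closure (ivI α) = ⊤) (N : Subgroup G) [N.Normal]
    (hN : ∀ n ∈ N, α n ∈ N)
    (hinj : ∀ x ∈ ivI α, ∀ x' ∈ ivI α, x⁻¹ * x' ∈ N → x = x') : N ≤ Subgroup.center G := by
  have hNn : N.Normal := inferInstance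
  obtain ⟨e, b, hb, hkb, hxe⟩ := helper19_odd_exp G
  -- an inverted element congruent to `x ∈ ivI α` mod `N` has `x` as a power
  have key1 : ∀ k : G, α k = k⁻¹ → ∀ x ∈ ivI α, x⁻¹ * k ∈ N → x = k ^ e := by
    intro k hk x hx hxk
    have hke : k ^ e ∈ ivI α := by
      refine ⟨?_, ?_⟩
      · exact Odd.of_dvd_nat hb (orderOf_dvd_of_pow_eq_one (hkb k))
      · rw [map_pow, hk, inv_pow]
    apply hinj x hx (k ^ e) hke
    have h1 : (QuotientGroup.mk k : G ⧸ N) = QuotientGroup.mk x := by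
      rw [eq_comm, QuotientGroup.eq]
      exact hxk
    have h3 : (QuotientGroup.mk x : G ⧸ N) = QuotientGroup.mk (k ^ e) := by
      rw [QuotientGroup.mk_pow, h1, ← QuotientGroup.mk_pow, hxe x hx.1]
    exact QuotientGroup.eq.mp h3
  -- `n * (α n)⁻¹` commutes with every element of `ivI α`
  have key2 : ∀ n ∈ N, ∀ x ∈ ivI α, Commute x (n * (α n)⁻¹) := by
    intro n hn x hx
    obtain ⟨j, hj⟩ := hx.1
    obtain ⟨w, hw⟩ : ∃ w : G, w = x ^ (j + 1) := ⟨_, rfl⟩
    have hww : w * w = x := by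
      rw [hw, ← pow_add]
      have : j + 1 + (j + 1) = orderOf x + 1 := by omega
      rw [this, pow_succ, pow_orderOf_eq_one, one_mul]
    have hαw : α w = w⁻¹ := by rw [hw, map_pow, hx.2, inv_pow]
    have hcw : Commute x w := by
      rw [hw]
      exact (Commute.refl x).pow_right _
    obtain ⟨k, hk⟩ : ∃ k : G, k = w * (n * (α n)⁻¹) * w := ⟨_, rfl⟩
    have hαk : α k = k⁻¹ := by
      rw [hk, map_mul, map_mul, map_mul, map_inv, h2, hαw]
      group
    have hkN : x⁻¹ * k ∈ N := by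
      have e1 : x⁻¹ * k = w⁻¹ * (n * (α n)⁻¹) * w⁻¹⁻¹ := by
        rw [hk, ← hww]
        group
      rw [e1]
      exact hNn.conj_mem _ (N.mul_mem hn (N.inv_mem (hN n hn))) w⁻¹
    have hxk := key1 k hαk x hx hkN
    have hck : Commute (k ^ e) k := (Commute.refl k).pow_left e
    rw [← hxk] at hck
    have hz : n * (α n)⁻¹ = w⁻¹ * k * w⁻¹ := by
      rw [hk]
      group
    rw [hz]
    exact (hcw.inv_right.mul_right hck).mul_right hcw.inv_right
  -- an element commuting with `ivI α` is central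
  have hcent_of : ∀ g : G, (∀ x ∈ ivI α, Commute x g) → g ∈ Subgroup.center G := by
    intro g hg
    have hle : Subgroup.closure (ivI α) ≤ Subgroup.centralizer ({g} : Set G) := by
      rw [Subgroup.closure_le]
      intro x hx
      rw [SetLike.mem_coe, Subgroup.mem_centralizer_iff]
      intro y hy
      rw [Set.mem_singleton_iff] at hy
      rw [hy]
      exact (hg x hx).eq.symm
    rw [Subgroup.mem_center_iff]
    intro y
    have hy : y ∈ Subgroup.centralizer ({g} : Set G) := hle (hgen ▸ Subgroup.mem_top y)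
    rw [Subgroup.mem_centralizer_iff] at hy
    exact (hy g rfl).symm
  intro n hn
  have hzc := Subgroup.mem_center_iff.mp (hcent_of _ (key2 n hn))
  apply hcent_of
  intro x hx
  obtain ⟨z, hz⟩ : ∃ z : G, z = n * (α n)⁻¹ := ⟨_, rfl⟩
  rw [← hz] at hzc
  have hαn : α n = z⁻¹ * n := by
    rw [hz]
    group
  have hx' : n⁻¹ * x * n ∈ ivI α := by
    refine ⟨?_, ?_⟩
    · have e1 : n⁻¹ * x * n = MulAut.conj n⁻¹ x := by rw [MulAut.conj_apply, inv_inv]
      rw [e1, MulEquiv.orderOf_eq]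
      exact hx.1
    · rw [map_mul, map_mul, map_inv, hx.2, hαn]
      have hzx : z * x⁻¹ = x⁻¹ * z := (hzc x⁻¹).symm
      calc (z⁻¹ * n)⁻¹ * x⁻¹ * (z⁻¹ * n) = n⁻¹ * (z * x⁻¹) * z⁻¹ * n := by group
        _ = n⁻¹ * (x⁻¹ * z) * z⁻¹ * n := by rw [hzx]
        _ = (n⁻¹ * x * n)⁻¹ := by group
  have hmem : x⁻¹ * (n⁻¹ * x * n) ∈ N := by
    have h1 : x⁻¹ * n⁻¹ * x⁻¹⁻¹ ∈ N := hNn.conj_mem _ (N.inv_mem hn) x⁻¹
    have e1 : x⁻¹ * (n⁻¹ * x * n) = (x⁻¹ * n⁻¹ * x⁻¹⁻¹) * n := by group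
    rw [e1]
    exact N.mul_mem h1 hn
  have heq := hinj x hx _ hx' hmem
  show x * n = n * x
  calc x * n = n * (n⁻¹ * x * n) := by group
    _ = n * x := by rw [← heq]

end Cfsg.Agent.Lib.helper86.IV
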