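import Mathlib
import Cfsg.Prelude.Def_LieTypeChar
import Cfsg.Agent.Lib.helper44.LODefs
import Cfsg.Agent.Lib.helper53.LOARITHr
import Cfsg.Agent.S0243

set_option autoImplicit false

namespace Cfsg.Agent.Lib.helper44.LO

open Cfsg

/-- PSL2 (racer copy). -/
theorem h19_lo_psl_two {F : Type} [Field F] [Fintype F] (p : ℕ) (hp : p.Prime) [CharP F p] :
    Nat.card (Matrix.ProjectiveSpecialLinearGroup (Fin 2) F) <
        p ^ (3 * (Nat.card (Matrix.ProjectiveSpecialLinearGroup (Fin 2) F)).factorization p) ∧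
      Fintype.card F = p ^ (Nat.card (Matrix.ProjectiveSpecialLinearGroup (Fin 2) F)).factorization p := by
  obtain ⟨f, -, hq⟩ := FiniteField.card F p
  have hf1 : 1 ≤ (f : ℕ) := f.pos
  obtain ⟨q, hqdef⟩ : ∃ q : ℕ, q = p ^ (f : ℕ) := ⟨_, rfl⟩
  rw [← hqdef] at hq
  have h243 := Cfsg.Agent.S0243.result (F := F) (q := q) hq 2 le_rfl
  rw [Fin.prod_univ_two] at h243
  simp only [Fin.val_zero, Fin.val_one, pow_zero, pow_one] at h243
  obtain ⟨n, hn⟩ : ∃ n : ℕ, n = Nat.card (Matrix.ProjectiveSpecialLinearGroup (Fin 2) F) :=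
    ⟨_, rfl⟩
  rw [← hn] at h243 ⊢
  have hq2 : 2 ≤ q := by
    rw [hqdef]
    calc 2 ≤ p := hp.two_le
      _ = p ^ 1 := (pow_one p).symm
      _ ≤ p ^ (f : ℕ) := Nat.pow_le_pow_right hp.pos hf1
  have hpq : p ∣ q := by
    rw [hqdef]
    exact dvd_pow_self p (by omega)
  have hnd1 : ¬ p ∣ q - 1 := by
    intro h
    have h2 : p ∣ q - (q - 1) := Nat.dvd_sub hpq h
    have h3 : q - (q - 1) = 1 := by omega
    rw [h3] at h2
    exact hp.one_lt.ne' (Nat.dvd_one.mp h2)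
  have hnd2 : ¬ p ∣ q ^ 2 - 1 := by
    intro h
    have hq2' : p ∣ q ^ 2 := dvd_pow hpq (by norm_num)
    have h1 : 1 ≤ q ^ 2 := Nat.one_le_pow _ _ (by omega)
    have h2 : p ∣ q ^ 2 - (q ^ 2 - 1) := Nat.dvd_sub hq2' h
    have h3 : q ^ 2 - (q ^ 2 - 1) = 1 := by omega
    rw [h3] at h2
    exact hp.one_lt.ne' (Nat.dvd_one.mp h2)
  have hgd : Nat.gcd 2 (q - 1) ∣ q - 1 := Nat.gcd_dvd_right _ _
  have hg1 : 1 ≤ Nat.gcd 2 (q - 1) := Nat.gcd_pos_of_pos_left _ (by norm_num)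
  have hcp : ¬ p ∣ Nat.gcd 2 (q - 1) * (q - 1) := by
    intro h
    rcases (Nat.Prime.dvd_mul hp).mp h with h | h
    · exact hnd1 (dvd_trans h hgd)
    · exact hnd1 h
  have hMp : ¬ p ∣ (q ^ 2 - 1) * (q - 1) := by
    intro h
    rcases (Nat.Prime.dvd_mul hp).mp h with h | h
    · exact hnd2 h
    · exact hnd1 h
  have hc : Nat.gcd 2 (q - 1) * (q - 1) * n = (p ^ (f : ℕ)) ^ 1 * ((q ^ 2 - 1) * (q - 1)) := by
    rw [mul_assoc, h243, pow_one, ← hqdef]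
    have h5 : q ^ 2 - q = q * (q - 1) := by
      rw [Nat.mul_sub, mul_one, sq]
    rw [h5]
    ring
  have hM : (q ^ 2 - 1) * (q - 1) < Nat.gcd 2 (q - 1) * (q - 1) * (p ^ (f : ℕ)) ^ 2 := by
    rw [← hqdef]
    have h1 : q ^ 2 - 1 < q ^ 2 := Nat.sub_lt (by positivity) one_pos
    have h2 : 0 < q - 1 := by omega
    calc (q ^ 2 - 1) * (q - 1) < q ^ 2 * (q - 1) := Nat.mul_lt_mul_of_pos_right h1 h2
      _ = 1 * (q - 1) * q ^ 2 := by ring
      _ ≤ Nat.gcd 2 (q - 1) * (q - 1) * q ^ 2 :=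
          Nat.mul_le_mul_right _ (Nat.mul_le_mul_right _ hg1)
  obtain ⟨hk, hlt⟩ := h53_lo_arith hp (f : ℕ) hf1 _ n 1 _ 2 hc hcp hMp hM
  rw [hk, mul_one]
  refine ⟨?_, by rw [hq, hqdef]⟩
  calc n < (p ^ (f : ℕ)) ^ (1 + 2) := hlt
    _ = p ^ (3 * (f : ℕ)) := by
        rw [← pow_mul]
        ring_nf

end Cfsg.Agent.Lib.helper44.LO
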