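import Mathlib
import Cfsg.Agent.Lib.helper9.LcDefs

/-! S0406 piece A (helper19): existence of a frame from a congruence class of 48 norm-8 vectors. -/

set_option autoImplicit false
open Matrix

namespace Cfsg.Agent.Lib.helper19
open Cfsg Cfsg.Agent.Lib.helper9

theorem lc_a_neg_form (B : Matrix (Fin 24) (Fin 24) ℤ) (y : Fin 24 → ℤ) :
    (-y) ⬝ᵥ (B *ᵥ (-y)) = y ⬝ᵥ (B *ᵥ y) := by
  rw [Matrix.mulVec_neg, neg_dotProduct, dotProduct_neg, neg_neg]

theorem lc_exists_frame (B : Matrix (Fin 24) (Fin 24) ℤ)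
    (h87 : ∀ x y : Fin 24 → ℤ, x ⬝ᵥ (B *ᵥ x) = 8 → y ⬝ᵥ (B *ᵥ y) = 8 →
      (∀ i, (2 : ℤ) ∣ (x - y) i) → y = x ∨ y = -x ∨ x ⬝ᵥ (B *ᵥ y) = 0)
    (x0 : Fin 24 → ℤ)
    (h48 : {y : Fin 24 → ℤ | y ⬝ᵥ (B *ᵥ y) = 8 ∧ ∀ i, (2 : ℤ) ∣ (x0 - y) i}.ncard = 48) :
    ∃ v : GolayPt → Fin 24 → ℤ, LcFrame B v := by
  classical
  set K : Set (Fin 24 → ℤ) := {y : Fin 24 → ℤ | y ⬝ᵥ (B *ᵥ y) = 8 ∧ ∀ i, (2 : ℤ) ∣ (x0 - y) i}
    with hK
  have hKfin : K.Finite := Set.finite_of_ncard_ne_zero (by rw [h48]; norm_num)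
  have hKneg : ∀ y ∈ K, -y ∈ K := by
    intro y hy
    refine ⟨by rw [lc_a_neg_form]; exact hy.1, fun i => ?_⟩
    have h1 := hy.2 i
    have : (x0 - -y) i = (x0 - y) i + 2 * y i := by
      simp only [Pi.sub_apply, Pi.neg_apply]
      ring
    rw [this]
    exact dvd_add h1 (dvd_mul_right _ _)
  have hKne : ∀ y ∈ K, y ≠ -y := by
    intro y hy h
    have hy0 : y = 0 := by
      funext i
      have := congrFun h i
      simp only [Pi.neg_apply, Pi.zero_apply] at this ⊢
      omega
    have h8 := hy.1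
    rw [hy0] at h8
    simp at h8
  -- the representatives
  set R : Set (Fin 24 → ℤ) := {y | y ∈ K ∧ toLex (-y) < toLex y} with hR
  have hRK : R ⊆ K := fun y hy => hy.1
  have hRfin : R.Finite := hKfin.subset hRK
  have hunion : K = R ∪ (fun y => -y) '' R := by
    ext y
    constructor
    · intro hy
      rcases lt_trichotomy (toLex (-y)) (toLex y) with h | h | h
      · left
        exact ⟨hy, h⟩
      · exact absurd (toLex_inj.mp h).symm (hKne y hy)
      · right
        refine ⟨-y, ⟨hKneg y hy, ?_⟩, neg_neg y⟩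
        rw [neg_neg]
        exact h
    · rintro (hy | ⟨z, hz, rfl⟩)
      · exact hy.1
      · exact hKneg z hz.1
  have hdisj : Disjoint R ((fun y => -y) '' R) := by
    rw [Set.disjoint_left]
    rintro y hy ⟨z, hz, rfl⟩
    have h1 := hy.2
    rw [neg_neg] at h1
    exact lt_asymm h1 hz.2
  have hcardR : R.ncard = 24 := by
    have hinj : Function.Injective (fun y : Fin 24 → ℤ => -y) := neg_injective
    have h1 : K.ncard = R.ncard + ((fun y => -y) '' R).ncard := by
      rw [hunion]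
      exact Set.ncard_union_eq hdisj hRfin (hRfin.image _)
    rw [Set.ncard_image_of_injective _ hinj, h48] at h1
    omega
  -- enumerate by GolayPt
  haveI : Finite ↥R := hRfin.to_subtype
  have hcardG : Nat.card GolayPt = 24 := by
    rw [Nat.card_eq_fintype_card]
    rfl
  have hcardR' : Nat.card ↥R = 24 := by
    rw [Nat.card_coe_set_eq]
    exact hcardR
  obtain ⟨e⟩ : Nonempty (GolayPt ≃ ↥R) := Finite.card_eq.mp (hcardG.trans hcardR'.symm)
  refine ⟨fun p => (e p).1, ?_, ?_⟩
  · intro p q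
    by_cases hpq : p = q
    · subst hpq
      rw [if_pos rfl]
      exact (hRK (e p).2).1
    · rw [if_neg hpq]
      have hp := (e p).2
      have hq := (e q).2
      have hne : (e p).1 ≠ (e q).1 := fun h => hpq (e.injective (Subtype.ext h))
      have hcong : ∀ i, (2 : ℤ) ∣ ((e p).1 - (e q).1) i := by
        intro i
        have h1 := (hRK hp).2 i
        have h2 := (hRK hq).2 i
        have : ((e p).1 - (e q).1) i = (x0 - (e q).1) i - (x0 - (e p).1) i := by
          simp only [Pi.sub_apply]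
          ring
        rw [this]
        exact dvd_sub h2 h1
      rcases h87 (e p).1 (e q).1 (hRK hp).1 (hRK hq).1 hcong with h | h | h
      · exact absurd h.symm hne
      · exfalso
        have h1 := hq.2
        rw [h, neg_neg] at h1
        exact lt_asymm h1 hp.2
      · exact h
  · intro p q k
    have h1 := (hRK (e p).2).2 k
    have h2 := (hRK (e q).2).2 k
    have : ((e p).1 - (e q).1) k = (x0 - (e q).1) k - (x0 - (e p).1) k := by
      simp only [Pi.sub_apply]
      ring
    rw [this]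
    exact dvd_sub h2 h1

end Cfsg.Agent.Lib.helper19
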