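import Mathlib
import Cfsg.Agent.Lib.helper9.LcDefs

/-! S0406 piece C1 (helper19): the frame lattice has the properties `LcPre`. -/

set_option autoImplicit false
open Matrix

namespace Cfsg.Agent.Lib.helper19
open Cfsg Cfsg.Agent.Lib.helper9

theorem lc_c1_sqNorm_eq_dotInt (u : GolayPt → ℤ) : sqNorm u = dotInt u u := by
  unfold sqNorm dotInt
  exact Finset.sum_congr rfl (fun i _ => pow_two _)

/-- Halving a vector with even coordinates. -/
theorem lc_c1_exists_half (w : Fin 24 → ℤ) (hw : ∀ k, (2 : ℤ) ∣ w k) :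
    ∃ z : Fin 24 → ℤ, w = (2 : ℤ) • z := by
  choose z hz using hw
  exact ⟨z, by funext k; rw [Pi.smul_apply, smul_eq_mul]; exact hz k⟩

theorem lc_frame_pre_of_count (B : Matrix (Fin 24) (Fin 24) ℤ)
    (hpos : ∀ x : Fin 24 → ℤ, x ≠ 0 → 0 < x ⬝ᵥ (B *ᵥ x))
    (heven : ∀ x : Fin 24 → ℤ, (2 : ℤ) ∣ x ⬝ᵥ (B *ᵥ x))
    (h2 : ∀ x : Fin 24 → ℤ, x ⬝ᵥ (B *ᵥ x) ≠ 2)
    (v : GolayPt → Fin 24 → ℤ) (hv : LcFrame B v)
    (hdot : ∀ x y : Fin 24 → ℤ, dotInt (lcMap B v x) (lcMap B v y) = 8 * (x ⬝ᵥ (B *ᵥ y)))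
    (hcount : {u : GolayPt → ℤ | u ∈ lcLat B v ∧ sqNorm u = 32}.ncard = 196560) :
    LcPre (lcLat B v) := by
  refine ⟨?_, ?_, ?_, ?_, hcount⟩
  · intro u hu w hw
    obtain ⟨x, rfl⟩ := (mem_lcLat B v u).mp hu
    obtain ⟨y, rfl⟩ := (mem_lcLat B v w).mp hw
    rw [hdot]
    exact dvd_mul_right _ _
  · intro u hu
    obtain ⟨x, rfl⟩ := (mem_lcLat B v u).mp hu
    rw [lc_c1_sqNorm_eq_dotInt, hdot]
    obtain ⟨c, hc⟩ := heven x
    rw [hc]
    exact ⟨c, by ring⟩
  · intro u hu hne
    obtain ⟨x, rfl⟩ := (mem_lcLat B v u).mp hu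
    have hx : x ≠ 0 := by
      rintro rfl
      exact hne (map_zero _)
    rw [lc_c1_sqNorm_eq_dotInt, hdot]
    have h1 := hpos x hx
    obtain ⟨c, hc⟩ := heven x
    have h3 := h2 x
    omega
  · intro p q hpq
    have hsum : ∀ k, (2 : ℤ) ∣ (v p + v q) k := by
      intro k
      have h1 := hv.2 p q k
      have : (v p + v q) k = (v p - v q) k + 2 * v q k := by
        simp only [Pi.add_apply, Pi.sub_apply]
        ring
      rw [this]
      exact dvd_add h1 (dvd_mul_right _ _)
    have hdiff : ∀ k, (2 : ℤ) ∣ (v p - v q) k := hv.2 p q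
    obtain ⟨z1, hz1⟩ := lc_c1_exists_half _ hsum
    obtain ⟨z2, hz2⟩ := lc_c1_exists_half _ hdiff
    have hvv := hv.1
    constructor
    · refine (mem_lcLat B v _).mpr ⟨z1, ?_⟩
      funext r
      rw [lcMap_apply]
      have h2z : 2 * (z1 ⬝ᵥ (B *ᵥ v r)) = (v p + v q) ⬝ᵥ (B *ᵥ v r) := by
        rw [hz1, smul_dotProduct, smul_eq_mul]
      rw [add_dotProduct, hvv p r, hvv q r] at h2z
      simp only [Pi.add_apply, Pi.single_apply]
      by_cases h1 : r = p
      · subst h1
        have h2' : ¬ r = q := hpq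
        have h3' : ¬ q = r := fun h => hpq h.symm
        simp only [h2', h3', if_true, if_false] at h2z ⊢
        omega
      · by_cases h2' : r = q
        · subst h2'
          have h3' : ¬ p = r := fun h => h1 h.symm
          simp only [h1, h3', if_true, if_false] at h2z ⊢
          omega
        · have h3' : ¬ p = r := fun h => h1 h.symm
          have h4' : ¬ q = r := fun h => h2' h.symm
          simp only [h1, h2', h3', h4', if_false] at h2z ⊢
          omega
    · refine (mem_lcLat B v _).mpr ⟨z2, ?_⟩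
      funext r
      rw [lcMap_apply]
      have h2z : 2 * (z2 ⬝ᵥ (B *ᵥ v r)) = (v p - v q) ⬝ᵥ (B *ᵥ v r) := by
        rw [hz2, smul_dotProduct, smul_eq_mul]
      rw [sub_dotProduct, hvv p r, hvv q r] at h2z
      simp only [Pi.sub_apply, Pi.single_apply]
      by_cases h1 : r = p
      · subst h1
        have h2' : ¬ r = q := hpq
        have h3' : ¬ q = r := fun h => hpq h.symm
        simp only [h2', h3', if_true, if_false] at h2z ⊢
        omega
      · by_cases h2' : r = q
        · subst h2'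
          have h3' : ¬ p = r := fun h => h1 h.symm
          simp only [h1, h3', if_true, if_false] at h2z ⊢
          omega
        · have h3' : ¬ p = r := fun h => h1 h.symm
          have h4' : ¬ q = r := fun h => h2' h.symm
          simp only [h1, h2', h3', h4', if_false] at h2z ⊢
          omega

end Cfsg.Agent.Lib.helper19
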