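import Mathlib
import Cfsg.Agent.Lib.helper9.LcDefs

/-! S0406 piece C2 (helper19): the count of norm-32 vectors of the frame lattice. -/

set_option autoImplicit false
open Matrix

namespace Cfsg.Agent.Lib.helper19
open Cfsg Cfsg.Agent.Lib.helper9

theorem lc_sqNorm_eq_dotInt (u : GolayPt → ℤ) : sqNorm u = dotInt u u := by
  unfold sqNorm dotInt
  exact Finset.sum_congr rfl (fun i _ => pow_two _)

theorem lc_map_injective (B : Matrix (Fin 24) (Fin 24) ℤ)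
    (hpos : ∀ x : Fin 24 → ℤ, x ≠ 0 → 0 < x ⬝ᵥ (B *ᵥ x))
    (v : GolayPt → Fin 24 → ℤ)
    (hdot : ∀ x y : Fin 24 → ℤ, dotInt (lcMap B v x) (lcMap B v y) = 8 * (x ⬝ᵥ (B *ᵥ y))) :
    Function.Injective (lcMap B v) := by
  rw [injective_iff_map_eq_zero]
  intro x hx
  by_contra hne
  have h1 := hdot x x
  rw [hx] at h1
  have h2 : dotInt (0 : GolayPt → ℤ) 0 = 0 := by
    unfold dotInt
    simp
  rw [h2] at h1
  have h3 := hpos x hne
  omega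

theorem lc_frame_count (B : Matrix (Fin 24) (Fin 24) ℤ)
    (hpos : ∀ x : Fin 24 → ℤ, x ≠ 0 → 0 < x ⬝ᵥ (B *ᵥ x))
    (h4 : {x : Fin 24 → ℤ | x ⬝ᵥ (B *ᵥ x) = 4}.ncard = 196560)
    (v : GolayPt → Fin 24 → ℤ)
    (hdot : ∀ x y : Fin 24 → ℤ, dotInt (lcMap B v x) (lcMap B v y) = 8 * (x ⬝ᵥ (B *ᵥ y))) :
    {u : GolayPt → ℤ | u ∈ lcLat B v ∧ sqNorm u = 32}.ncard = 196560 := by
  have hset : {u : GolayPt → ℤ | u ∈ lcLat B v ∧ sqNorm u = 32} =
      (lcMap B v) '' {x : Fin 24 → ℤ | x ⬝ᵥ (B *ᵥ x) = 4} := by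
    ext u
    simp only [Set.mem_setOf_eq, Set.mem_image]
    constructor
    · rintro ⟨hu, hn⟩
      obtain ⟨x, rfl⟩ := (mem_lcLat B v u).mp hu
      refine ⟨x, ?_, rfl⟩
      rw [lc_sqNorm_eq_dotInt, hdot] at hn
      omega
    · rintro ⟨x, hx, rfl⟩
      refine ⟨(mem_lcLat B v _).mpr ⟨x, rfl⟩, ?_⟩
      rw [lc_sqNorm_eq_dotInt, hdot, hx]
      norm_num
  rw [hset, Set.ncard_image_of_injective _ (lc_map_injective B hpos v hdot), h4]

end Cfsg.Agent.Lib.helper19
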