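import Mathlib
import Cfsg.Agent.S0012

set_option autoImplicit false

namespace Cfsg.Agent.Lib.helper91.PearlEnd

/-- E6 (M; NOT used by `pearl_end`, delivers its hypothesis `hfr` for `P 2 = commutator G`). -/
theorem sup_commutator_top {G : Type*} [Group G] [Finite G] (p : ℕ) [Fact p.Prime] (hG : IsPGroup p G)
    (H : Subgroup G) (h : H ⊔ commutator G = ⊤) : H = ⊤ := by
  have h1 := (Cfsg.Agent.S0012.result p hG).1
  apply frattini_nongenerating
  rw [eq_top_iff, ← h]
  exact sup_le_sup_left h1 H

end Cfsg.Agent.Lib.helper91.PearlEnd
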