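import Mathlib
import Cfsg.Agent.Lib.helper68.HallPet
import Cfsg.Agent.Lib.helper19.PearlEE6

set_option autoImplicit false
open Cfsg

namespace Cfsg.Agent.Lib.helper79.P3

open Cfsg.Agent.Lib.helper68

/-- FRAT (racer copy, helper19): `P_2` is contained in the Frattini subgroup. -/
theorem h19_p3_frat {G : Type*} [Group G] [Finite G] (n : ℕ) (hn : 3 ≤ n) (hG : Nat.card G = 3 ^ n)
    (H : Subgroup G) (h : H ⊔ gam G 2 = ⊤) : H = ⊤ := by
  have hp3 : Fact (Nat.Prime 3) := ⟨Nat.prime_three⟩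
  have hp : IsPGroup 3 G := IsPGroup.of_card hG
  have h2 : gam G 2 = commutator G := Subgroup.top_lowerCentralSeries_one
  rw [h2] at h
  exact Cfsg.Agent.Lib.helper91.PearlEnd.sup_commutator_top 3 hp H h

end Cfsg.Agent.Lib.helper79.P3
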