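import Mathlib
import Cfsg.Agent.Lib.helper3.PGroupNormal

set_option autoImplicit false

namespace Cfsg.Agent.Lib.helper79.P3

/-- In an abelian group, `|H ⊔ K| ≤ |H| |K|`. -/
theorem h19_syl9_card_sup {A : Type*} [CommGroup A] [Finite A] (H K : Subgroup A) :
    Nat.card ↥(H ⊔ K) ≤ Nat.card H * Nat.card K := by
  rw [← Nat.card_prod]
  refine Nat.card_le_card_of_surjective
    (fun q : H × K => (⟨q.1.1 * q.2.1, Subgroup.mul_mem_sup q.1.2 q.2.2⟩ : ↥(H ⊔ K))) ?_
  rintro ⟨w, hw⟩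
  obtain ⟨y, hy, z, hz, rfl⟩ := Subgroup.mem_sup.mp hw
  exact ⟨(⟨y, hy⟩, ⟨z, hz⟩), rfl⟩

/-- Elementary abelian of order 27: a subgroup of order 9 avoiding a given subgroup of order `≤ 3`. -/
theorem h19_syl9_compl_comm {A : Type*} [CommGroup A] [Finite A] (hA : Nat.card A = 27)
    (he : ∀ a : A, a ^ 3 = 1) (Z : Subgroup A) (hZ : Nat.card Z ≤ 3) :
    ∃ B : Subgroup A, Nat.card B = 9 ∧ B ⊓ Z = ⊥ := by
  classical
  have hfin : Finite (Subgroup A) := inferInstance
  let S : Set (Subgroup A) := {B | B ⊓ Z = ⊥ ∧ Nat.card B ≤ 9}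
  have hSne : Nonempty S := ⟨⟨⊥, by simp [S]⟩⟩
  obtain ⟨⟨B, hB1, hB2⟩, hmax⟩ := Finite.exists_max (fun B : S => Nat.card (B : Subgroup A))
  have hdvd : Nat.card B ∣ 3 ^ 3 := by
    have := Subgroup.card_subgroup_dvd_card B
    rw [hA] at this
    simpa using this
  obtain ⟨m, hm, hcard⟩ := (Nat.dvd_prime_pow Nat.prime_three).1 hdvd
  by_cases h9 : Nat.card B = 9
  · exact ⟨B, h9, hB1⟩
  exfalso
  have hle3 : Nat.card B ≤ 3 := by
    rw [hcard] at h9 hB2 ⊢
    interval_cases m <;> simp_all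
  -- C := B ⊔ Z is proper
  have hC : Nat.card ↥(B ⊔ Z) ≤ 9 := by
    calc Nat.card ↥(B ⊔ Z) ≤ Nat.card B * Nat.card Z := h19_syl9_card_sup B Z
      _ ≤ 3 * 3 := Nat.mul_le_mul hle3 hZ
  obtain ⟨a, ha⟩ : ∃ a : A, a ∉ B ⊔ Z := by
    by_contra hcon
    push Not at hcon
    have htop : B ⊔ Z = ⊤ := (Subgroup.eq_top_iff' _).mpr hcon
    rw [htop, Subgroup.card_top, hA] at hC
    omega
  have hza : Nat.card (Subgroup.zpowers a) ≤ 3 := by
    rw [Nat.card_zpowers]
    exact orderOf_le_of_pow_eq_one (by norm_num) (he a)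
  have hB'card : Nat.card ↥(B ⊔ Subgroup.zpowers a) ≤ 9 := by
    calc Nat.card ↥(B ⊔ Subgroup.zpowers a) ≤ Nat.card B * Nat.card (Subgroup.zpowers a) :=
          h19_syl9_card_sup B _
      _ ≤ 3 * 3 := Nat.mul_le_mul hle3 hza
  have hB'Z : (B ⊔ Subgroup.zpowers a) ⊓ Z = ⊥ := by
    rw [eq_bot_iff]
    rintro w ⟨hw1, hw2⟩
    obtain ⟨b, hb, c, hc, rfl⟩ := Subgroup.mem_sup.mp hw1
    obtain ⟨k, rfl⟩ := Subgroup.mem_zpowers_iff.mp hc
    have hakC : a ^ k ∈ B ⊔ Z := by
      have : a ^ k = b⁻¹ * (b * a ^ k) := by group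
      rw [this]
      exact Subgroup.mul_mem _ (Subgroup.inv_mem _ (Subgroup.mem_sup_left hb))
        (Subgroup.mem_sup_right hw2)
    have hk : a ^ k = a ^ (k % 3) := by
      conv_lhs => rw [← Int.mul_ediv_add_emod k 3]
      rw [zpow_add, zpow_mul]
      have : a ^ (3 : ℤ) = 1 := by exact_mod_cast he a
      rw [this, one_zpow, one_mul]
    have h0 : 0 ≤ k % 3 := Int.emod_nonneg k (by norm_num)
    have h3 : k % 3 < 3 := Int.emod_lt_of_pos k (by norm_num)
    rw [hk] at hakC hw2 ⊢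
    generalize k % 3 = r at *
    interval_cases r
    · simp only [zpow_zero, mul_one] at hw2 ⊢
      have : b ∈ B ⊓ Z := ⟨hb, hw2⟩
      rw [hB1] at this
      simpa using this
    · exact absurd (by simpa using hakC) ha
    · have h2 : a ^ (2 : ℕ) ∈ B ⊔ Z := by exact_mod_cast hakC
      have h4 : a = a ^ 2 * a ^ 2 := by
        have := he a
        calc a = a ^ 3 * a := by rw [this, one_mul]
          _ = a ^ 2 * a ^ 2 := by group
      exact absurd (h4 ▸ Subgroup.mul_mem _ h2 h2) ha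
  have hmax' := hmax ⟨B ⊔ Subgroup.zpowers a, hB'Z, hB'card⟩
  have heq : B = B ⊔ Subgroup.zpowers a := Subgroup.eq_of_le_of_card_ge le_sup_left hmax'
  apply ha
  apply Subgroup.mem_sup_left
  rw [heq]
  exact Subgroup.mem_sup_right (Subgroup.mem_zpowers a)

/-- The same without a `CommGroup` instance. -/
theorem h19_syl9_compl {A : Type*} [Group A] [Finite A] (hA : Nat.card A = 27)
    (hc : ∀ a b : A, a * b = b * a)
    (he : ∀ a : A, a ^ 3 = 1) (Z : Subgroup A) (hZ : Nat.card Z ≤ 3) :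
    ∃ B : Subgroup A, Nat.card B = 9 ∧ B ⊓ Z = ⊥ := by
  let _ : CommGroup A := { ‹Group A› with mul_comm := hc }
  exact h19_syl9_compl_comm hA he Z hZ

/-- SYL9 (racer copy, helper19). -/
theorem h19_p3_sylow9 {G : Type*} [Group G] [Finite G] (hG : Nat.card G = 81)
    (hZ : Nat.card (Subgroup.center G) = 3) (M : Subgroup G) (hM : Nat.card M = 27)
    (hMc : ∀ a ∈ M, ∀ b ∈ M, a * b = b * a) (hMe : ∀ a ∈ M, a ^ 3 = 1) :
    ∃ W : Sylow 3 (Equiv.Perm (Fin 9)), Nonempty (G ≃* ↥(W : Subgroup (Equiv.Perm (Fin 9)))) := by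
  classical
  have hp3 : Fact (Nat.Prime 3) := ⟨Nat.prime_three⟩
  have hpG : IsPGroup 3 G := IsPGroup.of_card (n := 4) (by rw [hG]; norm_num)
  -- step A
  have hZ' : Nat.card ((Subgroup.center G).subgroupOf M) ≤ 3 := by
    rw [← hZ]
    refine Nat.card_le_card_of_injective
      (fun z : (Subgroup.center G).subgroupOf M =>
        (⟨(z.1 : G), Subgroup.mem_subgroupOf.mp z.2⟩ : Subgroup.center G)) ?_
    intro z1 z2 h
    have : (z1.1 : G) = (z2.1 : G) := by
      have h' := congrArg (fun q : Subgroup.center G => (q : G)) h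
      simpa using h'
    exact Subtype.ext (Subtype.ext this)
  obtain ⟨B, hB9, hBZ⟩ := h19_syl9_compl (A := ↥M) hM
    (fun a b => Subtype.ext (hMc a a.2 b b.2)) (fun a => Subtype.ext (by simpa using hMe a a.2))
    ((Subgroup.center G).subgroupOf M) hZ'
  let BG : Subgroup G := B.map M.subtype
  have hBG9 : Nat.card BG = 9 := by
    rw [Subgroup.card_map_of_injective M.subtype_injective]
    exact hB9
  have hBGZ : ∀ g ∈ BG, g ∈ Subgroup.center G → g = 1 := by
    rintro g ⟨b, hb, rfl⟩ hg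
    have : b ∈ B ⊓ (Subgroup.center G).subgroupOf M := ⟨hb, Subgroup.mem_subgroupOf.mpr hg⟩
    rw [hBZ] at this
    have hb1 : b = 1 := by simpa using this
    rw [hb1]
    simp
  -- step B
  have hcore : BG.normalCore = ⊥ := by
    by_contra hne
    obtain ⟨z, hzN, hzc, hz1, -⟩ :=
      Cfsg.Agent.Lib.helper3.exists_central_of_normal_ne_bot hpG BG.normalCore hne
    exact hz1 (hBGZ z (Subgroup.normalCore_le BG hzN) hzc)
  -- step C
  have hinj : Function.Injective (MulAction.toPermHom G (G ⧸ BG)) := by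
    rw [← MonoidHom.ker_eq_bot_iff, ← Subgroup.normalCore_eq_ker]
    exact hcore
  -- step D
  have hidx : Nat.card (G ⧸ BG) = 9 := by
    have h1 := Subgroup.card_mul_index BG
    rw [hBG9, hG] at h1
    have : BG.index = 9 := by omega
    rw [← this]
    rfl
  have hfin : Finite (G ⧸ BG) := Nat.finite_of_card_ne_zero (by rw [hidx]; norm_num)
  obtain ⟨e⟩ : Nonempty ((G ⧸ BG) ≃ Fin 9) := ⟨Finite.equivFinOfCardEq hidx⟩
  let ψ : G →* Equiv.Perm (Fin 9) := (e.permCongrHom.toMonoidHom).comp (MulAction.toPermHom G (G ⧸ BG))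
  have hψ : Function.Injective ψ := by
    intro a b hab
    apply hinj
    exact e.permCongrHom.injective hab
  have hrange : Nat.card ψ.range = 3 ^ (Nat.card (Equiv.Perm (Fin 9))).factorization 3 := by
    have h1 : Nat.card ψ.range = 81 := by
      rw [← hG]
      exact (Nat.card_congr (MonoidHom.ofInjective hψ).toEquiv).symm
    have h2 : Nat.card (Equiv.Perm (Fin 9)) = 3 ^ 4 * 4480 := by
      rw [Nat.card_perm]
      simp [Nat.factorial]
    have h3 : (3 ^ 4 * 4480 : ℕ).factorization 3 = 4 := by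
      rw [Nat.factorization_mul (by norm_num) (by norm_num), Nat.Prime.factorization_pow Nat.prime_three]
      have : (4480 : ℕ).factorization 3 = 0 := Nat.factorization_eq_zero_of_not_dvd (by norm_num)
      simp [this]
    rw [h1, h2, h3]
    norm_num
  exact ⟨Sylow.ofCard ψ.range hrange, ⟨MonoidHom.ofInjective hψ⟩⟩

end Cfsg.Agent.Lib.helper79.P3
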