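import Mathlib
import Cfsg.Agent.Lib.helper65.PearlBasic
import Cfsg.Agent.Lib.helper43.PearlD1

set_option autoImplicit false

namespace Cfsg.Agent.Lib.helper65.PearlPow

open Cfsg.Agent.Lib.helper68

variable {H : Type*} [Group H]

/-- Stage 1 of A1: for `i ≤ k` the `i`-th differences agree up to the atom of index `k - i`. -/
theorem h19_atom_stage {v : ℕ} (hv : 1 ≤ v) {s : ℕ → H} (hs : PolySeq v s) (k : ℕ)
    (a : H) (ha : a ∈ gam H (k + v)) :
    ∀ i, i ≤ k → Rel (v + i + 1) (fun n => (a ^ (n.choose (k - i)))⁻¹ * dl^[i] s n)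
      (dl^[i] (fun n => (a ^ (n.choose k))⁻¹ * s n)) := by
  intro i
  induction i with
  | zero =>
    intro _
    exact rel_of_eq _ rfl
  | succ i ih =>
    intro hi
    have ih' := ih (by omega)
    obtain ⟨m', hm1, hm2⟩ : ∃ m' : ℕ, k - i = m' + 1 ∧ k - (i + 1) = m' := ⟨k - (i + 1), by omega, rfl⟩
    rw [hm1] at ih'
    rw [hm2]
    have hatom : PolySeq (v + i) (fun n : ℕ => a ^ (n.choose (m' + 1))) := by
      apply PolySeq.atom (m' + 1) (v + i) a
      have e : m' + 1 + (v + i) = k + v := by omega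
      rw [e]
      exact ha
    have hatom' : PolySeq (v + i + 1) (fun n : ℕ => a ^ (n.choose m')) := by
      apply PolySeq.atom m' (v + i + 1) a
      have e : m' + (v + i + 1) = k + v := by omega
      rw [e]
      exact ha
    have hr : PolySeq (v + i) (dl^[i] s) := polyseq_dl_iter hs i
    have hprod : PolySeq (v + i) (fun n => (a ^ (n.choose (m' + 1)))⁻¹ * dl^[i] s n) :=
      PolySeq.mul (PolySeq.inv hatom) hr
    have h1 := rel_dl hprod ih'
    have e1 : dl^[i + 1] s = dl (dl^[i] s) := Function.iterate_succ_apply' dl i s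
    have e2 : dl^[i + 1] (fun n => (a ^ (n.choose k))⁻¹ * s n) =
        dl (dl^[i] (fun n => (a ^ (n.choose k))⁻¹ * s n)) :=
      Function.iterate_succ_apply' dl i _
    rw [e1, e2]
    refine rel_trans ?_ (rel_mono (by omega) h1)
    unfold Rel
    have e3 : (fun n => ((a ^ (n.choose m'))⁻¹ * dl (dl^[i] s) n)⁻¹ *
        dl (fun n => (a ^ (n.choose (m' + 1)))⁻¹ * dl^[i] s n) n) =
        fun n => (dl (dl^[i] s) n)⁻¹ * com ((a ^ (n.choose m'))⁻¹) (dl^[i] s n) *
          dl (dl^[i] s) n := by
      funext n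
      generalize dl^[i] s = r
      simp only [dl, com]
      rw [Nat.choose_succ_succ', pow_add]
      group
    rw [e3]
    have hc : PolySeq (v + (i + 1) + 1)
        (fun n => com ((a ^ (n.choose m'))⁻¹) (dl^[i] s n)) :=
      PolySeq.mono (by omega) (PolySeq.comm (PolySeq.inv hatom') hr)
    exact polyseq_conj hc (PolySeq.diff hr)

/-- A1 (racer copy). -/
theorem h19_atom_remove {v : ℕ} (hv : 1 ≤ v) {s : ℕ → H} (hs : PolySeq v s) (k : ℕ) (hk : 1 ≤ k)
    (a : H) (ha : a ∈ gam H (k + v)) (j : ℕ) (hj : k + 1 ≤ j) :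
    Rel (v + j + 1) (dl^[j] s) (dl^[j] (fun n => (a ^ (n.choose k))⁻¹ * s n)) := by
  induction j, hj using Nat.le_induction with
  | base =>
    have h0 := h19_atom_stage hv hs k a ha k le_rfl
    have hatom : PolySeq (v + k) (fun n : ℕ => a ^ (n.choose (k - k))) := by
      apply PolySeq.atom (k - k) (v + k) a
      have e : k - k + (v + k) = k + v := by omega
      rw [e]
      exact ha
    have hr : PolySeq (v + k) (dl^[k] s) := polyseq_dl_iter hs k
    have hprod : PolySeq (v + k) (fun n => (a ^ (n.choose (k - k)))⁻¹ * dl^[k] s n) :=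
      PolySeq.mul (PolySeq.inv hatom) hr
    have h1 := rel_dl hprod h0
    have e0 : dl (fun n => (a ^ (n.choose (k - k)))⁻¹ * dl^[k] s n) = dl (dl^[k] s) := by
      funext n
      generalize dl^[k] s = r
      simp only [dl, Nat.sub_self, Nat.choose_zero_right]
      group
    rw [e0] at h1
    have e1 : dl^[k + 1] s = dl (dl^[k] s) := Function.iterate_succ_apply' dl k s
    have e2 : dl^[k + 1] (fun n => (a ^ (n.choose k))⁻¹ * s n) =
        dl (dl^[k] (fun n => (a ^ (n.choose k))⁻¹ * s n)) :=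
      Function.iterate_succ_apply' dl k _
    rw [e1, e2]
    exact rel_mono (by omega) h1
  | succ j hj ih =>
    have h := rel_dl (polyseq_dl_iter hs j) ih
    have e1 : dl^[j + 1] s = dl (dl^[j] s) := Function.iterate_succ_apply' dl j s
    have e2 : dl^[j + 1] (fun n => (a ^ (n.choose k))⁻¹ * s n) =
        dl (dl^[j] (fun n => (a ^ (n.choose k))⁻¹ * s n)) :=
      Function.iterate_succ_apply' dl j _
    rw [e1, e2]
    exact rel_mono (by omega) h

end Cfsg.Agent.Lib.helper65.PearlPow
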