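import Mathlib
import Cfsg.Agent.Lib.helper19.PearlJUMP

set_option autoImplicit false

namespace Cfsg.Agent.Lib.helper91.PearlEnd

open Cfsg.Agent.Lib.helper19 in
/-- E5 (M). `H ⊔ P2` proper, `|G : P2| = p^2`, `H ⊓ P2 = closure T2`: one more generator suffices. -/
theorem gen_proper {G : Type*} [Group G] [Finite G] (p : ℕ) [Fact p.Prime] (n : ℕ) (hG : Nat.card G = p ^ n)
    (hn : 2 ≤ n) (P2 : Subgroup G) (hnorm : P2.Normal) (hcard : Nat.card P2 = p ^ (n - 2))
    (H : Subgroup G) (hH : H ⊔ P2 ≠ ⊤) (T2 : Finset G) (hT2 : Subgroup.closure (T2 : Set G) = H ⊓ P2) :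
    ∃ T : Finset G, T.card ≤ T2.card + 1 ∧ Subgroup.closure (T : Set G) = H := by
  classical
  have hp : p.Prime := Fact.out
  by_cases hle : H ≤ P2
  · refine ⟨T2, Nat.le_succ _, ?_⟩
    rw [hT2, inf_eq_left.mpr hle]
  · obtain ⟨h, hhH, hhP⟩ := SetLike.not_le_iff_exists.mp hle
    refine ⟨insert h T2, Finset.card_insert_le _ _, ?_⟩
    have hT2H : (T2 : Set G) ⊆ H := by
      intro t ht
      have h0 : t ∈ Subgroup.closure (T2 : Set G) := Subgroup.subset_closure ht
      rw [hT2] at h0
      exact (Subgroup.mem_inf.mp h0).1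
    have hLH : Subgroup.closure ((insert h T2 : Finset G) : Set G) ≤ H := by
      rw [Subgroup.closure_le, Finset.coe_insert]
      exact Set.insert_subset hhH hT2H
    have hinfL : H ⊓ P2 ≤ Subgroup.closure ((insert h T2 : Finset G) : Set G) := by
      rw [← hT2]
      apply Subgroup.closure_mono
      rw [Finset.coe_insert]
      exact Set.subset_insert _ _
    have hhL : h ∈ Subgroup.closure ((insert h T2 : Finset G) : Set G) := by
      apply Subgroup.subset_closure
      rw [Finset.coe_insert]
      exact Set.mem_insert _ _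
    have hstrict : ¬ Subgroup.closure ((insert h T2 : Finset G) : Set G) ≤ H ⊓ P2 := by
      intro hc
      exact hhP (Subgroup.mem_inf.mp (hc hhL)).2
    have h1 : p * Nat.card (H ⊓ P2 : Subgroup G) ≤
        Nat.card (Subgroup.closure ((insert h T2 : Finset G) : Set G)) :=
      pj_strict p n hG _ _ hinfL hstrict
    have h2 : Nat.card H ≤ p * Nat.card (H ⊓ P2 : Subgroup G) := by
      have := hnorm
      have h3 : p * Nat.card (H ⊔ P2 : Subgroup G) ≤ Nat.card (⊤ : Subgroup G) :=
        pj_strict p n hG _ _ le_top (fun hc => hH (top_le_iff.mp hc))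
      rw [Subgroup.card_top, hG] at h3
      have h4 := pj_card_inf_mul P2 (H ⊔ P2)
      rw [inf_eq_left.mpr le_sup_right, Subgroup.relIndex_sup_right, hcard] at h4
      have h5 := pj_card_inf_mul P2 H
      rw [inf_comm] at h5
      have h6 : P2.relIndex H ≤ p := by
        rw [← h4] at h3
        have h7 : p ^ n = p ^ (n - 2) * (p * p) := by
          rw [← pow_two, ← pow_add]
          congr 1
          omega
        rw [h7] at h3
        have hpos : 0 < p ^ (n - 2) * p := Nat.mul_pos (pow_pos hp.pos _) hp.pos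
        have h8 : (p ^ (n - 2) * p) * P2.relIndex H ≤ (p ^ (n - 2) * p) * p := by
          calc (p ^ (n - 2) * p) * P2.relIndex H = p * (p ^ (n - 2) * P2.relIndex H) := by ring
            _ ≤ p ^ (n - 2) * (p * p) := h3
            _ = (p ^ (n - 2) * p) * p := by ring
        exact Nat.le_of_mul_le_mul_left h8 hpos
      rw [← h5, mul_comm]
      exact Nat.mul_le_mul_right _ h6
    exact Subgroup.eq_of_le_of_card_ge hLH (le_trans h2 h1)

end Cfsg.Agent.Lib.helper91.PearlEnd
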