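import Mathlib
import Cfsg.Agent.Lib.helper19.PearlJUMP
import Cfsg.Agent.Lib.helper19.PearlEE6

/-!
S5238 (rest, block G): the complete END (series data ⟹ every subgroup has at most `p` generators).
-/

set_option autoImplicit false

namespace Cfsg.Agent.Lib.helper19

/-- index bound: `H ⊔ P2 ≠ ⊤` ⟹ `|H| ≤ p |H ⊓ P2|`. -/
theorem pj_index_le {G : Type*} [Group G] [Finite G] (p : ℕ) [Fact p.Prime] (n : ℕ)
    (hG : Nat.card G = p ^ n) (hn : 2 ≤ n) (P2 : Subgroup G) (hnorm : P2.Normal)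
    (hcard : Nat.card P2 = p ^ (n - 2)) (H : Subgroup G) (hH : H ⊔ P2 ≠ ⊤) :
    Nat.card H ≤ p * Nat.card (H ⊓ P2 : Subgroup G) := by
  have hp : p.Prime := Fact.out
  have := hnorm
  have h3 : p * Nat.card (H ⊔ P2 : Subgroup G) ≤ Nat.card (⊤ : Subgroup G) :=
    pj_strict p n hG _ _ le_top (fun hc => hH (top_le_iff.mp hc))
  rw [Subgroup.card_top, hG] at h3
  have h4 := pj_card_inf_mul P2 (H ⊔ P2)
  rw [inf_eq_left.mpr le_sup_right, Subgroup.relIndex_sup_right, hcard] at h4
  have h5 := pj_card_inf_mul P2 H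
  rw [inf_comm] at h5
  have h6 : P2.relIndex H ≤ p := by
    rw [← h4] at h3
    have h7 : p ^ n = p ^ (n - 2) * (p * p) := by
      rw [← pow_two, ← pow_add]
      congr 1
      omega
    rw [h7] at h3
    have hpos : 0 < p ^ (n - 2) * p := Nat.mul_pos (pow_pos hp.pos _) hp.pos
    have h8 : (p ^ (n - 2) * p) * P2.relIndex H ≤ (p ^ (n - 2) * p) * p := by
      calc (p ^ (n - 2) * p) * P2.relIndex H = p * (p ^ (n - 2) * P2.relIndex H) := by ring
        _ ≤ p ^ (n - 2) * (p * p) := h3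
        _ = (p ^ (n - 2) * p) * p := by ring
    exact Nat.le_of_mul_le_mul_left h8 hpos
  rw [← h5, mul_comm]
  exact Nat.mul_le_mul_right _ h6

end Cfsg.Agent.Lib.helper19

namespace Cfsg.Agent.Lib.helper91.PearlEnd

open Cfsg.Agent.Lib.helper19

/-- END of block G of S5238 in helper91's interface (racer copy, via `pearl_jump`). -/
theorem h19_pearl_end {G : Type*} [Group G] [Finite G] (p : ℕ) [Fact p.Prime] (hp2 : p ≠ 2) (n : ℕ)
    (hG : Nat.card G = p ^ n) (P : ℕ → Subgroup G) (hnorm : ∀ i, (P i).Normal)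
    (hanti : ∀ i, P (i + 1) ≤ P i)
    (hcard : ∀ i, 2 ≤ i → i ≤ n → Nat.card (P i) = p ^ (n - i))
    (hfr : ∀ H : Subgroup G, H ⊔ P 2 = ⊤ → H = ⊤)
    (hgen : ∃ a b : G, Subgroup.closure {a, b} = ⊤)
    (hpow : ∀ i, 2 ≤ i → i + p ≤ n → ∀ m ∈ P i, m ∉ P (i + 1) → m ^ p ∈ P (i + p - 1) ∧ m ^ p ∉ P (i + p))
    (H : Subgroup G) : ∃ T : Finset G, T.card ≤ p ∧ Subgroup.closure (T : Set G) = H := by
  classical
  have hp : p.Prime := Fact.out
  by_cases hH : H = ⊤
  · obtain ⟨a, b, hab⟩ := hgen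
    refine ⟨{a, b}, le_trans Finset.card_le_two hp.two_le, ?_⟩
    rw [hH, ← hab]
    congr 1
    simp
  · have hsup : H ⊔ P 2 ≠ ⊤ := fun h => hH (hfr H h)
    apply pearl_jump p n hG P hanti hcard hpow H
    rcases Nat.lt_or_ge n 2 with hn | hn
    · calc Nat.card H ≤ Nat.card G := Subgroup.card_le_card_group H
        _ = p ^ n := hG
        _ ≤ p ^ 1 := Nat.pow_le_pow_right hp.pos (by omega)
        _ = p * 1 := by rw [pow_one, mul_one]
        _ ≤ p * Nat.card (H ⊓ P 2 : Subgroup G) := Nat.mul_le_mul_left _ Nat.card_pos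
    · exact pj_index_le p n hG hn (P 2) (hnorm 2) (hcard 2 le_rfl hn) H hsup

/-- END of block G of S5238, minimal hypotheses: `P 2 = commutator G`, the orders of the `P i`
and F4. -/
theorem h19_pearl_end_comm {G : Type*} [Group G] [Finite G] (p : ℕ) [Fact p.Prime] (n : ℕ)
    (hG : Nat.card G = p ^ n) (P : ℕ → Subgroup G) (hP2 : P 2 = commutator G)
    (hanti : ∀ i, P (i + 1) ≤ P i)
    (hcard : ∀ i, 2 ≤ i → i ≤ n → Nat.card (P i) = p ^ (n - i))
    (hpow : ∀ i, 2 ≤ i → i + p ≤ n → ∀ m ∈ P i, m ∉ P (i + 1) → m ^ p ∈ P (i + p - 1) ∧ m ^ p ∉ P (i + p))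
    (H : Subgroup G) : ∃ T : Finset G, T.card ≤ p ∧ Subgroup.closure (T : Set G) = H := by
  classical
  have hp : p.Prime := Fact.out
  have hGp : IsPGroup p G := IsPGroup.of_card hG
  by_cases hH : H = ⊤
  · have hidx : (frattini G).index ∣ Nat.card G := Subgroup.index_dvd_card _
    rw [hG] at hidx
    obtain ⟨d, hdn, hd⟩ := (Nat.dvd_prime_pow hp).mp hidx
    have hd2 : d ≤ 2 := by
      rcases Nat.lt_or_ge n 2 with hn | hn
      · omega
      · have h1 : P 2 ≤ frattini G := by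
          rw [hP2]
          exact (Cfsg.Agent.S0012.result p hGp).1
        have h2 : (frattini G).index ∣ (P 2).index := Subgroup.index_dvd_of_le h1
        have h3 : (P 2).index = p ^ 2 := by
          have h4 := Subgroup.card_mul_index (P 2)
          rw [hcard 2 le_rfl hn, hG] at h4
          have h5 : p ^ n = p ^ (n - 2) * p ^ 2 := by
            rw [← pow_add]
            congr 1
            omega
          rw [h5] at h4
          exact Nat.eq_of_mul_eq_mul_left (pow_pos hp.pos _) h4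
        rw [h3, hd] at h2
        exact (Nat.pow_dvd_pow_iff_le_right hp.one_lt).mp h2
    obtain ⟨S, hS⟩ : ∃ S : Finset G, (S : Set G) = Set.univ :=
      ⟨(Set.finite_univ).toFinset, by simp⟩
    obtain ⟨T, -, hTc, hTcl⟩ := (Cfsg.Agent.S0014.result p d hGp hd).1 S
      (by rw [hS, Subgroup.closure_univ])
    exact ⟨T, by rw [hTc]; exact le_trans hd2 hp.two_le, by rw [hTcl, hH]⟩
  · have hsup : H ⊔ P 2 ≠ ⊤ := by
      rw [hP2]
      exact fun h => hH (sup_commutator_top p hGp H h)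
    apply pearl_jump p n hG P hanti hcard hpow H
    rcases Nat.lt_or_ge n 2 with hn | hn
    · calc Nat.card H ≤ Nat.card G := Subgroup.card_le_card_group H
        _ = p ^ n := hG
        _ ≤ p ^ 1 := Nat.pow_le_pow_right hp.pos (by omega)
        _ = p * 1 := by rw [pow_one, mul_one]
        _ ≤ p * Nat.card (H ⊓ P 2 : Subgroup G) := Nat.mul_le_mul_left _ Nat.card_pos
    · have hnorm : (P 2).Normal := by
        rw [hP2]
        infer_instance
      exact pj_index_le p n hG hn (P 2) hnorm (hcard 2 le_rfl hn) H hsup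

end Cfsg.Agent.Lib.helper91.PearlEnd
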