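import Mathlib
import Cfsg.Prelude.Def_GeometricClasses
import Cfsg.Agent.Lib.helper24.SfoDefs

set_option autoImplicit false

namespace Cfsg.Agent.Lib.helper2

open Cfsg.Geo Matrix Cfsg.Agent.Lib.helper24

/-- CONJ -/
theorem qfu_conj {F : Type*} [Field F] {ι : Type} [Fintype ι] [DecidableEq ι]
    (Q : (ι → F) → F) (δ : F) [Fact (∀ r : F, r ^ 2 ≠ δ + 0 * r)] (κ₁ κ₂ : Matrix ι ι F)
    (d : ℕ) (Φ₁ Φ₂ : (Fin d → QuadraticAlgebra F δ 0) ≃+ (ι → F))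
    (hΦ₁ : ∀ (z : QuadraticAlgebra F δ 0) (k : Fin d → QuadraticAlgebra F δ 0),
        Φ₁ (z • k) = z.re • Φ₁ k + z.im • (κ₁ *ᵥ Φ₁ k))
    (hΦ₂ : ∀ (z : QuadraticAlgebra F δ 0) (k : Fin d → QuadraticAlgebra F δ 0),
        Φ₂ (z • k) = z.re • Φ₂ k + z.im • (κ₂ *ᵥ Φ₂ k))
    (qk₁ qk₂ : (ι → F) → QuadraticAlgebra F δ 0) (hre₁ : ∀ v, (qk₁ v).re = Q v)
    (hre₂ : ∀ v, (qk₂ v).re = Q v) (T : GL (Fin d) (QuadraticAlgebra F δ 0))
    (hT : ∀ k : Fin d → QuadraticAlgebra F δ 0,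
      qk₂ (Φ₂ ((T : Matrix (Fin d) (Fin d) (QuadraticAlgebra F δ 0)) *ᵥ k)) = qk₁ (Φ₁ k)) :
    ∃ h : GL ι F, h ∈ Cfsg.isometryGroup F Q ∧
      (h : Matrix ι ι F) * κ₁ = κ₂ * (h : Matrix ι ι F) := by
  classical
  have hsm₁ : ∀ (a : F) (k : Fin d → QuadraticAlgebra F δ 0),
      Φ₁ ((⟨a, 0⟩ : QuadraticAlgebra F δ 0) • k) = a • Φ₁ k := by
    intro a k
    rw [hΦ₁]
    simp
  have hsm₂ : ∀ (a : F) (k : Fin d → QuadraticAlgebra F δ 0),
      Φ₂ ((⟨a, 0⟩ : QuadraticAlgebra F δ 0) • k) = a • Φ₂ k := by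
    intro a k
    rw [hΦ₂]
    simp
  have hsymm₁ : ∀ (a : F) (v : ι → F),
      Φ₁.symm (a • v) = (⟨a, 0⟩ : QuadraticAlgebra F δ 0) • Φ₁.symm v := by
    intro a v
    apply Φ₁.injective
    rw [hsm₁, AddEquiv.apply_symm_apply, AddEquiv.apply_symm_apply]
  have hsymm₂ : ∀ (a : F) (v : ι → F),
      Φ₂.symm (a • v) = (⟨a, 0⟩ : QuadraticAlgebra F δ 0) • Φ₂.symm v := by
    intro a v
    apply Φ₂.injective
    rw [hsm₂, AddEquiv.apply_symm_apply, AddEquiv.apply_symm_apply]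
  have hom₁ : ∀ k : Fin d → QuadraticAlgebra F δ 0,
      Φ₁ ((⟨0, 1⟩ : QuadraticAlgebra F δ 0) • k) = κ₁ *ᵥ Φ₁ k := by
    intro k
    rw [hΦ₁]
    simp
  have hom₂ : ∀ k : Fin d → QuadraticAlgebra F δ 0,
      Φ₂ ((⟨0, 1⟩ : QuadraticAlgebra F δ 0) • k) = κ₂ *ᵥ Φ₂ k := by
    intro k
    rw [hΦ₂]
    simp
  obtain ⟨Tm, hTm⟩ : ∃ Tm : Matrix (Fin d) (Fin d) (QuadraticAlgebra F δ 0),
      Tm = (T : Matrix (Fin d) (Fin d) (QuadraticAlgebra F δ 0)) := ⟨_, rfl⟩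
  obtain ⟨Ti, hTi⟩ : ∃ Ti : Matrix (Fin d) (Fin d) (QuadraticAlgebra F δ 0),
      Ti = ((T⁻¹ : GL (Fin d) (QuadraticAlgebra F δ 0)) :
        Matrix (Fin d) (Fin d) (QuadraticAlgebra F δ 0)) := ⟨_, rfl⟩
  have hTT : Tm * Ti = 1 := by
    rw [hTm, hTi, ← Units.val_mul, mul_inv_cancel, Units.val_one]
  have hTT' : Ti * Tm = 1 := by
    rw [hTm, hTi, ← Units.val_mul, inv_mul_cancel, Units.val_one]
  let L : (ι → F) →ₗ[F] (ι → F) :=
    { toFun := fun v => Φ₂ (Tm *ᵥ Φ₁.symm v)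
      map_add' := by
        intro v w
        rw [map_add, Matrix.mulVec_add, map_add]
      map_smul' := by
        intro a v
        simp only [RingHom.id_apply]
        rw [hsymm₁, Matrix.mulVec_smul, hsm₂] }
  let L' : (ι → F) →ₗ[F] (ι → F) :=
    { toFun := fun v => Φ₁ (Ti *ᵥ Φ₂.symm v)
      map_add' := by
        intro v w
        rw [map_add, Matrix.mulVec_add, map_add]
      map_smul' := by
        intro a v
        simp only [RingHom.id_apply]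
        rw [hsymm₂, Matrix.mulVec_smul, hsm₁] }
  have hL : ∀ v, L v = Φ₂ (Tm *ᵥ Φ₁.symm v) := fun v => rfl
  have hL' : ∀ v, L' v = Φ₁ (Ti *ᵥ Φ₂.symm v) := fun v => rfl
  have hLL' : L.comp L' = LinearMap.id := by
    apply LinearMap.ext
    intro v
    rw [LinearMap.comp_apply, hL, hL', AddEquiv.symm_apply_apply, Matrix.mulVec_mulVec, hTT,
      Matrix.one_mulVec, AddEquiv.apply_symm_apply, LinearMap.id_apply]
  have hL'L : L'.comp L = LinearMap.id := by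
    apply LinearMap.ext
    intro v
    rw [LinearMap.comp_apply, hL, hL', AddEquiv.symm_apply_apply, Matrix.mulVec_mulVec, hTT',
      Matrix.one_mulVec, AddEquiv.apply_symm_apply, LinearMap.id_apply]
  have hMM' : LinearMap.toMatrix' L * LinearMap.toMatrix' L' = 1 := by
    rw [← LinearMap.toMatrix'_comp, hLL', LinearMap.toMatrix'_id]
  have hM'M : LinearMap.toMatrix' L' * LinearMap.toMatrix' L = 1 := by
    rw [← LinearMap.toMatrix'_comp, hL'L, LinearMap.toMatrix'_id]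
  have hmv : ∀ v, LinearMap.toMatrix' L *ᵥ v = Φ₂ (Tm *ᵥ Φ₁.symm v) := by
    intro v
    rw [LinearMap.toMatrix'_mulVec, hL]
  refine ⟨⟨LinearMap.toMatrix' L, LinearMap.toMatrix' L', hMM', hM'M⟩, ?_, ?_⟩
  · intro u _
    show Q (LinearMap.toMatrix' L *ᵥ u) = Q u
    rw [hmv, ← hre₂, hTm, hT, hre₁, AddEquiv.apply_symm_apply]
  · show LinearMap.toMatrix' L * κ₁ = κ₂ * LinearMap.toMatrix' L
    apply Matrix.ext_iff_mulVec.2
    intro v
    rw [← Matrix.mulVec_mulVec, ← Matrix.mulVec_mulVec, hmv, hmv, ← hom₂, ← Matrix.mulVec_smul]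
    congr 2
    apply Φ₁.injective
    rw [AddEquiv.apply_symm_apply, hom₁, AddEquiv.apply_symm_apply]

end Cfsg.Agent.Lib.helper2
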