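import Mathlib
import Cfsg.Prelude.Def_GeometricClasses
import Cfsg.Agent.Lib.helper24.SfoDefs

set_option autoImplicit false

namespace Cfsg.Agent.Lib.helper2

open Cfsg.Geo Matrix Cfsg.Agent.Lib.helper24

/-- number of `t` with `c t² = u`, as an integer: `χ(u/c) + 1`. -/
theorem helper19_qfu_card_sq {E : Type*} [Field E] [Fintype E] [DecidableEq E] (h2 : (2 : E) ≠ 0)
    (c : E) (hc : c ≠ 0) (u : E) :
    ((Finset.univ.filter (fun t : E => c * t ^ 2 = u)).card : ℤ) =
      quadraticChar E (u / c) + 1 := by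
  have hF : ringChar E ≠ 2 := by
    intro h
    apply h2
    have h3 := ringChar.Nat.cast_ringChar (R := E)
    rw [h] at h3
    exact_mod_cast h3
  rw [← quadraticChar_card_sqrts hF (u / c)]
  congr 2
  ext t
  simp only [Finset.mem_filter, Finset.mem_univ, true_and, Set.mem_toFinset, Set.mem_ofPred_eq]
  constructor
  · intro h
    rw [← h]
    field_simp
  · intro h
    rw [h]
    field_simp

/-- splitting off the last coordinate. -/
def helper19_snocE (E : Type*) (m : ℕ) : (Fin m → E) × E ≃ (Fin (m + 1) → E) where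
  toFun p := Fin.snoc p.1 p.2
  invFun x := (fun j => x (Fin.castSucc j), x (Fin.last m))
  left_inv p := by
    ext <;> simp
  right_inv x := by
    funext j
    refine Fin.lastCases ?_ (fun i => ?_) j <;> simp

theorem helper19_qfu_count_int {E : Type*} [Field E] [Fintype E] [DecidableEq E] {m : ℕ}
    (h2 : (2 : E) ≠ 0)
    (c₀ : E) (hc₀ : c₀ ≠ 0) :
    (sfoCount (fun x : Fin (m + 1) → E =>
        ∑ j, (if j = Fin.last m then c₀ else 1) * x j ^ 2) 1 : ℤ) =
      ∑ y : Fin m → E, (quadraticChar E ((1 - ∑ j, y j ^ 2) / c₀) + 1) := by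
  classical
  unfold sfoCount
  rw [Nat.card_eq_fintype_card, Fintype.card_subtype, Finset.card_filter]
  rw [← (helper19_snocE E m).sum_comp, Fintype.sum_prod_type]
  push_cast
  refine Finset.sum_congr rfl (fun y _ => ?_)
  rw [← helper19_qfu_card_sq h2 c₀ hc₀, Finset.card_filter]
  push_cast
  refine Finset.sum_congr rfl (fun t _ => ?_)
  have h1 : (∑ j, (if j = Fin.last m then c₀ else 1) * (helper19_snocE E m (y, t)) j ^ 2) =
      ∑ j, y j ^ 2 + c₀ * t ^ 2 := by
    rw [Fin.sum_univ_castSucc]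
    simp [helper19_snocE, Fin.castSucc_ne_last]
  rw [h1]
  by_cases h : c₀ * t ^ 2 = 1 - ∑ j, y j ^ 2
  · rw [if_pos h, if_pos (by rw [h]; ring)]
  · rw [if_neg h, if_neg (fun h' => h (by rw [← h']; ring))]

/-- SUMD -/
theorem qfu_diag_count_sum {E : Type*} [Field E] [Fintype E] {m : ℕ} (h2 : (2 : E) ≠ 0)
    (c c' : E) (hc : c ≠ 0) (hc' : c' ≠ 0) (hns : ∀ s : E, c ≠ s ^ 2 * c') :
    sfoCount (fun x : Fin (m + 1) → E => ∑ j, (if j = Fin.last m then c else 1) * x j ^ 2) 1 +
      sfoCount (fun x : Fin (m + 1) → E => ∑ j, (if j = Fin.last m then c' else 1) * x j ^ 2) 1 =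
      2 * Fintype.card E ^ m := by
  classical
  have hchi : quadraticChar E (c' / c) = -1 := by
    rw [quadraticChar_neg_one_iff_not_isSquare]
    rintro ⟨r, hr⟩
    have hr0 : r ≠ 0 := by
      rintro rfl
      rw [mul_zero] at hr
      exact hc' ((div_eq_zero_iff.mp hr).resolve_right hc)
    apply hns r⁻¹
    have h3 : c' = r * r * c := by
      rw [← hr]
      field_simp
    rw [h3]
    field_simp
  have hpair : ∀ u : E, quadraticChar E (u / c) + quadraticChar E (u / c') = 0 := by
    intro u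
    have h3 : u / c = (u / c') * (c' / c) := by
      field_simp
    rw [h3, map_mul, hchi]
    ring
  have hint : ((sfoCount (fun x : Fin (m + 1) → E =>
        ∑ j, (if j = Fin.last m then c else 1) * x j ^ 2) 1 +
      sfoCount (fun x : Fin (m + 1) → E =>
        ∑ j, (if j = Fin.last m then c' else 1) * x j ^ 2) 1 : ℕ) : ℤ) =
      ((2 * Fintype.card E ^ m : ℕ) : ℤ) := by
    push_cast
    rw [helper19_qfu_count_int h2 c hc, helper19_qfu_count_int h2 c' hc', ← Finset.sum_add_distrib]
    have h4 : ∀ y : Fin m → E, (quadraticChar E ((1 - ∑ j, y j ^ 2) / c) + 1) +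
        (quadraticChar E ((1 - ∑ j, y j ^ 2) / c') + 1) = 2 := by
      intro y
      have := hpair (1 - ∑ j, y j ^ 2)
      linarith
    rw [Finset.sum_congr rfl (fun y _ => h4 y)]
    simp [Finset.card_univ]
    ring
  exact_mod_cast hint

end Cfsg.Agent.Lib.helper2
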