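import Mathlib

/-!
Pure-Mathlib pairing lemmas in characteristic 3 for the Schur multiplier of the small Ree groups
(S2113): an alternating biadditive pairing invariant under all scalars is trivial; a biadditive
pairing invariant under `(s, t) ↦ (ν s, χ(ν) t)` is trivial as soon as `χ` is not additive at one
point; the field point for `χ(ν) = ν² (ν^e)³`.
-/

set_option autoImplicit false

namespace Cfsg.Agent.Lib.helper19.ReeM

/-- An additive map `f` into a group with `f 1 = 1` and `f x⁻¹ = (f x)⁻¹` is trivial in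
characteristic 3. -/
theorem add_hom_trivial_char3 {F Γ : Type*} [Field F] [Group Γ] (h3 : (3 : F) = 0) (f : F → Γ)
    (hadd : ∀ x y, f (x + y) = f x * f y) (h1 : f 1 = 1)
    (hinv : ∀ x, x ≠ 0 → f x⁻¹ = (f x)⁻¹) : ∀ x, f x = 1 := by
  have f0 : f 0 = 1 := by
    have h := hadd 0 0
    rw [add_zero] at h
    exact mul_eq_left.mp h.symm
  have fneg : ∀ x, f (-x) = (f x)⁻¹ := by
    intro x
    have h := hadd x (-x)
    rw [add_neg_cancel, f0] at h
    exact eq_inv_of_mul_eq_one_right h.symm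
  have key : ∀ x, f (x * x) * f x = 1 := by
    intro x
    by_cases hx0 : x = 0
    · subst hx0
      rw [mul_zero, f0, mul_one]
    by_cases hx1 : x + 1 = 0
    · have hx : x = -1 := eq_neg_of_add_eq_zero_left hx1
      subst hx
      rw [neg_mul_neg, mul_one, fneg, h1, inv_one, mul_one]
    have hne : x * (x + 1) ≠ 0 := mul_ne_zero hx0 hx1
    have e1 : (x * (x + 1))⁻¹ = x⁻¹ + -(x + 1)⁻¹ := by
      field_simp
      ring
    have h := hinv _ hne
    rw [e1, hadd, fneg, hinv x hx0, hinv (x + 1) hx1, inv_inv, hadd x 1, h1, mul_one,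
      inv_mul_cancel] at h
    have h2 : f (x * (x + 1)) = 1 := by
      rw [← inv_inv (f (x * (x + 1))), ← h, inv_one]
    rw [mul_add, mul_one, hadd] at h2
    exact h2
  intro x
  have hk := key x
  have hk1 := key (x + 1)
  have e2 : (x + 1) * (x + 1) = x * x + (x + x) + 1 := by ring
  rw [e2, hadd, hadd, hadd, hadd x 1, h1, mul_one, mul_one] at hk1
  -- hk1 : f (x*x) * (f x * f x) * f x = 1
  have hxx : f (x * x) = (f x)⁻¹ := eq_inv_of_mul_eq_one_left hk
  rw [hxx, ← mul_assoc, inv_mul_cancel, one_mul] at hk1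
  -- hk1 : f x * f x = 1
  have h3x : f (x + x + x) = 1 := by
    have : x + x + x = 3 * x := by ring
    rw [this, h3, zero_mul, f0]
  rw [hadd, hadd, hk1, one_mul] at h3x
  exact h3x

/-- An alternating biadditive pairing on a field of characteristic 3, invariant under all nonzero
scalars, is trivial. -/
theorem alt_pairing_char3 {F Γ : Type*} [Field F] [Group Γ] (h3 : (3 : F) = 0) (B : F → F → Γ)
    (hl : ∀ s s' t, B (s + s') t = B s t * B s' t) (hr : ∀ s t t', B s (t + t') = B s t * B s t')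
    (halt : ∀ s, B s s = 1)
    (hinv : ∀ c s t, c ≠ 0 → B (c * s) (c * t) = B s t) : ∀ s t, B s t = 1 := by
  have hanti : ∀ s t, B t s = (B s t)⁻¹ := by
    intro s t
    have h := halt (s + t)
    rw [hl, hr, hr, halt, halt, one_mul, mul_one] at h
    exact eq_inv_of_mul_eq_one_right h
  have hf : ∀ x, B 1 x = 1 := by
    apply add_hom_trivial_char3 h3 (fun x => B 1 x) (fun x y => hr 1 x y) (halt 1)
    intro x hx
    show B 1 x⁻¹ = (B 1 x)⁻¹
    rw [← hanti 1 x]
    have h := hinv x 1 x⁻¹ hx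
    rw [mul_one, mul_inv_cancel₀ hx] at h
    exact h.symm
  have h0 : ∀ t, B 0 t = 1 := by
    intro t
    have h := hl 0 0 t
    rw [add_zero] at h
    exact mul_eq_left.mp h.symm
  intro s t
  by_cases hs : s = 0
  · rw [hs, h0]
  have h := hinv s 1 (s⁻¹ * t) hs
  rw [mul_one, ← mul_assoc, mul_inv_cancel₀ hs, one_mul] at h
  rw [h, hf]

/-- A biadditive pairing invariant under `(s, t) ↦ (ν s, χ ν t)` is trivial as soon as
`(χ (x+1))⁻¹ ≠ (χ x)⁻¹ + 1` at one point `x ≠ 0, -1`. -/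
theorem pairing_twist {F Γ : Type*} [Field F] [Group Γ] (χ : F → F) (B : F → F → Γ)
    (hl : ∀ s s' t, B (s + s') t = B s t * B s' t) (hr : ∀ s t t', B s (t + t') = B s t * B s t')
    (hinv : ∀ ν s t, ν ≠ 0 → B (ν * s) (χ ν * t) = B s t)
    (x : F) (hx0 : x ≠ 0) (hx1 : x + 1 ≠ 0) (hχ0 : χ x ≠ 0) (hχ1 : χ (x + 1) ≠ 0)
    (hκ : (χ (x + 1))⁻¹ ≠ (χ x)⁻¹ + 1) : ∀ s t, B s t = 1 := by
  have hr0 : ∀ s, B s 0 = 1 := by
    intro s
    have h := hr s 0 0
    rw [add_zero] at h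
    exact mul_eq_left.mp h.symm
  have hrneg : ∀ s t, B s (-t) = (B s t)⁻¹ := by
    intro s t
    have h := hr s t (-t)
    rw [add_neg_cancel, hr0] at h
    exact eq_inv_of_mul_eq_one_right h.symm
  have hmove : ∀ ν s t, ν ≠ 0 → χ ν ≠ 0 → B (ν * s) t = B s ((χ ν)⁻¹ * t) := by
    intro ν s t hν hχ
    have h := hinv ν s ((χ ν)⁻¹ * t) hν
    rw [← mul_assoc, mul_inv_cancel₀ hχ, one_mul] at h
    exact h
  have hkey : ∀ s t, B s (((χ (x + 1))⁻¹ - ((χ x)⁻¹ + 1)) * t) = 1 := by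
    intro s t
    have h1 := hmove (x + 1) s t hx1 hχ1
    have h2 := hmove x s t hx0 hχ0
    have h3 : B ((x + 1) * s) t = B (x * s) t * B s t := by
      rw [add_mul, one_mul, hl]
    rw [h1, h2, ← hr] at h3
    have e1 : ((χ (x + 1))⁻¹ - ((χ x)⁻¹ + 1)) * t = (χ (x + 1))⁻¹ * t + -((χ x)⁻¹ * t + t) := by
      ring
    rw [e1, hr, hrneg, h3, mul_inv_cancel]
  intro s t
  have hκ' : (χ (x + 1))⁻¹ - ((χ x)⁻¹ + 1) ≠ 0 := sub_ne_zero.mpr hκ
  have h := hkey s (((χ (x + 1))⁻¹ - ((χ x)⁻¹ + 1))⁻¹ * t)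
  rw [← mul_assoc, mul_inv_cancel₀ hκ', one_mul] at h
  exact h

open Polynomial in
/-- The field point for the character `ν ↦ ν² (ν^e)³`, `e = 3^m`, of the Ree torus. -/
theorem field_pt3 {F : Type*} [Field F] [Fintype F] {m : ℕ} (hm : 1 ≤ m)
    (hF : Fintype.card F = 3 ^ (2 * m + 1)) :
    ∃ x : F, x ≠ 0 ∧ x + 1 ≠ 0 ∧
      ((x + 1) ^ 2 * ((x + 1) ^ 3 ^ m) ^ 3)⁻¹ ≠ (x ^ 2 * (x ^ 3 ^ m) ^ 3)⁻¹ + 1 := by
  classical
  by_contra hcon
  push Not at hcon
  have hchar : CharP F 3 := by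
    have hp : Fact (Nat.Prime 3) := ⟨Nat.prime_three⟩
    obtain ⟨p, hp'⟩ := CharP.exists F
    have hpp : p.Prime := by
      rcases CharP.char_is_prime_or_zero F p with h | h
      · exact h
      · exfalso
        subst h
        have : CharZero F := CharP.charP_to_charZero F
        exact not_finite F
    have hdvd : p ∣ Fintype.card F := by
      have h0 : ((Fintype.card F : ℕ) : F) = 0 := Nat.cast_card_eq_zero F
      exact (CharP.cast_eq_zero_iff F p _).mp h0
    rw [hF] at hdvd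
    have h3p : p = 3 := (Nat.prime_dvd_prime_iff_eq hpp Nat.prime_three).mp (hpp.dvd_of_dvd_pow hdvd)
    rw [← h3p]
    exact hp'
  obtain ⟨N, hN⟩ : ∃ N : ℕ, N = 3 ^ (m + 1) := ⟨_, rfl⟩
  have hpowN : ∀ x : F, (x ^ 3 ^ m) ^ 3 = x ^ N := by
    intro x
    rw [hN, ← pow_mul, ← pow_succ]
  have haddN : ∀ x : F, (x + 1) ^ N = x ^ N + 1 := by
    intro x
    rw [hN, add_pow_char_pow x 1, one_pow]
  obtain ⟨P, hPdef⟩ : ∃ P : F[X],
      P = (X + 1) ^ 2 * (X ^ N + 1) + X ^ 2 * X ^ N * ((X + 1) ^ 2 * (X ^ N + 1)) - X ^ 2 * X ^ N :=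
    ⟨_, rfl⟩
  have hP0 : P.eval 0 = 1 := by
    have hN0 : N ≠ 0 := by rw [hN]; positivity
    rw [hPdef]
    simp [hN0]
  have hPne : P ≠ 0 := by
    intro h
    rw [h] at hP0
    simp at hP0
  have hdeg : P.natDegree ≤ 2 * N + 4 := by
    rw [hPdef]
    have hX1 : (X + 1 : F[X]).natDegree ≤ 1 := by
      have := natDegree_X_add_C (1 : F)
      rw [map_one] at this
      rw [this]
    have h1 : ((X + 1 : F[X]) ^ 2).natDegree ≤ 2 := by
      refine (natDegree_pow_le).trans ?_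
      omega
    have h2 : (X ^ N + 1 : F[X]).natDegree ≤ N := by
      refine natDegree_add_le_of_degree_le (natDegree_X_pow_le _) ?_
      rw [natDegree_one]
      omega
    have h3 : ((X + 1 : F[X]) ^ 2 * (X ^ N + 1)).natDegree ≤ N + 2 := by
      refine (natDegree_mul_le).trans ?_
      omega
    have h4 : (X ^ 2 * X ^ N : F[X]).natDegree ≤ N + 2 := by
      refine (natDegree_mul_le).trans ?_
      have a1 : (X ^ 2 : F[X]).natDegree ≤ 2 := natDegree_X_pow_le _
      have a2 : (X ^ N : F[X]).natDegree ≤ N := natDegree_X_pow_le _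
      omega
    have h5 : ((X ^ 2 * X ^ N : F[X]) * ((X + 1) ^ 2 * (X ^ N + 1))).natDegree ≤ 2 * N + 4 := by
      refine (natDegree_mul_le).trans ?_
      omega
    refine (natDegree_sub_le _ _).trans ?_
    refine max_le ((natDegree_add_le _ _).trans (max_le ?_ h5)) ?_
    · omega
    · omega
  have hroot : ∀ x : F, x ≠ 0 → x + 1 ≠ 0 → P.IsRoot x := by
    intro x hx0 hx1
    have h := hcon x hx0 hx1
    rw [hpowN, hpowN, haddN] at h
    obtain ⟨A, hA⟩ : ∃ A : F, A = (x + 1) ^ 2 * (x ^ N + 1) := ⟨_, rfl⟩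
    obtain ⟨C, hC⟩ : ∃ C : F, C = x ^ 2 * x ^ N := ⟨_, rfl⟩
    have hA0 : A ≠ 0 := by
      rw [hA, ← haddN]
      exact mul_ne_zero (pow_ne_zero _ hx1) (pow_ne_zero _ hx1)
    have hC0 : C ≠ 0 := by rw [hC]; exact mul_ne_zero (pow_ne_zero _ hx0) (pow_ne_zero _ hx0)
    rw [← hA, ← hC] at h
    have key : A + C * A - C = 0 := by
      have h1 : A + C * A - C = (C⁻¹ + 1 - A⁻¹) * (A * C) := by
        field_simp
      rw [h1, ← h, sub_self, zero_mul]
    rw [IsRoot, hPdef]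
    simp only [eval_add, eval_sub, eval_mul, eval_pow, eval_X, eval_one]
    rw [← hA, ← hC]
    exact key
  have hsub : (Finset.univ \ {0, -1} : Finset F) ⊆ P.roots.toFinset := by
    intro x hx
    rw [Finset.mem_sdiff, Finset.mem_insert, Finset.mem_singleton] at hx
    rw [Multiset.mem_toFinset, mem_roots hPne]
    refine hroot x (fun h => hx.2 (Or.inl h)) (fun h => hx.2 (Or.inr ?_))
    exact eq_neg_of_add_eq_zero_left h
  have h1 : (Finset.univ : Finset F).card ≤
      (Finset.univ \ {0, -1} : Finset F).card + ({0, -1} : Finset F).card :=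
    Finset.card_le_card_sdiff_add_card
  have h2 : ({0, -1} : Finset F).card ≤ 2 := Finset.card_le_two
  have h3' : (Finset.univ \ {0, -1} : Finset F).card ≤ 2 * N + 4 :=
    (Finset.card_le_card hsub).trans
      ((Multiset.toFinset_card_le _).trans ((card_roots' P).trans hdeg))
  rw [Finset.card_univ, hF] at h1
  have h4 : 3 ^ (2 * m + 1) = N * 3 ^ m := by
    rw [hN, ← pow_add]
    congr 1
    omega
  have h5 : 3 ≤ 3 ^ m := by
    calc 3 = 3 ^ 1 := by norm_num
      _ ≤ 3 ^ m := Nat.pow_le_pow_right (by norm_num) hm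
  have h6 : 9 ≤ N := by
    rw [hN]
    calc 9 = 3 ^ 2 := by norm_num
      _ ≤ 3 ^ (m + 1) := Nat.pow_le_pow_right (by norm_num) (by omega)
  have h7 : N * 3 ≤ N * 3 ^ m := Nat.mul_le_mul_left N h5
  omega

end Cfsg.Agent.Lib.helper19.ReeM
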