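import Mathlib
import Cfsg.Prelude.Def_Characters
import Cfsg.Agent.Lib.helper4.Monomial

set_option autoImplicit false

/-!
# Relative M-groups with abelian Sylow subgroups in the normal subgroup (helper19 library)

* `exists_sylow_not_le`: a proper subgroup misses some Sylow subgroup;
* `exists_normal_step`: in a solvable group, if the normal subgroup `N` is not inside the normal
  subgroup `Z`, there is a normal subgroup `K ≤ N`, `K ⊄ Z`, that is a product of `K ⊓ Z` and
  a Sylow subgroup of `K`;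
* `res_irr_of_induced`: if `ρ` restricted to `N` is irreducible and `ρ` has dimension
  `|G : T| · dim U` for a `T`-subrepresentation `U`, then `U` is irreducible under `T ∩ N`;
* `monomial_of_res_irr`: Isaacs 6.23 at the level of representations.
-/

namespace Cfsg.Agent.Lib.helper19

open Cfsg.Agent.Lib.helper4
open scoped commutatorElement

universe u v

section GroupStep

theorem exists_sylow_not_le {K : Type u} [Group K] [Finite K] (Z : Subgroup K) (hZ : Z ≠ ⊤) :
    ∃ (q : ℕ) (_ : Fact q.Prime) (Q : Sylow q K), ¬ (Q : Subgroup K) ≤ Z := by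
  by_contra hcon
  push Not at hcon
  apply hZ
  apply Subgroup.eq_top_of_card_eq
  apply Nat.dvd_antisymm (Subgroup.card_subgroup_dvd_card Z)
  rw [← Nat.factorization_le_iff_dvd Nat.card_pos.ne' Nat.card_pos.ne']
  intro p
  by_cases hp : p.Prime
  · haveI : Fact p.Prime := ⟨hp⟩
    obtain ⟨Q⟩ : Nonempty (Sylow p K) := inferInstance
    have h1 := hcon p ⟨hp⟩ Q
    have h2 : Nat.card (Q : Subgroup K) ∣ Nat.card Z := Subgroup.card_dvd_of_le h1
    rw [Sylow.card_eq_multiplicity] at h2
    exact (hp.pow_dvd_iff_le_factorization Nat.card_pos.ne').mp h2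
  · rw [Nat.factorization_eq_zero_of_not_prime _ hp]
    exact Nat.zero_le _

theorem exists_normal_step {G : Type u} [Group G] [Finite G] [Group.IsSolvable G]
    (N Z : Subgroup G) [hN : N.Normal] [hZ : Z.Normal] (hNZ : ¬ N ≤ Z) :
    ∃ K : Subgroup G, K.Normal ∧ K ≤ N ∧ ¬ K ≤ Z ∧ ∃ (q : ℕ) (_ : Fact q.Prime) (Q : Subgroup G),
      Q ≤ K ∧ IsPGroup q Q ∧ ∀ x ∈ K, ∃ z ∈ Z, ∃ y ∈ Q, x = z * y := by
  classical
  have hex : ∃ m : ℕ, ∃ K : Subgroup G, K.Normal ∧ K ≤ N ∧ ¬ K ≤ Z ∧ Nat.card K = m :=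
    ⟨_, N, hN, le_refl _, hNZ, rfl⟩
  obtain ⟨K, hKn, hKN, hKZ, hKm⟩ := Nat.find_spec hex
  have hmin : ∀ L : Subgroup G, L.Normal → L ≤ K → ¬ L ≤ Z → L = K := by
    intro L hLn hLK hLZ
    have h1 : Nat.find hex ≤ Nat.card L := Nat.find_min' hex ⟨L, hLn, hLK.trans hKN, hLZ, rfl⟩
    rw [← hKm] at h1
    exact Subgroup.eq_of_le_of_card_ge hLK h1
  haveI := hKn
  have hKbot : K ≠ ⊥ := by
    intro h
    apply hKZ
    rw [h]
    exact bot_le
  have hcomm : ⁅K, K⁆ ≤ Z := by
    by_contra hc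
    have h1 : ⁅K, K⁆ = K := hmin _ inferInstance (Subgroup.commutator_le_self K) hc
    exact (Group.IsSolvable.commutator_lt_of_ne_bot hKbot).ne h1
  have hZK : Z.subgroupOf K ≠ ⊤ := fun h => hKZ (Subgroup.subgroupOf_eq_top.mp h)
  obtain ⟨q, hq, Q, hQ⟩ := exists_sylow_not_le (Z.subgroupOf K) hZK
  haveI := hq
  obtain ⟨Q', hQ'⟩ : ∃ Q' : Subgroup G, Q' = (Q : Subgroup K).map K.subtype := ⟨_, rfl⟩
  have hQ'K : Q' ≤ K := by
    rw [hQ']
    exact Subgroup.map_subtype_le _
  have hQ'Z : ¬ Q' ≤ Z := by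
    intro h
    apply hQ
    intro x hx
    rw [Subgroup.mem_subgroupOf]
    apply h
    rw [hQ']
    exact Subgroup.mem_map_of_mem _ hx
  have hQ'p : IsPGroup q Q' := by
    rw [hQ']
    exact Q.isPGroup'.map K.subtype
  obtain ⟨L, hL⟩ : ∃ L : Subgroup G, L = (K ⊓ Z) ⊔ Q' := ⟨_, rfl⟩
  have hZ1L : K ⊓ Z ≤ L := by
    rw [hL]
    exact le_sup_left
  have hQ'L : Q' ≤ L := by
    rw [hL]
    exact le_sup_right
  have hLK : L ≤ K := by
    rw [hL]
    exact sup_le inf_le_left hQ'K
  have hKL : ∀ k ∈ K, ∀ x ∈ L, k * x * k⁻¹ ∈ L := by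
    intro k hk x hx
    have h1 : k * x * k⁻¹ = ⁅k, x⁆ * x := by
      rw [commutatorElement_def]
      group
    rw [h1]
    apply L.mul_mem _ hx
    apply hZ1L
    have h2 : ⁅k, x⁆ ∈ ⁅K, K⁆ := Subgroup.commutator_mem_commutator hk (hLK hx)
    exact ⟨Subgroup.commutator_le_self K h2, hcomm h2⟩
  have hNL : ∀ n ∈ Subgroup.normalizer (Q' : Set G), ∀ x ∈ L, n * x * n⁻¹ ∈ L := by
    intro n hn x hx
    have h1 : (K ⊓ Z) ⊔ Q' ≤ L.comap (MulAut.conj n).toMonoidHom := by
      apply sup_le
      · intro y hy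
        rw [Subgroup.mem_comap]
        apply hZ1L
        have : (K ⊓ Z).Normal := inferInstance
        exact this.conj_mem y hy n
      · intro y hy
        rw [Subgroup.mem_comap]
        apply hQ'L
        exact (Subgroup.mem_normalizer_iff.mp hn y).mp hy
    rw [← hL] at h1
    exact h1 hx
  have hLn : L.Normal := by
    refine ⟨fun x hx g => ?_⟩
    have hfr := Sylow.normalizer_sup_eq_top Q
    rw [← hQ'] at hfr
    have hg : g ∈ Subgroup.normalizer (Q' : Set G) ⊔ K := by
      rw [hfr]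
      exact Subgroup.mem_top g
    obtain ⟨n, hn, k, hk, rfl⟩ := Subgroup.mem_sup_of_normal_right.mp hg
    have h1 : n * k * x * (n * k)⁻¹ = n * (k * x * k⁻¹) * n⁻¹ := by group
    rw [h1]
    exact hNL n hn _ (hKL k hk x hx)
  have hLeq : L = K := hmin L hLn hLK (fun h => hQ'Z (hQ'L.trans h))
  refine ⟨K, hKn, hKN, hKZ, q, hq, Q', hQ'K, hQ'p, ?_⟩
  intro x hx
  rw [← hLeq, hL] at hx
  obtain ⟨z, hz, y, hy, rfl⟩ := Subgroup.mem_sup_of_normal_left.mp hx
  exact ⟨z, hz.2, y, hy, rfl⟩

end GroupStep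

section Dim

theorem finrank_finset_sup_le {V : Type v} [AddCommGroup V] [Module ℂ V] [FiniteDimensional ℂ V]
    {ι : Type*} (s : Finset ι) (f : ι → Submodule ℂ V) :
    Module.finrank ℂ (s.sup f : Submodule ℂ V) ≤ ∑ i ∈ s, Module.finrank ℂ (f i) := by
  classical
  induction s using Finset.induction_on with
  | empty => simp
  | insert a s ha ih =>
    rw [Finset.sup_insert, Finset.sum_insert ha]
    exact (Submodule.finrank_add_le_finrank_add_finrank _ _).trans (Nat.add_le_add_left ih _)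

/-- If `ρ` restricted to `N` is irreducible and `dim V = |G : T| · dim U` for a
`T`-subrepresentation `U`, then `U` is irreducible under `T ∩ N`. -/
theorem res_irr_of_induced {G : Type u} [Group G] [Finite G] {V : Type v} [AddCommGroup V]
    [Module ℂ V] [FiniteDimensional ℂ V] (ρ : Representation ℂ G V) (N : Subgroup G)
    (hN : (resRep ρ N).IsIrreducible) (T : Subgroup G) (U : Subrepresentation (resRep ρ T))
    (hdim : Module.finrank ℂ V = T.index * Module.finrank ℂ U.toSubmodule) :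
    (resRep U.toRepresentation (N.subgroupOf T)).IsIrreducible := by
  classical
  obtain ⟨hnt, hirr⟩ := (isIrreducible_iff (resRep ρ N)).mp hN
  have hVpos : 0 < Module.finrank ℂ V := Module.finrank_pos
  have hTpos : 0 < T.index := Nat.pos_of_ne_zero Subgroup.index_ne_zero_of_finite
  have hUpos : 0 < Module.finrank ℂ U.toSubmodule := by
    rcases Nat.eq_zero_or_pos (Module.finrank ℂ U.toSubmodule) with h | h
    · rw [h, mul_zero] at hdim
      omega
    · exact h
  rw [isIrreducible_iff]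
  refine ⟨Module.finrank_pos_iff.mp hUpos, ?_⟩
  intro U'' hU''
  by_cases h0 : U'' = ⊥
  · exact Or.inl h0
  right
  obtain ⟨U', hU'⟩ : ∃ U' : Submodule ℂ V, U' = U''.map U.toSubmodule.subtype := ⟨_, rfl⟩
  have hU'le : U' ≤ U.toSubmodule := by
    rw [hU']
    rintro _ ⟨x, _, rfl⟩
    exact x.2
  have hU'0 : U' ≠ ⊥ := by
    intro h
    apply h0
    rw [eq_bot_iff]
    intro x hx
    have h1 : (x : V) ∈ U' := by
      rw [hU']
      exact ⟨x, hx, rfl⟩
    rw [h, Submodule.mem_bot] at h1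
    rw [Submodule.mem_bot]
    exact Subtype.ext h1
  have hinvU' : ∀ t : G, t ∈ T → t ∈ N → ∀ w ∈ U', ρ t w ∈ U' := by
    intro t ht hn w hw
    rw [hU'] at hw ⊢
    obtain ⟨w', hw', rfl⟩ := hw
    have h1 := hU'' ⟨⟨t, ht⟩, Subgroup.mem_subgroupOf.mpr hn⟩ w' hw'
    exact ⟨_, h1, rfl⟩
  have hTU : ∀ t : G, t ∈ T → t ∈ N → Submodule.map (ρ t) U' = U' := by
    intro t ht hn
    have hle : ∀ s : G, s ∈ T → s ∈ N → Submodule.map (ρ s) U' ≤ U' := by
      rintro s hs hsn _ ⟨u, hu, rfl⟩
      exact hinvU' s hs hsn u hu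
    apply le_antisymm (hle t ht hn)
    have h1 := Submodule.map_mono (f := ρ t) (hle t⁻¹ (inv_mem ht) (inv_mem hn))
    rw [← Submodule.map_comp] at h1
    have h2 : (ρ t).comp (ρ t⁻¹) = LinearMap.id := by
      rw [← Module.End.mul_eq_comp, ← map_mul, mul_inv_cancel, map_one]
      rfl
    rw [h2, Submodule.map_id] at h1
    exact h1
  obtain ⟨S, hS⟩ : ∃ S : (N ⧸ T.subgroupOf N) → Submodule ℂ V,
      S = fun q => Submodule.map (ρ ((Quotient.out q : N) : G)) U' := ⟨_, rfl⟩
  have hSg : ∀ n : N, Submodule.map (ρ (n : G)) U' = S (n : N ⧸ T.subgroupOf N) := by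
    intro n
    obtain ⟨t, ht⟩ := QuotientGroup.mk_out_eq_mul (T.subgroupOf N) n
    rw [hS]
    show _ = Submodule.map (ρ ((Quotient.out (n : N ⧸ T.subgroupOf N) : N) : G)) U'
    rw [ht, Subgroup.coe_mul, map_mul, Module.End.mul_eq_comp, Submodule.map_comp,
      hTU _ (Subgroup.mem_subgroupOf.mp t.2) t.1.2]
  have hsup : ⨆ q, S q = ⊤ := by
    have hinv : ∀ g : N, ∀ w ∈ (⨆ q, S q), resRep ρ N g w ∈ (⨆ q, S q) := by
      intro g w hw
      induction hw using Submodule.iSup_induction' with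
      | mem q x hx =>
        rw [hS] at hx
        obtain ⟨u, hu, rfl⟩ := hx
        have h1 : ρ (g : G) (ρ ((Quotient.out q : N) : G) u) ∈
            Submodule.map (ρ ((g * Quotient.out q : N) : G)) U' :=
          ⟨u, hu, by rw [Subgroup.coe_mul, map_mul]; rfl⟩
        rw [hSg] at h1
        exact Submodule.mem_iSup_of_mem _ h1
      | zero => simp
      | add x y _ _ hx hy => rw [map_add]; exact add_mem hx hy
    rcases hirr _ hinv with h | h
    · exfalso
      apply hU'0
      rw [eq_bot_iff]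
      intro u hu
      have h1 : ρ ((1 : N) : G) u ∈ S ((1 : N) : N ⧸ T.subgroupOf N) := by
        rw [← hSg]
        exact ⟨u, hu, rfl⟩
      have h2 : ρ ((1 : N) : G) u ∈ ⨆ q, S q := Submodule.mem_iSup_of_mem _ h1
      rw [h] at h2
      simpa using h2
    · exact h
  have hdimS : ∀ q, Module.finrank ℂ (S q) = Module.finrank ℂ U' := by
    intro q
    rw [hS]
    have hinj : Function.Injective (ρ ((Quotient.out q : N) : G)) := by
      intro x y hxy
      have h1 := congrArg (ρ ((Quotient.out q : N) : G)⁻¹) hxy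
      rwa [Representation.inv_self_apply, Representation.inv_self_apply] at h1
    exact (Submodule.equivMapOfInjective _ hinj _).finrank_eq.symm
  have := Fintype.ofFinite (N ⧸ T.subgroupOf N)
  have hle1 : Module.finrank ℂ V ≤ (T.subgroupOf N).index * Module.finrank ℂ U' := by
    have h1 := finrank_finset_sup_le Finset.univ S
    rw [Finset.sup_univ_eq_iSup, hsup, finrank_top] at h1
    simp only [hdimS, Finset.sum_const, Finset.card_univ, smul_eq_mul] at h1
    rw [Subgroup.index, Nat.card_eq_fintype_card]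
    exact h1
  have hle2 : (T.subgroupOf N).index ≤ T.index := by
    have h1 := Subgroup.relIndex_le_of_le_right (H := T) (le_top : N ≤ ⊤)
      (by rw [Subgroup.relIndex_top_right]; exact hTpos.ne')
    rw [Subgroup.relIndex_top_right] at h1
    exact h1
  have hfin : Module.finrank ℂ U.toSubmodule ≤ Module.finrank ℂ U' := by
    have h1 : T.index * Module.finrank ℂ U.toSubmodule ≤ T.index * Module.finrank ℂ U' := by
      rw [← hdim]
      exact hle1.trans (Nat.mul_le_mul_right _ hle2)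
    exact Nat.le_of_mul_le_mul_left h1 hTpos
  have hUeq : U' = U.toSubmodule := Submodule.eq_of_le_of_finrank_le hU'le hfin
  rw [eq_top_iff]
  intro x _
  have hx : (x : V) ∈ U' := by
    rw [hUeq]
    exact x.2
  rw [hU'] at hx
  obtain ⟨y, hy, hyx⟩ := hx
  have hxy : y = x := Subtype.ext hyx
  rw [← hxy]
  exact hy

end Dim

section Main

/-- Isaacs 6.23, representation form: if `G` is solvable, the `p`-subgroups of the normal subgroup
`N` are abelian and `ρ` restricted to `N` is irreducible, then the character of `ρ` is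
monomial. -/
theorem monomial_of_res_irr_aux (n : ℕ) :
    ∀ (G : Type u) [Group G] [Fintype G] [Group.IsSolvable G], Nat.card G = n →
    ∀ (N : Subgroup G) [N.Normal],
      (∀ (q : ℕ) [Fact q.Prime] (Q : Subgroup G), Q ≤ N → IsPGroup q Q →
        ∀ a ∈ Q, ∀ b ∈ Q, a * b = b * a) →
    ∀ (V : Type v) [AddCommGroup V] [Module ℂ V] [FiniteDimensional ℂ V]
      (ρ : Representation ℂ G V), (resRep ρ N).IsIrreducible →
      ∃ (L : Subgroup G) (lam : L →* ℂˣ), ρ.character = Cfsg.indFun L (fun x => (lam x : ℂ)) := by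
  induction n using Nat.strong_induction_on with
  | _ n ih =>
    intro G _ _ _ hn N _ hab V _ _ _ ρ hN
    classical
    have hρ : ρ.IsIrreducible := by
      obtain ⟨hnt, hirr⟩ := (isIrreducible_iff (resRep ρ N)).mp hN
      rw [isIrreducible_iff]
      exact ⟨hnt, fun U hU => hirr U (fun g v hv => hU (g : G) v hv)⟩
    haveI := hρ
    by_cases hNZ : N ≤ scalarSubgroup ρ
    · have htop : scalarSubgroup (resRep ρ N) = ⊤ := by
        rw [eq_top_iff]
        intro g _
        exact hNZ g.2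
      haveI := hN
      have h1 : ρ.character 1 = 1 := by
        rw [Representation.char_one, finrank_eq_one_of_scalarSubgroup_eq_top (resRep ρ N) htop]
        simp
      obtain ⟨f, hf⟩ := exists_hom_of_linear ρ.character (isCharacter_of_rep ρ) h1
      refine ⟨⊤, f.comp (⊤ : Subgroup G).subtype, ?_⟩
      have h2 := indFun_top (isClassFunction_of_isIrrCharacter (isIrrCharacter_of_rep ρ))
      conv_lhs => rw [← h2]
      congr 1
      funext x
      exact hf x
    · obtain ⟨K, hKn, hKN, hKZ, q, hq, Q, hQK, hQp, hdec⟩ :=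
        exists_normal_step N (scalarSubgroup ρ) hNZ
      haveI := hKn
      haveI := hq
      have hQab := hab q Q (hQK.trans hKN) hQp
      have hA : ∀ a ∈ K, ∀ b ∈ K, ρ a * ρ b = ρ b * ρ a := by
        intro a ha b hb
        obtain ⟨z, ⟨c, hc⟩, y, hy, rfl⟩ := hdec a ha
        obtain ⟨z', ⟨c', hc'⟩, y', hy', rfl⟩ := hdec b hb
        simp only [map_mul, hc, hc']
        simp only [smul_mul_assoc, one_mul, mul_smul_comm, smul_smul]
        rw [← map_mul, ← map_mul, hQab y hy y' hy', mul_comm]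
      obtain ⟨T, U, hKT, hUirr, hsc, hdim, hchar⟩ := exists_induced_of_normal_commuting ρ K hA
      have hT : T ≠ ⊤ := by
        intro hT
        apply hKZ
        subst hT
        rw [Subgroup.index_top, one_mul] at hdim
        have htop : U.toSubmodule = ⊤ := Submodule.eq_top_of_finrank_eq hdim.symm
        intro a ha
        obtain ⟨c, hc⟩ := hsc a ha
        refine ⟨c, ?_⟩
        apply LinearMap.ext
        intro v
        have h2 := hc v (htop ▸ Submodule.mem_top)
        simpa using h2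
      have hlt : Nat.card T < n := by
        rw [← hn]
        apply lt_of_le_of_ne (Subgroup.card_le_card_group T)
        intro heq
        exact hT (Subgroup.eq_top_of_card_eq T heq)
      have hNT := res_irr_of_induced ρ N hN T U hdim
      have habT : ∀ (q : ℕ) [Fact q.Prime] (Q : Subgroup T), Q ≤ N.subgroupOf T → IsPGroup q Q →
          ∀ a ∈ Q, ∀ b ∈ Q, a * b = b * a := by
        intro q _ Q₁ hQ₁ hQ₁p a ha b hb
        have hle : Q₁.map T.subtype ≤ N := by
          rintro _ ⟨x, hx, rfl⟩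
          exact Subgroup.mem_subgroupOf.mp (hQ₁ hx)
        have h1 := hab q (Q₁.map T.subtype) hle (hQ₁p.map T.subtype) a
          (Subgroup.mem_map_of_mem _ ha) b (Subgroup.mem_map_of_mem _ hb)
        exact Subtype.ext h1
      obtain ⟨L', lam', hL'⟩ := ih _ hlt T rfl (N.subgroupOf T) habT U.toSubmodule
        U.toRepresentation hNT
      refine ⟨L'.map T.subtype, lam'.comp (mapSubtypeHom T L'), ?_⟩
      rw [hchar, hL', indFun_indFun]
      rfl

theorem monomial_of_res_irr {G : Type u} [Group G] [Fintype G] [Group.IsSolvable G]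
    (N : Subgroup G) [N.Normal]
    (hab : ∀ (q : ℕ) [Fact q.Prime] (Q : Subgroup G), Q ≤ N → IsPGroup q Q →
      ∀ a ∈ Q, ∀ b ∈ Q, a * b = b * a)
    {V : Type v} [AddCommGroup V] [Module ℂ V] [FiniteDimensional ℂ V]
    (ρ : Representation ℂ G V) (hN : (resRep ρ N).IsIrreducible) :
    ∃ (L : Subgroup G) (lam : L →* ℂˣ), ρ.character = Cfsg.indFun L (fun x => (lam x : ℂ)) :=
  monomial_of_res_irr_aux _ G rfl N hab V ρ hN

/-- Isaacs 6.23: the induced character of an irreducible character `ψ` of `H ≥ N` with `ψ_N`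
irreducible is monomial, when `G` is solvable and the Sylow subgroups of `N` are abelian. -/
theorem m_group_of_relative {G : Type u} [Group G] [Fintype G] [Group.IsSolvable G]
    (N : Subgroup G) [N.Normal]
    (hab : ∀ (p : ℕ) [Fact p.Prime] (P : Sylow p N), ∀ a ∈ P, ∀ b ∈ P, a * b = b * a)
    (H : Subgroup G) (hNH : N ≤ H) (ψ : H → ℂ) (hψ : Cfsg.IsIrrCharacter H ψ)
    (hψN : Cfsg.IsIrrCharacter N (fun n : N => ψ ⟨(n : G), hNH n.2⟩)) :
    ∃ (U : Subgroup G) (lam : U → ℂ), Cfsg.IsCharacter U lam ∧ lam 1 = 1 ∧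
      Cfsg.indFun U lam = Cfsg.indFun H ψ := by
  classical
  obtain ⟨d, ρ, hρ, rfl⟩ := hψ
  obtain ⟨m, σ, hσ, hσc⟩ := hψN
  obtain ⟨τ, hτdef⟩ : ∃ τ : Representation ℂ N (Fin d → ℂ),
      τ = MonoidHom.comp ρ (Subgroup.inclusion hNH) := ⟨_, rfl⟩
  have hτ : τ.IsIrreducible := by
    obtain ⟨e⟩ := nonempty_equiv_of_character_eq σ τ (by rw [hσc, hτdef]; rfl)
    exact isIrreducible_of_equiv e hσ
  have hres : (resRep ρ (N.subgroupOf H)).IsIrreducible := by
    obtain ⟨hnt, hirr⟩ := (isIrreducible_iff τ).mp hτ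
    rw [isIrreducible_iff]
    refine ⟨hnt, fun U hU => hirr U (fun g v hv => ?_)⟩
    have h1 := hU ⟨⟨(g : G), hNH g.2⟩, Subgroup.mem_subgroupOf.mpr g.2⟩ v hv
    rw [hτdef]
    exact h1
  have habH : ∀ (q : ℕ) [Fact q.Prime] (Q : Subgroup H), Q ≤ N.subgroupOf H → IsPGroup q Q →
      ∀ a ∈ Q, ∀ b ∈ Q, a * b = b * a := by
    intro q _ Q hQ hQp a ha b hb
    have hQ2p : IsPGroup q ((Q.map H.subtype).subgroupOf N) := (hQp.map H.subtype).comap_subtype
    obtain ⟨P, hP⟩ := hQ2p.exists_le_sylow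
    have haN : (a : G) ∈ N := Subgroup.mem_subgroupOf.mp (hQ ha)
    have hbN : (b : G) ∈ N := Subgroup.mem_subgroupOf.mp (hQ hb)
    have h1 := hab q P ⟨a, haN⟩ (hP (Subgroup.mem_subgroupOf.mpr (Subgroup.mem_map_of_mem _ ha)))
      ⟨b, hbN⟩ (hP (Subgroup.mem_subgroupOf.mpr (Subgroup.mem_map_of_mem _ hb)))
    have h2 : (a : G) * (b : G) = (b : G) * (a : G) := congrArg Subtype.val h1
    exact Subtype.ext h2
  obtain ⟨L', lam', hL'⟩ := monomial_of_res_irr (N.subgroupOf H) habH ρ hres
  refine ⟨L'.map H.subtype, fun x => (lam' (mapSubtypeHom H L' x) : ℂ), ?_, ?_, ?_⟩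
  · exact isCharacter_of_hom (lam'.comp (mapSubtypeHom H L'))
  · simp
  · rw [hL', indFun_indFun]

end Main

end Cfsg.Agent.Lib.helper19
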