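import Mathlib
import Cfsg.Agent.Lib.helper19.ReeMPair

/-! S2113 piece FLAC (`fl_ac`), verbatim statement under the prefixed name `helper19_fl_ac`:
a biadditive pairing on the field of order `3 ^ (2 m + 1)`, `m ≥ 1`, invariant under
`(s, t) ↦ (ν s, ν² (ν ^ 3 ^ m)³ t)`, is trivial. -/

set_option autoImplicit false

namespace Cfsg.Agent.Lib.helper19.S2113

/-- PIECE FLAC. -/
theorem helper19_fl_ac {K : Type*} [Field K] [Fintype K] {m : ℕ} (hm : 1 ≤ m)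
    (hK : Fintype.card K = 3 ^ (2 * m + 1)) {Γ : Type*} [Group Γ] (B : K → K → Γ)
    (hl : ∀ s s' t, B (s + s') t = B s t * B s' t) (hr : ∀ s t t', B s (t + t') = B s t * B s t')
    (hinv : ∀ ν s t, ν ≠ 0 → B (ν * s) (ν ^ 2 * (ν ^ 3 ^ m) ^ 3 * t) = B s t) :
    ∀ s t, B s t = 1 := by
  obtain ⟨x, hx0, hx1, hκ⟩ := Cfsg.Agent.Lib.helper19.ReeM.field_pt3 hm hK
  exact Cfsg.Agent.Lib.helper19.ReeM.pairing_twist (fun ν => ν ^ 2 * (ν ^ 3 ^ m) ^ 3) B hl hr hinv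
    x hx0 hx1 (mul_ne_zero (pow_ne_zero _ hx0) (pow_ne_zero _ (pow_ne_zero _ hx0)))
    (mul_ne_zero (pow_ne_zero _ hx1) (pow_ne_zero _ (pow_ne_zero _ hx1))) hκ

end Cfsg.Agent.Lib.helper19.S2113
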