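import Mathlib
import Cfsg.Agent.Lib.helper69.StemSylow

/-! S2113 spare field lemma (`hsq` of the pieces R1, R4, NORM3): on the field of order
`3 ^ (2 m + 1)`, `m ≥ 1`, a biadditive pairing invariant under `(s, t) ↦ (a² s, a² t)` is trivial. -/

set_option autoImplicit false

namespace Cfsg.Agent.Lib.helper19.S2113

open Polynomial in
/-- A point `u` of a field with more than 9 elements off the roots of
`X (X² - 1) (X² + 1) (X² - X - 1) (X² + X - 1)`. -/
theorem helper19_sq_pt {K : Type*} [Field K] [Fintype K] (hq : 9 < Fintype.card K) :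
    ∃ u : K, u ≠ 0 ∧ u ^ 2 - 1 ≠ 0 ∧ u ^ 2 + 1 ≠ 0 ∧ u ^ 2 - u - 1 ≠ 0 ∧ u ^ 2 + u - 1 ≠ 0 := by
  classical
  by_contra hcon
  push Not at hcon
  obtain ⟨P, hPdef⟩ : ∃ P : K[X],
      P = X * (X ^ 2 - 1) * (X ^ 2 + 1) * (X ^ 2 - X - 1) * (X ^ 2 + X - 1) := ⟨_, rfl⟩
  have hmon : P.Monic := by
    rw [hPdef]
    monicity!
  have hPne : P ≠ 0 := hmon.ne_zero
  have hdeg : P.natDegree ≤ 9 := by
    rw [hPdef]
    compute_degree
  have hroot : ∀ x : K, P.IsRoot x := by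
    intro x
    rw [IsRoot, hPdef]
    simp only [eval_add, eval_sub, eval_mul, eval_pow, eval_X, eval_one]
    by_cases h0 : x = 0
    · rw [h0]; ring
    by_cases h1 : x ^ 2 - 1 = 0
    · rw [h1]; ring
    by_cases h2 : x ^ 2 + 1 = 0
    · rw [h2]; ring
    by_cases h3 : x ^ 2 - x - 1 = 0
    · rw [h3]; ring
    have h4 := hcon x h0 h1 h2 h3
    rw [h4]; ring
  have hsub : (Finset.univ : Finset K) ⊆ P.roots.toFinset := by
    intro x _
    rw [Multiset.mem_toFinset, mem_roots hPne]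
    exact hroot x
  have h3' : (Finset.univ : Finset K).card ≤ 9 :=
    (Finset.card_le_card hsub).trans
      ((Multiset.toFinset_card_le _).trans ((card_roots' P).trans hdeg))
  rw [Finset.card_univ] at h3'
  omega

/-- Spare for the hypothesis `hsq`. -/
theorem helper19_fl_sq {K : Type*} [Field K] [Fintype K] {m : ℕ} (hm : 1 ≤ m)
    (hK : Fintype.card K = 3 ^ (2 * m + 1)) {Γ : Type*} [Group Γ] (B : K → K → Γ)
    (hl : ∀ s s' t, B (s + s') t = B s t * B s' t) (hr : ∀ s t t', B s (t + t') = B s t * B s t')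
    (hinv : ∀ a s t, a ≠ 0 → B (a ^ 2 * s) (a ^ 2 * t) = B s t) : ∀ s t, B s t = 1 := by
  have h3 : (3 : K) = 0 := by
    have h0 : ((Fintype.card K : ℕ) : K) = 0 := Nat.cast_card_eq_zero K
    rw [hK] at h0
    push_cast at h0
    exact pow_eq_zero_iff (by omega) |>.mp h0
  have hq : 9 < Fintype.card K := by
    rw [hK]
    calc 9 < 3 ^ 3 := by norm_num
      _ ≤ 3 ^ (2 * m + 1) := Nat.pow_le_pow_right (by norm_num) (by omega)
  obtain ⟨u, hu0, hu1, hu2, hu3, hu4⟩ := helper19_sq_pt hq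
  have h4 : (4 : K) = 1 := by linear_combination h3
  have ha : u - u⁻¹ ≠ 0 := by
    intro h
    apply hu1
    have : u ^ 2 - 1 = (u - u⁻¹) * u := by field_simp
    rw [this, h, zero_mul]
  have hb : u + u⁻¹ ≠ 0 := by
    intro h
    apply hu2
    have : u ^ 2 + 1 = (u + u⁻¹) * u := by field_simp
    rw [this, h, zero_mul]
  have hab : (u + u⁻¹) ^ 2 = (u - u⁻¹) ^ 2 + 1 := by
    have e1 : (u + u⁻¹) ^ 2 - (u - u⁻¹) ^ 2 = 4 * (u * u⁻¹) := by ring
    rw [mul_inv_cancel₀ hu0, mul_one, h4] at e1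
    linear_combination e1
  have hν : (u - u⁻¹) ^ 4 + (u - u⁻¹) ^ 2 + 1 ≠ 0 := by
    have e1 : (u - u⁻¹) ^ 4 + (u - u⁻¹) ^ 2 + 1 =
        ((u - u⁻¹ - 1) * (u - u⁻¹ + 1)) ^ 2 + 3 * (u - u⁻¹) ^ 2 := by ring
    rw [e1, h3, zero_mul, add_zero]
    apply pow_ne_zero
    apply mul_ne_zero
    · intro h
      apply hu3
      have : u ^ 2 - u - 1 = (u - u⁻¹ - 1) * u := by field_simp; ring
      rw [this, h, zero_mul]
    · intro h
      apply hu4
      have : u ^ 2 + u - 1 = (u - u⁻¹ + 1) * u := by field_simp; ring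
      rw [this, h, zero_mul]
  exact Cfsg.Agent.Lib.helper69.pairing_trivial B hl hr hinv (u - u⁻¹) (u + u⁻¹) ha hb hab hν

end Cfsg.Agent.Lib.helper19.S2113
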