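import Cfsg.Agent.Lib.helper44.ReeOutB
import Cfsg.Agent.Lib.helper23.ChevReeSyl
import Cfsg.Agent.Lib.helper51.S2113Defs

/-!
S2113 model pieces: the unipotent subgroup `{uEl e t u v}` of the twisted group of type `G₂`
satisfies the abstract `UData` axioms (product law with middle correction `-(t * (t' ^ e) ^ 3)`,
torus weights `(ν, ν φ(ν), ν² φ(ν))`), and it is a Sylow 3-subgroup.
-/

set_option autoImplicit false
set_option maxRecDepth 100000

namespace Cfsg.Agent.Lib.helper19.S2113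

open Cfsg Cfsg.Lie Cfsg.Agent.Lib.helper41 Cfsg.Agent.Lib.helper22 Cfsg.Agent.Lib.helper23
  Cfsg.Agent.Lib.helper44 Cfsg.Agent.Lib.helper51.S2113

section Model

variable {K : Type*} [Field K] {e : ℕ} (R : ReeData K e)

include R

/-- The product law of `U¹` in coordinates (the last coordinate is not made explicit). -/
theorem h19_uEl_mul (t u v t' u' v' : K) :
    ∃ w : K, uEl e t u v * uEl e t' u' v' = uEl e (t + t') (u + u' + -(t * (t' ^ e) ^ 3)) w := by
  have hx := uEl_pos R t u v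
  have hy := uEl_pos R t' u' v'
  have hxy := pos_mul' hx hy
  obtain ⟨t'', u'', v'', h⟩ := exists_uEl R hxy
  have h1 : t'' = t + t' := by
    have hb := eb_mul' hx hy
    rw [h, eb_uEl R, eb_uEl R, eb_uEl R] at hb
    exact hb
  have h2 : u'' = u + u' + -(t * (t' ^ e) ^ 3) := by
    apply R.pow_e_inj
    have hs := reeS_mul' hx hy
    rw [h, (coords_uEl e t'' u'' v'').2.2, (coords_uEl e t u v).2.2, (coords_uEl e t u v).1,
      (coords_uEl e t' u' v').2.1, (coords_uEl e t' u' v').2.2] at hs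
    have e1 : ((t' ^ e) ^ 3) ^ e = t' := by
      rw [pow_right_comm]
      exact R.hφ t'
    rw [R.hadd, R.hadd, R.neg_pow_e, mul_pow, e1]
    linear_combination -hs
  exact ⟨v'', by rw [h, h1, h2]⟩

/-- The torus element with weights `(ν, ν φ(ν), ν² φ(ν))`. -/
theorem h19_uEl_tor (ν : K) (hν : ν ≠ 0) : ∃ h : ↥(twistedG2 K e), ∀ t u v : K,
    h * uEl e t u v * h⁻¹ = uEl e (ν * t) (ν * (ν ^ e) ^ 3 * u) (ν ^ 2 * (ν ^ e) ^ 3 * v) := by
  have hne : ν ^ e ≠ 0 := pow_ne_zero _ hν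
  have hμ : ν ^ 2 * (ν ^ e) ^ 3 ≠ 0 := mul_ne_zero (pow_ne_zero _ hν) (pow_ne_zero _ hne)
  obtain ⟨h, hh, hent⟩ := exists_tor R (ν ^ 2 * (ν ^ e) ^ 3) hμ
  have hk10 : k10 e (ν ^ 2 * (ν ^ e) ^ 3) = ν * (ν ^ e) ^ 3 := by
    have e1 : (ν ^ 2 * (ν ^ e) ^ 3) ^ e = (ν ^ e) ^ 2 * ν := by
      have h1 := R.hφ ν
      calc (ν ^ 2 * (ν ^ e) ^ 3) ^ e = (ν ^ e) ^ 2 * (((ν ^ e) ^ e) ^ 3) := by ring
        _ = (ν ^ e) ^ 2 * ν := by rw [h1]
    unfold k10
    rw [e1]
    first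
      | (field_simp; ring)
      | field_simp
  refine ⟨h, fun t u v => ?_⟩
  rw [tor_conj R hh t u v, hent, k6_param R ν, hk10]

/-- PIECES MMUL + MTOR: the abstract data of the unipotent subgroup of a small Ree group. -/
theorem h19_ree_udata :
    UData K ↥(twistedG2 K e) (uEl e) e (fun t t' => -(t * (t' ^ e) ^ 3)) where
  top_r := fun t u v w => uEl_mul_top R t u v w
  top_l := fun t u v w => by
    rw [uEl_top_comm R w (uEl_pos R t u v)]
    exact uEl_mul_top R t u v w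
  mid := fun u u' => uEl_mid_add R u u'
  mul := fun t u v t' u' v' => h19_uEl_mul R t u v t' u' v'
  c_zero_right := fun t => by
    show -(t * ((0 : K) ^ e) ^ 3) = 0
    rw [zero_pow R.e_ne_zero, zero_pow (by norm_num), mul_zero, neg_zero]
  c_zero_left := fun t => by
    show -((0 : K) * (t ^ e) ^ 3) = 0
    rw [zero_mul, neg_zero]
  frob := R.hφ
  tor := fun ν hν => h19_uEl_tor R ν hν

/-- PIECE SYL3: `{uEl e t u v}` is a Sylow 3-subgroup. -/
theorem h19_ree_syl3 [Fintype K] {m : ℕ} (hK : Fintype.card K = 3 ^ (2 * m + 1)) :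
    ∃ S₀ : Sylow 3 ↥(twistedG2 K e), ∀ x : ↥(twistedG2 K e),
      x ∈ S₀ ↔ ∃ t u v : K, x = uEl e t u v := by
  obtain ⟨S₀, hS₀⟩ := R.exists_sylow hK
  refine ⟨S₀, fun x => ?_⟩
  rw [hS₀]
  constructor
  · intro hx
    exact exists_uEl R hx
  · rintro ⟨t, u, v, rfl⟩
    exact uEl_pos R t u v

end Model

end Cfsg.Agent.Lib.helper19.S2113
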