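import Mathlib

/-!
# S2361 piece P1: elements of `SL(2, K)` with square `-1` when `-1` is not a square (helper19)
-/

set_option autoImplicit false

namespace Cfsg.Agent.Lib.helper19

/-- In a finite field where `-1` is not a square, every nonzero element is `μ²` or `-μ²`. -/
theorem p1_sq_or_neg_sq {K : Type*} [Field K] [Fintype K] (hsq : ∀ y : K, y * y ≠ -1) (a : K)
    (ha : a ≠ 0) : (∃ t : K, t * t = a) ∨ (∃ t : K, t * t = -a) := by
  classical
  by_cases h : IsSquare a
  · obtain ⟨t, ht⟩ := h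
    exact Or.inl ⟨t, ht.symm⟩
  · right
    have h1 : quadraticChar K a = -1 := quadraticChar_neg_one_iff_not_isSquare.mpr h
    have h2 : quadraticChar K (-1) = -1 := quadraticChar_neg_one_iff_not_isSquare.mpr (by
      rintro ⟨t, ht⟩
      exact hsq t ht.symm)
    have h3 : quadraticChar K (-a) = 1 := by
      rw [neg_eq_neg_one_mul, map_mul, h1, h2]; norm_num
    obtain ⟨t, ht⟩ := (quadraticChar_one_iff_isSquare (neg_ne_zero.mpr ha)).mp h3
    exact ⟨t, ht.symm⟩

/-- PIECE P1 of S2361. -/
theorem P1_sl2_conj {K : Type*} [Field K] [Fintype K] (hsq : ∀ y : K, y * y ≠ -1)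
    (h2 : (2 : K) ≠ 0)
    (s : Matrix.SpecialLinearGroup (Fin 2) K)
    (hs : (s : Matrix (Fin 2) (Fin 2) K) * (s : Matrix (Fin 2) (Fin 2) K) = -1) :
    ∃ g : Matrix.SpecialLinearGroup (Fin 2) K,
      ((g⁻¹ * s * g : Matrix.SpecialLinearGroup (Fin 2) K) : Matrix (Fin 2) (Fin 2) K)
          = !![0, 1; -1, 0] ∨
      ((g⁻¹ * s * g : Matrix.SpecialLinearGroup (Fin 2) K) : Matrix (Fin 2) (Fin 2) K)
          = !![0, -1; 1, 0] := by
  set x := (s : Matrix (Fin 2) (Fin 2) K) 0 0 with hx
  set y := (s : Matrix (Fin 2) (Fin 2) K) 0 1 with hy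
  set z := (s : Matrix (Fin 2) (Fin 2) K) 1 0 with hz
  set w := (s : Matrix (Fin 2) (Fin 2) K) 1 1 with hw
  have e00 : x * x + y * z = -1 := by
    have := congrFun (congrFun hs 0) 0
    simpa [Matrix.mul_apply, Fin.sum_univ_two] using this
  have e01 : x * y + y * w = 0 := by
    have := congrFun (congrFun hs 0) 1
    simpa [Matrix.mul_apply, Fin.sum_univ_two] using this
  have hwx : w = -x := by
    by_contra hne
    have hxw : x + w ≠ 0 := fun h0 => hne (eq_neg_of_add_eq_zero_right h0)
    have hy0 : y = 0 := by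
      have : y * (x + w) = 0 := by linear_combination e01
      rcases mul_eq_zero.mp this with h | h
      · exact h
      · exact absurd h hxw
    rw [hy0, zero_mul, add_zero] at e00
    exact hsq x e00
  have hy0 : y ≠ 0 := by
    intro h0
    rw [h0, zero_mul, add_zero] at e00
    exact hsq x e00
  have hs_eq : (s : Matrix (Fin 2) (Fin 2) K) = !![x, y; z, -x] := by
    rw [← hwx]
    exact Matrix.eta_fin_two _
  rcases p1_sq_or_neg_sq hsq y⁻¹ (inv_ne_zero hy0) with ⟨t, ht⟩ | ⟨t, ht⟩
  · have hyt : y * t * t = 1 := by rw [mul_assoc, ht, mul_inv_cancel₀ hy0]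
    let g : Matrix.SpecialLinearGroup (Fin 2) K :=
      ⟨!![y * t, 0; -x * t, t], by rw [Matrix.det_fin_two_of]; linear_combination hyt⟩
    let J : Matrix.SpecialLinearGroup (Fin 2) K :=
      ⟨!![0, 1; -1, 0], by rw [Matrix.det_fin_two_of]; ring⟩
    have hsg : s * g = g * J := by
      apply Subtype.ext
      show (s : Matrix (Fin 2) (Fin 2) K) * !![y * t, 0; -x * t, t]
        = !![y * t, 0; -x * t, t] * !![0, 1; -1, 0]
      rw [hs_eq, Matrix.mul_fin_two, Matrix.mul_fin_two]
      ext i j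
      fin_cases i <;> fin_cases j <;> simp <;>
        first | ring1 | linear_combination t * e00
    refine ⟨g, Or.inl ?_⟩
    have hconj : g⁻¹ * s * g = J := by
      rw [mul_assoc, hsg, ← mul_assoc, inv_mul_cancel, one_mul]
    rw [hconj]
  · have hyt : y * t * t = -1 := by rw [mul_assoc, ht, mul_neg, mul_inv_cancel₀ hy0]
    let g : Matrix.SpecialLinearGroup (Fin 2) K :=
      ⟨!![0, y * t; t, -x * t], by rw [Matrix.det_fin_two_of]; linear_combination -hyt⟩
    let J : Matrix.SpecialLinearGroup (Fin 2) K :=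
      ⟨!![0, -1; 1, 0], by rw [Matrix.det_fin_two_of]; ring⟩
    have hsg : s * g = g * J := by
      apply Subtype.ext
      show (s : Matrix (Fin 2) (Fin 2) K) * !![0, y * t; t, -x * t]
        = !![0, y * t; t, -x * t] * !![0, -1; 1, 0]
      rw [hs_eq, Matrix.mul_fin_two, Matrix.mul_fin_two]
      ext i j
      fin_cases i <;> fin_cases j <;> simp <;>
        first | ring1 | linear_combination t * e00
    refine ⟨g, Or.inr ?_⟩
    have hconj : g⁻¹ * s * g = J := by
      rw [mul_assoc, hsg, ← mul_assoc, inv_mul_cancel, one_mul]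
    rw [hconj]

end Cfsg.Agent.Lib.helper19
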