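import Mathlib

/-!
# S2518 piece G: restriction of a matrix group to an invariant coordinate system (helper19)
-/

set_option autoImplicit false

namespace Cfsg.Agent.Lib.helper19

/-- PIECE G of S2518. -/
theorem exists_restriction {K ι κ : Type*} [Field K] [Fintype ι] [DecidableEq ι] [Fintype κ]
    [DecidableEq κ] (B : Matrix ι κ K) (Bt : Matrix κ ι K) (hB : Bt * B = 1) (S : Set (GL ι K))
    (P : Subgroup (GL κ K))
    (hS : ∀ g ∈ S, ∃ M ∈ P, (g : Matrix ι ι K) * B = B * (M : Matrix κ κ K)) :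
    ∃ ρ : ↥(Subgroup.closure S) →* ↥P, ∀ g : ↥(Subgroup.closure S),
      ((g : GL ι K) : Matrix ι ι K) * B = B * (((ρ g : ↥P) : GL κ K) : Matrix κ κ K) := by
  let T : Subgroup (GL ι K) :=
    { carrier := {g | ∃ M ∈ P, (g : Matrix ι ι K) * B = B * (M : Matrix κ κ K)}
      mul_mem' := by
        rintro g g' ⟨M, hM, h1⟩ ⟨M', hM', h2⟩
        refine ⟨M * M', P.mul_mem hM hM', ?_⟩
        rw [Matrix.GeneralLinearGroup.coe_mul, Matrix.GeneralLinearGroup.coe_mul,
          Matrix.mul_assoc, h2, ← Matrix.mul_assoc, h1, Matrix.mul_assoc]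
      one_mem' := ⟨1, P.one_mem, by simp⟩
      inv_mem' := by
        rintro g ⟨M, hM, h1⟩
        refine ⟨M⁻¹, P.inv_mem hM, ?_⟩
        have e1 : ((g⁻¹ : GL ι K) : Matrix ι ι K) * (g : Matrix ι ι K) = 1 := by
          rw [← Matrix.GeneralLinearGroup.coe_mul, inv_mul_cancel]; rfl
        have e2 : (M : Matrix κ κ K) * ((M⁻¹ : GL κ K) : Matrix κ κ K) = 1 := by
          rw [← Matrix.GeneralLinearGroup.coe_mul, mul_inv_cancel]; rfl
        calc ((g⁻¹ : GL ι K) : Matrix ι ι K) * B
            = ((g⁻¹ : GL ι K) : Matrix ι ι K)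
                * (B * ((M : Matrix κ κ K) * ((M⁻¹ : GL κ K) : Matrix κ κ K))) := by
              rw [e2, Matrix.mul_one]
          _ = ((g⁻¹ : GL ι K) : Matrix ι ι K) * ((g : Matrix ι ι K) * B)
                * ((M⁻¹ : GL κ K) : Matrix κ κ K) := by
              rw [h1]; simp only [Matrix.mul_assoc]
          _ = B * ((M⁻¹ : GL κ K) : Matrix κ κ K) := by
              rw [← Matrix.mul_assoc, e1, Matrix.one_mul] }
  have hle : Subgroup.closure S ≤ T := (Subgroup.closure_le T).mpr hS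
  have huniq : ∀ M M' : GL κ K,
      B * (M : Matrix κ κ K) = B * (M' : Matrix κ κ K) → M = M' := by
    intro M M' h
    apply Units.ext
    have := congrArg (fun X => Bt * X) h
    simp only [← Matrix.mul_assoc, hB, Matrix.one_mul] at this
    exact this
  choose f hfP hf using fun g : ↥(Subgroup.closure S) =>
    (show ∃ M ∈ P, ((g : GL ι K) : Matrix ι ι K) * B = B * (M : Matrix κ κ K) from hle g.2)
  refine ⟨MonoidHom.mk' (fun g => ⟨f g, hfP g⟩) ?_, fun g => hf g⟩
  intro g g'
  apply Subtype.ext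
  apply huniq
  show B * ((f (g * g') : GL κ K) : Matrix κ κ K) = B * ((f g * f g' : GL κ K) : Matrix κ κ K)
  rw [← hf (g * g'), Matrix.GeneralLinearGroup.coe_mul, ← Matrix.mul_assoc, ← hf g,
    Matrix.mul_assoc, ← hf g', ← Matrix.mul_assoc]
  rfl

end Cfsg.Agent.Lib.helper19
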