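import Mathlib
import Cfsg.Agent.Lib.helper46.SL2
import Cfsg.Agent.Lib.helper46.SL2Tori

/-!
# Counting elements of `SL₂(K)` by trace (helper19)

`s3_card_trace`: the number of elements of `SL₂(K)` of trace `τ` is
`q (q - 1) + q * #{a : a² - τ a + 1 = 0}`; and `s3_pow_eq_one_iff`: for an eigenvalue `l`
(in an extension field) with `l² ≠ 1`, `s ^ m = 1 ↔ l ^ m = 1`.
-/

set_option autoImplicit false

namespace Cfsg.Agent.Lib.helper19

open Matrix

section TraceFiber

variable {K : Type*} [Field K]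

/-- The trace-`τ` fibre of `SL₂(K)` as a set of triples. -/
def s3TraceEquiv (τ : K) :
    {s : SpecialLinearGroup (Fin 2) K // s.1 0 0 + s.1 1 1 = τ} ≃
      {x : K × K × K // x.2.1 * x.2.2 = x.1 * (τ - x.1) - 1} where
  toFun s := ⟨(s.1.1 0 0, s.1.1 0 1, s.1.1 1 0), by
    have hd := s.1.2
    rw [Matrix.det_fin_two] at hd
    have ht := s.2
    show s.1.1 0 1 * s.1.1 1 0 = s.1.1 0 0 * (τ - s.1.1 0 0) - 1
    linear_combination (-1 : K) * hd + s.1.1 0 0 * ht⟩
  invFun x := ⟨⟨!![x.1.1, x.1.2.1; x.1.2.2, τ - x.1.1], by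
    rw [Matrix.det_fin_two_of]
    linear_combination (-1 : K) * x.2⟩, by simp⟩
  left_inv s := by
    apply Subtype.ext
    apply Subtype.ext
    have ht := s.2
    ext i j
    fin_cases i <;> fin_cases j <;> simp
    linear_combination (-1 : K) * ht
  right_inv x := by
    apply Subtype.ext
    simp

variable [Fintype K]

theorem s3_sum_mul_eq [DecidableEq K] (b e : K) :
    (∑ c : K, if b * c = e then 1 else 0) =
      if b = 0 then (if e = 0 then Fintype.card K else 0) else 1 := by
  by_cases hb : b = 0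
  · subst hb
    by_cases he : e = 0
    · subst he
      simp
    · simp [he, Ne.symm he]
  · rw [if_neg hb, Finset.sum_eq_single (e / b)]
    · rw [if_pos (mul_div_cancel₀ e hb)]
    · intro c _ hc
      rw [if_neg]
      intro h
      apply hc
      rw [← h, mul_div_cancel_left₀ c hb]
    · intro h
      exact absurd (Finset.mem_univ _) h

theorem s3_sum_ite_zero [DecidableEq K] (X : ℕ) :
    (∑ b : K, if b = 0 then X else 1) = (Fintype.card K - 1) + X := by
  rw [Finset.sum_ite, Finset.filter_eq', if_pos (Finset.mem_univ _), Finset.sum_singleton,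
    Finset.filter_ne', Finset.sum_const, Finset.card_erase_of_mem (Finset.mem_univ _),
    Finset.card_univ, smul_eq_mul, mul_one, add_comm]

/-- The number of elements of `SL₂(K)` of trace `τ`. -/
theorem s3_card_trace (τ : K) :
    Nat.card {s : SpecialLinearGroup (Fin 2) K // s.1 0 0 + s.1 1 1 = τ} =
      Fintype.card K * (Fintype.card K - 1) +
        Fintype.card K * Nat.card {a : K // a ^ 2 - τ * a + 1 = 0} := by
  classical
  rw [Nat.card_congr (s3TraceEquiv τ), Nat.card_eq_fintype_card, Fintype.card_subtype,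
    Nat.card_eq_fintype_card, Fintype.card_subtype, Finset.card_filter, Fintype.sum_prod_type]
  simp_rw [Fintype.sum_prod_type, s3_sum_mul_eq, s3_sum_ite_zero]
  rw [Finset.sum_add_distrib, Finset.sum_const, Finset.card_univ, smul_eq_mul, ← Finset.sum_filter,
    Finset.sum_const, smul_eq_mul, mul_comm (Finset.card _)]
  congr 3
  ext a
  simp only [Finset.mem_filter, Finset.mem_univ, true_and]
  constructor
  · intro h
    linear_combination (-1 : K) * h
  · intro h
    linear_combination (-1 : K) * h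

theorem s3_card_trace_noroot (τ : K) (h : ∀ a : K, a ^ 2 - τ * a + 1 ≠ 0) :
    Nat.card {s : SpecialLinearGroup (Fin 2) K // s.1 0 0 + s.1 1 1 = τ} =
      Fintype.card K * (Fintype.card K - 1) := by
  rw [s3_card_trace]
  have : IsEmpty {a : K // a ^ 2 - τ * a + 1 = 0} := ⟨fun a => h a.1 a.2⟩
  rw [Nat.card_of_isEmpty, mul_zero, add_zero]

theorem s3_card_trace_split (τ : K) (a : K) (ha : a ^ 2 - τ * a + 1 = 0) (ha1 : a ^ 2 ≠ 1) :
    Nat.card {s : SpecialLinearGroup (Fin 2) K // s.1 0 0 + s.1 1 1 = τ} =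
      Fintype.card K * (Fintype.card K + 1) := by
  rw [s3_card_trace]
  have ha0 : a ≠ 0 := by
    rintro rfl
    simp at ha
  have hτ : τ = a + a⁻¹ := by
    field_simp
    linear_combination (-1 : K) * ha
  have hai : a⁻¹ ^ 2 - τ * a⁻¹ + 1 = 0 := by
    rw [hτ]
    field_simp
    ring
  have hne : a ≠ a⁻¹ := by
    intro h
    apply ha1
    rw [pow_two]
    nth_rw 2 [h]
    exact mul_inv_cancel₀ ha0
  have h2 : Nat.card {x : K // x ^ 2 - τ * x + 1 = 0} = 2 := by
    rw [Nat.card_eq_two_iff]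
    refine ⟨⟨a, ha⟩, ⟨a⁻¹, hai⟩, fun h => hne (congrArg Subtype.val h), ?_⟩
    ext x
    simp only [Set.mem_insert_iff, Set.mem_singleton_iff, Set.mem_univ, iff_true]
    have hx := x.2
    have hfac : (x.1 - a) * (x.1 - a⁻¹) = 0 := by
      have : (x.1 - a) * (x.1 - a⁻¹) = x.1 ^ 2 - (a + a⁻¹) * x.1 + a * a⁻¹ := by ring
      rw [this, mul_inv_cancel₀ ha0, ← hτ]
      exact hx
    rcases mul_eq_zero.mp hfac with h | h
    · left
      exact Subtype.ext (sub_eq_zero.mp h)
    · right
      exact Subtype.ext (sub_eq_zero.mp h)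
  rw [h2]
  have hq : 1 ≤ Fintype.card K := Fintype.card_pos
  obtain ⟨k, hk⟩ : ∃ k, Fintype.card K = k + 1 := ⟨Fintype.card K - 1, by omega⟩
  rw [hk]
  simp only [Nat.add_sub_cancel]
  ring

theorem s3_card_trace_double (τ : K) (e : K) (he : e * e = 1)
    (hτ : τ = 2 * e) :
    Nat.card {s : SpecialLinearGroup (Fin 2) K // s.1 0 0 + s.1 1 1 = τ} =
      Fintype.card K * Fintype.card K := by
  rw [s3_card_trace]
  have h1 : Nat.card {x : K // x ^ 2 - τ * x + 1 = 0} = 1 := by
    rw [Nat.card_eq_one_iff_unique]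
    refine ⟨⟨fun x y => ?_⟩, ⟨⟨e, by rw [hτ]; linear_combination (-1 : K) * he⟩⟩⟩
    have key : ∀ z : K, z ^ 2 - τ * z + 1 = 0 → z = e := by
      intro z hz
      have : (z - e) ^ 2 = 0 := by
        rw [hτ] at hz
        linear_combination hz + he
      exact sub_eq_zero.mp (pow_eq_zero_iff (two_ne_zero) |>.mp this)
    exact Subtype.ext ((key x.1 x.2).trans (key y.1 y.2).symm)
  rw [h1]
  have hq : 1 ≤ Fintype.card K := Fintype.card_pos
  obtain ⟨k, hk⟩ : ∃ k, Fintype.card K = k + 1 := ⟨Fintype.card K - 1, by omega⟩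
  rw [hk]
  simp only [Nat.add_sub_cancel]
  ring

end TraceFiber

section Eigen

variable {K : Type*} [Field K] {L : Type*} [Field L] [Algebra K L]

/-- For an eigenvalue `l` (in an extension field `L`) with `l² ≠ 1`: `s ^ m = 1 ↔ l ^ m = 1`. -/
theorem s3_pow_eq_one_iff (s : SpecialLinearGroup (Fin 2) K) (l : L) (hl0 : l ≠ 0)
    (hl : l ^ 2 ≠ 1) (htr : algebraMap K L (s.1 0 0 + s.1 1 1) = l + l⁻¹) (m : ℕ) :
    s ^ m = 1 ↔ l ^ m = 1 := by
  set M : Matrix (Fin 2) (Fin 2) L := s.1.map (algebraMap K L) with hM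
  have hdet : M.det = 1 := by
    rw [hM, ← RingHom.mapMatrix_apply, ← RingHom.map_det, s.2, map_one]
  have hsum : l + l⁻¹ = M 0 0 + M 1 1 := by
    rw [hM, Matrix.map_apply, Matrix.map_apply, ← htr, map_add]
  have hprod : l * l⁻¹ = 1 := mul_inv_cancel₀ hl0
  have hne : l ≠ l⁻¹ := by
    intro h
    apply hl
    rw [pow_two]
    nth_rw 2 [h]
    exact hprod
  have key : s ^ m = 1 ↔ M ^ m = (1 : L) • (1 : Matrix (Fin 2) (Fin 2) L) := by
    rw [one_smul, hM, ← helper46.map_pow']
    constructor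
    · intro h
      have h' : (s : Matrix (Fin 2) (Fin 2) K) ^ m = 1 := by
        have h1 := Matrix.SpecialLinearGroup.coe_pow s m
        rw [h] at h1
        exact h1.symm.trans rfl
      have h'' : s.1 ^ m = 1 := h'
      rw [h'']
      simp
    · intro h
      apply Subtype.ext
      have h1 := Matrix.SpecialLinearGroup.coe_pow s m
      refine h1.trans ?_
      apply Matrix.map_injective (algebraMap K L).injective
      show (s.1 ^ m).map (algebraMap K L) = (1 : Matrix (Fin 2) (Fin 2) K).map (algebraMap K L)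
      rw [h]
      simp
  rw [key]
  constructor
  · intro h
    exact helper46.eigen_pow_of_pow_eq_smul M hdet l l⁻¹ hsum hprod hne m 1 h
  · intro h
    exact helper46.pow_eq_smul_of_eigen M hdet l l⁻¹ hsum hprod hne m 1 h
      (by rw [inv_pow, h, inv_one])

end Eigen

end Cfsg.Agent.Lib.helper19
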