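import Mathlib
import Cfsg.Agent.Lib.helper19.SL2ThreeA
import Cfsg.Agent.Lib.helper46.SL2NonSplit

/-!
# Counting solutions of `s ^ m = 1` in `SL₂(K)`, characteristic 3 (helper19)

Double count of pairs (element, eigenvalue) over the algebraic closure.
-/

set_option autoImplicit false

namespace Cfsg.Agent.Lib.helper19

open Matrix

section Count

variable {K : Type*} [Field K] [Fintype K]

theorem s3_one_ne_neg_one (h2 : (2 : K) ≠ 0) :
    (1 : SpecialLinearGroup (Fin 2) K) ≠ -1 := by
  intro h
  have h' : (1 : Matrix (Fin 2) (Fin 2) K) 0 0 = (-1 : Matrix (Fin 2) (Fin 2) K) 0 0 := by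
    have := congrArg (fun s : SpecialLinearGroup (Fin 2) K => (s : Matrix (Fin 2) (Fin 2) K) 0 0) h
    exact this
  rw [Matrix.neg_apply, Matrix.one_apply_eq] at h'
  apply h2
  linear_combination h'

theorem s3_trace_one : (1 : SpecialLinearGroup (Fin 2) K).1 0 0 +
    (1 : SpecialLinearGroup (Fin 2) K).1 1 1 = 2 := by
  show (1 : Matrix (Fin 2) (Fin 2) K) 0 0 + (1 : Matrix (Fin 2) (Fin 2) K) 1 1 = 2
  simp
  norm_num

theorem s3_trace_neg_one : (-1 : SpecialLinearGroup (Fin 2) K).1 0 0 +
    (-1 : SpecialLinearGroup (Fin 2) K).1 1 1 = -2 := by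
  show (-1 : Matrix (Fin 2) (Fin 2) K) 0 0 + (-1 : Matrix (Fin 2) (Fin 2) K) 1 1 = -2
  simp
  norm_num

/-- Abstract double count. -/
theorem s3_double_count {L : Type*} [Field L] [Algebra K L] (h2 : (2 : K) ≠ 0)
    (R : Finset L) (m N : ℕ) (hm : Even m)
    (hR0 : ∀ l ∈ R, l ≠ 0 ∧ l ^ 2 ≠ 1 ∧ l ^ m = 1)
    (hRinv : ∀ l ∈ R, l⁻¹ ∈ R)
    (hRτ : ∀ l ∈ R, ∃ τ : K, algebraMap K L τ = l + l⁻¹ ∧
      Nat.card {s : SpecialLinearGroup (Fin 2) K // s.1 0 0 + s.1 1 1 = τ} = N)
    (hS : ∀ s : SpecialLinearGroup (Fin 2) K, s ^ m = 1 → s ≠ 1 → s ≠ -1 →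
      ∃ l ∈ R, l + l⁻¹ = algebraMap K L (s.1 0 0 + s.1 1 1)) :
    2 * Nat.card {s : SpecialLinearGroup (Fin 2) K // s ^ m = 1} = 4 + R.card * N := by
  classical
  have hcount : ∀ s : SpecialLinearGroup (Fin 2) K,
      (R.filter (fun l => l + l⁻¹ = algebraMap K L (s.1 0 0 + s.1 1 1))).card =
        if (s ^ m = 1 ∧ s ≠ 1 ∧ s ≠ -1) then 2 else 0 := by
    intro s
    split_ifs with hs
    · obtain ⟨l, hlR, hl⟩ := hS s hs.1 hs.2.1 hs.2.2
      obtain ⟨hl0, hl2, hlm⟩ := hR0 l hlR
      have hne : l ≠ l⁻¹ := by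
        intro h
        apply hl2
        rw [pow_two]
        nth_rw 2 [h]
        exact mul_inv_cancel₀ hl0
      have hfil : R.filter (fun l' => l' + l'⁻¹ = algebraMap K L (s.1 0 0 + s.1 1 1)) =
          {l, l⁻¹} := by
        ext l'
        simp only [Finset.mem_filter, Finset.mem_insert, Finset.mem_singleton]
        constructor
        · rintro ⟨hl'R, hl'⟩
          have hl'0 := (hR0 l' hl'R).1
          rw [← hl] at hl'
          have hfac : (l' - l) * (l' - l⁻¹) = 0 := by
            have e1 : (l' - l) * (l' - l⁻¹) = l' ^ 2 - (l + l⁻¹) * l' + l * l⁻¹ := by ring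
            rw [e1, ← hl', mul_inv_cancel₀ hl0]
            field_simp
            ring
          rcases mul_eq_zero.mp hfac with h | h
          · left
            exact sub_eq_zero.mp h
          · right
            exact sub_eq_zero.mp h
        · rintro (rfl | rfl)
          · exact ⟨hlR, hl⟩
          · refine ⟨hRinv l hlR, ?_⟩
            rw [inv_inv, add_comm]
            exact hl
      rw [hfil, Finset.card_pair hne]
    · rw [Finset.card_eq_zero, Finset.filter_eq_empty_iff]
      intro l hlR hl
      obtain ⟨hl0, hl2, hlm⟩ := hR0 l hlR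
      apply hs
      refine ⟨(s3_pow_eq_one_iff s l hl0 hl2 hl.symm m).mpr hlm, ?_, ?_⟩
      · rintro rfl
        rw [s3_trace_one, map_ofNat] at hl
        apply hl2
        have : (l - 1) ^ 2 = 0 := by
          field_simp at hl
          linear_combination hl
        have h1 : l = 1 := sub_eq_zero.mp (pow_eq_zero_iff two_ne_zero |>.mp this)
        rw [h1, one_pow]
      · rintro rfl
        rw [s3_trace_neg_one, map_neg, map_ofNat] at hl
        apply hl2
        have : (l + 1) ^ 2 = 0 := by
          field_simp at hl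
          linear_combination hl
        have h1 : l = -1 := eq_neg_of_add_eq_zero_left (pow_eq_zero_iff two_ne_zero |>.mp this)
        rw [h1]
        norm_num
  have hfib : ∀ l ∈ R, (Finset.univ.filter (fun s : SpecialLinearGroup (Fin 2) K =>
      l + l⁻¹ = algebraMap K L (s.1 0 0 + s.1 1 1))).card = N := by
    intro l hl
    obtain ⟨τ, hτ, hN⟩ := hRτ l hl
    rw [← hN, Nat.card_eq_fintype_card, Fintype.card_subtype]
    congr 1
    ext s
    simp only [Finset.mem_filter, Finset.mem_univ, true_and]
    rw [← hτ]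
    constructor
    · intro h
      exact ((algebraMap K L).injective h).symm
    · intro h
      rw [h]
  have hsum : R.card * N = ∑ s : SpecialLinearGroup (Fin 2) K,
      (R.filter (fun l => l + l⁻¹ = algebraMap K L (s.1 0 0 + s.1 1 1))).card := by
    calc R.card * N = ∑ l ∈ R, N := by rw [Finset.sum_const, smul_eq_mul]
      _ = ∑ l ∈ R, (Finset.univ.filter (fun s : SpecialLinearGroup (Fin 2) K =>
            l + l⁻¹ = algebraMap K L (s.1 0 0 + s.1 1 1))).card :=
          Finset.sum_congr rfl (fun l hl => (hfib l hl).symm)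
      _ = ∑ l ∈ R, ∑ s : SpecialLinearGroup (Fin 2) K,
            if l + l⁻¹ = algebraMap K L (s.1 0 0 + s.1 1 1) then 1 else 0 := by
          simp_rw [Finset.card_filter]
      _ = ∑ s : SpecialLinearGroup (Fin 2) K, ∑ l ∈ R,
            if l + l⁻¹ = algebraMap K L (s.1 0 0 + s.1 1 1) then 1 else 0 := Finset.sum_comm
      _ = _ := by simp_rw [Finset.card_filter]
  rw [hsum]
  simp_rw [hcount]
  rw [← Finset.sum_filter, Finset.sum_const, smul_eq_mul]
  have hA : Nat.card {s : SpecialLinearGroup (Fin 2) K // s ^ m = 1} =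
      (Finset.univ.filter (fun s : SpecialLinearGroup (Fin 2) K =>
        s ^ m = 1 ∧ s ≠ 1 ∧ s ≠ -1)).card + 2 := by
    rw [Nat.card_eq_fintype_card, Fintype.card_subtype]
    have hsplit : Finset.univ.filter (fun s : SpecialLinearGroup (Fin 2) K => s ^ m = 1) =
        (Finset.univ.filter (fun s : SpecialLinearGroup (Fin 2) K =>
          s ^ m = 1 ∧ s ≠ 1 ∧ s ≠ -1)) ∪ {1, -1} := by
      ext s
      simp only [Finset.mem_filter, Finset.mem_univ, true_and, Finset.mem_union,
        Finset.mem_insert, Finset.mem_singleton]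
      constructor
      · intro h
        by_cases h1 : s = 1
        · right; left; exact h1
        by_cases h2 : s = -1
        · right; right; exact h2
        left
        exact ⟨h, h1, h2⟩
      · rintro (h | h | h)
        · exact h.1
        · rw [h, one_pow]
        · rw [h]
          exact hm.neg_one_pow
    rw [hsplit, Finset.card_union_of_disjoint, Finset.card_pair (s3_one_ne_neg_one h2)]
    rw [Finset.disjoint_left]
    intro s hs hs'
    simp only [Finset.mem_filter, Finset.mem_univ, true_and] at hs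
    simp only [Finset.mem_insert, Finset.mem_singleton] at hs'
    rcases hs' with h | h
    · exact hs.2.1 h
    · exact hs.2.2 h
  rw [hA]
  ring

end Count

end Cfsg.Agent.Lib.helper19
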