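import Mathlib
import Cfsg.Agent.Lib.helper19.SL2ThreeB

/-!
# `SL₂(q)`, `q` a power of 3: the numbers of solutions of `s ^ 6 = 1`, `s ^ (q - 1) = 1`,
`s ^ ((q + 1) / 2) = 1` (helper19; pieces for Ward's counting argument in `²G₂(q)`)
-/

set_option autoImplicit false

namespace Cfsg.Agent.Lib.helper19

open Matrix

section Main

variable {K : Type*} [Field K] [Fintype K] [CharP K 3]

omit [Fintype K] in
theorem s3_two_ne_zero : (2 : K) ≠ 0 := by
  intro h
  have h' : ((2 : ℕ) : K) = 0 := by exact_mod_cast h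
  rw [CharP.cast_eq_zero_iff K 3 2] at h'
  omega

theorem s3_card_eq : ∃ n : ℕ, 0 < n ∧ Fintype.card K = 3 ^ n := by
  obtain ⟨n, -, hn⟩ := FiniteField.card K 3
  exact ⟨n, n.pos, hn⟩

theorem s3_card_mod_three : Fintype.card K % 3 = 0 := by
  obtain ⟨n, hn0, hn⟩ := s3_card_eq (K := K)
  rw [hn]
  obtain ⟨k, rfl⟩ : ∃ k, n = k + 1 := ⟨n - 1, by omega⟩
  rw [pow_succ]
  omega

theorem s3_card_odd : Fintype.card K % 2 = 1 := by
  obtain ⟨n, hn0, hn⟩ := s3_card_eq (K := K)
  rw [hn]
  have : Odd (3 ^ n) := Odd.pow (by decide)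
  exact Nat.odd_iff.mp this

omit [Fintype K] in
/-- An element with trace `2e`, `e = ±1`, and `s ^ m = 1` (`m` even, prime to 3) is central. -/
theorem s3_central_of_trace (s : SpecialLinearGroup (Fin 2) K) (e : K) (he : e * e = 1)
    (ht : s.1 0 0 + s.1 1 1 = 2 * e) (m : ℕ) (hm2 : Even m) (hm3 : ¬ 3 ∣ m) (hsm : s ^ m = 1) :
    s = 1 ∨ s = -1 := by
  haveI : Fact (Nat.Prime 3) := ⟨Nat.prime_three⟩
  have h3 := helper46.pow_char_eq_of_trace 3 s.1 s.2 e he ht
  have h6 : s ^ 6 = 1 := by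
    apply Subtype.ext
    refine (Matrix.SpecialLinearGroup.coe_pow s 6).trans ?_
    show s.1 ^ 6 = 1
    have e6 : e ^ 6 = 1 := by
      have : e ^ 6 = (e * e) ^ 3 := by ring
      rw [this, he, one_pow]
    calc s.1 ^ 6 = (s.1 ^ 3) ^ 2 := by rw [← pow_mul]
      _ = 1 := by
        rw [h3, smul_pow, one_pow, ← pow_mul, e6, one_smul]
  have hg : s ^ (Nat.gcd m 6) = 1 := pow_gcd_eq_one.mpr ⟨hsm, h6⟩
  have hgcd : Nat.gcd m 6 = 2 := by
    have hd : Nat.gcd m 6 ∣ 6 := Nat.gcd_dvd_right m 6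
    have h2 : 2 ∣ Nat.gcd m 6 := Nat.dvd_gcd hm2.two_dvd (by norm_num)
    have h3' : ¬ 3 ∣ Nat.gcd m 6 := fun h => hm3 (h.trans (Nat.gcd_dvd_left m 6))
    have hle : Nat.gcd m 6 ≤ 6 := Nat.le_of_dvd (by norm_num) hd
    interval_cases (Nat.gcd m 6) <;> omega
  rw [hgcd] at hg
  have hsq : s.1 * s.1 = 1 := by
    have h1 := Matrix.SpecialLinearGroup.coe_pow s 2
    rw [hg] at h1
    have h2 : s.1 ^ 2 = 1 := h1.symm.trans rfl
    rw [← pow_two]
    exact h2
  rcases helper46.sq_eq_one_cases s3_two_ne_zero s.1 s.2 hsq with h | h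
  · left
    exact Subtype.ext h
  · right
    exact Subtype.ext h

/-- Main count: `m` even and prime to 3, all `m`-th roots of unity `l` with `l² ≠ 1` have
trace `l + l⁻¹` in `K` with the same fibre size `N`. -/
theorem s3_count_main (m : ℕ) (hm2 : Even m) (hm3 : ¬ 3 ∣ m) (hmpos : 0 < m) (N : ℕ)
    (hN : ∀ l : AlgebraicClosure K, l ^ m = 1 → l ^ 2 ≠ 1 →
      ∃ τ : K, algebraMap K (AlgebraicClosure K) τ = l + l⁻¹ ∧
        Nat.card {s : SpecialLinearGroup (Fin 2) K // s.1 0 0 + s.1 1 1 = τ} = N) :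
    2 * Nat.card {s : SpecialLinearGroup (Fin 2) K // s ^ m = 1} = 4 + (m - 2) * N := by
  classical
  have h2K : (2 : K) ≠ 0 := s3_two_ne_zero
  have h2L : (2 : AlgebraicClosure K) ≠ 0 := s3_two_ne_zero
  haveI : NeZero (m : AlgebraicClosure K) :=
    ⟨by rw [Ne, CharP.cast_eq_zero_iff (AlgebraicClosure K) 3 m]; exact hm3⟩
  obtain ⟨ζ, hζ⟩ := HasEnoughRootsOfUnity.exists_primitiveRoot (AlgebraicClosure K) m
  have hcard := hζ.card_nthRootsFinset
  set R : Finset (AlgebraicClosure K) :=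
    (Polynomial.nthRootsFinset m (1 : AlgebraicClosure K)).filter (fun l => l ^ 2 ≠ 1) with hR
  have hmem : ∀ l : AlgebraicClosure K, l ∈ R ↔ l ^ m = 1 ∧ l ^ 2 ≠ 1 := by
    intro l
    rw [hR, Finset.mem_filter, Polynomial.mem_nthRootsFinset hmpos]
  have hRcard : R.card = m - 2 := by
    have hcompl : (Polynomial.nthRootsFinset m (1 : AlgebraicClosure K)).filter
        (fun l => ¬ (l ^ 2 ≠ 1)) = {1, -1} := by
      ext l
      simp only [Finset.mem_filter, Polynomial.mem_nthRootsFinset hmpos, not_not,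
        Finset.mem_insert, Finset.mem_singleton]
      constructor
      · rintro ⟨_, h⟩
        exact sq_eq_one_iff.mp h
      · rintro (rfl | rfl)
        · simp
        · exact ⟨hm2.neg_one_pow, by norm_num⟩
    have hne : (1 : AlgebraicClosure K) ≠ -1 := by
      intro h
      apply h2L
      linear_combination h
    have := Finset.card_filter_add_card_filter_not
      (s := Polynomial.nthRootsFinset m (1 : AlgebraicClosure K)) (fun l => l ^ 2 ≠ 1)
    rw [hcompl, Finset.card_pair hne, hcard] at this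
    rw [hR]
    omega
  have key := s3_double_count (L := AlgebraicClosure K) h2K R m N hm2 ?_ ?_ ?_ ?_
  · rw [hRcard] at key
    exact key
  · intro l hl
    rw [hmem] at hl
    refine ⟨?_, hl.2, hl.1⟩
    rintro rfl
    rw [zero_pow hmpos.ne'] at hl
    exact zero_ne_one hl.1
  · intro l hl
    rw [hmem] at hl ⊢
    refine ⟨by rw [inv_pow, hl.1, inv_one], ?_⟩
    intro h
    apply hl.2
    rw [inv_pow] at h
    exact inv_eq_one.mp h
  · intro l hl
    rw [hmem] at hl
    exact hN l hl.1 hl.2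
  · intro s hsm hs1 hsm1
    obtain ⟨l, hl⟩ := helper46.exists_root_of_algClosed h2L
      (algebraMap K (AlgebraicClosure K) (s.1 0 0 + s.1 1 1))
    have hl0 : l ≠ 0 := by
      rintro rfl
      simp at hl
    have htr : l + l⁻¹ = algebraMap K (AlgebraicClosure K) (s.1 0 0 + s.1 1 1) := by
      field_simp
      linear_combination hl
    have hl2 : l ^ 2 ≠ 1 := by
      intro hsq
      rcases sq_eq_one_iff.mp hsq with rfl | rfl
      · have ht : s.1 0 0 + s.1 1 1 = 2 * 1 := by
          apply (algebraMap K (AlgebraicClosure K)).injective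
          rw [← htr, map_mul, map_ofNat, map_one]
          norm_num
        rcases s3_central_of_trace s 1 (one_mul 1) ht m hm2 hm3 hsm with h | h
        · exact hs1 h
        · exact hsm1 h
      · have ht : s.1 0 0 + s.1 1 1 = 2 * (-1) := by
          apply (algebraMap K (AlgebraicClosure K)).injective
          rw [← htr, map_mul, map_ofNat, map_neg, map_one]
          norm_num
        rcases s3_central_of_trace s (-1) (by norm_num) ht m hm2 hm3 hsm with h | h
        · exact hs1 h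
        · exact hsm1 h
    refine ⟨l, (hmem l).mpr ⟨(s3_pow_eq_one_iff s l hl0 hl2 htr.symm m).mp hsm, hl2⟩, htr⟩

end Main

end Cfsg.Agent.Lib.helper19
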