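import Mathlib
import Cfsg.Agent.Lib.helper19.SL2ThreeC

/-!
# `SL₂(q)`, `q` a power of 3 (helper19): the four counting statements requested by helper44
for Ward's counting argument in `²G₂(q)` (S1158 / S1159).

* `sl2_pow_cases`: `s ^ 6 = 1 ∨ s ^ (q - 1) = 1 ∨ s ^ (q + 1) = 1`;
* `sl2_card_pow_six`: `#{s | s ^ 6 = 1} = 2 q²`;
* `sl2_card_pow_split`: `2 #{s | s ^ (q - 1) = 1} = 4 + q (q + 1) (q - 3)`;
* `sl2_card_pow_nonsplit`: `4 #{s | s ^ ((q + 1) / 2) = 1} = 8 + q (q - 1) (q - 3)` (`q ≡ 3 mod 4`).
-/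

set_option autoImplicit false

namespace Cfsg.Agent.Lib.helper19

open Matrix

theorem sl2_pow_cases {K : Type*} [Field K] [Fintype K] [CharP K 3]
    (s : Matrix.SpecialLinearGroup (Fin 2) K) :
    s ^ 6 = 1 ∨ s ^ (Fintype.card K - 1) = 1 ∨ s ^ (Fintype.card K + 1) = 1 := by
  haveI : Fact (Nat.Prime 3) := ⟨Nat.prime_three⟩
  have hodd := s3_card_odd (K := K)
  have hgcd : Nat.gcd 2 (Fintype.card K - 1) = 2 := by
    apply Nat.gcd_eq_left
    omega
  have lift : ∀ k : ℕ, (∃ c : K, c ^ 2 = 1 ∧ s.1 ^ k = c • (1 : Matrix (Fin 2) (Fin 2) K)) →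
      s ^ (2 * k) = 1 := by
    rintro k ⟨c, hc, hk⟩
    apply Subtype.ext
    refine (Matrix.SpecialLinearGroup.coe_pow s (2 * k)).trans ?_
    show s.1 ^ (2 * k) = 1
    rw [mul_comm, pow_mul, hk, smul_pow, one_pow, hc, one_smul]
  rcases helper46.pow_central_cases 3 s.1 s.2 with h | h | h
  · left
    exact lift 3 h
  · right
    left
    rw [hgcd] at h
    have := lift _ h
    rwa [show 2 * ((Fintype.card K - 1) / 2) = Fintype.card K - 1 by omega] at this
  · right
    right
    rw [hgcd] at h
    have := lift _ h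
    rwa [show 2 * ((Fintype.card K + 1) / 2) = Fintype.card K + 1 by omega] at this

section Six

variable {K : Type*} [Field K] [CharP K 3]

theorem s3_pow_six_of_trace (s : SpecialLinearGroup (Fin 2) K) (e : K) (he : e * e = 1)
    (ht : s.1 0 0 + s.1 1 1 = 2 * e) : s ^ 6 = 1 := by
  haveI : Fact (Nat.Prime 3) := ⟨Nat.prime_three⟩
  have h3 := helper46.pow_char_eq_of_trace 3 s.1 s.2 e he ht
  apply Subtype.ext
  refine (Matrix.SpecialLinearGroup.coe_pow s 6).trans ?_
  show s.1 ^ 6 = 1
  have e6 : e ^ 6 = 1 := by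
    have : e ^ 6 = (e * e) ^ 3 := by ring
    rw [this, he, one_pow]
  calc s.1 ^ 6 = (s.1 ^ 3) ^ 2 := by rw [← pow_mul]
    _ = 1 := by
      rw [h3, smul_pow, one_pow, ← pow_mul, e6, one_smul]

theorem s3_pow_six_iff (s : SpecialLinearGroup (Fin 2) K) :
    s ^ 6 = 1 ↔ (s.1 0 0 + s.1 1 1 = 2 ∨ s.1 0 0 + s.1 1 1 = -2) := by
  haveI : Fact (Nat.Prime 3) := ⟨Nat.prime_three⟩
  constructor
  · intro hs
    have h2L : (2 : AlgebraicClosure K) ≠ 0 := s3_two_ne_zero
    obtain ⟨l, hl⟩ := helper46.exists_root_of_algClosed h2L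
      (algebraMap K (AlgebraicClosure K) (s.1 0 0 + s.1 1 1))
    have hl0 : l ≠ 0 := by
      rintro rfl
      simp at hl
    have htr : l + l⁻¹ = algebraMap K (AlgebraicClosure K) (s.1 0 0 + s.1 1 1) := by
      field_simp
      linear_combination hl
    have hl2 : l ^ 2 = 1 := by
      by_contra hl2
      have h6 := (s3_pow_eq_one_iff s l hl0 hl2 htr.symm 6).mp hs
      have hcube : (l ^ 2 - 1) ^ 3 = 0 := by
        rw [sub_pow_char_of_commute 3 (Commute.all (l ^ 2) 1), one_pow, ← pow_mul, h6, sub_self]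
      exact hl2 (sub_eq_zero.mp (pow_eq_zero_iff (by norm_num) |>.mp hcube))
    rcases sq_eq_one_iff.mp hl2 with rfl | rfl
    · left
      apply (algebraMap K (AlgebraicClosure K)).injective
      rw [← htr, map_ofNat]
      norm_num
    · right
      apply (algebraMap K (AlgebraicClosure K)).injective
      rw [← htr, map_neg, map_ofNat]
      norm_num
  · rintro (h | h)
    · exact s3_pow_six_of_trace s 1 (one_mul 1) (by rw [h]; ring)
    · exact s3_pow_six_of_trace s (-1) (by ring) (by rw [h]; ring)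

end Six

theorem sl2_card_pow_six {K : Type*} [Field K] [Fintype K] [CharP K 3] :
    Nat.card {s : Matrix.SpecialLinearGroup (Fin 2) K // s ^ 6 = 1} = 2 * Fintype.card K ^ 2 := by
  classical
  have h1 := s3_card_trace_double (K := K) 2 1 (one_mul 1) (by ring)
  have h2 := s3_card_trace_double (K := K) (-2) (-1) (by ring) (by ring)
  rw [Nat.card_eq_fintype_card, Fintype.card_subtype] at h1 h2 ⊢
  have hsplit : Finset.univ.filter (fun s : SpecialLinearGroup (Fin 2) K => s ^ 6 = 1) =
      Finset.univ.filter (fun s : SpecialLinearGroup (Fin 2) K => s.1 0 0 + s.1 1 1 = 2) ∪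
        Finset.univ.filter (fun s : SpecialLinearGroup (Fin 2) K => s.1 0 0 + s.1 1 1 = -2) := by
    ext s
    simp only [Finset.mem_filter, Finset.mem_univ, true_and, Finset.mem_union]
    exact s3_pow_six_iff s
  rw [hsplit, Finset.card_union_of_disjoint, h1, h2]
  · ring
  · rw [Finset.disjoint_left]
    intro s hs hs'
    simp only [Finset.mem_filter, Finset.mem_univ, true_and] at hs hs'
    rw [hs] at hs'
    have h4 : (2 : K) * 2 = 0 := by linear_combination hs'
    exact s3_two_ne_zero (mul_self_eq_zero.mp h4)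

theorem sl2_card_pow_split {K : Type*} [Field K] [Fintype K] [CharP K 3]
    (hq : 27 ≤ Fintype.card K) :
    2 * Nat.card {s : Matrix.SpecialLinearGroup (Fin 2) K // s ^ (Fintype.card K - 1) = 1} =
      4 + Fintype.card K * (Fintype.card K + 1) * (Fintype.card K - 3) := by
  have hodd := s3_card_odd (K := K)
  have h3 := s3_card_mod_three (K := K)
  have key := s3_count_main (K := K) (Fintype.card K - 1) (by rw [Nat.even_iff]; omega)
    (by omega) (by omega) (Fintype.card K * (Fintype.card K + 1)) ?_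
  · rw [key, show Fintype.card K - 1 - 2 = Fintype.card K - 3 by omega]
    ring
  · intro l hlm hl2
    have hl0 : l ≠ 0 := by
      rintro rfl
      rw [zero_pow (by omega)] at hlm
      exact zero_ne_one hlm
    have hlq : l ^ Fintype.card K = l := by
      have : Fintype.card K = (Fintype.card K - 1) + 1 := by omega
      rw [this, pow_succ, hlm, one_mul]
    obtain ⟨a, rfl⟩ := helper46.mem_range_of_pow_card_eq l hlq
    have ha0 : a ≠ 0 := by
      rintro rfl
      simp at hl0
    have ha2 : a ^ 2 ≠ 1 := by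
      intro h
      apply hl2
      rw [← map_pow, h, map_one]
    refine ⟨a + a⁻¹, by rw [map_add, map_inv₀], ?_⟩
    exact s3_card_trace_split (a + a⁻¹) a (by field_simp; ring) ha2

theorem sl2_card_pow_nonsplit {K : Type*} [Field K] [Fintype K] [CharP K 3]
    (hq : 27 ≤ Fintype.card K) (hq4 : Fintype.card K % 4 = 3) :
    4 * Nat.card {s : Matrix.SpecialLinearGroup (Fin 2) K //
        s ^ ((Fintype.card K + 1) / 2) = 1} =
      8 + Fintype.card K * (Fintype.card K - 1) * (Fintype.card K - 3) := by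
  have h3 := s3_card_mod_three (K := K)
  obtain ⟨k, hk⟩ : ∃ k, Fintype.card K = 4 * k + 3 := ⟨Fintype.card K / 4, by omega⟩
  have hm : (Fintype.card K + 1) / 2 = 2 * k + 2 := by omega
  have key := s3_count_main (K := K) ((Fintype.card K + 1) / 2)
    (by rw [hm]; exact ⟨k + 1, by ring⟩) (by omega) (by omega)
    (Fintype.card K * (Fintype.card K - 1)) ?_
  · have e1 : (Fintype.card K + 1) / 2 - 2 = 2 * k := by omega
    have e2 : Fintype.card K - 3 = 4 * k := by omega
    rw [e1] at key
    rw [e2]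
    have e3 : Fintype.card K * (Fintype.card K - 1) * (4 * k) =
        2 * (2 * k * (Fintype.card K * (Fintype.card K - 1))) := by ring
    rw [e3]
    omega
  · intro l hlm hl2
    have hl0 : l ≠ 0 := by
      rintro rfl
      rw [zero_pow (by omega)] at hlm
      exact zero_ne_one hlm
    have hlq1 : l ^ (Fintype.card K + 1) = 1 := by
      have : Fintype.card K + 1 = (Fintype.card K + 1) / 2 * 2 := by omega
      rw [this, pow_mul, hlm, one_pow]
    have hlq : l ^ Fintype.card K = l⁻¹ := by
      rw [pow_succ] at hlq1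
      exact eq_inv_of_mul_eq_one_left hlq1
    have hsum : (l + l⁻¹) ^ Fintype.card K = l + l⁻¹ := by
      rw [helper46.add_pow_card (F := K), inv_pow, hlq, inv_inv, add_comm]
    obtain ⟨τ, hτ⟩ := helper46.mem_range_of_pow_card_eq (l + l⁻¹) hsum
    refine ⟨τ, hτ, s3_card_trace_noroot τ ?_⟩
    intro a ha
    have hroot : (algebraMap K (AlgebraicClosure K) a - l) *
        (algebraMap K (AlgebraicClosure K) a - l⁻¹) = 0 := by
      have e1 : (algebraMap K (AlgebraicClosure K) a - l) *
          (algebraMap K (AlgebraicClosure K) a - l⁻¹) =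
          (algebraMap K (AlgebraicClosure K) a) ^ 2 -
            (l + l⁻¹) * algebraMap K (AlgebraicClosure K) a + l * l⁻¹ := by ring
      rw [e1, ← hτ, mul_inv_cancel₀ hl0, ← map_pow, ← map_mul, ← map_sub,
        ← map_one (algebraMap K (AlgebraicClosure K)), ← map_add, ha, map_zero]
    have hfix : ∀ b : K, (algebraMap K (AlgebraicClosure K) b) ^ Fintype.card K =
        algebraMap K (AlgebraicClosure K) b := by
      intro b
      rw [← map_pow, FiniteField.pow_card]
    apply hl2
    rcases mul_eq_zero.mp hroot with h | h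
    · have hl : l = algebraMap K (AlgebraicClosure K) a := (sub_eq_zero.mp h).symm
      have hfl : l ^ Fintype.card K = l := by
        rw [hl]
        exact hfix a
      rw [hlq] at hfl
      rw [pow_two]
      nth_rw 1 [← hfl]
      exact inv_mul_cancel₀ hl0
    · have hl : l⁻¹ = algebraMap K (AlgebraicClosure K) a := (sub_eq_zero.mp h).symm
      have hfl : (l⁻¹) ^ Fintype.card K = l⁻¹ := by
        rw [hl]
        exact hfix a
      rw [inv_pow, hlq, inv_inv] at hfl
      rw [pow_two]
      nth_rw 2 [hfl]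
      exact mul_inv_cancel₀ hl0

end Cfsg.Agent.Lib.helper19
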