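import Mathlib
import Cfsg.Agent.Lib.helper44.SL3Defs

/-!
# S2287 piece MATp (race copy, helper19): the root subgroup `x₁₂` and `polyWord`
-/

set_option autoImplicit false

namespace Cfsg.Agent.Lib.helper44.SL3

open Polynomial

-- MATp
theorem h19_mX01_add {F : Type*} [Field F] (a b : F) :
    mX01 F (a + b) = mX01 F a * mX01 F b := by
  apply Subtype.ext
  exact (Matrix.transvection_mul_transvection_same (i := (0 : Fin 3)) (j := 1) (by decide)
    a b).symm

theorem h19_mX01_zero {F : Type*} [Field F] : mX01 F 0 = 1 := by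
  exact Matrix.SpecialLinearGroup.transvection_coeff_zero _

-- MATp
theorem h19_mX01_pow {F : Type*} [Field F] (a : F) (k : ℕ) : mX01 F a ^ k = mX01 F (k • a) := by
  induction k with
  | zero => rw [pow_zero, zero_smul, h19_mX01_zero]
  | succ k ih => rw [pow_succ, ih, ← h19_mX01_add, succ_nsmul]

/-- Conjugation of `x₁₂(a)` by the torus element `diag(ω, 1, ω⁻¹)^n`. -/
theorem h19_mH3_conj {F : Type*} [Field F] (ω : Fˣ) (a : F) :
    mH3 ω * mX01 F a * (mH3 ω)⁻¹ = mX01 F ((ω : F) * a) := by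
  rw [mul_inv_eq_iff_eq_mul]
  apply Subtype.ext
  simp only [Matrix.SpecialLinearGroup.coe_mul]
  show (!![(ω : F), 0, 0; 0, 1, 0; 0, 0, ((ω⁻¹ : Fˣ) : F)] : Matrix (Fin 3) (Fin 3) F) *
      Matrix.transvection (0 : Fin 3) 1 a =
    Matrix.transvection (0 : Fin 3) 1 ((ω : F) * a) *
      (!![(ω : F), 0, 0; 0, 1, 0; 0, 0, ((ω⁻¹ : Fˣ) : F)] : Matrix (Fin 3) (Fin 3) F)
  ext i j
  fin_cases i <;> fin_cases j <;>
    simp [Matrix.transvection, Matrix.mul_apply, Fin.sum_univ_three, Matrix.one_apply,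
      Matrix.single_apply]

theorem h19_mH3_pow_conj {F : Type*} [Field F] (ω : Fˣ) (a : F) (n : ℕ) :
    mH3 ω ^ n * mX01 F a * (mH3 ω ^ n)⁻¹ = mX01 F ((ω : F) ^ n * a) := by
  induction n with
  | zero => simp
  | succ n ih =>
    have : mH3 ω ^ (n + 1) * mX01 F a * (mH3 ω ^ (n + 1))⁻¹ =
        mH3 ω * (mH3 ω ^ n * mX01 F a * (mH3 ω ^ n)⁻¹) * (mH3 ω)⁻¹ := by
      rw [pow_succ']; group
    rw [this, ih, h19_mH3_conj, ← mul_assoc, ← pow_succ']

/-- The general computation: `polyWord g (x 1) f = x (f(ω))` when `g` acts on `x` by `ω`. -/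
theorem h19_polyWord_of_conj {F : Type*} [Field F] {p : ℕ} [Fact p.Prime] [Algebra (ZMod p) F]
    (g : Matrix.SpecialLinearGroup (Fin 3) F) (ω : F)
    (hg : ∀ n : ℕ, g ^ n * mX01 F 1 * (g ^ n)⁻¹ = mX01 F (ω ^ n)) (f : (ZMod p)[X]) :
    Pres.polyWord g (mX01 F 1) f = mX01 F (aeval ω f) := by
  have key : ∀ N : ℕ, ((List.range N).map fun n =>
      (g ^ n * mX01 F 1 * (g ^ n)⁻¹) ^ (f.coeff n).val).prod =
      mX01 F (∑ i ∈ Finset.range N, f.coeff i • ω ^ i) := by
    intro N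
    induction N with
    | zero => simp [h19_mX01_zero]
    | succ N ih =>
      rw [List.range_succ, List.map_append, List.prod_append, ih, Finset.sum_range_succ,
        h19_mX01_add]
      congr 1
      simp only [List.map_cons, List.map_nil, List.prod_cons, List.prod_nil, mul_one]
      rw [hg, h19_mX01_pow]
      congr 1
      rw [← Nat.cast_smul_eq_nsmul (ZMod p), ZMod.natCast_zmod_val]
  unfold Pres.polyWord
  rw [key, aeval_eq_sum_range]

-- MATp
theorem h19_polyWord_mX01 {F : Type*} [Field F] {p : ℕ} [Fact p.Prime] [Algebra (ZMod p) F]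
    (ω : Fˣ) (f : (ZMod p)[X]) :
    Pres.polyWord (mH3 ω) (mX01 F 1) f = mX01 F (aeval (ω : F) f) := by
  apply h19_polyWord_of_conj
  intro n
  rw [h19_mH3_pow_conj, mul_one]

-- MATp
theorem h19_polyWord_mX01_one {F : Type*} [Field F] {p : ℕ} [Fact p.Prime] [Algebra (ZMod p) F]
    (f : (ZMod p)[X]) :
    Pres.polyWord (1 : Matrix.SpecialLinearGroup (Fin 3) F) (mX01 F 1) f =
      mX01 F (aeval (1 : F) f) := by
  apply h19_polyWord_of_conj
  intro n
  simp

end Cfsg.Agent.Lib.helper44.SL3
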