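import Mathlib

set_option autoImplicit false

namespace Cfsg.Agent.Lib.helper70.SM

universe u

/-- The `2`-power-torsion part of a central subgroup. -/
def h19_twoPart {Γ : Type u} [Group Γ] (K : Subgroup Γ) (hc : K ≤ Subgroup.center Γ) :
    Subgroup Γ where
  carrier := {g | g ∈ K ∧ ∃ m : ℕ, g ^ (2 ^ m) = 1}
  one_mem' := ⟨K.one_mem, 0, by simp⟩
  mul_mem' := by
    rintro a b ⟨ha, m, hm⟩ ⟨hb, n, hn⟩
    refine ⟨K.mul_mem ha hb, m + n, ?_⟩
    have hcomm : Commute a b := by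
      exact Subgroup.mem_center_iff.mp (hc hb) a
    rw [hcomm.mul_pow, pow_add, pow_mul, hm, one_pow, one_mul, mul_comm (2 ^ m) (2 ^ n), pow_mul,
      hn, one_pow]
  inv_mem' := by
    rintro a ⟨ha, m, hm⟩
    exact ⟨K.inv_mem ha, m, by rw [inv_pow, hm, inv_one]⟩

theorem h19_mem_twoPart {Γ : Type u} [Group Γ] (K : Subgroup Γ) (hc : K ≤ Subgroup.center Γ)
    (g : Γ) : g ∈ h19_twoPart K hc ↔ g ∈ K ∧ ∃ m : ℕ, g ^ (2 ^ m) = 1 := Iff.rfl

/-- G2 (reduction to a 2-group kernel). -/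
theorem h19_ker_isPGroup_two_of_odd {Γ : Type u} [Group Γ] [Finite Γ] {P : Type*} [Group P]
    (hodd : ∀ (Δ : Type u) [Group Δ] [Finite Δ] (ρ : Δ →* P), Function.Surjective ρ →
      ρ.ker ≤ Subgroup.center Δ → ρ.ker ≤ commutator Δ → Odd (Nat.card ρ.ker) → ρ.ker = ⊥)
    (π : Γ →* P) (hπ : Function.Surjective π)
    (hc : π.ker ≤ Subgroup.center Γ) (hd : π.ker ≤ commutator Γ) : IsPGroup 2 π.ker := by
  classical
  set K₂ : Subgroup Γ := h19_twoPart π.ker hc with hK₂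
  have hK₂le : K₂ ≤ π.ker := fun g hg => hg.1
  have hK₂n : K₂.Normal := by
    refine ⟨fun n hn g => ?_⟩
    have hcn : n ∈ Subgroup.center Γ := hc (hK₂le hn)
    have : g * n * g⁻¹ = n := by
      have h1 := Subgroup.mem_center_iff.mp hcn g
      rw [h1, mul_inv_cancel_right]
    rw [this]; exact hn
  let ρ : Γ ⧸ K₂ →* P := QuotientGroup.lift K₂ π (fun g hg => MonoidHom.mem_ker.mp (hK₂le hg))
  have hρmk : ∀ g : Γ, ρ (QuotientGroup.mk g) = π g := fun g => rfl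
  have hρsurj : Function.Surjective ρ := by
    intro p
    obtain ⟨g, rfl⟩ := hπ p
    exact ⟨QuotientGroup.mk g, rfl⟩
  -- elements of the kernel of ρ
  have hker : ∀ d : Γ ⧸ K₂, d ∈ ρ.ker → ∃ g : Γ, g ∈ π.ker ∧ (QuotientGroup.mk g : Γ ⧸ K₂) = d := by
    intro d hd'
    obtain ⟨g, rfl⟩ := QuotientGroup.mk_surjective d
    exact ⟨g, by rw [MonoidHom.mem_ker] at hd' ⊢; rw [← hρmk]; exact hd', rfl⟩
  have hρc : ρ.ker ≤ Subgroup.center (Γ ⧸ K₂) := by
    intro d hd'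
    obtain ⟨g, hg, rfl⟩ := hker d hd'
    rw [Subgroup.mem_center_iff]
    intro e
    obtain ⟨a, rfl⟩ := QuotientGroup.mk_surjective e
    have h1 := Subgroup.mem_center_iff.mp (hc hg) a
    rw [← QuotientGroup.mk_mul, ← QuotientGroup.mk_mul, h1]
  have hρd : ρ.ker ≤ commutator (Γ ⧸ K₂) := by
    intro d hd'
    obtain ⟨g, hg, rfl⟩ := hker d hd'
    have h1 : g ∈ commutator Γ := hd hg
    have h2 : Subgroup.map (QuotientGroup.mk' K₂) (commutator Γ) = commutator (Γ ⧸ K₂) := by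
      rw [commutator_def, Subgroup.map_commutator, commutator_def]
      have : Subgroup.map (QuotientGroup.mk' K₂) ⊤ = ⊤ := by
        rw [← MonoidHom.range_eq_map]
        exact MonoidHom.range_eq_top.mpr (QuotientGroup.mk'_surjective K₂)
      rw [this]
    rw [← h2]
    exact Subgroup.mem_map_of_mem (QuotientGroup.mk' K₂) h1
  have hρodd : Odd (Nat.card ρ.ker) := by
    rw [← Nat.not_even_iff_odd]
    intro hev
    have h2dvd : 2 ∣ Nat.card ρ.ker := hev.two_dvd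
    have : Fact (Nat.Prime 2) := ⟨Nat.prime_two⟩
    obtain ⟨d, hd2⟩ := exists_prime_orderOf_dvd_card' 2 h2dvd
    obtain ⟨g, hg, hgd⟩ := hker d.1 d.2
    have hd2' : (d : Γ ⧸ K₂) ^ 2 = 1 := by
      have : d ^ 2 = 1 := by rw [← hd2]; exact pow_orderOf_eq_one d
      have := congrArg (Subtype.val) this
      simpa using this
    rw [← hgd, ← QuotientGroup.mk_pow, QuotientGroup.eq_one_iff] at hd2'
    obtain ⟨-, m, hm⟩ := hd2'
    have hgK₂ : g ∈ K₂ := by
      refine ⟨hg, m + 1, ?_⟩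
      rw [pow_succ', pow_mul]; exact hm
    have hd1 : (d : Γ ⧸ K₂) = 1 := by
      rw [← hgd, QuotientGroup.eq_one_iff]; exact hgK₂
    have : d = 1 := Subtype.ext hd1
    rw [this, orderOf_one] at hd2
    omega
  have hbot := hodd (Γ ⧸ K₂) ρ hρsurj hρc hρd hρodd
  intro g
  have hg1 : (QuotientGroup.mk (g : Γ) : Γ ⧸ K₂) ∈ ρ.ker := by
    rw [MonoidHom.mem_ker, hρmk]; exact MonoidHom.mem_ker.mp g.2
  rw [hbot, Subgroup.mem_bot, QuotientGroup.eq_one_iff] at hg1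
  obtain ⟨-, m, hm⟩ := hg1
  exact ⟨m, Subtype.ext (by simpa using hm)⟩

end Cfsg.Agent.Lib.helper70.SM
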