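import Mathlib

set_option autoImplicit false

namespace Cfsg.Agent.Lib.helper70.SM

universe u

/-- Local copy of the Klein four lemma (W1). -/
theorem h19_a4_comm {G : Type*} [Group G] (a b : G) (ha : a ^ 3 = 1) (hb : b ^ 2 = 1)
    (hab : (a * b) ^ 3 = 1) : b * (a * b * a⁻¹) = (a * b * a⁻¹) * b := by
  have hbinv : b⁻¹ = b := by
    rw [inv_eq_iff_mul_eq_one, ← sq, hb]
  have hc2 : (a * b * a⁻¹) * (a * b * a⁻¹) = 1 := by
    have : (a * b * a⁻¹) * (a * b * a⁻¹) = a * (b * b) * a⁻¹ := by group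
    rw [this, ← sq, hb]; group
  have hcinv : (a * b * a⁻¹)⁻¹ = a * b * a⁻¹ := inv_eq_of_mul_eq_one_left hc2
  have hd2 : (a * (a * b * a⁻¹) * a⁻¹) * (a * (a * b * a⁻¹) * a⁻¹) = 1 := by
    have : (a * (a * b * a⁻¹) * a⁻¹) * (a * (a * b * a⁻¹) * a⁻¹)
        = a * ((a * b * a⁻¹) * (a * b * a⁻¹)) * a⁻¹ := by group
    rw [this, hc2]; group
  have hcdb : (a * b * a⁻¹) * (a * (a * b * a⁻¹) * a⁻¹) * b = 1 := by
    have hab' : (a * b) * (a * b) * (a * b) = 1 := by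
      rw [← hab, pow_succ, pow_succ, pow_one]
    have ha' : a * a * a = 1 := by
      rw [← ha, pow_succ, pow_succ, pow_one]
    have : (a * b * a⁻¹) * (a * (a * b * a⁻¹) * a⁻¹) * b
        = ((a * b) * (a * b) * (a * b)) * (b⁻¹ * (a * a * a)⁻¹ * b) := by group
    rw [this, hab', ha']; group
  have hd : a * (a * b * a⁻¹) * a⁻¹ = (a * b * a⁻¹)⁻¹ * b⁻¹ := by
    calc a * (a * b * a⁻¹) * a⁻¹
        = (a * b * a⁻¹)⁻¹ * ((a * b * a⁻¹) * (a * (a * b * a⁻¹) * a⁻¹) * b) * b⁻¹ := by group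
      _ = (a * b * a⁻¹)⁻¹ * b⁻¹ := by rw [hcdb, mul_one]
  rw [hd] at hd2
  calc b * (a * b * a⁻¹) = ((a * b * a⁻¹)⁻¹ * b⁻¹)⁻¹ := by group
    _ = (a * b * a⁻¹)⁻¹ * b⁻¹ := inv_eq_of_mul_eq_one_left hd2
    _ = (a * b * a⁻¹) * b := by rw [hcinv, hbinv]

/-- The word computation behind T2. -/
theorem h19_two_a4_core {G : Type*} [Group G] (b v w al e : G)
    (hα : ∀ g : G, g * al = al * g) (hε : ∀ g : G, g * e = e * g)
    (hbb : b * b = al) (hvv : v * v = al) (hww : w * w = al) (hvwb : v * w * b = 1)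
    (he : e = b * v * b⁻¹ * v⁻¹) : e * e = 1 ∧ al * al * al = e := by
  have h1 : b * v * b⁻¹ = e * v := by rw [he]; group
  have h2 : e * e * al = al := by
    have hA : (e * v) * (e * v) = e * e * al := by
      calc (e * v) * (e * v) = e * (v * e) * v := by group
        _ = e * (e * v) * v := by rw [hε v]
        _ = e * e * (v * v) := by group
        _ = e * e * al := by rw [hvv]
    have hB : (b * v * b⁻¹) * (b * v * b⁻¹) = al := by
      calc (b * v * b⁻¹) * (b * v * b⁻¹) = b * (v * v) * b⁻¹ := by group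
        _ = b * al * b⁻¹ := by rw [hvv]
        _ = al * b * b⁻¹ := by rw [hα b]
        _ = al := by group
    rw [← hA, ← h1, hB]
  have hee : e * e = 1 := by
    have h := h2
    calc e * e = (e * e * al) * al⁻¹ := by group
      _ = 1 := by rw [h]; group
  have h3 : w = v⁻¹ * b⁻¹ := by
    calc w = v⁻¹ * (v * w * b) * b⁻¹ := by group
      _ = v⁻¹ * b⁻¹ := by rw [hvwb, mul_one]
  have h4 : (b * v * (b * v))⁻¹ = al := by
    calc (b * v * (b * v))⁻¹ = (v⁻¹ * b⁻¹) * (v⁻¹ * b⁻¹) := by group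
      _ = al := by rw [← h3, hww]
  have h5 : b * v * (b * v) = e * al * al := by
    have h5a : b * v = e * v * b := by
      calc b * v = (b * v * b⁻¹) * b := by group
        _ = e * v * b := by rw [h1]
    calc b * v * (b * v) = (e * v * b) * (b * v) := by rw [← h5a]
      _ = e * v * (b * b) * v := by group
      _ = e * (v * al) * v := by rw [hbb]; group
      _ = e * (al * v) * v := by rw [hα v]
      _ = e * al * (v * v) := by group
      _ = e * al * al := by rw [hvv]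
  refine ⟨hee, ?_⟩
  rw [h5] at h4
  have h6 : e * al * al * al = 1 := by
    calc e * al * al * al = (e * al * al) * (e * al * al)⁻¹ := by rw [h4]
      _ = 1 := mul_inv_cancel _
  have heinv : e⁻¹ = e := inv_eq_of_mul_eq_one_left hee
  calc al * al * al = e⁻¹ * (e * al * al * al) := by group
    _ = e := by rw [h6, mul_one, heinv]

/-- T2 (the `A₄` computation, 2-group kernel). -/
theorem h19_two_a4 {Γ : Type u} [Group Γ] [Finite Γ] {P : Type*} [Group P] (π : Γ →* P)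
    (hc : π.ker ≤ Subgroup.center Γ) (h2 : IsPGroup 2 π.ker)
    (a b : Γ) (ha : a ^ 3 = 1) (hb : π b ^ 2 = 1) (hab : (a * b) ^ 3 = 1) :
    (b ^ 2) ^ 2 = 1 ∧ b ^ 2 = b * (a * b * a⁻¹) * b⁻¹ * (a * b * a⁻¹)⁻¹ := by
  have hαK : b ^ 2 ∈ π.ker := by rw [MonoidHom.mem_ker, map_pow, hb]
  have hα : ∀ g : Γ, g * b ^ 2 = b ^ 2 * g := Subgroup.mem_center_iff.mp (hc hαK)
  have hεK : b * (a * b * a⁻¹) * b⁻¹ * (a * b * a⁻¹)⁻¹ ∈ π.ker := by
    rw [MonoidHom.mem_ker]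
    have hA : π a ^ 3 = 1 := by rw [← map_pow, ha, map_one]
    have hAB : (π a * π b) ^ 3 = 1 := by rw [← map_mul, ← map_pow, hab, map_one]
    have hW := h19_a4_comm (π a) (π b) hA hb hAB
    simp only [map_mul, map_inv]
    rw [hW]; group
  have hε : ∀ g : Γ, g * (b * (a * b * a⁻¹) * b⁻¹ * (a * b * a⁻¹)⁻¹)
      = (b * (a * b * a⁻¹) * b⁻¹ * (a * b * a⁻¹)⁻¹) * g :=
    Subgroup.mem_center_iff.mp (hc hεK)
  have hbb : b * b = b ^ 2 := (sq b).symm
  have hvv : (a * b * a⁻¹) * (a * b * a⁻¹) = b ^ 2 := by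
    calc (a * b * a⁻¹) * (a * b * a⁻¹) = a * (b * b) * a⁻¹ := by group
      _ = a * b ^ 2 * a⁻¹ := by rw [hbb]
      _ = b ^ 2 * a * a⁻¹ := by rw [hα a]
      _ = b ^ 2 := by group
  have hww : (a * (a * b * a⁻¹) * a⁻¹) * (a * (a * b * a⁻¹) * a⁻¹) = b ^ 2 := by
    calc (a * (a * b * a⁻¹) * a⁻¹) * (a * (a * b * a⁻¹) * a⁻¹)
        = a * ((a * b * a⁻¹) * (a * b * a⁻¹)) * a⁻¹ := by group
      _ = a * b ^ 2 * a⁻¹ := by rw [hvv]
      _ = b ^ 2 * a * a⁻¹ := by rw [hα a]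
      _ = b ^ 2 := by group
  have hvwb : (a * b * a⁻¹) * (a * (a * b * a⁻¹) * a⁻¹) * b = 1 := by
    have hab' : (a * b) * (a * b) * (a * b) = 1 := by
      rw [← hab, pow_succ, pow_succ, pow_one]
    have ha' : a * a * a = 1 := by
      rw [← ha, pow_succ, pow_succ, pow_one]
    have : (a * b * a⁻¹) * (a * (a * b * a⁻¹) * a⁻¹) * b
        = ((a * b) * (a * b) * (a * b)) * (b⁻¹ * (a * a * a)⁻¹ * b) := by group
    rw [this, hab', ha']; group
  obtain ⟨hee, h3⟩ := h19_two_a4_core b (a * b * a⁻¹) (a * (a * b * a⁻¹) * a⁻¹) (b ^ 2) _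
    hα hε hbb hvv hww hvwb rfl
  have h6 : (b ^ 2) ^ 6 = 1 := by
    have : (b ^ 2) ^ 6 = (b ^ 2 * b ^ 2 * b ^ 2) * (b ^ 2 * b ^ 2 * b ^ 2) := by group
    rw [this, h3, hee]
  obtain ⟨m, hm⟩ := h2 ⟨b ^ 2, hαK⟩
  have hm' : (b ^ 2) ^ (2 ^ m) = 1 := by
    have := congrArg Subtype.val hm
    simpa using this
  have hord6 : orderOf (b ^ 2) ∣ 6 := orderOf_dvd_of_pow_eq_one h6
  have hord2 : orderOf (b ^ 2) ∣ 2 ^ m := orderOf_dvd_of_pow_eq_one hm'
  have hα2 : (b ^ 2) ^ 2 = 1 := by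
    obtain ⟨j, hj, hjo⟩ := (Nat.dvd_prime_pow Nat.prime_two).mp hord2
    have hj1 : j ≤ 1 := by
      by_contra hcon
      rw [not_le] at hcon
      have h22 : 2 ^ 2 ∣ 2 ^ j := pow_dvd_pow 2 hcon
      rw [← hjo] at h22
      have h46 : 2 ^ 2 ∣ 6 := h22.trans hord6
      norm_num at h46
    have hdvd : orderOf (b ^ 2) ∣ 2 := by
      rw [hjo]; interval_cases j <;> norm_num
    exact orderOf_dvd_iff_pow_eq_one.mp hdvd
  refine ⟨hα2, ?_⟩
  calc b ^ 2 = (b ^ 2) ^ 2 * b ^ 2 := by rw [hα2, one_mul]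
    _ = b ^ 2 * b ^ 2 * b ^ 2 := by group
    _ = _ := h3

end Cfsg.Agent.Lib.helper70.SM
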