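import Mathlib
import Cfsg.Agent.Lib.helper69.SNDefs
import Cfsg.Agent.Lib.helper69.SNStruct
import Cfsg.Agent.S0117

/-!
# S4073 piece ODD-SYL (race copy, helper19)
-/

set_option autoImplicit false

namespace Cfsg.Agent.Lib.helper19.SNG

open Cfsg.Agent.Lib.helper69.SNG

universe u

/-- A finite group with an abelian normal subgroup `A` of index `p` has a normal
`p`-complement. -/
theorem h19_npc_of_comm_index {K : Type u} [Group K] [Finite K] (p : ℕ) [Fact p.Prime]
    (A : Subgroup K) [A.Normal] (hA : IsMulCommutative A) (hAi : A.index = p) :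
    Cfsg.HasNormalPComplement p K := by
  classical
  have hpp : p.Prime := Fact.out
  have hAcomm : ∀ a b : A, a * b = b * a := fun a b => hA.is_comm.comm a b
  set n := Nat.card A with hn
  have hn0 : n ≠ 0 := Nat.card_pos.ne'
  set m := ordCompl[p] n with hm
  have hpm : ¬ p ∣ m := Nat.not_dvd_ordCompl hpp hn0
  have hnm : ordProj[p] n * m = n := Nat.ordProj_mul_ordCompl_eq_self n p
  -- the `m`-th power map on `A`
  let f : A →* A := MonoidHom.mk' (fun x : A => x ^ m) (fun a b => (show Commute a b from hAcomm a b).mul_pow m)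
  have hf : ∀ x : A, f x = x ^ m := fun x => rfl
  -- the range is a `p`-group
  have hrange : IsPGroup p f.range := by
    rintro ⟨y, x, rfl⟩
    refine ⟨n.factorization p, Subtype.ext ?_⟩
    rw [Subgroup.coe_pow, Subgroup.coe_one]
    show (f x) ^ (p ^ n.factorization p) = 1
    rw [hf, ← pow_mul, mul_comm, hnm, hn]
    exact pow_card_eq_one'
  obtain ⟨b, hb⟩ := IsPGroup.iff_card.mp hrange
  have hkeridx : f.ker.index = p ^ b := by rw [Subgroup.index_ker, hb]
  -- the kernel has order prime to `p`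
  have hkercard : ¬ p ∣ Nat.card f.ker := by
    intro hdvd
    obtain ⟨x, hx⟩ := exists_prime_orderOf_dvd_card' p hdvd
    have hx1 : (x : A) ^ m = 1 := by
      have := x.2
      rw [MonoidHom.mem_ker, hf] at this
      exact this
    have hx2 : x ^ m = 1 := Subtype.ext (by rw [Subgroup.coe_pow, hx1, Subgroup.coe_one])
    have := orderOf_dvd_of_pow_eq_one hx2
    rw [hx] at this
    exact hpm this
  -- the complement
  set O : Subgroup K := f.ker.map A.subtype with hO
  have hOmem : ∀ x : K, x ∈ O ↔ x ∈ A ∧ x ^ m = 1 := by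
    intro x
    constructor
    · rintro ⟨a, ha, rfl⟩
      refine ⟨a.2, ?_⟩
      rw [SetLike.mem_coe, MonoidHom.mem_ker, hf] at ha
      have := congrArg Subtype.val ha
      simpa using this
    · rintro ⟨hxA, hxm⟩
      refine ⟨⟨x, hxA⟩, ?_, rfl⟩
      rw [SetLike.mem_coe, MonoidHom.mem_ker, hf]
      exact Subtype.ext (by simpa using hxm)
  have hOn : O.Normal := by
    refine ⟨fun x hx g => ?_⟩
    rw [hOmem] at hx ⊢
    refine ⟨‹A.Normal›.conj_mem x hx.1 g, ?_⟩
    rw [conj_pow, hx.2, mul_one, mul_inv_cancel]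
  have hOcard : Nat.card O = Nat.card f.ker :=
    Nat.card_congr (Subgroup.equivMapOfInjective f.ker A.subtype A.subtype_injective).toEquiv.symm
  have hOidx : O.index = p ^ (b + 1) := by
    rw [hO, Subgroup.index_map_subtype, hkeridx, hAi, pow_succ]
  have hOp : ¬ p ∣ Nat.card O := by rw [hOcard]; exact hkercard
  -- a Sylow subgroup
  obtain ⟨P₁⟩ : Nonempty (Sylow p K) := inferInstance
  obtain ⟨c, hc⟩ := IsPGroup.iff_card.mp P₁.isPGroup'
  have hcopO : Nat.Coprime (Nat.card O) p := (Nat.Coprime.symm ((Nat.Prime.coprime_iff_not_dvd hpp).mpr hOp))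
  have hK1 : Nat.card O * p ^ (b + 1) = Nat.card K := by
    rw [← hOidx]; exact Subgroup.card_mul_index O
  have hK2 : p ^ c * (P₁ : Subgroup K).index = Nat.card K := by
    rw [← hc]; exact Subgroup.card_mul_index _
  have hidx : ¬ p ∣ (P₁ : Subgroup K).index := P₁.not_dvd_index
  have hcopI : Nat.Coprime (P₁ : Subgroup K).index p :=
    (Nat.Coprime.symm ((Nat.Prime.coprime_iff_not_dvd hpp).mpr hidx))
  have hbc : p ^ (b + 1) = p ^ c := by
    apply Nat.dvd_antisymm
    · have h1 : p ^ (b + 1) ∣ p ^ c * (P₁ : Subgroup K).index := by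
        rw [hK2, ← hK1]; exact dvd_mul_left _ _
      exact (Nat.Coprime.dvd_mul_right (Nat.Coprime.pow_left _ hcopI.symm)).mp h1
    · have h1 : p ^ c ∣ Nat.card O * p ^ (b + 1) := by
        rw [hK1, ← hK2]; exact dvd_mul_right _ _
      exact (Nat.Coprime.dvd_mul_left (Nat.Coprime.pow_left _ hcopO.symm)).mp h1
  refine ⟨P₁, O, hOn, ?_⟩
  apply Subgroup.isComplement'_of_coprime
  · rw [hc, ← hbc, hK1]
  · rw [hc]; exact Nat.Coprime.pow_right _ hcopO

/-- **[ODD-SYL]** -/
theorem sn_odd_sylow_comm {G : Type u} [Group G] [Finite G] [IsSimpleGroup G]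
    (hna : ¬ IsMulCommutative G) (h : SN G) (hodd : Odd (Nat.card G))
    (hsub : ∀ K : Subgroup G, K ≠ ⊤ → Group.IsSolvable K)
    (p : ℕ) [Fact p.Prime] (P : Sylow p G) : IsMulCommutative P := by
  classical
  by_contra hP
  have hpp : p.Prime := Fact.out
  -- `G` is not a `p`-group
  have hGp : ¬ IsPGroup p G := by
    intro hGp
    have hnil : Group.IsNilpotent G := hGp.isNilpotent
    have hsol : Group.IsSolvable G := inferInstance
    exact hna (comm_iff_top.mpr (IsSimpleGroup.comm_iff_isSolvable.mpr hsol))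
  have hPne : (P : Subgroup G) ≠ ⊥ := by
    intro hbot
    apply hP
    rw [comm_iff]
    intro a ha b hb
    rw [hbot, Subgroup.mem_bot] at ha hb
    rw [ha, hb]
  have hPtop : (P : Subgroup G) ≠ ⊤ := by
    intro htop
    apply hGp
    intro g
    have hg : g ∈ (P : Subgroup G) := by rw [htop]; exact Subgroup.mem_top g
    obtain ⟨k, hk⟩ := P.isPGroup' ⟨g, hg⟩
    exact ⟨k, by simpa using congrArg Subtype.val hk⟩
  -- `p ≠ 2`
  have hp2 : p ≠ 2 := by
    intro hp2
    have hcard : Nat.card (P : Subgroup G) ∣ Nat.card G := Subgroup.card_subgroup_dvd_card _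
    obtain ⟨n, hn⟩ := IsPGroup.iff_card.mp P.isPGroup'
    have hn0 : n ≠ 0 := by
      rintro rfl
      apply hPne
      rw [pow_zero] at hn
      exact Subgroup.card_eq_one.mp hn
    have h2 : 2 ∣ Nat.card (P : Subgroup G) := by
      rw [hn, hp2]; exact dvd_pow_self 2 hn0
    exact (Nat.not_even_iff_odd.mpr hodd) (even_iff_two_dvd.mpr (h2.trans hcard))
  -- `W = Z(J(P))`
  have hWP : Cfsg.centerThompsonOf p (P : Subgroup G) ≤ P := by
    rw [Cfsg.Agent.Lib.helper67.centerThompsonOf_eq_zJ]
    exact Cfsg.Agent.Lib.helper67.zJ_le p _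
  have hWne : Cfsg.centerThompsonOf p (P : Subgroup G) ≠ ⊥ := by
    rw [← Cfsg.Agent.Lib.helper67.inducedFunctor_zjeFunctor]
    unfold Cfsg.inducedFunctor
    have : Nontrivial ↥(P : Subgroup G) := (Subgroup.nontrivial_iff_ne_bot _).mpr hPne
    intro hb
    rw [Subgroup.map_eq_bot_iff_of_injective _ (Subgroup.subtype_injective _)] at hb
    exact Cfsg.Agent.Lib.helper67.zjeFunctor_ne_bot p ↥(P : Subgroup G) P.isPGroup' hb
  have hPK : (P : Subgroup G) ≤
      Subgroup.normalizer (Cfsg.centerThompsonOf p (P : Subgroup G) : Set G) := by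
    refine le_trans Subgroup.le_normalizer ?_
    rw [Cfsg.Agent.Lib.helper67.centerThompsonOf_eq_zJ]
    exact Cfsg.Agent.Lib.helper67.normalizer_le_normalizer_zJ p _
  have hKne : Subgroup.normalizer (Cfsg.centerThompsonOf p (P : Subgroup G) : Set G) ≠ ⊤ := by
    intro hKtop
    have hWn : (Cfsg.centerThompsonOf p (P : Subgroup G)).Normal :=
      Subgroup.normalizer_eq_top_iff.mp hKtop
    rcases hWn.eq_bot_or_eq_top with hb | ht
    · exact hWne hb
    · exact hPtop (top_le_iff.mp (ht ▸ hWP))
  -- the normalizer `K` has a normal `p`-complement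
  have hKnpc : Cfsg.HasNormalPComplement p
      (Subgroup.normalizer (Cfsg.centerThompsonOf p (P : Subgroup G) : Set G)) := by
    generalize Subgroup.normalizer (Cfsg.centerThompsonOf p (P : Subgroup G) : Set G) = K
      at hPK hKne
    have hKsol : Group.IsSolvable K := hsub K hKne
    have hKsn : SN K := h.subgroup K
    have hKna : ¬ IsMulCommutative K := by
      intro hc
      apply hP
      rw [comm_iff_top] at hc
      rw [comm_iff]
      intro a ha b hb
      have := hc ⟨a, hPK ha⟩ ⟨b, hPK hb⟩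
      exact congrArg Subtype.val this
    obtain ⟨A, hAn, hAc, hAi⟩ := sn_solvable_index hKsn hKsol hKna
    have := hAn
    by_cases hℓ : A.index = p
    · exact h19_npc_of_comm_index p A hAc hℓ
    · exfalso
      apply hP
      have hcop : Nat.Coprime A.index p := (Nat.coprime_primes hAi hpp).mpr hℓ
      have hmem : ∀ a (ha : a ∈ (P : Subgroup G)), (⟨a, hPK ha⟩ : K) ∈ A := by
        intro a ha
        obtain ⟨k, hk⟩ := P.isPGroup' ⟨a, ha⟩
        have hk' : (⟨a, hPK ha⟩ : K) ^ (p ^ k) = 1 := by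
          apply Subtype.ext
          have := congrArg Subtype.val hk
          simpa using this
        have h1 : ((⟨a, hPK ha⟩ : K) : K ⧸ A) ^ A.index = 1 := by
          rw [← QuotientGroup.mk_pow, QuotientGroup.eq_one_iff]
          exact Subgroup.pow_index_mem A _
        have h2 : ((⟨a, hPK ha⟩ : K) : K ⧸ A) ^ (p ^ k) = 1 := by
          rw [← QuotientGroup.mk_pow, hk', QuotientGroup.mk_one]
        have h3 := pow_gcd_eq_one.mpr ⟨h1, h2⟩
        rw [Nat.Coprime.pow_right k hcop, pow_one] at h3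
        exact (QuotientGroup.eq_one_iff _).mp h3
      rw [comm_iff]
      intro a ha b hb
      have := (comm_iff A).mp hAc _ (hmem a ha) _ (hmem b hb)
      exact congrArg Subtype.val this
  -- Glauberman–Thompson
  have hGnpc : Cfsg.HasNormalPComplement p G := (Cfsg.Agent.S0117.result hp2 P).mpr hKnpc
  obtain ⟨P₂, N, hNn, hNc⟩ := hGnpc
  have hcardP : Nat.card (P₂ : Subgroup G) = Nat.card (P : Subgroup G) := by
    rw [Sylow.card_eq_multiplicity, Sylow.card_eq_multiplicity]
  rcases hNn.eq_bot_or_eq_top with hb | ht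
  · rw [hb, Subgroup.isComplement'_bot_left] at hNc
    apply hPtop
    apply Subgroup.eq_top_of_card_eq
    rw [← hcardP, hNc, Subgroup.card_top]
  · rw [ht, Subgroup.isComplement'_top_left] at hNc
    apply hPne
    rw [← Subgroup.card_eq_one, ← hcardP, hNc, Subgroup.card_bot]

end Cfsg.Agent.Lib.helper19.SNG
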