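import Mathlib
import Cfsg.Agent.Lib.helper24.SffDefs

/-!
# S5965 piece DIAG, core form (helper19): the diagonal criterion with CRIT as a hypothesis
-/

set_option autoImplicit false

namespace Cfsg.Agent.Lib.helper24

open Module Matrix

/-- Kernel dimension of `diag(d) - μ`. -/
theorem h19_finrank_ker_diag {F : Type*} [Field F] [DecidableEq F] {n : ℕ} (d : Fin n → F)
    (μ : F) :
    Module.finrank F (LinearMap.ker (Matrix.toLin' (Matrix.diagonal d) -
      μ • (1 : Module.End F (Fin n → F)))) =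
      (Finset.univ.filter (fun j => d j = μ)).card := by
  have h1 : Matrix.toLin' (Matrix.diagonal d) - μ • (1 : Module.End F (Fin n → F)) =
      Matrix.mulVecLin (Matrix.diagonal (fun j => d j - μ)) := by
    apply LinearMap.ext
    intro v
    funext i
    simp [Matrix.mulVec_diagonal, sub_mul]
  rw [h1]
  have h2 := LinearMap.finrank_range_add_finrank_ker
    (Matrix.mulVecLin (Matrix.diagonal (fun j => d j - μ)))
  have h3 : Module.finrank F (LinearMap.range
      (Matrix.mulVecLin (Matrix.diagonal (fun j => d j - μ)))) =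
      Fintype.card {i // d i - μ ≠ 0} := Matrix.rank_diagonal (fun j => d j - μ)
  rw [h3, Module.finrank_fin_fun, Fintype.card_subtype] at h2
  have h4 := Finset.card_filter_add_card_filter_not (s := (Finset.univ : Finset (Fin n)))
    (fun j => d j = μ)
  rw [Finset.card_univ, Fintype.card_fin] at h4
  have h5 : (Finset.univ.filter (fun i : Fin n => d i - μ ≠ 0)) =
      (Finset.univ.filter (fun i : Fin n => ¬ d i = μ)) := by
    apply Finset.filter_congr
    intro i _
    rw [Ne, sub_eq_zero]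
  rw [h5] at h2
  omega

/-- DIAG, with CRIT as a hypothesis. -/
theorem h19_sff_diag_crit_of {F : Type*} [Field F] [Fintype F] (F₀ : Subfield F) {n : ℕ}
    (hcrit : ∀ (x P M₀ : Matrix (Fin n) (Fin n) F) (σ : F), P.det ≠ 0 → σ ≠ 0 →
      (∀ i j, M₀ i j ∈ F₀) → x * P = P * (σ • M₀) → ∀ μ : F,
      Module.finrank F (LinearMap.ker (Matrix.toLin' x - μ • 1)) =
        Module.finrank F
          (LinearMap.ker (Matrix.toLin' x - (σ * (μ / σ) ^ Nat.card F₀) • 1)))
    (r : ℕ) [Fact r.Prime] (ζ : F) (hζ : orderOf ζ = r) (a : Fin n → ZMod r) (w : F) (hw : w ≠ 0)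
    (h : SffWeakConj F₀ (w • Matrix.diagonal (fun j => ζ ^ (a j).val))) :
    ∃ c : ZMod r, ∀ b : ZMod r, (Finset.univ.filter (fun j => a j = b)).card =
      (Finset.univ.filter (fun j => a j = (Nat.card F₀ : ZMod r) * b + c)).card := by
  classical
  obtain ⟨P, M₀, σ, hP, hσ, hM₀, hx⟩ := h
  have hr : r.Prime := Fact.out
  have : NeZero r := ⟨hr.ne_zero⟩
  have hprim : IsPrimitiveRoot ζ r := hζ ▸ IsPrimitiveRoot.orderOf ζ
  have hζr : ζ ^ r = 1 := hprim.pow_eq_one
  rcases Nat.eq_zero_or_pos n with hn | hn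
  · subst hn
    exact ⟨0, fun b => by simp⟩
  -- the diagonal form
  have hxd : w • Matrix.diagonal (fun j => ζ ^ (a j).val) =
      Matrix.diagonal (fun j => w * ζ ^ (a j).val) := by
    ext i j
    by_cases hij : i = j
    · subst hij; simp
    · simp [hij]
  rw [hxd] at hx
  -- `x ^ r = w ^ r`
  have hxr : (Matrix.diagonal (fun j => w * ζ ^ (a j).val)) ^ r =
      (w ^ r) • (1 : Matrix (Fin n) (Fin n) F) := by
    rw [Matrix.diagonal_pow]
    ext i j
    by_cases hij : i = j
    · subst hij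
      simp only [Matrix.diagonal_apply_eq, Pi.pow_apply, Matrix.smul_apply, Matrix.one_apply_eq,
        smul_eq_mul, mul_one]
      rw [mul_pow, ← pow_mul, mul_comm (a i).val r, pow_mul, hζr, one_pow, mul_one]
    · simp [hij]
  have hpow : ∀ k : ℕ, (Matrix.diagonal (fun j => w * ζ ^ (a j).val)) ^ k * P =
      P * (σ • M₀) ^ k := by
    intro k
    induction k with
    | zero => simp
    | succ k ih => rw [pow_succ, mul_assoc, hx, ← mul_assoc, ih, mul_assoc, ← pow_succ]
  have hPu : IsUnit P.det := isUnit_iff_ne_zero.mpr hP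
  have hM₀r : M₀ ^ r = ((w / σ) ^ r) • (1 : Matrix (Fin n) (Fin n) F) := by
    have h1 := hpow r
    rw [hxr, smul_pow] at h1
    have h2 : P⁻¹ * ((w ^ r • (1 : Matrix (Fin n) (Fin n) F)) * P) =
        P⁻¹ * (P * (σ ^ r • M₀ ^ r)) := by rw [h1]
    rw [← mul_assoc P⁻¹ P, Matrix.nonsing_inv_mul P hPu, one_mul, Matrix.smul_mul, one_mul,
      Matrix.mul_smul, Matrix.nonsing_inv_mul P hPu] at h2
    have h3 : M₀ ^ r = (σ ^ r)⁻¹ • (w ^ r • (1 : Matrix (Fin n) (Fin n) F)) := by
      rw [h2, smul_smul, inv_mul_cancel₀ (pow_ne_zero r hσ), one_smul]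
    rw [h3, smul_smul, div_pow, div_eq_inv_mul]
  have hmem : ∀ k : ℕ, ∀ i j, (M₀ ^ k) i j ∈ F₀ := by
    intro k
    induction k with
    | zero =>
      intro i j
      rw [pow_zero, Matrix.one_apply]
      split_ifs
      · exact F₀.one_mem
      · exact F₀.zero_mem
    | succ k ih =>
      intro i j
      rw [pow_succ, Matrix.mul_apply]
      exact sum_mem (fun l _ => F₀.mul_mem (ih i l) (hM₀ l j))
  have hτF₀ : (w / σ) ^ r ∈ F₀ := by
    have h1 := hmem r ⟨0, hn⟩ ⟨0, hn⟩
    rw [hM₀r] at h1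
    simpa using h1
  have hfrob : ∀ y ∈ F₀, y ^ Nat.card F₀ = y := by
    intro y hy
    have : Fintype F₀ := Fintype.ofFinite F₀
    have h1 := FiniteField.pow_card (⟨y, hy⟩ : F₀)
    rw [← Nat.card_eq_fintype_card] at h1
    have h2 := congrArg Subtype.val h1
    simpa using h2
  have hτ0 : w / σ ≠ 0 := div_ne_zero hw hσ
  have hq₀pos : 0 < Nat.card F₀ := Nat.card_pos
  have hroot : ((w / σ) ^ (Nat.card F₀ - 1)) ^ r = 1 := by
    have h1 := hfrob _ hτF₀
    have h2 : (w / σ) ^ r * ((w / σ) ^ (Nat.card F₀ - 1)) ^ r = (w / σ) ^ r * 1 := by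
      rw [mul_one, ← pow_mul, ← pow_add]
      conv_rhs => rw [← h1]
      rw [← pow_mul]
      congr 1
      have : Nat.card F₀ = (Nat.card F₀ - 1) + 1 := by omega
      conv_rhs => rw [this]
      ring
    exact mul_left_cancel₀ (pow_ne_zero r hτ0) h2
  obtain ⟨i, -, hζi⟩ := hprim.eq_pow_of_pow_eq_one hroot
  refine ⟨(i : ZMod r), fun b => ?_⟩
  -- powers of ζ
  have hζinj : ∀ u v : ZMod r, ζ ^ u.val = ζ ^ v.val ↔ u = v := by
    intro u v
    constructor
    · intro huv
      have hu : u.val < r := ZMod.val_lt u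
      have hv : v.val < r := ZMod.val_lt v
      exact ZMod.val_injective r (hprim.pow_inj hu hv huv)
    · rintro rfl; rfl
  have hval : ζ ^ ((Nat.card F₀ : ZMod r) * b + (i : ZMod r)).val =
      ζ ^ (Nat.card F₀ * b.val + i) := by
    have h1 : ((Nat.card F₀ : ZMod r) * b + (i : ZMod r)) =
        ((Nat.card F₀ * b.val + i : ℕ) : ZMod r) := by
      push_cast
      rw [ZMod.natCast_zmod_val]
    have hmod : ∀ m : ℕ, ζ ^ (m % r) = ζ ^ m := by
      intro m
      conv_rhs => rw [← Nat.mod_add_div m r]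
      rw [pow_add, pow_mul, hζr, one_pow, mul_one]
    rw [h1, ZMod.val_natCast, hmod]
  -- the three steps
  have hA : (Finset.univ.filter (fun j => a j = b)).card =
      Module.finrank F (LinearMap.ker (Matrix.toLin'
        (Matrix.diagonal (fun j => w * ζ ^ (a j).val)) - (w * ζ ^ b.val) • 1)) := by
    rw [h19_finrank_ker_diag]
    congr 1
    apply Finset.filter_congr
    intro j _
    rw [mul_right_inj' hw, hζinj]
  have hB := hcrit _ P M₀ σ hP hσ hM₀ hx (w * ζ ^ b.val)
  have hC : σ * (w * ζ ^ b.val / σ) ^ Nat.card F₀ =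
      w * ζ ^ ((Nat.card F₀ : ZMod r) * b + (i : ZMod r)).val := by
    rw [hval]
    have h1 : w * ζ ^ b.val / σ = (w / σ) * ζ ^ b.val := by field_simp
    have h2 : (w / σ) ^ Nat.card F₀ = (w / σ) * ζ ^ i := by
      rw [hζi]
      have : Nat.card F₀ = 1 + (Nat.card F₀ - 1) := by omega
      conv_lhs => rw [this]
      rw [pow_add, pow_one]
    rw [h1, mul_pow, h2, ← pow_mul, pow_add, mul_comm b.val (Nat.card F₀)]
    field_simp
  have hD : Module.finrank F (LinearMap.ker (Matrix.toLin'
        (Matrix.diagonal (fun j => w * ζ ^ (a j).val)) -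
          (w * ζ ^ ((Nat.card F₀ : ZMod r) * b + (i : ZMod r)).val) • 1)) =
      (Finset.univ.filter (fun j => a j = (Nat.card F₀ : ZMod r) * b + (i : ZMod r))).card := by
    rw [h19_finrank_ker_diag]
    congr 1
    apply Finset.filter_congr
    intro j _
    rw [mul_right_inj' hw, hζinj]
  rw [hA, hB, hC, hD]

end Cfsg.Agent.Lib.helper24
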