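import Mathlib
import Cfsg.Agent.Lib.helper24.SffDefs
import Cfsg.Agent.Lib.helper32.SffCRIT
import Cfsg.Agent.Lib.helper19.SffDIAGcore

/-!
# S5965 piece DIAG (helper19): the diagonal criterion
-/

set_option autoImplicit false

namespace Cfsg.Agent.Lib.helper24

open Module Matrix

/-- DIAG -/
theorem sff_diag_crit {F : Type*} [Field F] [Fintype F] (F₀ : Subfield F) {n : ℕ} (r : ℕ)
    [Fact r.Prime] (ζ : F) (hζ : orderOf ζ = r) (a : Fin n → ZMod r) (w : F) (hw : w ≠ 0)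
    (h : SffWeakConj F₀ (w • Matrix.diagonal (fun j => ζ ^ (a j).val))) :
    ∃ c : ZMod r, ∀ b : ZMod r, (Finset.univ.filter (fun j => a j = b)).card =
      (Finset.univ.filter (fun j => a j = (Nat.card F₀ : ZMod r) * b + c)).card :=
  h19_sff_diag_crit_of F₀ (fun x P M₀ σ hP hσ hM₀ hx μ => sff_crit F₀ x P M₀ σ hP hσ hM₀ hx μ)
    r ζ hζ a w hw h

end Cfsg.Agent.Lib.helper24
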