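import Mathlib

/-!
# Groups whose derived subgroup is the unique minimal normal subgroup (helper19)

`structure_of_min_nonabelian`: (Isaacs, Lemma 12.3, in the form needed for Theorem 12.15) if `X`
is a finite nonabelian group whose derived subgroup `X'` is abelian and contained in every
nontrivial normal subgroup, then either `X` is a `q`-group, or `X'` is a `q`-group of index prime
to `q` on which every element outside `X'` acts without nontrivial fixed points.
-/

set_option autoImplicit false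
set_option linter.style.haveILetI false
set_option linter.unusedSectionVars false

namespace Cfsg.Agent.Lib.helper19

open scoped commutatorElement

theorem comm_mem_commutator {X : Type*} [Group X] (a b : X) :
    a * b * a⁻¹ * b⁻¹ ∈ commutator X := by
  have h : ⁅a, b⁆ ∈ commutator X := by
    rw [commutator_def]
    exact Subgroup.commutator_mem_commutator (Subgroup.mem_top a) (Subgroup.mem_top b)
  rwa [commutatorElement_def] at h

/-- If `c = [x, y]` commutes with `x` and `y`, then `x ^ n * y = c ^ n * y * x ^ n`. -/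
theorem pow_mul_eq_of_central_comm {X : Type*} [Group X] (x y : X)
    (hx : x * (x * y * x⁻¹ * y⁻¹) = (x * y * x⁻¹ * y⁻¹) * x) (n : ℕ) :
    x ^ n * y = (x * y * x⁻¹ * y⁻¹) ^ n * y * x ^ n := by
  induction n with
  | zero => simp
  | succ n ih =>
    have h1 : x * (x * y * x⁻¹ * y⁻¹) ^ n = (x * y * x⁻¹ * y⁻¹) ^ n * x :=
      (Commute.pow_right (show Commute x (x * y * x⁻¹ * y⁻¹) from hx) n).eq
    calc x ^ (n + 1) * y = x * (x ^ n * y) := by rw [pow_succ']; group
      _ = x * ((x * y * x⁻¹ * y⁻¹) ^ n * y * x ^ n) := by rw [ih]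
      _ = (x * (x * y * x⁻¹ * y⁻¹) ^ n) * y * x ^ n := by group
      _ = (x * y * x⁻¹ * y⁻¹) ^ n * x * y * x ^ n := by rw [h1]
      _ = (x * y * x⁻¹ * y⁻¹) ^ n * ((x * y * x⁻¹ * y⁻¹) * y * x) * x ^ n := by group
      _ = (x * y * x⁻¹ * y⁻¹) ^ (n + 1) * y * x ^ (n + 1) := by
        rw [pow_succ, pow_succ]; group

/-- **Isaacs, Lemma 12.3** (in the form used for 12.15). -/
theorem structure_of_min_nonabelian {X : Type*} [Group X] [Finite X]
    (hna : ∃ a b : X, a * b ≠ b * a)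
    (hDab : ∀ a ∈ commutator X, ∀ b ∈ commutator X, a * b = b * a)
    (hmin : ∀ M : Subgroup X, M.Normal → M ≠ ⊥ → commutator X ≤ M) :
    ∃ q : ℕ, q.Prime ∧ (IsPGroup q X ∨
      (IsPGroup q (commutator X) ∧ ¬ q ∣ (commutator X).index ∧
        ∀ x : X, x ∉ commutator X → ∀ d ∈ commutator X, x * d = d * x → d = 1)) := by
  classical
  obtain ⟨D, hD⟩ : ∃ D : Subgroup X, D = commutator X := ⟨_, rfl⟩
  rw [← hD] at hDab hmin ⊢
  have hDn : D.Normal := by rw [hD]; infer_instance
  have hcomm : ∀ a b : X, a * b * a⁻¹ * b⁻¹ ∈ D := fun a b => by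
    rw [hD]; exact comm_mem_commutator a b
  have hDne : D ≠ ⊥ := by
    intro h
    obtain ⟨a, b, hab⟩ := hna
    apply hab
    have h1 := hcomm a b
    rw [h, Subgroup.mem_bot] at h1
    have h2 : a * b = (a * b * a⁻¹ * b⁻¹) * (b * a) := by group
    rw [h2, h1, one_mul]
  obtain ⟨d₀', hd₀'⟩ := (Subgroup.ne_bot_iff_exists_ne_one).mp hDne
  obtain ⟨d₀, hd₀D, hd₀1⟩ : ∃ d ∈ D, d ≠ 1 :=
    ⟨d₀'.1, d₀'.2, fun h => hd₀' (Subtype.ext h)⟩
  -- a prime `q` and an element of order `q` in `D`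
  have ho1 : orderOf d₀ ≠ 1 := fun h => hd₀1 (orderOf_eq_one_iff.mp h)
  obtain ⟨q, hq, hqd⟩ := Nat.exists_prime_and_dvd ho1
  haveI : Fact q.Prime := ⟨hq⟩
  obtain ⟨t, ht⟩ := hqd
  obtain ⟨d₁, hd₁def⟩ : ∃ d₁ : X, d₁ = d₀ ^ t := ⟨_, rfl⟩
  have hd₁D : d₁ ∈ D := by rw [hd₁def]; exact D.pow_mem hd₀D t
  have hd₁q : d₁ ^ q = 1 := by
    rw [hd₁def, ← pow_mul, mul_comm, ← ht, pow_orderOf_eq_one]
  have hd₁1 : d₁ ≠ 1 := by
    intro h
    rw [hd₁def] at h
    have h1 := orderOf_dvd_of_pow_eq_one h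
    rw [ht] at h1
    have h2 : 0 < t := by
      rcases Nat.eq_zero_or_pos t with h0 | h0
      · rw [h0, mul_zero] at ht
        exact absurd ht (orderOf_pos d₀).ne'
      · exact h0
    have h3 := Nat.le_of_dvd h2 h1
    have h4 : 2 ≤ q := hq.two_le
    nlinarith
  -- `D` has exponent `q`
  let M : Subgroup X :=
    { carrier := {d | d ∈ D ∧ d ^ q = 1}
      mul_mem' := by
        rintro a b ⟨ha, ha'⟩ ⟨hb, hb'⟩
        refine ⟨D.mul_mem ha hb, ?_⟩
        rw [(show Commute a b from hDab a ha b hb).mul_pow, ha', hb', one_mul]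
      one_mem' := ⟨D.one_mem, one_pow q⟩
      inv_mem' := by
        rintro a ⟨ha, ha'⟩
        exact ⟨D.inv_mem ha, by rw [inv_pow, ha', inv_one]⟩ }
  have hMn : M.Normal := ⟨fun d hd g => ⟨hDn.conj_mem d hd.1 g, by
    rw [conj_pow, hd.2]; simp⟩⟩
  have hMne : M ≠ ⊥ := by
    intro h
    have h1 : d₁ ∈ M := ⟨hd₁D, hd₁q⟩
    rw [h, Subgroup.mem_bot] at h1
    exact hd₁1 h1
  have hDq : ∀ d ∈ D, d ^ q = 1 := fun d hd => (hmin M hMn hMne hd).2
  have hDp : IsPGroup q D := fun d => ⟨1, by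
    apply Subtype.ext
    simp [hDq d.1 d.2]⟩
  refine ⟨q, hq, ?_⟩
  -- the key dichotomy
  have hkey : ∀ x : X, (∀ d ∈ D, x * d = d * x) ∨
      (∀ c : X, (∀ d ∈ D, c * d = d * c) → x * c = c * x → c = 1) := by
    intro x
    let F : Subgroup X :=
      { carrier := {c | (∀ d ∈ D, c * d = d * c) ∧ x * c = c * x}
        mul_mem' := by
          rintro a b ⟨ha, ha'⟩ ⟨hb, hb'⟩
          refine ⟨fun d hd => ?_, ?_⟩
          · rw [mul_assoc, hb d hd, ← mul_assoc, ha d hd, mul_assoc]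
          · rw [← mul_assoc, ha', mul_assoc, hb', mul_assoc]
        one_mem' := ⟨fun d _ => by simp, by simp⟩
        inv_mem' := by
          rintro a ⟨ha, ha'⟩
          refine ⟨fun d hd => ?_, ?_⟩
          · have h1 := ha d hd
            calc a⁻¹ * d = a⁻¹ * (d * a) * a⁻¹ := by group
              _ = a⁻¹ * (a * d) * a⁻¹ := by rw [h1]
              _ = d * a⁻¹ := by group
          · calc x * a⁻¹ = a⁻¹ * (a * x) * a⁻¹ := by group
              _ = a⁻¹ * (x * a) * a⁻¹ := by rw [ha']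
              _ = a⁻¹ * x := by group }
    have hFn : F.Normal := by
      refine ⟨fun c hc g => ⟨fun d hd => ?_, ?_⟩⟩
      · have h1 := hc.1 (g⁻¹ * d * g) (by
          have := hDn.conj_mem d hd g⁻¹
          simpa using this)
        calc g * c * g⁻¹ * d = g * (c * (g⁻¹ * d * g)) * g⁻¹ := by group
          _ = g * ((g⁻¹ * d * g) * c) * g⁻¹ := by rw [h1]
          _ = d * (g * c * g⁻¹) := by group
      · have he : x⁻¹ * g⁻¹ * x * g ∈ D := by
          have := hcomm x⁻¹ g⁻¹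
          simpa using this
        have h1 := hc.1 _ he
        have h2 := hc.2
        calc x * (g * c * g⁻¹) = g * (x * ((x⁻¹ * g⁻¹ * x * g) * c)) * g⁻¹ := by group
          _ = g * (x * (c * (x⁻¹ * g⁻¹ * x * g))) * g⁻¹ := by rw [h1]
          _ = g * ((x * c) * (x⁻¹ * g⁻¹ * x * g)) * g⁻¹ := by group
          _ = g * ((c * x) * (x⁻¹ * g⁻¹ * x * g)) * g⁻¹ := by rw [h2]
          _ = g * c * g⁻¹ * x := by group
    by_cases hF : F = ⊥
    · right
      intro c hc hxc
      have h1 : c ∈ F := ⟨hc, hxc⟩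
      rw [hF, Subgroup.mem_bot] at h1
      exact h1
    · left
      intro d hd
      exact (hmin F hFn hF hd).2
  by_cases hC : ∀ x : X, ∀ d ∈ D, x * d = d * x
  · -- `D` is central: `X` is a `q`-group
    left
    have hpow : ∀ x y : X, x ^ q * y = y * x ^ q := by
      intro x y
      have h1 := pow_mul_eq_of_central_comm x y (hC x _ (hcomm x y)) q
      rw [hDq _ (hcomm x y), one_mul] at h1
      exact h1
    have hcen : ∀ z : X, (∀ y : X, z * y = y * z) → ∃ k : ℕ, z ^ (q ^ k) = 1 := by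
      intro z hz
      obtain ⟨k, s, hs, ho⟩ :=
        Nat.exists_eq_pow_mul_and_not_dvd (orderOf_pos z).ne' q hq.ne_one
      refine ⟨k, ?_⟩
      by_contra hw
      have hws : (z ^ (q ^ k)) ^ s = 1 := by
        rw [← pow_mul, ← ho, pow_orderOf_eq_one]
      have hZn : (Subgroup.zpowers (z ^ (q ^ k))).Normal := by
        refine ⟨fun a ha g => ?_⟩
        obtain ⟨i, rfl⟩ := Subgroup.mem_zpowers_iff.mp ha
        have h1 : g * (z ^ (q ^ k)) ^ i * g⁻¹ = (z ^ (q ^ k)) ^ i := by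
          have h2 : Commute g z := (hz g).symm
          have h3 : Commute g ((z ^ (q ^ k)) ^ i) := (h2.pow_right _).zpow_right _
          rw [h3.eq]; group
        rw [h1]
        exact Subgroup.zpow_mem_zpowers _ i
      have hZne : Subgroup.zpowers (z ^ (q ^ k)) ≠ ⊥ := by
        intro h
        have h1 := Subgroup.mem_zpowers (z ^ (q ^ k))
        rw [h, Subgroup.mem_bot] at h1
        exact hw h1
      have h1 := hmin _ hZn hZne hd₁D
      obtain ⟨i, hi⟩ := Subgroup.mem_zpowers_iff.mp h1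
      have h2 : d₁ ^ s = 1 := by
        rw [← hi, ← zpow_natCast, ← zpow_mul, mul_comm, zpow_mul, zpow_natCast, hws, one_zpow]
      have h3 := orderOf_dvd_of_pow_eq_one h2
      have h4 := orderOf_dvd_of_pow_eq_one hd₁q
      have h5 : orderOf d₁ ∣ Nat.gcd q s := Nat.dvd_gcd h4 h3
      have h6 : Nat.gcd q s = 1 := (Nat.Prime.coprime_iff_not_dvd hq).mpr hs
      rw [h6, Nat.dvd_one, orderOf_eq_one_iff] at h5
      exact hd₁1 h5
    intro x
    obtain ⟨k, hk⟩ := hcen (x ^ q) (hpow x)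
    exact ⟨k + 1, by rw [pow_succ', pow_mul]; exact hk⟩
  · -- `D` is not central
    right
    push Not at hC
    obtain ⟨x₀, d', hd'D, hx₀⟩ := hC
    have hx₀key : ∀ c : X, (∀ d ∈ D, c * d = d * c) → x₀ * c = c * x₀ → c = 1 := by
      rcases hkey x₀ with h | h
      · exact absurd (h d' hd'D) hx₀
      · exact h
    -- the centralizer of `D` is `D`
    have hCD : ∀ c : X, (∀ d ∈ D, c * d = d * c) → c ∈ D := by
      obtain ⟨C, hCdef⟩ : ∃ C : Subgroup X, C = Subgroup.centralizer (D : Set X) := ⟨_, rfl⟩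
      have hmemC : ∀ c : X, c ∈ C ↔ ∀ d ∈ D, c * d = d * c := by
        intro c
        rw [hCdef, Subgroup.mem_centralizer_iff]
        exact ⟨fun h d hd => (h d hd).symm, fun h d hd => (h d hd).symm⟩
      have hDC : D ≤ C := fun d hd => (hmemC d).mpr (fun e he => hDab d hd e he)
      have hcard : Nat.card C ≤ Nat.card D := by
        apply Nat.card_le_card_of_injective
          (fun c : C => (⟨x₀ * c * x₀⁻¹ * (c : X)⁻¹, hcomm x₀ c⟩ : D))
        intro c c' hcc
        have h1 : x₀ * (c : X) * x₀⁻¹ * (c : X)⁻¹ = x₀ * (c' : X) * x₀⁻¹ * (c' : X)⁻¹ :=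
          congrArg Subtype.val hcc
        have hu : ((c' : X)⁻¹ * (c : X)) ∈ C := C.mul_mem (C.inv_mem c'.2) c.2
        have h2 : x₀ * ((c' : X)⁻¹ * (c : X)) = ((c' : X)⁻¹ * (c : X)) * x₀ := by
          calc x₀ * ((c' : X)⁻¹ * (c : X))
              = (c' : X)⁻¹ * x₀ * (x₀⁻¹ * (c' : X) * x₀ * (c' : X)⁻¹) * ((c : X) * x₀⁻¹ * (c : X)⁻¹ * x₀)
                  * x₀⁻¹ * (c : X) * x₀ := by group
            _ = (c' : X)⁻¹ * x₀ * (x₀⁻¹ * (x₀ * (c' : X) * x₀⁻¹ * (c' : X)⁻¹)⁻¹ * x₀)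
                  * (x₀⁻¹ * (x₀ * (c : X) * x₀⁻¹ * (c : X)⁻¹) * x₀) * x₀⁻¹ * (c : X) * x₀ := by group
            _ = (c' : X)⁻¹ * x₀ * (x₀⁻¹ * (x₀ * (c : X) * x₀⁻¹ * (c : X)⁻¹)⁻¹ * x₀)
                  * (x₀⁻¹ * (x₀ * (c : X) * x₀⁻¹ * (c : X)⁻¹) * x₀) * x₀⁻¹ * (c : X) * x₀ := by
                rw [h1]
            _ = ((c' : X)⁻¹ * (c : X)) * x₀ := by group
        have h3 := hx₀key _ ((hmemC _).mp hu) h2
        exact Subtype.ext (inv_mul_eq_one.mp h3).symm
      have hDC' : D = C := Subgroup.eq_of_le_of_card_ge hDC hcard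
      intro c hc
      rw [hDC']
      exact (hmemC c).mpr hc
    have hfpf : ∀ x : X, x ∉ D → ∀ d ∈ D, x * d = d * x → d = 1 := by
      intro x hx d hd hxd
      rcases hkey x with h | h
      · exact absurd (hCD x h) hx
      · exact h d (fun e he => hDab d hd e he) hxd
    refine ⟨hDp, ?_, hfpf⟩
    intro hqi
    have hqi' : q ∣ Nat.card (X ⧸ D) := by rwa [Subgroup.index_eq_card] at hqi
    obtain ⟨y, hy⟩ := exists_prime_orderOf_dvd_card' q hqi'
    obtain ⟨x, rfl⟩ := QuotientGroup.mk_surjective y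
    have hxD : x ∉ D := by
      intro h
      have h1 : (QuotientGroup.mk x : X ⧸ D) = 1 := (QuotientGroup.eq_one_iff x).mpr h
      rw [h1, orderOf_one] at hy
      exact hq.one_lt.ne hy
    have hxq : x ^ q ∈ D := by
      have h1 : (QuotientGroup.mk x : X ⧸ D) ^ q = 1 := by rw [← hy, pow_orderOf_eq_one]
      rw [← QuotientGroup.mk_pow] at h1
      exact (QuotientGroup.eq_one_iff _).mp h1
    have hxqq : x ^ (q ^ 2) = 1 := by
      rw [pow_two, pow_mul]; exact hDq _ hxq
    have hZp : IsPGroup q (Subgroup.zpowers x) := by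
      have h1 : orderOf x ∣ q ^ 2 := orderOf_dvd_of_pow_eq_one hxqq
      obtain ⟨j, -, hj⟩ := (Nat.dvd_prime_pow hq).mp h1
      apply IsPGroup.of_card (n := j)
      rw [Nat.card_zpowers, hj]
    letI : MulAction (Subgroup.zpowers x) D :=
      MulAction.compHom D ((MulAut.conjNormal (H := D)).comp (Subgroup.zpowers x).subtype)
    have hsmul : ∀ (g : Subgroup.zpowers x) (d : D), ((g • d : D) : X) = g * d * (g : X)⁻¹ := by
      intro g d
      rfl
    have hqD : q ∣ Nat.card D := by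
      have h1 : orderOf (⟨d₁, hd₁D⟩ : D) ∣ Nat.card D := orderOf_dvd_natCard _
      have h2 : orderOf (⟨d₁, hd₁D⟩ : D) = q := by
        have h3 : (⟨d₁, hd₁D⟩ : D) ^ q = 1 := Subtype.ext (by simpa using hd₁q)
        have h4 := orderOf_dvd_of_pow_eq_one h3
        rcases (Nat.dvd_prime hq).mp h4 with h5 | h5
        · rw [orderOf_eq_one_iff] at h5
          exact absurd (congrArg Subtype.val h5) hd₁1
        · exact h5
      rwa [h2] at h1
    have h1fix : (1 : D) ∈ MulAction.fixedPoints (Subgroup.zpowers x) D := by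
      intro g
      apply Subtype.ext
      rw [hsmul]; simp
    obtain ⟨b, hb, hb1⟩ := hZp.exists_fixed_point_of_prime_dvd_card_of_fixed_point D hqD h1fix
    have h2 := hb ⟨x, Subgroup.mem_zpowers x⟩
    have h3 : x * (b : X) * x⁻¹ = b := by
      have := congrArg Subtype.val h2
      rwa [hsmul] at this
    have h4 : x * (b : X) = b * x := by
      calc x * (b : X) = (x * (b : X) * x⁻¹) * x := by group
        _ = b * x := by rw [h3]
    have h5 := hfpf x hxD b b.2 h4
    exact hb1 (Subtype.ext h5.symm)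

end Cfsg.Agent.Lib.helper19
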