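import Mathlib
import Cfsg.Prelude.Def_Characters
import Cfsg.Prelude.Def_Blocks
import Cfsg.Agent.Lib.helper82.CharQuot
import Cfsg.Agent.Lib.helper82.CliffordCorr
import Cfsg.Agent.Lib.helper5.NormalDeg
import Cfsg.Agent.Lib.helper5.CommEig
import Cfsg.Agent.Lib.helper4.Regular
import Cfsg.Agent.Lib.helper4.RepBasic
import Cfsg.Agent.Lib.helper4.Induction
import Cfsg.Agent.Lib.helper4.CharTheory
import Cfsg.Agent.Lib.helper4.CharDecomp
import Cfsg.Agent.Lib.helper19.LinExt
import Cfsg.Agent.Lib.helper19.AbelianOver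
import Cfsg.Agent.Lib.helper19.GlaubGroup
import Cfsg.Agent.Lib.helper19.GlaubChar

/-!
# Tools for groups with two character degrees (helper19)

* `comm_of_all_linear`: a finite group all of whose irreducible characters are linear is abelian;
* `commutator_mem_of_linear_over`: relative version over a normal subgroup;
* `exists_irr_degree_of_linear`: for a normal Hall subgroup `B` and a linear character `μ` of `B`
  with inertia group `T`, every `β ∈ Irr(T/B)` yields `χ ∈ Irr(G)` with `χ(1) = |G:T| β(1)`;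
* `finrank_le_index_of_eigenvector`: an irreducible representation with a common eigenvector for a
  subgroup `A` has degree at most `|G:A|`;
* `dualAct`, `exists_dual_twist`: the action on the dual of a normal subgroup, and a twisting lemma.
-/

set_option autoImplicit false
set_option linter.style.haveILetI false
set_option linter.unusedSectionVars false

namespace Cfsg.Agent.Lib.helper19

open Cfsg
open scoped commutatorElement

/-- A finite group all of whose irreducible characters are linear is abelian. -/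
theorem comm_of_all_linear {G : Type*} [Group G] [Finite G]
    (h : ∀ χ : G → ℂ, IsIrrCharacter G χ → χ 1 = 1) : ∀ a b : G, a * b = b * a := by
  classical
  haveI : Fintype G := Fintype.ofFinite G
  haveI : Fintype (IrrCharacter G) := Fintype.ofFinite _
  have h1 := helper4.sum_irr_degree_sq (G := G)
  have h2 : ∑ χ : IrrCharacter G, (χ : G → ℂ) 1 ^ 2 = (Fintype.card (IrrCharacter G) : ℂ) := by
    rw [Finset.sum_congr rfl (fun χ _ => by rw [h χ.1 χ.2, one_pow])]
    simp
  have h3 : Nat.card (IrrCharacter G) = Nat.card G := by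
    rw [Nat.card_eq_fintype_card (α := IrrCharacter G)]
    exact_mod_cast h2.symm.trans h1
  have h4 := helper82.card_linear_irr (G := G)
  have h5 : Nat.card {χ : IrrCharacter G // (χ : G → ℂ) 1 = 1} = Nat.card (IrrCharacter G) :=
    Nat.card_congr (Equiv.subtypeUnivEquiv (fun χ => h χ.1 χ.2))
  have h6 : (commutator G).index = Nat.card G := by rw [← h4, h5, h3]
  have h7 : Nat.card (commutator G) = 1 := by
    have h8 := (commutator G).card_mul_index
    rw [h6] at h8
    have hpos : 0 < Nat.card G := Nat.card_pos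
    exact Nat.eq_of_mul_eq_mul_right hpos (by rw [h8, one_mul])
  have h8 : commutator G = ⊥ := Subgroup.eq_bot_of_card_eq _ h7
  intro a b
  have h9 : ⁅a, b⁆ ∈ commutator G :=
    Subgroup.commutator_mem_commutator (Subgroup.mem_top a) (Subgroup.mem_top b)
  rw [h8, Subgroup.mem_bot, commutatorElement_eq_one_iff_mul_comm] at h9
  exact h9

/-- If every irreducible character of `H` trivial on the normal subgroup `N` is linear, then
`H / N` is abelian. -/
theorem commutator_mem_of_linear_over {H : Type*} [Group H] [Finite H] (N : Subgroup H)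
    [N.Normal]
    (h : ∀ χ : H → ℂ, IsIrrCharacter H χ → (∀ x ∈ N, χ x = χ 1) → χ 1 = 1) :
    ∀ x y : H, x * y * x⁻¹ * y⁻¹ ∈ N := by
  have hq : ∀ a b : H ⧸ N, a * b = b * a := by
    apply comm_of_all_linear
    intro ψ hψ
    have h1 := helper82.isIrrCharacter_inflation N hψ
    have h2 := h _ h1 (fun x hx => by
      show ψ (x : H ⧸ N) = ψ ((1 : H) : H ⧸ N)
      rw [(QuotientGroup.eq_one_iff x).2 hx]; rfl)
    exact h2
  intro x y
  rw [← QuotientGroup.eq_one_iff]
  simp only [QuotientGroup.mk_mul, QuotientGroup.mk_inv]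
  rw [hq (x : H ⧸ N) y]
  simp

/-- An irreducible representation having a common eigenvector for a subgroup `A` has degree at most
the index of `A`. -/
theorem finrank_le_index_of_eigenvector {G : Type*} [Group G] [Finite G] {V : Type*}
    [AddCommGroup V] [Module ℂ V] [FiniteDimensional ℂ V] (ρ : Representation ℂ G V)
    (hρ : ρ.IsIrreducible) (A : Subgroup G) (v : V) (hv : v ≠ 0)
    (hA : ∀ a ∈ A, ∃ c : ℂ, ρ a v = c • v) : Module.finrank ℂ V ≤ A.index := by
  classical
  haveI : Fintype (G ⧸ A) := Fintype.ofFinite _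
  obtain ⟨-, hirr⟩ := (helper4.isIrreducible_iff ρ).1 hρ
  obtain ⟨b, hb⟩ : ∃ b : G ⧸ A → V, b = fun q => ρ (Quotient.out q) v := ⟨_, rfl⟩
  obtain ⟨W, hW⟩ : ∃ W : Submodule ℂ V, W = Submodule.span ℂ (Set.range b) := ⟨_, rfl⟩
  have hbW : ∀ q, b q ∈ W := fun q => by rw [hW]; exact Submodule.subset_span ⟨q, rfl⟩
  have hinv : ∀ g, ∀ w ∈ W, ρ g w ∈ W := by
    intro g w hw
    rw [hW] at hw
    induction hw using Submodule.span_induction with
    | mem x hx =>
      obtain ⟨q, rfl⟩ := hx
      obtain ⟨a, ha⟩ := QuotientGroup.mk_out_eq_mul A (g * Quotient.out q)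
      obtain ⟨q', hq'⟩ : ∃ q' : G ⧸ A, q' = ((g * Quotient.out q : G) : G ⧸ A) := ⟨_, rfl⟩
      rw [← hq'] at ha
      have h1 : g * Quotient.out q = Quotient.out q' * ((a : G))⁻¹ := by
        rw [ha]; group
      obtain ⟨c, hc⟩ := hA ((a : G)⁻¹) (A.inv_mem a.2)
      have h2 : ρ g (b q) = c • b q' := by
        rw [hb]
        show ρ g (ρ (Quotient.out q) v) = c • ρ (Quotient.out q') v
        rw [← Module.End.mul_apply, ← map_mul, h1, map_mul, Module.End.mul_apply, hc, map_smul]
      rw [h2]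
      exact W.smul_mem c (hbW _)
    | zero => rw [map_zero]; exact W.zero_mem
    | add x y _ _ hx hy => rw [map_add]; exact W.add_mem hx hy
    | smul c x _ hx => rw [map_smul]; exact W.smul_mem c hx
  have hne : W ≠ ⊥ := by
    intro h0
    have h1 : b ((1 : G) : G ⧸ A) ∈ W := hbW _
    rw [h0, Submodule.mem_bot, hb] at h1
    apply hv
    have h2 := congrArg (ρ (Quotient.out ((1 : G) : G ⧸ A))⁻¹) h1
    rw [map_zero, ← Module.End.mul_apply, ← map_mul, inv_mul_cancel, map_one,
      Module.End.one_apply] at h2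
    exact h2
  have htop : W = ⊤ := (hirr W hinv).resolve_left hne
  have h1 : Module.finrank ℂ W ≤ Fintype.card (G ⧸ A) := by
    rw [hW]; exact finrank_range_le_card b
  rw [htop, finrank_top] at h1
  calc Module.finrank ℂ V ≤ Fintype.card (G ⧸ A) := h1
    _ = A.index := by rw [Subgroup.index, Nat.card_eq_fintype_card]

/-- The stabiliser of the line through `v`. -/
def lineStab {G : Type*} [Group G] {V : Type*} [AddCommGroup V] [Module ℂ V]
    (ρ : Representation ℂ G V) (v : V) (hv : v ≠ 0) : Subgroup G where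
  carrier := {g | ∃ c : ℂ, ρ g v = c • v}
  one_mem' := ⟨1, by simp⟩
  mul_mem' := by
    rintro a b ⟨c, hc⟩ ⟨d, hd⟩
    exact ⟨d * c, by rw [map_mul, Module.End.mul_apply, hd, map_smul, hc, smul_smul]⟩
  inv_mem' := by
    rintro a ⟨c, hc⟩
    have h1 : v = c • ρ a⁻¹ v := by
      have h2 := congrArg (ρ a⁻¹) hc
      rw [← Module.End.mul_apply, ← map_mul, inv_mul_cancel, map_one, Module.End.one_apply,
        map_smul] at h2
      exact h2
    have hc0 : c ≠ 0 := by
      intro h0
      rw [h0, zero_smul] at h1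
      exact hv h1
    refine ⟨c⁻¹, ?_⟩
    conv_rhs => rw [h1]
    rw [smul_smul, inv_mul_cancel₀ hc0, one_smul]

theorem mem_lineStab {G : Type*} [Group G] {V : Type*} [AddCommGroup V] [Module ℂ V]
    (ρ : Representation ℂ G V) (v : V) (hv : v ≠ 0) (g : G) :
    g ∈ lineStab ρ v hv ↔ ∃ c : ℂ, ρ g v = c • v := Iff.rfl

section CL

variable {G : Type*} [Group G] [Finite G] (B : Subgroup G) [hB : B.Normal]

/-- For a normal subgroup `B` of order coprime to its index and a linear character `μ` of `B` with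
inertia group `T`, every irreducible character `β` of `T` trivial on `B` yields an irreducible
character of `G` of degree `|G:T| β(1)`. -/
theorem exists_irr_degree_of_linear (hcop : (Nat.card B).Coprime B.index) (μ : B →* ℂˣ)
    (T : Subgroup G) (hT : T = helper82.inertia B (fun b : B => ((μ b : ℂˣ) : ℂ)))
    (β : T → ℂ) (hβ : IsIrrCharacter T β) (hβB : ∀ t : T, (t : G) ∈ B → β t = β 1) :
    ∃ χ : G → ℂ, IsIrrCharacter G χ ∧ χ 1 = (T.index : ℂ) * β 1 := by
  classical
  haveI : Fintype G := Fintype.ofFinite G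
  haveI : Fintype B := Fintype.ofFinite B
  haveI : Fintype T := Fintype.ofFinite T
  have hθ : IsIrrCharacter B (fun b : B => ((μ b : ℂˣ) : ℂ)) := helper82.isIrrCharacter_of_hom μ
  have hBT : B ≤ T := by
    rw [hT]; exact helper82.le_inertia B (helper4.isClassFunction_of_isIrrCharacter hθ)
  obtain ⟨ϕ, hϕ⟩ : ∃ ϕ : B.subgroupOf T →* ℂˣ,
      ϕ = μ.comp (Subgroup.subgroupOfEquivOfLe hBT).toMonoidHom := ⟨_, rfl⟩
  have hϕval : ∀ (x : B.subgroupOf T), ϕ x = μ ⟨(x : T), Subgroup.mem_subgroupOf.mp x.2⟩ := by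
    intro x; rw [hϕ]; rfl
  have hinv : ∀ (t : T) (n : B.subgroupOf T),
      ϕ ⟨t * n * t⁻¹, (inferInstance : (B.subgroupOf T).Normal).conj_mem (n : T) n.2 t⟩
        = ϕ n := by
    intro t n
    rw [hϕval, hϕval]
    have ht : (t : G) ∈ helper82.inertia B (fun b : B => ((μ b : ℂˣ) : ℂ)) := hT ▸ t.2
    have h1 := (helper82.mem_inertia_iff B _ (t : G)).1 ht
      ⟨(n : T), Subgroup.mem_subgroupOf.mp n.2⟩
    exact Units.ext h1
  have hord : orderOf ϕ ∣ Nat.card B := by
    apply orderOf_dvd_of_pow_eq_one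
    refine MonoidHom.ext fun x => ?_
    rw [MonoidHom.pow_apply, ← map_pow]
    have h2 : x ^ Nat.card B = 1 := by
      have h := pow_card_eq_one' (G := B.subgroupOf T) (x := x)
      rwa [Nat.card_congr (Subgroup.subgroupOfEquivOfLe hBT).toEquiv] at h
    rw [h2, map_one]; rfl
  have hidx : (B.subgroupOf T).index ∣ B.index := Subgroup.relIndex_dvd_index_of_normal B T
  have hcop' : Nat.Coprime (B.subgroupOf T).index (orderOf ϕ) :=
    Nat.Coprime.coprime_dvd_left hidx (Nat.Coprime.coprime_dvd_right hord hcop.symm)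
  obtain ⟨μh, hμh, -⟩ := exists_extension_of_coprime (B.subgroupOf T) ϕ hinv hcop'
  have hlin : IsIrrCharacter T (fun t : T => ((μh t : ℂˣ) : ℂ)) :=
    helper82.isIrrCharacter_of_hom μh
  have hψ : IsIrrCharacter T (β * fun t : T => ((μh t : ℂˣ) : ℂ)) :=
    isIrr_mul_linear β _ hβ hlin (by simp)
  have hres : (fun n : B => (β * fun t : T => ((μh t : ℂˣ) : ℂ)) ⟨n, hBT n.2⟩)
      = β 1 • (fun b : B => ((μ b : ℂˣ) : ℂ)) := by
    funext n
    have h1 : β ⟨n, hBT n.2⟩ = β 1 := hβB _ n.2
    have h2 : μh ⟨n, hBT n.2⟩ = μ n := by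
      have h3 := hμh ⟨⟨n, hBT n.2⟩, Subgroup.mem_subgroupOf.mpr n.2⟩
      rw [hϕval] at h3
      exact h3
    simp only [Pi.mul_apply, Pi.smul_apply, smul_eq_mul]
    rw [h1, h2]
  obtain ⟨d, hd0, hd⟩ := helper4.exists_pos_nat_degree hβ
  have hne : classInner (fun n : B => (β * fun t : T => ((μh t : ℂˣ) : ℂ)) ⟨n, hBT n.2⟩)
      (fun b : B => ((μ b : ℂˣ) : ℂ)) ≠ 0 := by
    rw [hres, helper4.classInner_smul_left, helper4.classInner_irr_self hθ, mul_one, hd]
    exact_mod_cast hd0.ne'
  obtain ⟨hirr, -⟩ := helper82.clifford_corr_irr B T hBT hθ hT hψ hne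
  refine ⟨_, hirr, ?_⟩
  rw [helper4.indFun_one]
  simp

end CL

section Dual

variable {G : Type*} [Group G] (B : Subgroup G) [hB : B.Normal]

/-- The action of `g` on the dual of the normal subgroup `B`: `(dualAct B g μ) b = μ (g b g⁻¹)`. -/
noncomputable def dualAct (g : G) : (B →* ℂˣ) →* (B →* ℂˣ) :=
  MonoidHom.compHom' (MulAut.conjNormal g : MulAut B).toMonoidHom

theorem dualAct_apply (g : G) (μ : B →* ℂˣ) (b : B) :
    dualAct B g μ b = μ ⟨g * b * g⁻¹, hB.conj_mem b b.2 g⟩ := by
  show μ (MulAut.conjNormal g b) = _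
  congr 1

theorem dualAct_mul (g h : G) (μ : B →* ℂˣ) :
    dualAct B (g * h) μ = dualAct B h (dualAct B g μ) := by
  refine MonoidHom.ext fun b => ?_
  rw [dualAct_apply, dualAct_apply, dualAct_apply]
  congr 1
  apply Subtype.ext
  simp [mul_assoc]

theorem dualAct_one (μ : B →* ℂˣ) : dualAct B 1 μ = μ := by
  refine MonoidHom.ext fun b => ?_
  rw [dualAct_apply]
  congr 1
  apply Subtype.ext
  simp

theorem dualAct_of_mem_centralizer {c : G} (hc : c ∈ Subgroup.centralizer (B : Set G))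
    (μ : B →* ℂˣ) : dualAct B c μ = μ := by
  refine MonoidHom.ext fun b => ?_
  rw [dualAct_apply]
  congr 1
  apply Subtype.ext
  show c * b * c⁻¹ = b
  have h1 := Subgroup.mem_centralizer_iff.1 hc b b.2
  rw [← h1]; group

theorem mem_inertia_dual (μ : B →* ℂˣ) (g : G) :
    g ∈ helper82.inertia B (fun b : B => ((μ b : ℂˣ) : ℂ)) ↔ dualAct B g μ = μ := by
  rw [helper82.mem_inertia_iff]
  constructor
  · intro h
    refine MonoidHom.ext fun b => ?_
    rw [dualAct_apply]
    exact Units.ext (h b)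
  · intro h n
    have h1 := DFunLike.congr_fun h n
    rw [dualAct_apply] at h1
    show ((μ _ : ℂˣ) : ℂ) = _
    rw [h1]

/-- Abstract twisting lemma for a group acting (on the right) on a commutative group `D`: if
`z ^ n` acts trivially, `z` commutes with the action of `G`, and `n` is invertible modulo an
exponent of `D`, then for a `z`-fixed `μ₁` and a non-fixed `ν` there is a non-fixed `μ` whose
stabiliser is contained in that of `μ₁`. -/
theorem exists_twist_abstract {G D : Type*} [Group G] [CommGroup D] (act : G → D →* D)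
    (hmul : ∀ g h x, act (g * h) x = act h (act g x)) (hone : ∀ x, act 1 x = x)
    (z : G) (n N₀ a : ℕ)
    (hN₀ : ∀ μ : D, μ ^ N₀ = 1) (hna : n * a ≡ 1 [MOD N₀])
    (hzn : ∀ μ : D, act (z ^ n) μ = μ)
    (hzc : ∀ (g : G) (μ : D), act z (act g μ) = act g (act z μ))
    (μ₁ ν : D) (hμ₁ : act z μ₁ = μ₁) (hν : act z ν ≠ ν) :
    ∃ μ : D, act z μ ≠ μ ∧ ∀ g : G, act g μ = μ → act g μ₁ = μ₁ := by
  have hfix : ∀ (x : D), act z x = x → ∀ i : ℕ, act (z ^ i) x = x := by
    intro x hx i
    induction i with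
    | zero => rw [pow_zero, hone]
    | succ i ih => rw [pow_succ, hmul, ih, hx]
  have hcomm : ∀ (g : G) (i : ℕ) (x : D), act (z ^ i) (act g x) = act g (act (z ^ i) x) := by
    intro g i x
    induction i with
    | zero => rw [pow_zero, hone, hone]
    | succ i ih => rw [pow_succ, hmul, hmul, ih, hzc]
  obtain ⟨Pf, hPf⟩ : ∃ Pf : D → D,
      Pf = fun ν => (∏ i ∈ Finset.range n, act (z ^ i) ν) ^ a := ⟨_, rfl⟩
  have hPmul : ∀ x y, Pf (x * y) = Pf x * Pf y := by
    intro x y
    rw [hPf]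
    show (∏ i ∈ Finset.range n, act (z ^ i) (x * y)) ^ a = _
    simp only [map_mul, Finset.prod_mul_distrib, mul_pow]
  have hPinv : ∀ x, Pf x⁻¹ = (Pf x)⁻¹ := by
    intro x
    rw [hPf]
    show (∏ i ∈ Finset.range n, act (z ^ i) x⁻¹) ^ a = _
    simp only [map_inv, Finset.prod_inv_distrib, inv_pow]
  have hPfix : ∀ x, act z x = x → Pf x = x := by
    intro x hx
    rw [hPf]
    show (∏ i ∈ Finset.range n, act (z ^ i) x) ^ a = x
    rw [Finset.prod_congr rfl (fun i _ => hfix x hx i), Finset.prod_const,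
      Finset.card_range, ← pow_mul]
    exact pow_eq_self_of_modEq (hN₀ x) hna
  have hPz : ∀ x, act z (Pf x) = Pf x := by
    intro x
    rw [hPf]
    show act z ((∏ i ∈ Finset.range n, act (z ^ i) x) ^ a)
      = (∏ i ∈ Finset.range n, act (z ^ i) x) ^ a
    rw [map_pow, map_prod]
    congr 1
    have h1 : ∀ i, act z (act (z ^ i) x) = act (z ^ (i + 1)) x := by
      intro i; rw [pow_succ, hmul]
    rw [Finset.prod_congr rfl (fun i _ => h1 i)]
    have h2 := Finset.prod_range_succ' (fun i => act (z ^ i) x) n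
    have h3 := Finset.prod_range_succ (fun i => act (z ^ i) x) n
    rw [h3] at h2
    simp only [pow_zero, hone, hzn] at h2
    exact (mul_right_cancel h2).symm
  have hPg : ∀ g x, act g (Pf x) = Pf (act g x) := by
    intro g x
    rw [hPf]
    show act g ((∏ i ∈ Finset.range n, act (z ^ i) x) ^ a)
      = (∏ i ∈ Finset.range n, act (z ^ i) (act g x)) ^ a
    rw [map_pow, map_prod]
    congr 1
    exact Finset.prod_congr rfl (fun i _ => (hcomm g i x).symm)
  refine ⟨μ₁ * ν * (Pf ν)⁻¹, ?_, ?_⟩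
  · intro h
    rw [map_mul, map_mul, map_inv, hPz, hμ₁] at h
    apply hν
    exact mul_left_cancel (mul_right_cancel h)
  · intro g hg
    have h1 : Pf (μ₁ * ν * (Pf ν)⁻¹) = μ₁ := by
      rw [hPmul, hPmul, hPinv, hPfix μ₁ hμ₁, hPfix (Pf ν) (hPz ν)]
      rw [mul_inv_cancel_right]
    rw [← h1, hPg, hg]

/-- Twisting lemma for the dual of a normal subgroup. -/
theorem exists_dual_twist (z : G) (n N₀ a : ℕ)
    (hN₀ : ∀ (μ : B →* ℂˣ) (b : B), μ b ^ N₀ = 1) (hna : n * a ≡ 1 [MOD N₀])
    (hzn : ∀ μ : B →* ℂˣ, dualAct B (z ^ n) μ = μ)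
    (hzc : ∀ (g : G) (μ : B →* ℂˣ),
      dualAct B z (dualAct B g μ) = dualAct B g (dualAct B z μ))
    (μ₁ ν : B →* ℂˣ) (hμ₁ : dualAct B z μ₁ = μ₁) (hν : dualAct B z ν ≠ ν) :
    ∃ μ : B →* ℂˣ, dualAct B z μ ≠ μ ∧
      ∀ g : G, dualAct B g μ = μ → dualAct B g μ₁ = μ₁ :=
  exists_twist_abstract (dualAct B) (dualAct_mul B) (dualAct_one B) z n N₀ a
    (fun μ => MonoidHom.ext fun b => hN₀ μ b) hna hzn hzc μ₁ ν hμ₁ hν

theorem exists_mul_modEq_one {n k : ℕ} (h : n.Coprime k) (hk : 0 < k) :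
    ∃ a, n * a ≡ 1 [MOD k] := by
  rcases Nat.lt_or_ge 1 k with h1 | h1
  · obtain ⟨a, -, ha⟩ := Nat.exists_mul_mod_eq_one_of_coprime h h1
    exact ⟨a, by rw [Nat.ModEq, ha, Nat.mod_eq_of_lt h1]⟩
  · have h2 : k = 1 := by omega
    subst h2
    exact ⟨0, Nat.modEq_one⟩

end Dual

end Cfsg.Agent.Lib.helper19
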