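import Mathlib
import Cfsg.Agent.Lib.helper19.TwoDegA
import Cfsg.Agent.Lib.helper82.ThompsonDeg
import Cfsg.Agent.Lib.helper4.Monomial
import Cfsg.Agent.Lib.helper83.CharBasic

/-!
# Groups with two character degrees (helper19): Isaacs 12.5

`two_deg_structure`: if `cd(G) = {1, m}` then `G` has an abelian normal subgroup of index `m`, or
`m` is a prime power and `G` is the direct product of a `p`-group and an abelian group.
-/

set_option autoImplicit false
set_option linter.style.haveILetI false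
set_option linter.unusedSectionVars false

namespace Cfsg.Agent.Lib.helper19

open Cfsg

section Core

variable {G : Type*} [Group G] [Finite G] (m : ℕ)
  (hcd : ∀ χ : G → ℂ, IsIrrCharacter G χ → χ 1 = 1 ∨ χ 1 = (m : ℂ))
  (B : Subgroup G) [hB : B.Normal] (hcop : (Nat.card B).Coprime B.index)

include hcd hcop in
/-- A non-invariant linear character of the normal Hall subgroup `B` has inertia index `m`. -/
theorem inertia_index_of_ne_top (μ : B →* ℂˣ)
    (hT : helper82.inertia B (fun b : B => ((μ b : ℂˣ) : ℂ)) ≠ ⊤) :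
    (helper82.inertia B (fun b : B => ((μ b : ℂˣ) : ℂ))).index = m := by
  obtain ⟨T, hTdef⟩ : ∃ T : Subgroup G,
      T = helper82.inertia B (fun b : B => ((μ b : ℂˣ) : ℂ)) := ⟨_, rfl⟩
  rw [← hTdef] at hT ⊢
  have hβ : IsIrrCharacter T (fun _ => (1 : ℂ)) := by
    have h1 := helper82.isIrrCharacter_of_hom (1 : T →* ℂˣ)
    simpa using h1
  obtain ⟨χ, hχ, hχ1⟩ := exists_irr_degree_of_linear B hcop μ T hTdef (fun _ => 1) hβ
    (fun _ _ => rfl)
  rw [mul_one] at hχ1
  rcases hcd χ hχ with h | h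
  · exfalso; apply hT
    rw [← Subgroup.index_eq_one]
    rw [hχ1] at h; exact_mod_cast h
  · rw [hχ1] at h; exact_mod_cast h

include hcd hcop in
/-- The inertia group of a non-invariant linear character of `B` is abelian modulo `B`. -/
theorem inertia_comm_mem (μ : B →* ℂˣ)
    (hT : helper82.inertia B (fun b : B => ((μ b : ℂˣ) : ℂ)) ≠ ⊤) :
    ∀ x ∈ helper82.inertia B (fun b : B => ((μ b : ℂˣ) : ℂ)),
    ∀ y ∈ helper82.inertia B (fun b : B => ((μ b : ℂˣ) : ℂ)), x * y * x⁻¹ * y⁻¹ ∈ B := by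
  have hidx := inertia_index_of_ne_top m hcd B hcop μ hT
  obtain ⟨T, hTdef⟩ : ∃ T : Subgroup G,
      T = helper82.inertia B (fun b : B => ((μ b : ℂˣ) : ℂ)) := ⟨_, rfl⟩
  rw [← hTdef] at hT hidx ⊢
  have hm0 : m ≠ 0 := by
    rw [← hidx]; exact Subgroup.index_ne_zero_of_finite
  have key := commutator_mem_of_linear_over (B.subgroupOf T) (fun β hβ hβB => by
    obtain ⟨χ, hχ, hχ1⟩ := exists_irr_degree_of_linear B hcop μ T hTdef β hβ
      (fun t ht => hβB t (Subgroup.mem_subgroupOf.mpr ht))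
    obtain ⟨d, hd0, hd⟩ := helper4.exists_pos_nat_degree hβ
    rw [hidx, hd] at hχ1
    rw [hd]
    rcases hcd χ hχ with h | h
    · rw [hχ1] at h
      have h' : m * d = 1 := by exact_mod_cast h
      have h2 : d = 1 := Nat.eq_one_of_mul_eq_one_left h'
      rw [h2]; simp
    · rw [hχ1] at h
      have h' : m * d = m := by exact_mod_cast h
      have h2 : d = 1 :=
        Nat.eq_of_mul_eq_mul_left (Nat.pos_of_ne_zero hm0) (h'.trans (mul_one m).symm)
      rw [h2]; simp)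
  intro x hx y hy
  have h3 := key ⟨x, hx⟩ ⟨y, hy⟩
  exact Subgroup.mem_subgroupOf.mp h3

/-- An element outside the centraliser of the abelian normal subgroup `B` moves some linear
character of `B`. -/
theorem exists_not_fixed (hBab : ∀ a ∈ B, ∀ b ∈ B, a * b = b * a) (z : G)
    (hzC : z ∉ Subgroup.centralizer (B : Set G)) : ∃ ν : B →* ℂˣ, dualAct B z ν ≠ ν := by
  have h1 : ∃ b ∈ B, b * z ≠ z * b := by
    by_contra hcon
    push Not at hcon
    exact hzC (Subgroup.mem_centralizer_iff.2 hcon)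
  obtain ⟨b, hb, hbz⟩ := h1
  have hBab' : ∀ x y : B, x * y = y * x := fun x y => Subtype.ext (hBab x x.2 y y.2)
  have hne : (⟨z * b * z⁻¹, hB.conj_mem b hb z⟩ : B) * (⟨b, hb⟩ : B)⁻¹ ≠ 1 := by
    intro h
    apply hbz
    have h3 : z * b * z⁻¹ * b⁻¹ = 1 := congrArg Subtype.val h
    have h4 : z * b * z⁻¹ = b := by rw [mul_inv_eq_one] at h3; exact h3
    calc b * z = z * b * z⁻¹ * z := by rw [h4]
      _ = z * b := by group
  obtain ⟨ν, hν⟩ := helper82.exists_hom_apply_ne_one hBab' hne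
  refine ⟨ν, fun hfix => hν ?_⟩
  have h5 := DFunLike.congr_fun hfix ⟨b, hb⟩
  rw [dualAct_apply] at h5
  rw [map_mul, map_inv, h5, mul_inv_cancel]

include hcd hcop in
/-- An element `z` outside `C = C_G(B)` which is central modulo `C` fixes no non-invariant linear
character of `B`. -/
theorem not_fixed_of_central_mod (hBab : ∀ a ∈ B, ∀ b ∈ B, a * b = b * a)
    (z : G) (hzC : z ∉ Subgroup.centralizer (B : Set G))
    (hz : ∀ g : G, z * g * z⁻¹ * g⁻¹ ∈ Subgroup.centralizer (B : Set G))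
    (μ : B →* ℂˣ) (hT : helper82.inertia B (fun b : B => ((μ b : ℂˣ) : ℂ)) ≠ ⊤) :
    dualAct B z μ ≠ μ := by
  intro hfix
  obtain ⟨ν, hν⟩ : ∃ ν : B →* ℂˣ, dualAct B z ν ≠ ν := exists_not_fixed B hBab z hzC
  have hCfix : ∀ c ∈ Subgroup.centralizer (B : Set G), ∀ μ : B →* ℂˣ, dualAct B c μ = μ :=
    fun c hc μ => dualAct_of_mem_centralizer B hc μ
  have hBC : B ≤ Subgroup.centralizer (B : Set G) := by
    intro x hx
    rw [Subgroup.mem_centralizer_iff]
    intro y hy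
    exact hBab y hy x hx
  have hN₀ : ∀ (μ : B →* ℂˣ) (b : B), μ b ^ Nat.card B = 1 := by
    intro μ b; rw [← map_pow, pow_card_eq_one', map_one]
  obtain ⟨a, ha⟩ := exists_mul_modEq_one (Nat.Coprime.symm hcop) Nat.card_pos
  have hzn : ∀ μ : B →* ℂˣ, dualAct B (z ^ B.index) μ = μ :=
    fun μ => hCfix _ (hBC (Subgroup.pow_index_mem B z)) μ
  have hzc : ∀ (g : G) (μ : B →* ℂˣ),
      dualAct B z (dualAct B g μ) = dualAct B g (dualAct B z μ) := by
    intro g μ
    have h1 : z * g = (z * g * z⁻¹ * g⁻¹) * (g * z) := by group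
    calc dualAct B z (dualAct B g μ) = dualAct B (g * z) μ := (dualAct_mul B g z μ).symm
      _ = dualAct B (g * z) (dualAct B (z * g * z⁻¹ * g⁻¹) μ) := by rw [hCfix _ (hz g)]
      _ = dualAct B ((z * g * z⁻¹ * g⁻¹) * (g * z)) μ := (dualAct_mul B _ _ μ).symm
      _ = dualAct B (z * g) μ := by rw [← h1]
      _ = dualAct B g (dualAct B z μ) := dualAct_mul B z g μ
  obtain ⟨μ', hμ'z, hμ'⟩ :=
    exists_dual_twist B z B.index (Nat.card B) a hN₀ ha hzn hzc μ ν hfix hν
  have hT' : helper82.inertia B (fun b : B => ((μ' b : ℂˣ) : ℂ)) ≠ ⊤ := by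
    intro h
    apply hμ'z
    rw [← mem_inertia_dual, h]; exact Subgroup.mem_top z
  have hle : helper82.inertia B (fun b : B => ((μ' b : ℂˣ) : ℂ))
      ≤ helper82.inertia B (fun b : B => ((μ b : ℂˣ) : ℂ)) := by
    intro g hg
    rw [mem_inertia_dual] at hg ⊢
    exact hμ' g hg
  have h1 := inertia_index_of_ne_top m hcd B hcop μ hT
  have h2 := inertia_index_of_ne_top m hcd B hcop μ' hT'
  have h3 := Subgroup.relIndex_mul_index hle
  rw [h1, h2] at h3
  have hm0 : m ≠ 0 := by rw [← h1]; exact Subgroup.index_ne_zero_of_finite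
  have h4 : (helper82.inertia B (fun b : B => ((μ' b : ℂˣ) : ℂ))).relIndex
      (helper82.inertia B (fun b : B => ((μ b : ℂˣ) : ℂ))) = 1 :=
    Nat.eq_of_mul_eq_mul_right (Nat.pos_of_ne_zero hm0) (h3.trans (one_mul m).symm)
  have h5 := Subgroup.relIndex_eq_one.1 h4
  apply hμ'z
  rw [← mem_inertia_dual]
  apply h5
  rw [mem_inertia_dual]; exact hfix

include hcd hcop in
/-- The core of the non-nilpotent case: `C_G(B)` is an abelian normal subgroup of index `m`. -/
theorem two_deg_core (hBab : ∀ a ∈ B, ∀ b ∈ B, a * b = b * a)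
    (z : G) (hzC : z ∉ Subgroup.centralizer (B : Set G))
    (hz : ∀ g : G, z * g * z⁻¹ * g⁻¹ ∈ Subgroup.centralizer (B : Set G)) :
    ∃ A : Subgroup G, A.Normal ∧ (∀ a ∈ A, ∀ b ∈ A, a * b = b * a) ∧ A.index = m := by
  obtain ⟨C, hCdef⟩ : ∃ C : Subgroup G, C = Subgroup.centralizer (B : Set G) := ⟨_, rfl⟩
  have hCn : C.Normal := by rw [hCdef]; exact Subgroup.normal_centralizer
  have hBC : B ≤ C := by
    intro x hx
    rw [hCdef, Subgroup.mem_centralizer_iff]
    intro y hy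
    exact hBab y hy x hx
  obtain ⟨μ, hμz⟩ := exists_not_fixed B hBab z hzC
  obtain ⟨T, hTdef⟩ : ∃ T : Subgroup G,
      T = helper82.inertia B (fun b : B => ((μ b : ℂˣ) : ℂ)) := ⟨_, rfl⟩
  have hmemT : ∀ g, g ∈ T ↔ dualAct B g μ = μ := fun g => by
    rw [hTdef]; exact mem_inertia_dual B μ g
  have hzT : z ∉ T := fun h => hμz ((hmemT z).1 h)
  have hTtop : helper82.inertia B (fun b : B => ((μ b : ℂˣ) : ℂ)) ≠ ⊤ := by
    rw [← hTdef]; intro h; apply hzT; rw [h]; exact Subgroup.mem_top z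
  have hTidx : T.index = m := by
    rw [hTdef]; exact inertia_index_of_ne_top m hcd B hcop μ hTtop
  have hTB : ∀ x ∈ T, ∀ y ∈ T, x * y * x⁻¹ * y⁻¹ ∈ B := by
    rw [hTdef]; exact inertia_comm_mem m hcd B hcop μ hTtop
  have hCT : C ≤ T := fun c hc =>
    (hmemT c).2 (dualAct_of_mem_centralizer B (hCdef ▸ hc) μ)
  have hm0 : m ≠ 0 := by rw [← hTidx]; exact Subgroup.index_ne_zero_of_finite
  have hGC : ∀ x y : G, x * y * x⁻¹ * y⁻¹ ∈ C := by
    apply commutator_mem_of_linear_over C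
    intro χ hχ hχC
    by_contra hne
    have hχm : χ 1 = (m : ℂ) := (hcd χ hχ).resolve_left hne
    obtain ⟨n, ρ, hirr, rfl⟩ := hχ
    have hnm : n = m := by
      have h1 := Representation.char_one ρ
      rw [hχm] at h1
      simp only [Module.finrank_fintype_fun_eq_card, Fintype.card_fin] at h1
      exact_mod_cast h1.symm
    have hker : ∀ c ∈ C, ρ c = 1 := fun c hc => by
      rw [← helper82.mem_repKer, helper82.mem_repKer_iff_char]; exact hχC c hc
    have hcomm : ∀ x y : G, x * y * x⁻¹ * y⁻¹ ∈ C → ρ x * ρ y = ρ y * ρ x := by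
      intro x y hxy
      have h1 : x * y = (x * y * x⁻¹ * y⁻¹) * (y * x) := by group
      rw [← map_mul, h1, map_mul, hker _ hxy, one_mul, map_mul]
    have hS : ∀ f ∈ {f : Module.End ℂ (Fin n → ℂ) | ∃ g : G, (g ∈ T ∨ g = z) ∧ f = ρ g},
        ∀ f' ∈ {f : Module.End ℂ (Fin n → ℂ) | ∃ g : G, (g ∈ T ∨ g = z) ∧ f = ρ g},
        f * f' = f' * f := by
      rintro _ ⟨g, hg, rfl⟩ _ ⟨g', hg', rfl⟩
      apply hcomm
      rcases hg with hg | rfl
      · rcases hg' with hg' | rfl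
        · exact hBC (hTB g hg g' hg')
        · have h1 : g * g' * g⁻¹ * g'⁻¹ = (g' * g * g'⁻¹ * g⁻¹)⁻¹ := by group
          rw [h1]; exact C.inv_mem (hCdef ▸ hz g)
      · exact hCdef ▸ hz g'
    haveI : Nontrivial (Fin n → ℂ) := ((helper4.isIrreducible_iff ρ).1 hirr).1
    obtain ⟨v, hv0, hv⟩ := helper5.exists_common_eigenvector _ hS
    have hAT : T ≤ lineStab ρ v hv0 := fun t ht => hv (ρ t) ⟨t, Or.inl ht, rfl⟩
    have hAz : z ∈ lineStab ρ v hv0 := hv (ρ z) ⟨z, Or.inr rfl, rfl⟩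
    have hfin := finrank_le_index_of_eigenvector ρ hirr (lineStab ρ v hv0) v hv0
      (fun a ha => ha)
    simp only [Module.finrank_fintype_fun_eq_card, Fintype.card_fin] at hfin
    have h3 := Subgroup.relIndex_mul_index hAT
    rw [hTidx] at h3
    have h4 : T.relIndex (lineStab ρ v hv0) ≠ 1 :=
      fun h => hzT (Subgroup.relIndex_eq_one.1 h hAz)
    have h5 : T.relIndex (lineStab ρ v hv0) ≠ 0 := by
      intro h; rw [h, zero_mul] at h3; exact hm0 h3.symm
    have h6 : 2 ≤ T.relIndex (lineStab ρ v hv0) := by omega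
    have h7 : 0 < (lineStab ρ v hv0).index :=
      Nat.pos_of_ne_zero Subgroup.index_ne_zero_of_finite
    have h8 : 2 * (lineStab ρ v hv0).index ≤ T.relIndex (lineStab ρ v hv0)
        * (lineStab ρ v hv0).index := Nat.mul_le_mul_right _ h6
    omega
  have hTC : T ≤ C := by
    intro t ht
    by_contra htC
    exact not_fixed_of_central_mod m hcd B hcop hBab t (hCdef ▸ htC)
      (fun g => hCdef ▸ hGC t g) μ hTtop ((hmemT t).1 ht)
  have hTeq : T = C := le_antisymm hTC hCT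
  refine ⟨C, hCn, ?_, by rw [← hTeq]; exact hTidx⟩
  intro x hx y hy
  have hc : x * y * x⁻¹ * y⁻¹ ∈ B := hTB x (hCT hx) y (hCT hy)
  obtain ⟨c, hcdef⟩ : ∃ c : G, c = x * y * x⁻¹ * y⁻¹ := ⟨_, rfl⟩
  rw [← hcdef] at hc
  have hcent : ∀ w ∈ C, ∀ b ∈ B, b * w = w * b := fun w hw b hb =>
    Subgroup.mem_centralizer_iff.1 (hCdef ▸ hw) b hb
  have hcy : Commute c y := hcent y hy c hc
  have h1 : x * y * x⁻¹ = c * y := by rw [hcdef]; group
  have h2 : (c * y) ^ B.index = c ^ B.index * y ^ B.index := hcy.mul_pow _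
  have h3 : (x * y * x⁻¹) ^ B.index = y ^ B.index := by
    rw [conj_pow]
    have h := hcent x hx (y ^ B.index) (Subgroup.pow_index_mem B y)
    rw [← h]; group
  have h4 : c ^ B.index = 1 := by
    rw [h1, h2] at h3
    exact mul_eq_right.mp h3
  have h5 : c ^ Nat.card B = 1 := by
    have h := pow_card_eq_one' (G := B) (x := ⟨c, hc⟩)
    have h' : ((⟨c, hc⟩ : B) ^ Nat.card B : B).1 = ((1 : B) : G) := congrArg Subtype.val h
    exact h'
  have h6 : orderOf c ∣ 1 := by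
    have h := Nat.dvd_gcd (orderOf_dvd_of_pow_eq_one h5) (orderOf_dvd_of_pow_eq_one h4)
    rwa [Nat.Coprime.gcd_eq_one hcop] at h
  have h7 : c = 1 := orderOf_eq_one_iff.1 (Nat.dvd_one.1 h6)
  rw [hcdef] at h7
  calc x * y = (x * y * x⁻¹ * y⁻¹) * (y * x) := by group
    _ = y * x := by rw [h7, one_mul]

end Core

section Main

variable {G : Type*} [Group G] [Finite G] (m : ℕ)

/-- The degree of an irreducible character trivial on a normal subgroup divides the index. -/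
theorem degree_dvd_index_of_trivial (N : Subgroup G) [N.Normal] (χ : G → ℂ)
    (hχ : IsIrrCharacter G χ) (hχN : ∀ x ∈ N, χ x = χ 1) (d : ℕ) (hd : χ 1 = d) :
    d ∣ N.index := by
  obtain ⟨ψ, hψ, hψχ⟩ := helper82.isIrrCharacter_deflation N hχ hχN
  have h1 : ψ 1 = d := by rw [← hd]; exact hψχ 1
  exact irr_degree_dvd_card_nat hψ d h1

/-- The nilpotent case. -/
theorem two_deg_nilpotent
    (hcd : ∀ χ : G → ℂ, IsIrrCharacter G χ → χ 1 = 1 ∨ χ 1 = (m : ℂ))
    (hm : ∃ χ : G → ℂ, IsIrrCharacter G χ ∧ χ 1 = (m : ℂ)) (hm1 : m ≠ 1)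
    (hnil : Group.IsNilpotent G) (p : ℕ) (hp : p.Prime) (hpm : p ∣ m)
    (A : Subgroup G) (hA : A.Normal) (hAcop : (Nat.card A).Coprime p) (k : ℕ)
    (hAk : A.index = p ^ k) :
    ∃ e : ℕ, m = p ^ e ∧ ∃ P A : Subgroup G, P.Normal ∧ A.Normal ∧ IsPGroup p P ∧
        (∀ a ∈ A, ∀ b ∈ A, a * b = b * a) ∧ P ⊓ A = ⊥ ∧ P ⊔ A = ⊤ := by
  haveI : Fact p.Prime := ⟨hp⟩
  obtain ⟨P⟩ : Nonempty (Sylow p G) := inferInstance
  have htfae := (Group.isNilpotent_of_finite_tfae (G := G)).out 0 3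
  have hall : ∀ (p : ℕ), Fact (Nat.Prime p) → ∀ (P : Sylow p G), (↑P : Subgroup G).Normal :=
    htfae.1 hnil
  haveI hPn : (P : Subgroup G).Normal := hall p inferInstance P
  have hPidx : ¬ p ∣ (P : Subgroup G).index := P.not_dvd_index
  have hα : ∀ x y : G, x * y * x⁻¹ * y⁻¹ ∈ (P : Subgroup G) := by
    apply commutator_mem_of_linear_over (P : Subgroup G)
    intro χ hχ hχP
    rcases hcd χ hχ with h | h
    · exact h
    · exfalso
      exact hPidx (dvd_trans hpm (degree_dvd_index_of_trivial (P : Subgroup G) χ hχ hχP m h))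
  have hPA : (P : Subgroup G) ⊓ A = ⊥ := by
    obtain ⟨j, hj⟩ := IsPGroup.exists_card_eq P.isPGroup'
    apply disjoint_iff.1
    apply Subgroup.disjoint_of_coprime_natCard
    rw [hj]
    exact Nat.Coprime.pow_left j hAcop.symm
  have hcomm : ∀ a b : G, a * b * a⁻¹ * b⁻¹ ∈ A → a * b = b * a := by
    intro a b hab
    have h1 : a * b * a⁻¹ * b⁻¹ ∈ (P : Subgroup G) ⊓ A := ⟨hα a b, hab⟩
    rw [hPA, Subgroup.mem_bot] at h1
    calc a * b = (a * b * a⁻¹ * b⁻¹) * (b * a) := by group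
      _ = b * a := by rw [h1, one_mul]
  have hβ : ∃ χ : G → ℂ, IsIrrCharacter G χ ∧ (∀ x ∈ A, χ x = χ 1) ∧ χ 1 = (m : ℂ) := by
    by_contra hcon
    push Not at hcon
    have hA' : ∀ x y : G, x * y * x⁻¹ * y⁻¹ ∈ A := by
      apply commutator_mem_of_linear_over A
      intro χ hχ hχA
      rcases hcd χ hχ with h | h
      · exact h
      · exact absurd h (hcon χ hχ hχA)
    have hab : ∀ a b : G, a * b = b * a := fun a b => hcomm a b (hA' a b)
    obtain ⟨χ, hχ, hχm⟩ := hm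
    have h1 := helper82.irr_one_of_commutative hab hχ
    rw [hχm] at h1
    exact hm1 (by exact_mod_cast h1)
  obtain ⟨χ, hχ, hχA, hχm⟩ := hβ
  have hmdvd : m ∣ p ^ k := by
    rw [← hAk]; exact degree_dvd_index_of_trivial A χ hχ hχA m hχm
  obtain ⟨e, -, he⟩ := (Nat.dvd_prime_pow hp).1 hmdvd
  refine ⟨e, he, P, A, hPn, hA, P.isPGroup', ?_, hPA, ?_⟩
  · intro a ha b hb
    exact hcomm a b (A.mul_mem (A.mul_mem (A.mul_mem ha hb) (A.inv_mem ha)) (A.inv_mem hb))
  · rw [← Subgroup.index_eq_one]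
    have h1 : ((P : Subgroup G) ⊔ A).index ∣ (P : Subgroup G).index :=
      Subgroup.index_dvd_of_le le_sup_left
    have h2 : ((P : Subgroup G) ⊔ A).index ∣ p ^ k :=
      hAk ▸ Subgroup.index_dvd_of_le le_sup_right
    obtain ⟨j, -, hj⟩ := (Nat.dvd_prime_pow hp).1 h2
    rcases Nat.eq_zero_or_pos j with h0 | h0
    · rw [hj, h0, pow_zero]
    · exfalso; apply hPidx; rw [hj] at h1; exact dvd_trans (dvd_pow_self p h0.ne') h1

/-- The non-nilpotent case. -/
theorem two_deg_nonnilpotent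
    (hcd : ∀ χ : G → ℂ, IsIrrCharacter G χ → χ 1 = 1 ∨ χ 1 = (m : ℂ)) (hm0 : 0 < m)
    (hthom : ∀ p : ℕ, p.Prime → p ∣ m →
      ∃ N : Subgroup G, N.Normal ∧ (Nat.card N).Coprime p ∧ ∃ k : ℕ, N.index = p ^ k)
    (hnil : ¬ Group.IsNilpotent G) :
    ∃ A : Subgroup G, A.Normal ∧ (∀ a ∈ A, ∀ b ∈ A, a * b = b * a) ∧ A.index = m := by
  classical
  have hthom' : ∀ p : m.primeFactors, ∃ N : Subgroup G, N.Normal ∧
      (Nat.card N).Coprime p ∧ ∃ k : ℕ, N.index = (p : ℕ) ^ k :=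
    fun p => hthom p (Nat.prime_of_mem_primeFactors p.2) (Nat.dvd_of_mem_primeFactors p.2)
  choose N hNn hNcop hNidx using hthom'
  haveI : ∀ p, (N p).Normal := hNn
  obtain ⟨f, hf⟩ : ∃ f : G →* ((p : m.primeFactors) → G ⧸ N p),
      f = MonoidHom.pi (fun p => QuotientGroup.mk' (N p)) := ⟨_, rfl⟩
  have hfker : ∀ g, g ∈ f.ker ↔ ∀ p, g ∈ N p := by
    intro g
    rw [MonoidHom.mem_ker, hf]
    constructor
    · intro h p
      have h1 := congrFun h p
      exact (QuotientGroup.eq_one_iff g).1 h1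
    · intro h
      funext p
      exact (QuotientGroup.eq_one_iff g).2 (h p)
  haveI hnilPi : Group.IsNilpotent ((p : m.primeFactors) → G ⧸ N p) := by
    haveI : ∀ p : m.primeFactors, Group.IsNilpotent (G ⧸ N p) := by
      intro p
      haveI : Fact (p : ℕ).Prime := ⟨Nat.prime_of_mem_primeFactors p.2⟩
      obtain ⟨k, hk⟩ := hNidx p
      exact IsPGroup.isNilpotent (IsPGroup.of_card (n := k) (by rw [← hk]; rfl))
    exact Group.isNilpotent_pi
  haveI hBn : (f.ker).Normal := MonoidHom.normal_ker f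
  have hBp : ∀ p : ℕ, p.Prime → p ∣ m → ¬ p ∣ Nat.card f.ker := by
    intro p hp hpm hpB
    have hmem : p ∈ m.primeFactors := Nat.mem_primeFactors.2 ⟨hp, hpm, hm0.ne'⟩
    have hle : f.ker ≤ N ⟨p, hmem⟩ := fun g hg => (hfker g).1 hg _
    have h1 : p ∣ Nat.card (N ⟨p, hmem⟩) := dvd_trans hpB (Subgroup.card_dvd_of_le hle)
    have h2 := hNcop ⟨p, hmem⟩
    exact hp.one_lt.ne' (Nat.Coprime.eq_one_of_dvd h2.symm h1)
  have hBidx : ∀ q : ℕ, q.Prime → q ∣ f.ker.index → q ∣ m := by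
    intro q hq hqB
    have h1 : f.ker.index = Nat.card f.range := Subgroup.index_ker f
    have h2 : Nat.card f.range ∣ Nat.card ((p : m.primeFactors) → G ⧸ N p) :=
      Subgroup.card_subgroup_dvd_card _
    rw [Nat.card_pi] at h2
    have h3 : q ∣ ∏ p : m.primeFactors, Nat.card (G ⧸ N p) := dvd_trans (h1 ▸ hqB) h2
    obtain ⟨p, -, hp⟩ := (Prime.dvd_finsetProd_iff hq.prime _).1 h3
    obtain ⟨k, hk⟩ := hNidx p
    have h4 : q ∣ (p : ℕ) ^ k := by rw [← hk]; exact hp
    have h5 : q ∣ (p : ℕ) := hq.dvd_of_dvd_pow h4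
    exact dvd_trans h5 (Nat.dvd_of_mem_primeFactors p.2)
  have hcop : (Nat.card f.ker).Coprime f.ker.index := by
    apply Nat.Coprime.symm
    apply Nat.coprime_of_dvd
    intro q hq hqidx hqB
    exact hBp q hq (hBidx q hq hqidx) hqB
  have hcopm : (Nat.card f.ker).Coprime m := by
    apply Nat.Coprime.symm
    apply Nat.coprime_of_dvd
    intro q hq hqm hqB
    exact hBp q hq hqm hqB
  have hBab' : ∀ a b : f.ker, a * b = b * a := by
    apply comm_of_all_linear
    intro ψ hψ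
    haveI : Fintype G := Fintype.ofFinite G
    haveI : Fintype f.ker := Fintype.ofFinite _
    obtain ⟨d, hd0, hd⟩ := helper4.exists_pos_nat_degree hψ
    have hdB : d ∣ Nat.card f.ker := irr_degree_dvd_card_nat hψ d hd
    obtain ⟨χ, hχ, e, he0, -, hχ1⟩ := helper5.exists_irr_over f.ker hψ
    rw [hd] at hχ1
    have hdm : d ∣ m ∨ d = 1 := by
      rcases hcd χ hχ with h | h
      · right
        rw [hχ1] at h
        have h' : e * (helper82.inertia f.ker ψ).index * d = 1 := by exact_mod_cast h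
        exact Nat.eq_one_of_mul_eq_one_left h'
      · left
        rw [hχ1] at h
        have h' : e * (helper82.inertia f.ker ψ).index * d = m := by exact_mod_cast h
        exact Dvd.intro_left _ h'
    rcases hdm with h | h
    · have h2 : d = 1 := Nat.Coprime.eq_one_of_dvd (Nat.Coprime.coprime_dvd_left hdB hcopm) h
      rw [hd, h2]; simp
    · rw [hd, h]; simp
  have hBab : ∀ a ∈ f.ker, ∀ b ∈ f.ker, a * b = b * a := fun a ha b hb =>
    congrArg Subtype.val (hBab' ⟨a, ha⟩ ⟨b, hb⟩)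
  have hBcen : ¬ f.ker ≤ Subgroup.center G := by
    intro h
    apply hnil
    exact Subgroup.isNilpotent_of_ker_le_center f h
  obtain ⟨C, hCdef⟩ : ∃ C : Subgroup G, C = Subgroup.centralizer (f.ker : Set G) := ⟨_, rfl⟩
  haveI hCn : C.Normal := by rw [hCdef]; exact Subgroup.normal_centralizer
  have hBC : f.ker ≤ C := by
    intro x hx
    rw [hCdef, Subgroup.mem_centralizer_iff]
    intro y hy
    exact hBab y hy x hx
  have hCtop : C ≠ ⊤ := by
    intro h
    apply hBcen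
    rw [hCdef, Subgroup.centralizer_eq_top_iff_subset] at h
    exact h
  haveI hnilB : Group.IsNilpotent (G ⧸ f.ker) :=
    Group.nilpotent_of_mulEquiv (QuotientGroup.quotientKerEquivRange f).symm
  haveI hnilC : Group.IsNilpotent (G ⧸ C) := by
    have hsurj : Function.Surjective
        (QuotientGroup.map f.ker C (MonoidHom.id G) (by simpa using hBC)) := by
      intro q
      obtain ⟨g, rfl⟩ := QuotientGroup.mk_surjective q
      exact ⟨(g : G ⧸ f.ker), by simp⟩
    exact Group.nilpotent_of_surjective _ hsurj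
  haveI hntC : Nontrivial (G ⧸ C) := by
    obtain ⟨g, -, hg⟩ := SetLike.exists_of_lt (lt_top_iff_ne_top.2 hCtop)
    exact ⟨⟨(g : G ⧸ C), 1, fun h => hg ((QuotientGroup.eq_one_iff g).1 h)⟩⟩
  have hcenC := helper4.center_ne_bot_of_nilpotent (G := G ⧸ C)
  obtain ⟨zb, hzb1⟩ := (Subgroup.ne_bot_iff_exists_ne_one).1 hcenC
  obtain ⟨z, hz⟩ := QuotientGroup.mk_surjective (zb : G ⧸ C)
  have hzC : z ∉ C := by
    intro h
    apply hzb1
    apply Subtype.ext
    rw [← hz]
    exact (QuotientGroup.eq_one_iff z).2 h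
  have hzcomm : ∀ g : G, z * g * z⁻¹ * g⁻¹ ∈ C := by
    intro g
    rw [← QuotientGroup.eq_one_iff]
    simp only [QuotientGroup.mk_mul, QuotientGroup.mk_inv]
    rw [hz]
    have h1 := Subgroup.mem_center_iff.1 zb.2 (g : G ⧸ C)
    rw [← h1]
    simp
  exact two_deg_core m hcd f.ker hcop hBab z (hCdef ▸ hzC) (fun g => hCdef ▸ hzcomm g)

/-- **Isaacs, Theorem 12.5**: the structure of groups with two character degrees. -/
theorem two_deg_structure
    (hcd : ∀ χ : IrrCharacter G, charDegree (χ : G → ℂ) = 1 ∨ charDegree (χ : G → ℂ) = m)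
    (hm : ∃ χ : IrrCharacter G, charDegree (χ : G → ℂ) = m) (hm1 : m ≠ 1) :
    (∃ A : Subgroup G, A.Normal ∧ (∀ a ∈ A, ∀ b ∈ A, a * b = b * a) ∧ A.index = m) ∨
      ∃ p e : ℕ, p.Prime ∧ m = p ^ e ∧ ∃ P A : Subgroup G, P.Normal ∧ A.Normal ∧ IsPGroup p P ∧
        (∀ a ∈ A, ∀ b ∈ A, a * b = b * a) ∧ P ⊓ A = ⊥ ∧ P ⊔ A = ⊤ := by
  classical
  have hcd' : ∀ χ : G → ℂ, IsIrrCharacter G χ → χ 1 = 1 ∨ χ 1 = (m : ℂ) := by
    intro χ hχ
    have h1 : χ 1 = (charDegree χ : ℂ) :=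
      helper83.irr_one_eq_charDegree (⟨χ, hχ⟩ : IrrCharacter G)
    rcases hcd ⟨χ, hχ⟩ with h | h
    · left; rw [h1]
      have h' : charDegree χ = 1 := h
      rw [h']; simp
    · right; rw [h1]
      have h' : charDegree χ = m := h
      rw [h']
  obtain ⟨χ₀, hχ₀⟩ := hm
  have hm0 : 0 < m := by rw [← hχ₀]; exact helper83.charDegree_pos χ₀
  have hm' : ∃ χ : G → ℂ, IsIrrCharacter G χ ∧ χ 1 = (m : ℂ) :=
    ⟨χ₀.1, χ₀.2, by rw [helper83.irr_one_eq_charDegree χ₀, hχ₀]⟩
  have hthom : ∀ p : ℕ, p.Prime → p ∣ m →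
      ∃ N : Subgroup G, N.Normal ∧ (Nat.card N).Coprime p ∧ ∃ k : ℕ, N.index = p ^ k := by
    intro p hp hpm
    haveI : Fact p.Prime := ⟨hp⟩
    apply helper82.thompson_normal_p_complement p
    intro χ hχ
    rcases hcd χ with h | h
    · exact absurd h hχ
    · rw [h]; exact hpm
  by_cases hnil : Group.IsNilpotent G
  · right
    have hm2 : m ≠ 1 := hm1
    obtain ⟨p, hp, hpm⟩ := Nat.exists_prime_and_dvd hm2
    obtain ⟨A, hA, hAcop, k, hAk⟩ := hthom p hp hpm
    obtain ⟨e, he, h⟩ := two_deg_nilpotent m hcd' hm' hm1 hnil p hp hpm A hA hAcop k hAk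
    exact ⟨p, e, hp, he, h⟩
  · left
    exact two_deg_nonnilpotent m hcd' hm0 hthom hnil

end Main

end Cfsg.Agent.Lib.helper19
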