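import Mathlib
import Cfsg.Agent.Lib.helper19.TwoDegB
import Cfsg.Agent.Lib.helper4.CliffordAb
import Cfsg.Agent.Lib.helper4.Burnside2
import Cfsg.Agent.Lib.helper4.Regular
import Cfsg.Agent.Lib.helper82.Ito

/-!
# Groups with two character degrees (helper19): Isaacs 12.6

`two_deg_derived_abelian`: if `cd(G) = {1, m}` then `G'` is abelian.
-/

set_option autoImplicit false
set_option linter.style.haveILetI false
set_option linter.unusedSectionVars false

namespace Cfsg.Agent.Lib.helper19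

open Cfsg
open scoped commutatorElement

/-- Taketa's step: if the irreducible constituents of `(1_H)^G` are trivial on `G^(k)`, then a
character induced from a linear character of `H` is trivial on `G^(k+1)`. -/
theorem inKer_succ_of_induced {G : Type*} [Group G] [Fintype G] (H : Subgroup G)
    (lam : H →* ℂˣ) (k : ℕ)
    (hk : ∀ ψ : G → ℂ, IsIrrCharacter G ψ →
      classInner (indFun H (fun _ : H => (1:ℂ))) ψ ≠ 0 → ∀ g ∈ derivedSeries G k, ψ g = ψ 1) :
    ∀ g ∈ derivedSeries G (k + 1),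
      indFun H (fun h => ((lam h : ℂˣ) : ℂ)) g = indFun H (fun h => ((lam h : ℂˣ) : ℂ)) 1 := by
  classical
  haveI : Fintype (IrrCharacter G) := Fintype.ofFinite _
  haveI : Fintype H := Fintype.ofFinite H
  obtain ⟨π, hπ⟩ : ∃ π : G → ℂ, π = indFun H (fun _ : H => (1:ℂ)) := ⟨_, rfl⟩
  rw [← hπ] at hk
  have hπchar : IsCharacter G π := by
    rw [hπ]; exact helper4.isCharacter_indFun H helper4.isCharacter_one
  have hπsum := helper4.classFunction_eq_sum_irr (helper4.isClassFunction_of_isCharacter hπchar)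
  have hπg : ∀ g ∈ derivedSeries G k, π g = π 1 := by
    intro g hg
    have h1 : ∀ x : G, π x = ∑ ψ : IrrCharacter G, classInner π (ψ : G → ℂ) * (ψ : G → ℂ) x := by
      intro x
      conv_lhs => rw [hπsum]
      simp only [Finset.sum_apply, Pi.smul_apply, smul_eq_mul]
    rw [h1 g, h1 1]
    refine Finset.sum_congr rfl (fun ψ _ => ?_)
    by_cases hψ0 : classInner π (ψ : G → ℂ) = 0
    · rw [hψ0]; simp
    · rw [hk ψ ψ.2 hψ0 g hg]
  have hA : (Nat.card H : ℂ) ≠ 0 := by
    exact_mod_cast (Nat.card_pos (α := H)).ne'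
  have hmH : ∀ g ∈ derivedSeries G k, g ∈ H := by
    intro g hg
    have h1 := hπg g hg
    rw [hπ, helper4.indFun_apply, helper4.indFun_apply] at h1
    have h2 := mul_left_cancel₀ (inv_ne_zero hA) h1
    have h3 : ∀ y : G, Cfsg.extendByZero H (fun _ : H => (1:ℂ)) y = if y ∈ H then 1 else 0 := by
      intro y
      by_cases hy : y ∈ H
      · rw [helper4.extendByZero_apply_mem H _ hy, if_pos hy]
      · rw [helper4.extendByZero_apply_of_not_mem H _ hy, if_neg hy]
    simp only [h3] at h2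
    rw [Finset.sum_boole, Finset.sum_boole] at h2
    have h4 : (Finset.univ.filter (fun x : G => x⁻¹ * g * x ∈ H)).card
        = (Finset.univ.filter (fun x : G => x⁻¹ * 1 * x ∈ H)).card := by exact_mod_cast h2
    have h5 : Finset.univ.filter (fun x : G => x⁻¹ * 1 * x ∈ H) = Finset.univ := by
      rw [Finset.filter_eq_self]
      intro x _
      have h6 : x⁻¹ * 1 * x = 1 := by group
      rw [h6]; exact H.one_mem
    rw [h5, Finset.card_univ] at h4
    have h6 := (Finset.card_eq_iff_eq_univ _).mp h4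
    have h7 : (1 : G) ∈ Finset.univ.filter (fun x : G => x⁻¹ * g * x ∈ H) := by
      rw [h6]; exact Finset.mem_univ _
    have h8 := (Finset.mem_filter.mp h7).2
    simpa using h8
  have hK : derivedSeries G (k + 1) ≤ lam.ker.map H.subtype := by
    rw [derivedSeries_succ, Subgroup.commutator_le]
    intro a ha b hb
    have haH := hmH a ha
    have hbH := hmH b hb
    refine ⟨(⟨a, haH⟩ : H) * ⟨b, hbH⟩ * (⟨a, haH⟩ : H)⁻¹ * (⟨b, hbH⟩ : H)⁻¹, ?_, rfl⟩
    rw [SetLike.mem_coe, MonoidHom.mem_ker, map_mul, map_mul, map_mul, map_inv, map_inv]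
    rw [mul_right_comm (lam ⟨a, haH⟩) (lam ⟨b, hbH⟩) (lam ⟨a, haH⟩)⁻¹, mul_inv_cancel, one_mul,
      mul_inv_cancel]
  intro g hg
  rw [helper4.indFun_apply, helper4.indFun_apply]
  congr 1
  refine Finset.sum_congr rfl (fun x _ => ?_)
  have hx : x⁻¹ * g * x ∈ derivedSeries G (k + 1) := by
    have hnorm : (derivedSeries G (k + 1)).Normal := inferInstance
    have h1 := hnorm.conj_mem g hg x⁻¹
    rwa [inv_inv] at h1
  obtain ⟨j, hj, hjx⟩ := hK hx
  have hj1 : lam j = 1 := hj
  have e1 : x⁻¹ * g * x = (j : G) := hjx.symm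
  have e2 : x⁻¹ * 1 * x = ((1 : H) : G) := by simp
  rw [e1, e2, helper4.extendByZero_apply_coe, helper4.extendByZero_apply_coe, hj1, map_one]

/-- A nonlinear irreducible constituent of the permutation character `(1_H)^G` has degree less
than `|G:H|`. -/
theorem degree_lt_of_constituent_perm {G : Type*} [Group G] [Fintype G] (H : Subgroup G)
    (ψ : G → ℂ) (hψ : IsIrrCharacter G ψ)
    (hne : classInner (indFun H (fun _ : H => (1:ℂ))) ψ ≠ 0) (d : ℕ) (hd : ψ 1 = d)
    (hd1 : d ≠ 1) : d < H.index := by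
  classical
  haveI : Fintype (IrrCharacter G) := Fintype.ofFinite _
  haveI : Fintype H := Fintype.ofFinite H
  obtain ⟨π, hπ⟩ : ∃ π : G → ℂ, π = indFun H (fun _ : H => (1:ℂ)) := ⟨_, rfl⟩
  rw [← hπ] at hne
  have hπchar : IsCharacter G π := by
    rw [hπ]; exact helper4.isCharacter_indFun H helper4.isCharacter_one
  have hn : ∀ ψ : IrrCharacter G, ∃ n : ℕ, classInner π ψ = n :=
    fun ψ => helper4.exists_nat_classInner_irr hπchar ψ.2
  choose nn hnn using hn
  have hπsum : π = ∑ ψ : IrrCharacter G, (nn ψ : ℂ) • (ψ : G → ℂ) := by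
    conv_lhs =>
      rw [helper4.classFunction_eq_sum_irr (helper4.isClassFunction_of_isCharacter hπchar)]
    exact Finset.sum_congr rfl (fun ψ _ => by rw [hnn ψ])
  have he : ∀ ψ : IrrCharacter G, ∃ e : ℕ, 0 < e ∧ (ψ : G → ℂ) 1 = e :=
    fun ψ => helper4.exists_pos_nat_degree ψ.2
  choose ee hee0 hee using he
  have hdsum : H.index = ∑ ψ : IrrCharacter G, nn ψ * ee ψ := by
    have h1 : π 1 = (H.index : ℂ) := by rw [hπ, helper4.indFun_one]; simp
    rw [hπsum] at h1
    simp only [Finset.sum_apply, Pi.smul_apply, smul_eq_mul, hee] at h1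
    exact_mod_cast h1.symm
  obtain ⟨t, ht⟩ : ∃ t : IrrCharacter G, (t : G → ℂ) = fun _ => 1 :=
    ⟨⟨fun _ => 1, helper4.isIrrCharacter_one⟩, rfl⟩
  have hnt : nn t = 1 := by
    have h1 := hnn t
    rw [hπ, helper4.frobenius_reciprocity H _ (helper4.isClassFunction_of_isIrrCharacter t.2)]
      at h1
    have h2 : classInner (fun _ : H => (1:ℂ)) (fun h : H => (t : G → ℂ) h) = 1 := by
      rw [ht]
      exact helper4.classInner_irr_self (helper4.isIrrCharacter_one (G := H))
    rw [h2] at h1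
    exact_mod_cast h1.symm
  have het : ee t = 1 := by
    have h1 := hee t
    have h2 : (t : G → ℂ) 1 = 1 := by rw [ht]
    rw [h2] at h1
    exact_mod_cast h1.symm
  have hψt : (⟨ψ, hψ⟩ : IrrCharacter G) ≠ t := by
    intro hEq
    apply hd1
    have h1 : ψ 1 = 1 := by
      have h2 : ψ = (t : G → ℂ) := congrArg Subtype.val hEq
      rw [h2, ht]
    rw [hd] at h1
    exact_mod_cast h1
  have hnψ : nn ⟨ψ, hψ⟩ ≠ 0 := by
    intro h0
    apply hne
    have h1 := hnn ⟨ψ, hψ⟩
    rw [h0] at h1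
    simpa using h1
  have heψ : ee ⟨ψ, hψ⟩ = d := by
    have h1 := hee ⟨ψ, hψ⟩
    have h2 : ψ 1 = (ee ⟨ψ, hψ⟩ : ℂ) := h1
    rw [hd] at h2; exact_mod_cast h2.symm
  have hsub : ({t, ⟨ψ, hψ⟩} : Finset (IrrCharacter G)) ⊆ Finset.univ := Finset.subset_univ _
  have h1 := Finset.sum_le_sum_of_subset (f := fun ψ => nn ψ * ee ψ) hsub
  rw [← hdsum, Finset.sum_pair (Ne.symm hψt), hnt, het, heψ] at h1
  have h2 : 1 ≤ nn ⟨ψ, hψ⟩ := Nat.pos_of_ne_zero hnψ
  have h3 : d ≤ nn ⟨ψ, hψ⟩ * d := Nat.le_mul_of_pos_left _ h2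
  omega

/-- **Isaacs, Corollary 12.6**: a group with two character degrees has abelian derived
subgroup. -/
theorem two_deg_derived_abelian {G : Type*} [Group G] [Finite G] (m : ℕ)
    (hcd : ∀ χ : IrrCharacter G, charDegree (χ : G → ℂ) = 1 ∨ charDegree (χ : G → ℂ) = m)
    (hm : ∃ χ : IrrCharacter G, charDegree (χ : G → ℂ) = m) :
    ∀ a ∈ commutator G, ∀ b ∈ commutator G, a * b = b * a := by
  classical
  haveI : Fintype G := Fintype.ofFinite G
  haveI : Fintype (IrrCharacter G) := Fintype.ofFinite _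
  have hcd' : ∀ χ : G → ℂ, IsIrrCharacter G χ → χ 1 = 1 ∨ χ 1 = (m : ℂ) := by
    intro χ hχ
    have h1 : χ 1 = (charDegree χ : ℂ) :=
      helper83.irr_one_eq_charDegree (⟨χ, hχ⟩ : IrrCharacter G)
    rcases hcd ⟨χ, hχ⟩ with h | h
    · left; rw [h1]
      have h' : charDegree χ = 1 := h
      rw [h']; simp
    · right; rw [h1]
      have h' : charDegree χ = m := h
      rw [h']
  obtain ⟨χ₀, hχ₀⟩ := hm
  have hm0 : 0 < m := by rw [← hχ₀]; exact helper83.charDegree_pos χ₀
  have hthom : ∀ p : ℕ, p.Prime → p ∣ m →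
      ∃ N : Subgroup G, N.Normal ∧ (Nat.card N).Coprime p ∧ ∃ k : ℕ, N.index = p ^ k := by
    intro p hp hpm
    haveI : Fact p.Prime := ⟨hp⟩
    apply helper82.thompson_normal_p_complement p
    intro χ hχ
    rcases hcd χ with h | h
    · exact absurd h hχ
    · rw [h]; exact hpm
  have hmono : ∀ χ : G → ℂ, IsIrrCharacter G χ → χ 1 = (m : ℂ) →
      ∃ (H : Subgroup G) (lam : H →* ℂˣ), χ = indFun H (fun h => ((lam h : ℂˣ) : ℂ)) := by
    by_cases hnil : Group.IsNilpotent G
    · intro χ hχ _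
      exact helper4.exists_linear_induced_of_nilpotent hχ
    · obtain ⟨A, hAn, hAab, hAidx⟩ := two_deg_nonnilpotent m hcd' hm0 hthom hnil
      intro χ hχ hχm
      haveI : Fintype A := Fintype.ofFinite A
      obtain ⟨θ, hθ, e, he, he0⟩ := helper82.exists_constituent_restrict A hχ
      have hθ1 : θ 1 = 1 :=
        helper82.irr_one_of_commutative (fun a b => Subtype.ext (hAab a a.2 b b.2)) hθ
      obtain ⟨lam, hlam⟩ :=
        helper82.exists_hom_of_linear (helper4.isCharacter_of_isIrrCharacter hθ) hθ1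
      have hθeq : θ = fun h => ((lam h : ℂˣ) : ℂ) := funext hlam
      refine ⟨A, lam, ?_⟩
      rw [← hθeq]
      symm
      apply helper4.eq_of_isCharacter_of_classInner_ne_zero_of_degree_eq
        (helper4.isCharacter_indFun A (helper4.isCharacter_of_isIrrCharacter hθ)) hχ
      · rw [helper4.frobenius_reciprocity A θ (helper4.isClassFunction_of_isIrrCharacter hχ),
          ← helper4.classInner_conj_symm, he]
        simpa using he0
      · rw [helper4.indFun_one, hθ1, hAidx, hχm]; simp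
  have hlin : ∀ ψ : G → ℂ, IsIrrCharacter G ψ → ψ 1 = 1 →
      ∀ g ∈ derivedSeries G 1, ψ g = ψ 1 := by
    intro ψ hψ hψ1 g hg
    apply helper82.linear_commutator (helper4.isCharacter_of_isIrrCharacter hψ) hψ1
    rwa [derivedSeries_one] at hg
  have hker : ∀ χ : G → ℂ, IsIrrCharacter G χ → ∀ g ∈ derivedSeries G 2, χ g = χ 1 := by
    intro χ hχ
    rcases hcd' χ hχ with h | h
    · intro g hg
      exact hlin χ hχ h g (derivedSeries_antitone G (by norm_num) hg)
    · obtain ⟨H, lam, hχH⟩ := hmono χ hχ h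
      rw [hχH]
      apply inKer_succ_of_induced H lam 1
      intro ψ hψ hψne
      apply hlin ψ hψ
      by_contra hψ1
      have hψm : ψ 1 = (m : ℂ) := (hcd' ψ hψ).resolve_left hψ1
      have hidx : H.index = m := by
        have h1 : χ 1 = (H.index : ℂ) := by rw [hχH, helper4.indFun_one]; simp
        rw [h] at h1; exact_mod_cast h1.symm
      have hm1 : m ≠ 1 := by
        intro h1
        apply hψ1
        rw [hψm, h1]; simp
      have h2 := degree_lt_of_constituent_perm H ψ hψ hψne m hψm hm1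
      omega
  have hbot : derivedSeries G 2 = ⊥ := by
    rw [eq_bot_iff]
    intro g hg
    rw [Subgroup.mem_bot]
    by_contra hg1
    have h1 := helper4.sum_irr_degree_mul g
    rw [if_neg hg1] at h1
    have h2 := helper4.sum_irr_degree_mul (1 : G)
    rw [if_pos rfl] at h2
    have h3 : ∑ χ : IrrCharacter G, (χ : G → ℂ) 1 * (χ : G → ℂ) g
        = ∑ χ : IrrCharacter G, (χ : G → ℂ) 1 * (χ : G → ℂ) 1 :=
      Finset.sum_congr rfl (fun χ _ => by rw [hker χ χ.2 g hg])
    rw [h1, h2] at h3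
    have hc : (Nat.card G : ℂ) ≠ 0 := by exact_mod_cast (Nat.card_pos (α := G)).ne'
    exact hc h3.symm
  intro a ha b hb
  have h1 : ⁅a, b⁆ ∈ derivedSeries G 2 := by
    have h2 : derivedSeries G 2 = ⁅derivedSeries G 1, derivedSeries G 1⁆ := derivedSeries_succ G 1
    rw [h2]
    apply Subgroup.commutator_mem_commutator <;> rwa [derivedSeries_one]
  rw [hbot, Subgroup.mem_bot, commutatorElement_eq_one_iff_mul_comm] at h1
  exact h1

end Cfsg.Agent.Lib.helper19
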