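import Mathlib
import Cfsg.Agent.Lib.helper19.TwoDegC
import Cfsg.Agent.Lib.helper4.Monomial
import Cfsg.Agent.Lib.helper5.Irr
import Cfsg.Agent.Lib.helper82.CharQuot
import Cfsg.Agent.Lib.helper82.BergerA
import Cfsg.Agent.Lib.helper82.Ramification
import Cfsg.Agent.Lib.helper82.ThompsonDeg

/-!
# Groups with three character degrees (helper19): the non-coprime case of Isaacs 12.15

* `monomial_of_abelian_by_pgroup`: a group with a normal abelian subgroup of prime power index
  is an M-group.
* `taketa_three`: an M-group with at most three character degrees has derived length `≤ 3`.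
* `three_deg_noncoprime`: the case of Isaacs 12.15 where a prime divides both nonlinear degrees
  (with the inductive hypothesis for proper subgroups as an explicit argument).
-/

set_option autoImplicit false
set_option linter.style.haveILetI false
set_option linter.unusedSectionVars false

namespace Cfsg.Agent.Lib.helper19

open Cfsg
open scoped commutatorElement

universe u

/-- A finite group with a normal abelian subgroup of prime power index is an M-group. -/
theorem monomial_of_abelian_by_pgroup {G : Type u} [Group G] [Fintype G] (H : Subgroup G)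
    [hHn : H.Normal] (hHab : ∀ a ∈ H, ∀ b ∈ H, a * b = b * a) (p k : ℕ) (hp : p.Prime)
    (hidx : H.index = p ^ k) (χ : G → ℂ) (hχ : IsIrrCharacter G χ) :
    ∃ (L : Subgroup G) (lam : L →* ℂˣ), χ = indFun L (fun x => (lam x : ℂ)) := by
  classical
  haveI : Fact p.Prime := ⟨hp⟩
  obtain ⟨d, ρ, hρ, rfl⟩ := hχ
  haveI := hρ
  obtain ⟨T, U, hHT, hUirr, hscal, -, hchar⟩ :=
    helper4.exists_induced_of_normal_commuting ρ H
      (fun a ha b hb => by rw [← map_mul, ← map_mul, hHab a ha b hb])
  haveI := hUirr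
  haveI : Fintype T := Fintype.ofFinite T
  set σ := U.toRepresentation with hσ
  set K := helper82.repKer σ with hK
  set σb := helper82.quotRep K σ le_rfl with hσb
  haveI : σb.IsIrreducible := helper82.quotRep_isIrreducible K σ le_rfl
  haveI : Fintype (T ⧸ K) := Fintype.ofFinite _
  -- injectivity of `σb`
  have hinj : ∀ x y : T ⧸ K, σb x = σb y → x = y := by
    intro x y hxy
    have h1 : σb (x * y⁻¹) = 1 := by
      rw [map_mul, hxy, ← map_mul, mul_inv_cancel, map_one]
    have h2 := helper82.quotRep_repKer_injective σ (x * y⁻¹) h1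
    exact mul_inv_eq_one.mp h2
  -- the image of `H` is central
  have hcen : ∀ t : T, (t : G) ∈ H → ((t : T ⧸ K)) ∈ Subgroup.center (T ⧸ K) := by
    intro t ht
    rw [Subgroup.mem_center_iff]
    intro x
    apply hinj
    obtain ⟨c, hc⟩ := hscal (t : G) ht
    have h3 : σb (t : T ⧸ K) = c • (1 : Module.End ℂ U.toSubmodule) := by
      rw [hσb, helper82.quotRep_mk]
      refine LinearMap.ext (fun u => Subtype.ext ?_)
      have h4 := hc (u : _) u.2
      exact h4
    rw [map_mul, map_mul, h3]
    simp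
  -- the quotient by the center is a `p`-group
  have hpg : IsPGroup p ((T ⧸ K) ⧸ Subgroup.center (T ⧸ K)) := by
    intro y
    obtain ⟨x, rfl⟩ := QuotientGroup.mk_surjective y
    obtain ⟨t, rfl⟩ := QuotientGroup.mk_surjective x
    refine ⟨k, ?_⟩
    rw [← QuotientGroup.mk_pow, QuotientGroup.eq_one_iff, ← QuotientGroup.mk_pow]
    apply hcen
    have h5 := Subgroup.pow_index_mem H (t : G)
    rw [hidx] at h5
    simpa using h5
  haveI : Group.IsNilpotent ((T ⧸ K) ⧸ Subgroup.center (T ⧸ K)) := hpg.isNilpotent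
  haveI : Group.IsNilpotent (T ⧸ K) :=
    Subgroup.isNilpotent_of_ker_le_center (QuotientGroup.mk' (Subgroup.center (T ⧸ K)))
      (by rw [QuotientGroup.ker_mk'])
  have hirr : IsIrrCharacter (T ⧸ K) σb.character := helper5.isIrrCharacter_of_irreducible σb
  obtain ⟨Lb, lam, hLb⟩ := helper4.exists_linear_induced_of_nilpotent hirr
  have hsurj : Function.Surjective (QuotientGroup.mk' K) := QuotientGroup.mk'_surjective K
  have hpull := helper82.indFun_comp_surj (QuotientGroup.mk' K) hsurj Lb
    (fun x => ((lam x : ℂˣ) : ℂ))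
  have hσchar : σ.character = indFun (Lb.comap (QuotientGroup.mk' K))
      (fun x : Lb.comap (QuotientGroup.mk' K) =>
        ((lam ⟨QuotientGroup.mk' K x, x.2⟩ : ℂˣ) : ℂ)) := by
    rw [hpull]
    funext t
    rw [← hLb, hσb]
    exact (helper82.quotRep_character K σ le_rfl t).symm
  refine ⟨(Lb.comap (QuotientGroup.mk' K)).map T.subtype,
    (lam.comp ((QuotientGroup.mk' K).subgroupComap Lb)).comp
      (helper4.mapSubtypeHom T (Lb.comap (QuotientGroup.mk' K))), ?_⟩
  rw [hchar, hσchar, helper4.indFun_indFun]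
  rfl

/-- A subgroup on which all irreducible characters are trivial is trivial. -/
theorem eq_bot_of_irr_trivial {G : Type*} [Group G] [Fintype G] (S : Subgroup G)
    (h : ∀ χ : G → ℂ, IsIrrCharacter G χ → ∀ g ∈ S, χ g = χ 1) : S = ⊥ := by
  classical
  haveI : Fintype (IrrCharacter G) := Fintype.ofFinite _
  rw [eq_bot_iff]
  intro g hg
  rw [Subgroup.mem_bot]
  by_contra hg1
  have h1 := helper4.sum_irr_degree_mul g
  rw [if_neg hg1] at h1
  have h2 := helper4.sum_irr_degree_mul (1 : G)
  rw [if_pos rfl] at h2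
  have h3 : ∑ χ : IrrCharacter G, (χ : G → ℂ) 1 * (χ : G → ℂ) g
      = ∑ χ : IrrCharacter G, (χ : G → ℂ) 1 * (χ : G → ℂ) 1 :=
    Finset.sum_congr rfl (fun χ _ => by rw [h χ χ.2 g hg])
  rw [h1, h2] at h3
  have hc : (Nat.card G : ℂ) ≠ 0 := by exact_mod_cast (Nat.card_pos (α := G)).ne'
  exact hc h3.symm

/-- Taketa's step for a monomial character: if all irreducible characters of smaller degree
(and all linear ones) are trivial on `G^(k)`, then `χ` is trivial on `G^(k+1)`. -/
theorem taketa_step {G : Type*} [Group G] [Fintype G] (k : ℕ) (χ : G → ℂ)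
    (hmono : ∃ (H : Subgroup G) (lam : H →* ℂˣ), χ = indFun H (fun h => ((lam h : ℂˣ) : ℂ)))
    (e : ℕ) (he : χ 1 = e)
    (hlow : ∀ ψ : G → ℂ, IsIrrCharacter G ψ → ∀ d : ℕ, ψ 1 = d → (d = 1 ∨ d < e) →
      ∀ g ∈ derivedSeries G k, ψ g = ψ 1) :
    ∀ g ∈ derivedSeries G (k + 1), χ g = χ 1 := by
  obtain ⟨H, lam, hχH⟩ := hmono
  rw [hχH]
  apply inKer_succ_of_induced H lam k
  intro ψ hψ hψne
  obtain ⟨d, hd0, hd⟩ := helper4.exists_pos_nat_degree hψ
  apply hlow ψ hψ d hd
  by_cases hd1 : d = 1
  · left; exact hd1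
  · right
    have hidx : H.index = e := by
      have h1 : χ 1 = (H.index : ℂ) := by rw [hχH, helper4.indFun_one]; simp
      rw [he] at h1; exact_mod_cast h1.symm
    have h2 := degree_lt_of_constituent_perm H ψ hψ hψne d hd hd1
    omega

/-- **Taketa's theorem for three degrees**: an M-group whose irreducible characters have degrees
in `{1, m, n}` has derived length at most `3`. -/
theorem taketa_three {G : Type*} [Group G] [Fintype G] (m n : ℕ)
    (hcd : ∀ χ : G → ℂ, IsIrrCharacter G χ → χ 1 = 1 ∨ χ 1 = (m : ℂ) ∨ χ 1 = (n : ℂ))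
    (hmono : ∀ χ : G → ℂ, IsIrrCharacter G χ →
      ∃ (H : Subgroup G) (lam : H →* ℂˣ), χ = indFun H (fun h => ((lam h : ℂˣ) : ℂ))) :
    derivedSeries G 3 = ⊥ := by
  classical
  wlog hmn : m ≤ n with Hw
  · exact Hw n m (fun χ hχ => by rcases hcd χ hχ with h | h | h <;> tauto) hmono (by omega)
  have hcdN : ∀ ψ : G → ℂ, IsIrrCharacter G ψ → ∀ d : ℕ, ψ 1 = d → d = 1 ∨ d = m ∨ d = n := by
    intro ψ hψ d hd
    rcases hcd ψ hψ with h | h | h
    · left; rw [hd] at h; exact_mod_cast h
    · right; left; rw [hd] at h; exact_mod_cast h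
    · right; right; rw [hd] at h; exact_mod_cast h
  have hlin : ∀ ψ : G → ℂ, IsIrrCharacter G ψ → ψ 1 = 1 →
      ∀ g ∈ derivedSeries G 1, ψ g = ψ 1 := by
    intro ψ hψ hψ1 g hg
    apply helper82.linear_commutator (helper4.isCharacter_of_isIrrCharacter hψ) hψ1
    rwa [derivedSeries_one] at hg
  have h2 : ∀ χ : G → ℂ, IsIrrCharacter G χ → χ 1 = (m : ℂ) →
      ∀ g ∈ derivedSeries G 2, χ g = χ 1 := by
    intro χ hχ hχm
    apply taketa_step 1 χ (hmono χ hχ) m hχm
    intro ψ hψ d hd hdlt
    apply hlin ψ hψ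
    rcases hcdN ψ hψ d hd with h | h | h
    · rw [hd, h]; simp
    · rcases hdlt with h' | h'
      · rw [hd, h']; simp
      · omega
    · rcases hdlt with h' | h'
      · rw [hd, h']; simp
      · omega
  have h3 : ∀ χ : G → ℂ, IsIrrCharacter G χ → χ 1 = (n : ℂ) →
      ∀ g ∈ derivedSeries G 3, χ g = χ 1 := by
    intro χ hχ hχn
    apply taketa_step 2 χ (hmono χ hχ) n hχn
    intro ψ hψ d hd hdlt
    rcases hcdN ψ hψ d hd with h | h | h
    · intro g hg
      exact hlin ψ hψ (by rw [hd, h]; simp) g (derivedSeries_antitone G (by norm_num) hg)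
    · exact h2 ψ hψ (by rw [hd, h])
    · rcases hdlt with h' | h'
      · intro g hg
        exact hlin ψ hψ (by rw [hd, h']; simp) g (derivedSeries_antitone G (by norm_num) hg)
      · omega
  apply eq_bot_of_irr_trivial
  intro χ hχ g hg
  rcases hcd χ hχ with h | h | h
  · exact hlin χ hχ h g (derivedSeries_antitone G (by norm_num) hg)
  · exact h2 χ hχ h g (derivedSeries_antitone G (by norm_num) hg)
  · exact h3 χ hχ h g hg

/-! ### Derived series of subgroups and quotients -/

theorem map_derivedSeries_subtype_succ {G : Type*} [Group G] (H : Subgroup G) (i : ℕ) :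
    (derivedSeries H (i + 1)).map H.subtype =
      ⁅(derivedSeries H i).map H.subtype, (derivedSeries H i).map H.subtype⁆ := by
  rw [derivedSeries_succ, Subgroup.map_commutator]

theorem map_derivedSeries_subtype_one {G : Type*} [Group G] (H : Subgroup G) :
    (derivedSeries H 1).map H.subtype = ⁅H, H⁆ := by
  rw [map_derivedSeries_subtype_succ, derivedSeries_zero, ← MonoidHom.range_eq_map,
    Subgroup.range_subtype]

theorem derivedSeries_le_map_of_le {G : Type*} [Group G] (H : Subgroup G) (i j : ℕ)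
    (h : derivedSeries G i ≤ (derivedSeries H j).map H.subtype) (t : ℕ) :
    derivedSeries G (i + t) ≤ (derivedSeries H (j + t)).map H.subtype := by
  induction t with
  | zero => simpa using h
  | succ t ih =>
    rw [← add_assoc, ← add_assoc, derivedSeries_succ, map_derivedSeries_subtype_succ]
    exact Subgroup.commutator_mono ih ih

theorem derivedSeries_le_of_quot {G : Type*} [Group G] (N : Subgroup G) [N.Normal] (i : ℕ)
    (h : derivedSeries (G ⧸ N) i = ⊥) : derivedSeries G i ≤ N := by
  have h1 := map_derivedSeries_le_derivedSeries (QuotientGroup.mk' N) i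
  rw [h] at h1
  intro g hg
  have h2 : (QuotientGroup.mk' N) g ∈ (⊥ : Subgroup (G ⧸ N)) :=
    h1 (Subgroup.mem_map_of_mem _ hg)
  rw [Subgroup.mem_bot] at h2
  exact (QuotientGroup.eq_one_iff g).mp h2

/-- If all irreducible characters are linear, the group is abelian. -/
theorem derivedSeries_one_eq_bot_of_linear {X : Type*} [Group X] [Finite X]
    (h : ∀ χ : X → ℂ, IsIrrCharacter X χ → χ 1 = 1) : derivedSeries X 1 = ⊥ := by
  classical
  haveI : Fintype X := Fintype.ofFinite X
  apply eq_bot_of_irr_trivial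
  intro χ hχ g hg
  apply helper82.linear_commutator (helper4.isCharacter_of_isIrrCharacter hχ) (h χ hχ)
  rwa [derivedSeries_one] at hg

/-- If the irreducible characters have degrees in `{1, m}`, the group is metabelian. -/
theorem derivedSeries_two_eq_bot_of_two_deg {X : Type*} [Group X] [Finite X] (m : ℕ)
    (h : ∀ χ : X → ℂ, IsIrrCharacter X χ → χ 1 = 1 ∨ χ 1 = (m : ℂ)) :
    derivedSeries X 2 = ⊥ := by
  classical
  by_cases hex : ∃ χ : X → ℂ, IsIrrCharacter X χ ∧ χ 1 = (m : ℂ)
  · obtain ⟨χ₀, hχ₀, hχ₀m⟩ := hex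
    have hcd : ∀ χ : IrrCharacter X,
        charDegree (χ : X → ℂ) = 1 ∨ charDegree (χ : X → ℂ) = m := by
      intro χ
      have h1 := helper83.irr_one_eq_charDegree χ
      rcases h χ.1 χ.2 with h2 | h2
      · left; rw [h1] at h2; exact_mod_cast h2
      · right; rw [h1] at h2; exact_mod_cast h2
    have hm : ∃ χ : IrrCharacter X, charDegree (χ : X → ℂ) = m := by
      refine ⟨⟨χ₀, hχ₀⟩, ?_⟩
      have h1 := helper83.irr_one_eq_charDegree (⟨χ₀, hχ₀⟩ : IrrCharacter X)
      have h2 : (χ₀ 1 : ℂ) = (charDegree χ₀ : ℂ) := h1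
      rw [hχ₀m] at h2; exact_mod_cast h2.symm
    have hab := two_deg_derived_abelian m hcd hm
    have h2 : derivedSeries X 2 = ⁅derivedSeries X 1, derivedSeries X 1⁆ := derivedSeries_succ X 1
    rw [h2, Subgroup.commutator_eq_bot_iff_le_centralizer, derivedSeries_one]
    intro a ha
    rw [Subgroup.mem_centralizer_iff]
    intro b hb
    exact hab b hb a ha
  · have h1 : derivedSeries X 1 = ⊥ := by
      apply derivedSeries_one_eq_bot_of_linear
      intro χ hχ
      rcases h χ hχ with h2 | h2
      · exact h2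
      · exact absurd ⟨χ, hχ, h2⟩ hex
    have h2 := derivedSeries_antitone X (show 1 ≤ 2 by norm_num)
    rw [h1] at h2
    exact le_bot_iff.mp h2

/-- **Isaacs 12.15, non-coprime case**: if the irreducible characters of `G` have degrees in
`{1, m, n}`, a prime `p` divides both `m` and `n`, and the theorem holds for all proper subgroups,
then the third derived subgroup of `G` is trivial. -/
theorem three_deg_noncoprime {G : Type u} [Group G] [Finite G] (m n : ℕ)
    (hcd : ∀ χ : IrrCharacter G, charDegree (χ : G → ℂ) = 1 ∨ charDegree (χ : G → ℂ) = m ∨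
      charDegree (χ : G → ℂ) = n)
    (p : ℕ) (hp : p.Prime) (hpm : p ∣ m) (hpn : p ∣ n)
    (IH : ∀ H : Subgroup G, Nat.card H < Nat.card G → ∀ a b : ℕ,
      (∀ φ : IrrCharacter H, charDegree (φ : H → ℂ) = 1 ∨ charDegree (φ : H → ℂ) = a ∨
        charDegree (φ : H → ℂ) = b) → derivedSeries H 3 = ⊥) :
    derivedSeries G 3 = ⊥ := by
  classical
  haveI : Fintype G := Fintype.ofFinite G
  haveI : Fact p.Prime := ⟨hp⟩
  have hcd' : ∀ χ : G → ℂ, IsIrrCharacter G χ → χ 1 = 1 ∨ χ 1 = (m : ℂ) ∨ χ 1 = (n : ℂ) := by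
    intro χ hχ
    have h1 : χ 1 = (charDegree χ : ℂ) :=
      helper83.irr_one_eq_charDegree (⟨χ, hχ⟩ : IrrCharacter G)
    rcases hcd ⟨χ, hχ⟩ with h | h | h
    · left; rw [h1]
      have h' : charDegree χ = 1 := h
      rw [h']; simp
    · right; left; rw [h1]
      have h' : charDegree χ = m := h
      rw [h']
    · right; right; rw [h1]
      have h' : charDegree χ = n := h
      rw [h']
  -- the abelian case
  by_cases hlinall : ∀ χ : G → ℂ, IsIrrCharacter G χ → χ 1 = 1
  · have h1 := derivedSeries_one_eq_bot_of_linear hlinall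
    have h2 := derivedSeries_antitone G (show 1 ≤ 3 by norm_num)
    rw [h1] at h2
    exact le_bot_iff.mp h2
  push Not at hlinall
  obtain ⟨χ₀, hχ₀, hχ₀1⟩ := hlinall
  have hpG : p ∣ Nat.card G := by
    have h1 := helper82.irr_degree_dvd_card (⟨χ₀, hχ₀⟩ : IrrCharacter G)
    rcases hcd ⟨χ₀, hχ₀⟩ with h | h | h
    · exfalso; apply hχ₀1
      have h2 : χ₀ 1 = (charDegree χ₀ : ℂ) :=
        helper83.irr_one_eq_charDegree (⟨χ₀, hχ₀⟩ : IrrCharacter G)
      have h' : charDegree χ₀ = 1 := h
      rw [h2, h']; simp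
    · rw [h] at h1; exact hpm.trans h1
    · rw [h] at h1; exact hpn.trans h1
  -- Thompson's normal `p`-complement
  obtain ⟨H, hHn, hHcop, k, hHk⟩ := helper82.thompson_normal_p_complement p (G := G) (by
    intro χ hχ
    rcases hcd χ with h | h | h
    · exact absurd h hχ
    · rw [h]; exact hpm
    · rw [h]; exact hpn)
  haveI := hHn
  haveI : Fintype H := Fintype.ofFinite H
  have hHlt : Nat.card H < Nat.card G := by
    have h1 : Nat.card H * H.index = Nat.card G := Subgroup.card_mul_index H
    have h2 : H.index ≠ 1 := by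
      intro h3
      rw [h3, mul_one] at h1
      rw [← h1] at hpG
      have h4 := Nat.Coprime.eq_one_of_dvd hHcop.symm hpG
      exact hp.one_lt.ne' h4
    have h3 : 0 < H.index := Nat.pos_of_ne_zero (Subgroup.index_ne_zero_of_finite)
    have h4 : 0 < Nat.card H := Nat.card_pos
    have h5 : 2 ≤ H.index := by omega
    rw [← h1]
    calc Nat.card H < Nat.card H * 2 := by omega
      _ ≤ Nat.card H * H.index := Nat.mul_le_mul_left _ h5
  -- degrees of `H`
  have hHdeg : ∀ φ : H → ℂ, IsIrrCharacter H φ →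
      ∃ c : ℕ, φ 1 = c ∧ (c = 1 ∨ c = ordCompl[p] m ∨ c = ordCompl[p] n) := by
    intro φ hφ
    obtain ⟨χ, hχ, hcon⟩ := helper82.exists_irr_over H hφ
    obtain ⟨k', hk', hχ1⟩ := helper82.degree_quot_dvd_index H hχ hφ hcon
    obtain ⟨c, hc0, hc⟩ := helper4.exists_pos_nat_degree hφ
    have hcdvd : c ∣ Nat.card H := by
      have h1 := helper82.irr_degree_dvd_card (⟨φ, hφ⟩ : IrrCharacter H)
      have h2 : φ 1 = (charDegree φ : ℂ) :=
        helper83.irr_one_eq_charDegree (⟨φ, hφ⟩ : IrrCharacter H)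
      have h3 : charDegree φ = c := by rw [hc] at h2; exact_mod_cast h2.symm
      have h1' : charDegree φ ∣ Nat.card H := h1
      rwa [h3] at h1'
    have hcp : ¬ p ∣ c := by
      intro h
      have h4 := Nat.Coprime.eq_one_of_dvd hHcop.symm (h.trans hcdvd)
      exact hp.one_lt.ne' h4
    rw [hHk] at hk'
    obtain ⟨j, -, rfl⟩ := (Nat.dvd_prime_pow hp).mp hk'
    refine ⟨c, hc, ?_⟩
    have hχ1' : χ 1 = ((p ^ j * c : ℕ) : ℂ) := by rw [hχ1, hc]; push_cast; ring
    rcases hcd' χ hχ with h | h | h
    · left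
      have h5 : p ^ j * c = 1 := by rw [hχ1'] at h; exact_mod_cast h
      exact Nat.eq_one_of_mul_eq_one_left h5
    · right; left
      have h5 : p ^ j * c = m := by rw [hχ1'] at h; exact_mod_cast h
      rw [← h5, Nat.ordCompl_pow_mul_of_not_dvd j hp hcp]
    · right; right
      have h5 : p ^ j * c = n := by rw [hχ1'] at h; exact_mod_cast h
      rw [← h5, Nat.ordCompl_pow_mul_of_not_dvd j hp hcp]
  -- the quotient by the derived subgroup of `H`
  obtain ⟨N, hNdef⟩ : ∃ N : Subgroup G, N = ⁅H, H⁆ := ⟨_, rfl⟩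
  haveI hNn : N.Normal := by rw [hNdef]; infer_instance
  have hNH : N ≤ H := by rw [hNdef]; exact Subgroup.commutator_le_right H H
  have hQdeg : ∀ β : G ⧸ N → ℂ, IsIrrCharacter (G ⧸ N) β →
      ∃ j : ℕ, β 1 = ((p ^ j : ℕ) : ℂ) ∧ (β 1 = 1 ∨ β 1 = (m : ℂ) ∨ β 1 = (n : ℂ)) := by
    intro β hβ
    have hχ := helper82.isIrrCharacter_inflation N hβ
    have h1 := hcd' _ hχ
    have h1' : β 1 = 1 ∨ β 1 = (m : ℂ) ∨ β 1 = (n : ℂ) := by simpa using h1
    obtain ⟨A, hA⟩ : ∃ A : Subgroup (G ⧸ N), A = H.map (QuotientGroup.mk' N) := ⟨_, rfl⟩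
    haveI : A.Normal := by
      rw [hA]; exact Subgroup.Normal.map hHn _ (QuotientGroup.mk'_surjective N)
    have hAab : ∀ a ∈ A, ∀ b ∈ A, a * b = b * a := by
      rw [hA]
      rintro _ ⟨x, hx, rfl⟩ _ ⟨y, hy, rfl⟩
      rw [← commutatorElement_eq_one_iff_mul_comm, ← map_commutatorElement]
      have h2 : ⁅x, y⁆ ∈ N := by
        rw [hNdef]; exact Subgroup.commutator_mem_commutator hx hy
      exact (QuotientGroup.eq_one_iff _).mpr h2
    obtain ⟨d, hd, hdvd⟩ := helper82.ito_char A hAab hβ
    have hAidx : A.index = H.index := by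
      rw [hA]
      exact Subgroup.index_map_eq _ (QuotientGroup.mk'_surjective N)
        (by rw [QuotientGroup.ker_mk']; exact hNH)
    rw [hAidx, hHk] at hdvd
    obtain ⟨j, -, rfl⟩ := (Nat.dvd_prime_pow hp).mp hdvd
    exact ⟨j, hd, h1'⟩
  have hN1 : N = (derivedSeries H 1).map H.subtype := by
    rw [hNdef, map_derivedSeries_subtype_one]
  have key : ∀ i j : ℕ, derivedSeries (G ⧸ N) i = ⊥ → derivedSeries H (1 + j) = ⊥ → i + j = 3 →
      derivedSeries G 3 = ⊥ := by
    intro i j hQ hH hij
    have h1 : derivedSeries G i ≤ (derivedSeries H 1).map H.subtype := by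
      rw [← hN1]; exact derivedSeries_le_of_quot N i hQ
    have h2 := derivedSeries_le_map_of_le H i 1 h1 j
    rw [hH, Subgroup.map_bot, hij] at h2
    exact le_bot_iff.mp h2
  have hpow1 : ∀ (j d : ℕ), ((p ^ j : ℕ) : ℂ) = (d : ℂ) → ordCompl[p] d = 1 := by
    intro j d h
    have h1 : p ^ j = d := by exact_mod_cast h
    rw [← h1]; exact Nat.ordCompl_self_pow hp
  by_cases ha : ordCompl[p] m = 1
  · by_cases hb : ordCompl[p] n = 1
    · -- both degrees are `p`-powers: `H` is abelian and `G` is an M-group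
      have hHab : ∀ x y : H, x * y = y * x := by
        apply comm_of_all_linear
        intro φ hφ
        obtain ⟨c, hc, hc'⟩ := hHdeg φ hφ
        rw [ha, hb] at hc'
        have hc1 : c = 1 := by tauto
        rw [hc, hc1]; simp
      apply taketa_three m n hcd'
      intro χ hχ
      exact monomial_of_abelian_by_pgroup H
        (fun a ha b hb => congrArg Subtype.val (hHab ⟨a, ha⟩ ⟨b, hb⟩)) p k hp hHk χ hχ
    · -- `m` is a `p`-power, `n` is not
      apply key 2 1
      · apply derivedSeries_two_eq_bot_of_two_deg m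
        intro β hβ
        obtain ⟨j, hj, h1 | h1 | h1⟩ := hQdeg β hβ
        · left; exact h1
        · right; exact h1
        · exfalso; rw [hj] at h1; exact hb (hpow1 j n h1)
      · apply derivedSeries_two_eq_bot_of_two_deg (ordCompl[p] n)
        intro φ hφ
        obtain ⟨c, hc, hc'⟩ := hHdeg φ hφ
        rw [ha] at hc'
        rcases hc' with h1 | h1 | h1
        · left; rw [hc, h1]; simp
        · left; rw [hc, h1]; simp
        · right; rw [hc, h1]
      · rfl
  · by_cases hb : ordCompl[p] n = 1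
    · -- `n` is a `p`-power, `m` is not
      apply key 2 1
      · apply derivedSeries_two_eq_bot_of_two_deg n
        intro β hβ
        obtain ⟨j, hj, h1 | h1 | h1⟩ := hQdeg β hβ
        · left; exact h1
        · exfalso; rw [hj] at h1; exact ha (hpow1 j m h1)
        · right; exact h1
      · apply derivedSeries_two_eq_bot_of_two_deg (ordCompl[p] m)
        intro φ hφ
        obtain ⟨c, hc, hc'⟩ := hHdeg φ hφ
        rw [hb] at hc'
        rcases hc' with h1 | h1 | h1
        · left; rw [hc, h1]; simp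
        · right; rw [hc, h1]
        · left; rw [hc, h1]; simp
      · rfl
    · -- neither degree is a `p`-power
      apply key 1 2
      · apply derivedSeries_one_eq_bot_of_linear
        intro β hβ
        obtain ⟨j, hj, h1 | h1 | h1⟩ := hQdeg β hβ
        · exact h1
        · exfalso; rw [hj] at h1; exact ha (hpow1 j m h1)
        · exfalso; rw [hj] at h1; exact hb (hpow1 j n h1)
      · apply IH H hHlt (ordCompl[p] m) (ordCompl[p] n)
        intro φ
        obtain ⟨c, hc, hc'⟩ := hHdeg φ.1 φ.2
        have h2 : (φ : H → ℂ) 1 = (charDegree (φ : H → ℂ) : ℂ) :=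
          helper83.irr_one_eq_charDegree φ
        have h3 : charDegree (φ : H → ℂ) = c := by rw [hc] at h2; exact_mod_cast h2.symm
        rw [h3]; exact hc'
      · rfl

end Cfsg.Agent.Lib.helper19
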