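import Mathlib
import Cfsg.Agent.Lib.helper19.TwoDegB
import Cfsg.Agent.Lib.helper21.GalConj
import Cfsg.Agent.Lib.helper81.Kernel
import Cfsg.Agent.Lib.helper5.NormalDeg
import Cfsg.Agent.Lib.helper4.CharDecomp
import Cfsg.Agent.Lib.helper4.CliffordAb
import Cfsg.Agent.Lib.helper82.Ito

/-!
# Groups with character degrees `1` and `p` (helper19): Isaacs 12.11, first half

* `exists_fully_ramified`: a nonabelian group with `cd(G) ⊆ {1, p}` and `G / Z(G)` a `p`-group has
  a normal subgroup `Z` of index `p ^ 2` and an irreducible character of degree `p` vanishing off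
  `Z` with `|χ| = p` on `Z`.
* `abelian_of_fully_ramified`: such a `Z` is abelian.
-/

set_option autoImplicit false
set_option linter.style.haveILetI false
set_option linter.unusedSectionVars false

namespace Cfsg.Agent.Lib.helper19

open Cfsg
open scoped ComplexConjugate commutatorElement

universe u

section FR

variable {G : Type u} [Group G] [Finite G]

/-- A fully ramified character of degree `p`. -/
theorem exists_fully_ramified (p : ℕ) (hp : p.Prime)
    (hcd : ∀ χ : G → ℂ, IsIrrCharacter G χ → χ 1 = 1 ∨ χ 1 = (p : ℂ))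
    (hG : ∃ a b : G, a * b ≠ b * a)
    (hpow : ∀ g : G, ∃ k : ℕ, g ^ (p ^ k) ∈ Subgroup.center G) :
    ∃ (Z : Subgroup G) (χ : G → ℂ), Z.Normal ∧ IsIrrCharacter G χ ∧ χ 1 = (p : ℂ) ∧
      Z.index = p ^ 2 ∧ (∀ g : G, g ∉ Z → χ g = 0) ∧
      (∀ z ∈ Z, χ z * χ z⁻¹ = (p : ℂ) ^ 2) ∧
      (∀ a b : G, a * b * a⁻¹ * b⁻¹ ∈ Z) ∧ Subgroup.center G ≤ Z ∧
      (∀ x : G, Z ⊔ Subgroup.zpowers x ≠ ⊤) := by
  classical
  haveI : Fact p.Prime := ⟨hp⟩
  have hne : ∃ χ : IrrCharacter G, (χ : G → ℂ) 1 ≠ 1 := by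
    by_contra hcon
    push Not at hcon
    obtain ⟨a, b, hab⟩ := hG
    exact hab (comm_of_all_linear (fun χ hχ => hcon ⟨χ, hχ⟩) a b)
  haveI : Nonempty {χ : IrrCharacter G // (χ : G → ℂ) 1 ≠ 1} :=
    let ⟨χ, h⟩ := hne; ⟨⟨χ, h⟩⟩
  obtain ⟨χs, hmax⟩ := Finite.exists_max (fun χ : {χ : IrrCharacter G // (χ : G → ℂ) 1 ≠ 1} =>
    Nat.card (helper81.charKer (χ.1 : G → ℂ) (helper83.isCharacter_of_irr χ.1.2)))
  have hχ : IsIrrCharacter G (χs.1 : G → ℂ) := χs.1.2
  have hχc : IsCharacter G (χs.1 : G → ℂ) := helper83.isCharacter_of_irr hχ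
  have hχ1 : (χs.1 : G → ℂ) 1 = (p : ℂ) := (hcd _ hχ).resolve_left χs.2
  obtain ⟨K, hKdef⟩ : ∃ K : Subgroup G, K = helper81.charKer (χs.1 : G → ℂ) hχc := ⟨_, rfl⟩
  have hcardK : Nat.card K = Nat.card (helper81.charKer (χs.1 : G → ℂ) hχc) := by rw [hKdef]
  haveI hKn : K.Normal := by rw [hKdef]; infer_instance
  have hKmem : ∀ g, g ∈ K ↔ (χs.1 : G → ℂ) g = (χs.1 : G → ℂ) 1 := by
    intro g; rw [hKdef]; exact helper81.mem_charKer _ _ g
  obtain ⟨ψ, hψ, hψχ⟩ := helper82.isIrrCharacter_deflation K hχ (fun x hx => (hKmem x).1 hx)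
  have hψ1 : ψ 1 = (p : ℂ) := by
    have h := hψχ 1
    rw [hχ1] at h; exact h
  have hp0 : (p : ℂ) ≠ 0 := by exact_mod_cast hp.ne_zero
  have hfaith : ∀ q : G ⧸ K, ψ q = ψ 1 → q = 1 := by
    intro q hq
    obtain ⟨g, rfl⟩ := QuotientGroup.mk_surjective q
    rw [hψχ, hψ1, ← hχ1] at hq
    exact (QuotientGroup.eq_one_iff g).2 ((hKmem g).2 hq)
  have hDZ : commutator (G ⧸ K) ≤ Subgroup.center (G ⧸ K) := by
    by_contra hnot
    obtain ⟨ξ, hξ1, hξZ⟩ := helper21.exists_nonlinear_of_not_le (Subgroup.center (G ⧸ K)) hnot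
    have hξ' : IsIrrCharacter G (fun g : G => (ξ : G ⧸ K → ℂ) (g : G ⧸ K)) :=
      helper82.isIrrCharacter_inflation K ξ.2
    have hξ'1 : (fun g : G => (ξ : G ⧸ K → ℂ) (g : G ⧸ K)) 1 ≠ 1 := by
      intro h
      apply hξ1
      have h1 : (ξ : G ⧸ K → ℂ) 1 = (charDegree (ξ : G ⧸ K → ℂ) : ℂ) :=
        helper83.irr_one_eq_charDegree ξ
      have h2 : (ξ : G ⧸ K → ℂ) 1 = 1 := h
      rw [h1] at h2
      exact_mod_cast h2
    have hle := hmax ⟨⟨_, hξ'⟩, hξ'1⟩
    have hKle : K ≤ helper81.charKer (fun g : G => (ξ : G ⧸ K → ℂ) (g : G ⧸ K))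
        (helper83.isCharacter_of_irr hξ') := by
      intro g hg
      rw [helper81.mem_charKer]
      show (ξ : G ⧸ K → ℂ) (g : G ⧸ K) = (ξ : G ⧸ K → ℂ) ((1 : G) : G ⧸ K)
      rw [(QuotientGroup.eq_one_iff g).2 hg]; rfl
    have hKeq : K = helper81.charKer (fun g : G => (ξ : G ⧸ K → ℂ) (g : G ⧸ K))
        (helper83.isCharacter_of_irr hξ') :=
      Subgroup.eq_of_le_of_card_ge hKle (by rw [hcardK]; exact hle)
    have hcb : Subgroup.center (G ⧸ K) = ⊥ := by
      rw [Subgroup.eq_bot_iff_forall]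
      intro q hq
      obtain ⟨g, rfl⟩ := QuotientGroup.mk_surjective q
      have h1 := hξZ _ hq
      have h2 : g ∈ helper81.charKer (fun g : G => (ξ : G ⧸ K → ℂ) (g : G ⧸ K))
          (helper83.isCharacter_of_irr hξ') := by
        rw [helper81.mem_charKer]; exact h1
      rw [← hKeq] at h2
      exact (QuotientGroup.eq_one_iff g).2 h2
    have hPG : IsPGroup p (G ⧸ K) := by
      intro q
      obtain ⟨g, rfl⟩ := QuotientGroup.mk_surjective q
      obtain ⟨k, hk⟩ := hpow g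
      refine ⟨k, ?_⟩
      have h1 : ((g ^ (p ^ k) : G) : G ⧸ K) ∈ Subgroup.center (G ⧸ K) := by
        rw [Subgroup.mem_center_iff]
        intro r
        obtain ⟨h, rfl⟩ := QuotientGroup.mk_surjective r
        rw [← QuotientGroup.mk_mul, ← QuotientGroup.mk_mul, Subgroup.mem_center_iff.1 hk h]
      rw [hcb, Subgroup.mem_bot] at h1
      rw [← QuotientGroup.mk_pow]; exact h1
    haveI : Nontrivial (G ⧸ K) := by
      by_contra hnt
      rw [not_nontrivial_iff_subsingleton] at hnt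
      apply hnot
      intro x _
      have : x = 1 := Subsingleton.elim _ _
      rw [this]; exact Subgroup.one_mem _
    have hnt := hPG.center_nontrivial
    exact (Subgroup.nontrivial_iff_ne_bot _).1 hnt hcb
  have hvanq : ∀ x : G ⧸ K, x ∉ Subgroup.center (G ⧸ K) → ψ x = 0 := fun x hx =>
    helper21.irr_vanish_off_center hDZ ⟨ψ, hψ⟩ (fun y _ hy => hfaith y hy) x hx
  have hsq := helper21.irr_degree_sq_of_vanish (⟨ψ, hψ⟩ : IrrCharacter (G ⧸ K)) hvanq
  have hdeg : charDegree ψ = p := by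
    have h1 : ψ 1 = (charDegree ψ : ℂ) :=
      helper83.irr_one_eq_charDegree (⟨ψ, hψ⟩ : IrrCharacter (G ⧸ K))
    have h2 : ((charDegree ψ : ℕ) : ℂ) = (p : ℂ) := by rw [← h1]; exact hψ1
    exact_mod_cast h2
  obtain ⟨Z, hZdef⟩ : ∃ Z : Subgroup G,
      Z = (Subgroup.center (G ⧸ K)).comap (QuotientGroup.mk' K) := ⟨_, rfl⟩
  have hZmem : ∀ g : G, g ∈ Z ↔ (g : G ⧸ K) ∈ Subgroup.center (G ⧸ K) := by
    intro g; rw [hZdef]; rfl
  have hZidx : Z.index = p ^ 2 := by
    rw [hZdef, Subgroup.index_comap_of_surjective _ (QuotientGroup.mk'_surjective K)]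
    have h1 := (Subgroup.center (G ⧸ K)).card_mul_index
    have hsq' : p ^ 2 * Nat.card (Subgroup.center (G ⧸ K)) = Nat.card (G ⧸ K) := by
      rw [← hdeg]; exact hsq
    rw [← hsq'] at h1
    have hpos : 0 < Nat.card (Subgroup.center (G ⧸ K)) := Nat.card_pos
    exact Nat.eq_of_mul_eq_mul_left hpos (by rw [h1, mul_comm])
  refine ⟨Z, (χs.1 : G → ℂ), ?_, hχ, hχ1, hZidx, ?_, ?_, ?_, ?_, ?_⟩
  · rw [hZdef]; infer_instance
  · intro g hg
    rw [← hψχ g]
    exact hvanq _ (fun h => hg ((hZmem g).2 h))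
  · intro z hz
    have hzc : (z : G ⧸ K) ∈ Subgroup.center (G ⧸ K) := (hZmem z).1 hz
    obtain ⟨c, hc⟩ := irr_mul_center (⟨ψ, hψ⟩ : IrrCharacter (G ⧸ K)) (z : G ⧸ K) hzc
    obtain ⟨c', hc'⟩ := irr_mul_center (⟨ψ, hψ⟩ : IrrCharacter (G ⧸ K)) ((z : G ⧸ K))⁻¹
      (Subgroup.inv_mem _ hzc)
    have h1 : ψ (z : G ⧸ K) = c * ψ 1 := by
      have h := hc 1
      rw [one_mul] at h; exact h
    have h2 : ψ ((z : G ⧸ K))⁻¹ = c' * ψ 1 := by
      have h := hc' 1
      rw [one_mul] at h; exact h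
    have h3 : ψ 1 = c' * ψ (z : G ⧸ K) := by
      have h := hc' (z : G ⧸ K)
      rw [mul_inv_cancel] at h; exact h
    rw [h1] at h3
    have h4 : c' * c = 1 := by
      have h5 : (c' * c) * ψ 1 = 1 * ψ 1 := by rw [one_mul, mul_assoc, ← h3]
      exact mul_right_cancel₀ (by rw [hψ1]; exact hp0) h5
    rw [← hψχ z, ← hψχ z⁻¹, QuotientGroup.mk_inv, h1, h2]
    calc c * ψ 1 * (c' * ψ 1) = (c' * c) * (ψ 1 * ψ 1) := by ring
      _ = (p : ℂ) ^ 2 := by rw [h4, one_mul, hψ1]; ring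
  · intro a b
    rw [hZmem]
    apply hDZ
    have h1 := Subgroup.commutator_mem_commutator (Subgroup.mem_top (a : G ⧸ K))
      (Subgroup.mem_top (b : G ⧸ K))
    rw [commutatorElement_def] at h1
    rw [commutator_def]
    simpa using h1
  · intro z hz
    rw [hZmem, Subgroup.mem_center_iff]
    intro q
    obtain ⟨g, rfl⟩ := QuotientGroup.mk_surjective q
    rw [← QuotientGroup.mk_mul, ← QuotientGroup.mk_mul, Subgroup.mem_center_iff.1 hz g]
  · intro x htop
    have hle : Z ⊔ Subgroup.zpowers x ≤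
        (Subgroup.centralizer ({(x : G ⧸ K)} : Set (G ⧸ K))).comap (QuotientGroup.mk' K) := by
      apply sup_le
      · intro z hz
        rw [Subgroup.mem_comap, Subgroup.mem_centralizer_iff]
        intro y hy
        rw [Set.mem_singleton_iff] at hy
        rw [hy]
        exact Subgroup.mem_center_iff.1 ((hZmem z).1 hz) _
      · rw [Subgroup.zpowers_le, Subgroup.mem_comap, Subgroup.mem_centralizer_iff]
        intro y hy
        rw [Set.mem_singleton_iff] at hy
        rw [hy]; rfl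
    rw [htop, top_le_iff] at hle
    have hxc : (x : G ⧸ K) ∈ Subgroup.center (G ⧸ K) := by
      rw [Subgroup.mem_center_iff]
      intro q
      obtain ⟨g, rfl⟩ := QuotientGroup.mk_surjective q
      have hg : g ∈ (Subgroup.centralizer ({(x : G ⧸ K)} : Set (G ⧸ K))).comap
          (QuotientGroup.mk' K) := by
        rw [hle]; exact Subgroup.mem_top g
      rw [Subgroup.mem_comap, Subgroup.mem_centralizer_iff] at hg
      exact (hg _ rfl).symm
    have hxZ : x ∈ Z := (hZmem x).2 hxc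
    have h1 : Z ⊔ Subgroup.zpowers x = Z := sup_eq_left.2 ((Subgroup.zpowers_le).2 hxZ)
    rw [h1] at htop
    rw [htop, Subgroup.index_top] at hZidx
    have h2 := hp.one_lt
    nlinarith [hZidx]

/-- The subgroup `Z` over which a character of degree `p` is fully ramified is abelian. -/
theorem abelian_of_fully_ramified (p : ℕ) (hp : p.Prime)
    (hcd : ∀ χ : G → ℂ, IsIrrCharacter G χ → χ 1 = 1 ∨ χ 1 = (p : ℂ))
    (hpow : ∀ g : G, ∃ k : ℕ, g ^ (p ^ k) ∈ Subgroup.center G)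
    (Z : Subgroup G) [hZn : Z.Normal] (χ₀ : G → ℂ) (hχ₀ : IsIrrCharacter G χ₀)
    (hχ₀1 : χ₀ 1 = (p : ℂ)) (hidx : Z.index = p ^ 2) (hvan : ∀ g : G, g ∉ Z → χ₀ g = 0)
    (hnorm : ∀ z ∈ Z, χ₀ z * χ₀ z⁻¹ = (p : ℂ) ^ 2) :
    ∀ a ∈ Z, ∀ b ∈ Z, a * b = b * a := by
  classical
  haveI : Fact p.Prime := ⟨hp⟩
  haveI : Fintype G := Fintype.ofFinite G
  haveI : Fintype Z := Fintype.ofFinite Z
  have key : ∀ a b : Z, a * b = b * a := by
    apply comm_of_all_linear
    intro φ hφ
    by_contra hφ1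
    have hZc : ∀ a ∈ Subgroup.center Z, ∀ b ∈ Subgroup.center Z, a * b = b * a :=
      fun a ha b _ => (Subgroup.mem_center_iff.1 ha b).symm
    obtain ⟨d, hd, hdvd⟩ := helper82.ito_char (Subgroup.center Z) hZc hφ
    have hPG : IsPGroup p (Z ⧸ Subgroup.center Z) := by
      intro q
      obtain ⟨z, rfl⟩ := QuotientGroup.mk_surjective q
      obtain ⟨k, hk⟩ := hpow (z : G)
      refine ⟨k, ?_⟩
      rw [← QuotientGroup.mk_pow, QuotientGroup.eq_one_iff, Subgroup.mem_center_iff]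
      intro w
      apply Subtype.ext
      have h1 := Subgroup.mem_center_iff.1 hk (w : G)
      simpa using h1
    obtain ⟨n, hn⟩ := (IsPGroup.iff_card).1 hPG
    have hidxc : (Subgroup.center Z).index = p ^ n := by
      rw [Subgroup.index_eq_card]; exact hn
    rw [hidxc] at hdvd
    obtain ⟨j, _, hj⟩ := (Nat.dvd_prime_pow hp).1 hdvd
    have hd1 : d ≠ 1 := by
      intro h; apply hφ1; rw [hd, h]; simp
    have hjpos : 0 < j := by
      rcases Nat.eq_zero_or_pos j with h0 | h0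
      · exfalso; apply hd1; rw [hj, h0, pow_zero]
      · exact h0
    obtain ⟨χ, hχ, e, he0, heq, hχ1⟩ := helper5.exists_irr_over Z hφ
    obtain ⟨t, ht⟩ : ∃ t : ℕ, t = (helper82.inertia Z φ).index := ⟨_, rfl⟩
    have hN : χ 1 = ((e * t * p ^ j : ℕ) : ℂ) := by
      rw [hχ1, hd, hj, ht]; push_cast; ring
    have hpd : p ^ j ∣ e * t * p ^ j := Dvd.intro_left _ rfl
    have hd_eq : d = p ∧ χ 1 = (p : ℂ) := by
      rcases hcd χ hχ with h | h
      · exfalso
        rw [hN] at h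
        have h' : e * t * p ^ j = 1 := by exact_mod_cast h
        rw [h'] at hpd
        have h1 : p ^ j = 1 := Nat.dvd_one.1 hpd
        have h2 : p ∣ 1 := by rw [← h1]; exact dvd_pow_self p hjpos.ne'
        exact hp.one_lt.ne' (Nat.dvd_one.1 h2)
      · refine ⟨?_, h⟩
        rw [hN] at h
        have h' : e * t * p ^ j = p := by exact_mod_cast h
        rw [h'] at hpd
        have hj1 : j ≤ 1 := by
          by_contra hgt
          push Not at hgt
          have h1 : p ^ 2 ∣ p := dvd_trans (pow_dvd_pow p hgt) hpd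
          have h3 := Nat.le_of_dvd hp.pos h1
          nlinarith [hp.one_lt]
        have h4 : j = 1 := le_antisymm hj1 hjpos
        rw [hj, h4, pow_one]
    have hres : (fun z : Z => χ z) = φ := by
      apply helper4.eq_of_isCharacter_of_classInner_ne_zero_of_degree_eq
        (helper4.isCharacter_restrict Z (helper83.isCharacter_of_irr hχ)) hφ
      · rw [heq]; exact_mod_cast he0
      · show χ ((1 : Z) : G) = φ 1
        rw [hd, hd_eq.1, Subgroup.coe_one]; exact hd_eq.2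
    have hZ0 : (Nat.card Z : ℂ) ≠ 0 := by exact_mod_cast Nat.card_pos.ne'
    have hnormZ : ∑ z : Z, χ z * conj (χ z) = (Nat.card Z : ℂ) := by
      have h1 : classInner φ φ = 1 := by
        have h := helper83.classInner_irr (⟨φ, hφ⟩ : IrrCharacter Z) ⟨φ, hφ⟩
        rw [if_pos rfl] at h; exact h
      rw [← hres] at h1
      unfold classInner at h1
      have h2 : (Nat.card Z : ℂ) * ((Nat.card Z : ℂ)⁻¹ * ∑ z : Z, χ z * conj (χ z))
          = (Nat.card Z : ℂ) * 1 := by rw [h1]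
      rw [← mul_assoc, mul_inv_cancel₀ hZ0, one_mul, mul_one] at h2
      exact h2
    have hπ : IsCharacter G (χ * χ₀) :=
      helper4.isCharacter_mul (helper83.isCharacter_of_irr hχ) (helper83.isCharacter_of_irr hχ₀)
    have hp0 : (p : ℂ) ≠ 0 := by exact_mod_cast hp.ne_zero
    have hπnorm : classInner (χ * χ₀) (χ * χ₀) = 1 := by
      unfold classInner
      have hterm : ∀ g : G, (χ * χ₀) g * conj ((χ * χ₀) g)
          = if g ∈ Z then (p : ℂ) ^ 2 * (χ g * conj (χ g)) else 0 := by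
        intro g
        have hinv : conj (χ₀ g) = χ₀ g⁻¹ :=
          (helper83.isCharacter_inv (helper83.isCharacter_of_irr hχ₀) g).symm
        simp only [Pi.mul_apply, map_mul]
        by_cases hg : g ∈ Z
        · rw [if_pos hg, hinv]
          have h1 := hnorm g hg
          calc χ g * χ₀ g * (conj (χ g) * χ₀ g⁻¹)
              = (χ₀ g * χ₀ g⁻¹) * (χ g * conj (χ g)) := by ring
            _ = _ := by rw [h1]
        · rw [if_neg hg, hvan g hg]; ring
      have hsub : ∑ g ∈ Finset.univ.filter (· ∈ Z), (p : ℂ) ^ 2 * (χ g * conj (χ g))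
          = ∑ z : Z, (p : ℂ) ^ 2 * (χ z * conj (χ z)) :=
        Finset.sum_subtype (Finset.univ.filter (· ∈ Z)) (fun x => by simp)
          (fun g => (p : ℂ) ^ 2 * (χ g * conj (χ g)))
      rw [Finset.sum_congr rfl (fun g _ => hterm g), ← Finset.sum_filter, hsub,
        ← Finset.mul_sum, hnormZ]
      have hcard : (Nat.card G : ℂ) = (Nat.card Z : ℂ) * (p : ℂ) ^ 2 := by
        have h1 := Z.card_mul_index
        rw [hidx] at h1
        exact_mod_cast h1.symm
      rw [hcard]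
      field_simp
    have hπirr := helper4.isIrrCharacter_of_isCharacter_of_norm_one hπ hπnorm
    rcases hcd _ hπirr with h | h
    · simp only [Pi.mul_apply] at h
      rw [hd_eq.2, hχ₀1] at h
      have h1 : p * p = 1 := by exact_mod_cast h
      nlinarith [hp.one_lt]
    · simp only [Pi.mul_apply] at h
      rw [hd_eq.2, hχ₀1] at h
      have h1 : p * p = p := by exact_mod_cast h
      nlinarith [hp.one_lt]
  intro a ha b hb
  exact congrArg Subtype.val (key ⟨a, ha⟩ ⟨b, hb⟩)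

end FR

end Cfsg.Agent.Lib.helper19
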