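import Mathlib
import Cfsg.Agent.Lib.helper19.TwoDegD
import Cfsg.Agent.Lib.helper77.BlockCover

/-!
# Groups with character degrees `1` and `p` (helper19): Isaacs 12.11, duality lemmas

For an abelian normal subgroup `Z` of `G`: the commutator homomorphism `commHom g : Z →* Z`,
`z ↦ g z g⁻¹ z⁻¹`, the description of the linear characters of `Z` fixed by `g` and their number,
and the double counting of fixed pairs.
-/

set_option autoImplicit false
set_option linter.style.haveILetI false
set_option linter.unusedSectionVars false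

namespace Cfsg.Agent.Lib.helper19

open Cfsg
open scoped ComplexConjugate

universe u

/-- The number of homomorphisms to `ℂˣ` of a finite commutative group trivial on a subgroup `S`
is the index of `S`. -/
theorem card_hom_ker_ge {A : Type*} [Group A] [Finite A] (hA : ∀ a b : A, a * b = b * a)
    (S : Subgroup A) : Nat.card {μ : A →* ℂˣ // S ≤ μ.ker} = S.index := by
  letI : CommGroup A := { (inferInstance : Group A) with mul_comm := hA }
  have h1 := CommGroup.card_domRestrictHom_ker (G := A) ℂ S
  rw [← Subgroup.index_eq_card] at h1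
  rw [← h1]
  apply Nat.card_congr
  refine Equiv.subtypeEquivRight (fun μ => ?_)
  rw [MonoidHom.mem_ker]
  constructor
  · intro h
    ext ⟨s, hs⟩
    have := h hs
    rw [MonoidHom.mem_ker] at this
    simp [this]
  · intro h s hs
    rw [MonoidHom.mem_ker]
    have h2 := DFunLike.congr_fun h ⟨s, hs⟩
    simpa using h2

/-- The number of homomorphisms to `ℂˣ` of a finite commutative group. -/
theorem card_hom_eq {A : Type*} [Group A] [Finite A] (hA : ∀ a b : A, a * b = b * a) :
    Nat.card (A →* ℂˣ) = Nat.card A := by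
  letI : CommGroup A := { (inferInstance : Group A) with mul_comm := hA }
  exact CommGroup.card_monoidHom_of_hasEnoughRootsOfUnity A ℂ

/-- The cardinality of a subtype as a sum of indicators. -/
theorem natCard_subtype_eq_sum {α : Type*} [Fintype α] (P : α → Prop) [DecidablePred P] :
    Nat.card {a // P a} = ∑ a : α, if P a then 1 else 0 := by
  rw [Nat.card_eq_fintype_card, Fintype.card_subtype, Finset.card_filter]

/-- The cardinality of a subtype as the cardinality of a filter. -/
theorem natCard_subtype_eq_card_filter {α : Type*} [Fintype α] (P : α → Prop) [DecidablePred P] :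
    Nat.card {a // P a} = (Finset.univ.filter P).card := by
  rw [Nat.card_eq_fintype_card, Fintype.card_subtype]

section Dual2

variable {G : Type u} [Group G] [Finite G] (Z : Subgroup G) [hZn : Z.Normal]
  (hZab : ∀ a ∈ Z, ∀ b ∈ Z, a * b = b * a)

include hZab in
/-- The commutator homomorphism `z ↦ g z g⁻¹ z⁻¹` of an abelian normal subgroup. -/
noncomputable def commHom (g : G) : Z →* Z :=
  MonoidHom.mk' (fun z => ⟨g * z * g⁻¹ * (z : G)⁻¹,
      Z.mul_mem (hZn.conj_mem z z.2 g) (Z.inv_mem z.2)⟩)
    (by
      intro a b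
      apply Subtype.ext
      show g * ((a : G) * b) * g⁻¹ * ((a : G) * b)⁻¹
        = (g * a * g⁻¹ * (a : G)⁻¹) * (g * b * g⁻¹ * (b : G)⁻¹)
      have hw : g * b * g⁻¹ * (b : G)⁻¹ ∈ Z :=
        Z.mul_mem (hZn.conj_mem b b.2 g) (Z.inv_mem b.2)
      have hc := hZab _ hw _ (Z.inv_mem a.2)
      calc g * ((a : G) * b) * g⁻¹ * ((a : G) * b)⁻¹
          = g * a * g⁻¹ * ((g * b * g⁻¹ * (b : G)⁻¹) * (a : G)⁻¹) := by group
        _ = g * a * g⁻¹ * ((a : G)⁻¹ * (g * b * g⁻¹ * (b : G)⁻¹)) := by rw [hc]
        _ = _ := by group)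

theorem commHom_coe (g : G) (z : Z) :
    ((commHom Z hZab g z : Z) : G) = g * z * g⁻¹ * (z : G)⁻¹ := rfl

theorem mem_ker_commHom (g : G) (z : Z) :
    z ∈ (commHom Z hZab g).ker ↔ g * (z : G) = z * g := by
  rw [MonoidHom.mem_ker]
  constructor
  · intro h
    have h1 : g * z * g⁻¹ * (z : G)⁻¹ = 1 := by
      rw [← commHom_coe Z hZab g z, h]; rfl
    have h2 : g * z * g⁻¹ = z := by rw [mul_inv_eq_one] at h1; exact h1
    calc g * (z : G) = g * z * g⁻¹ * g := by group
      _ = z * g := by rw [h2]
  · intro h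
    apply Subtype.ext
    rw [commHom_coe, h]
    show (z : G) * g * g⁻¹ * (z : G)⁻¹ = 1
    group

/-- A linear character is fixed by `g` iff it is trivial on the range of `commHom g`. -/
theorem dualAct_eq_iff (g : G) (μ : Z →* ℂˣ) :
    dualAct Z g μ = μ ↔ (commHom Z hZab g).range ≤ μ.ker := by
  have hfac : ∀ z : Z, (⟨g * z * g⁻¹, hZn.conj_mem z z.2 g⟩ : Z) = commHom Z hZab g z * z := by
    intro z
    apply Subtype.ext
    show g * z * g⁻¹ = g * z * g⁻¹ * (z : G)⁻¹ * z
    group
  constructor
  · intro h r hr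
    obtain ⟨z, rfl⟩ := hr
    rw [MonoidHom.mem_ker]
    have h1 := DFunLike.congr_fun h z
    rw [dualAct_apply, hfac, map_mul] at h1
    exact mul_eq_right.mp h1
  · intro h
    refine MonoidHom.ext fun z => ?_
    rw [dualAct_apply, hfac, map_mul]
    have h1 : commHom Z hZab g z ∈ μ.ker := h ⟨z, rfl⟩
    rw [MonoidHom.mem_ker] at h1
    rw [h1, one_mul]

/-- The number of linear characters fixed by `g` is the order of `C_Z(g)`. -/
theorem card_fixed_dual (g : G) :
    Nat.card {μ : Z →* ℂˣ // dualAct Z g μ = μ} = Nat.card (commHom Z hZab g).ker := by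
  have hab : ∀ a b : Z, a * b = b * a := fun a b => Subtype.ext (hZab a a.2 b b.2)
  have h1 : Nat.card {μ : Z →* ℂˣ // dualAct Z g μ = μ}
      = Nat.card {μ : Z →* ℂˣ // (commHom Z hZab g).range ≤ μ.ker} :=
    Nat.card_congr (Equiv.subtypeEquivRight (fun μ => dualAct_eq_iff Z hZab g μ))
  rw [h1, card_hom_ker_ge hab]
  have h2 := (commHom Z hZab g).range.card_mul_index
  have h3 := (commHom Z hZab g).ker.card_mul_index
  rw [Subgroup.index_ker] at h3
  have hpos : 0 < Nat.card (commHom Z hZab g).range := Nat.card_pos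
  exact Nat.eq_of_mul_eq_mul_left hpos (by rw [h2, ← h3, mul_comm])

end Dual2

end Cfsg.Agent.Lib.helper19
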