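import Mathlib
import Cfsg.Agent.Lib.helper19.ThreeDegA
import Cfsg.Agent.Lib.helper19.ThreeDegB
import Cfsg.Agent.Lib.helper19.Gallagher
import Cfsg.Agent.Lib.helper19.AbelianOver
import Cfsg.Agent.Lib.helper19.DetChar
import Cfsg.Agent.Lib.helper19.TwoDegE
import Cfsg.Agent.Lib.helper77.BlockCover
import Cfsg.Agent.Lib.helper82.CoprimeCount

/-!
# Groups with three character degrees (helper19): the coprime case of Isaacs 12.15

* `no_pgroup_quot`: if `cd(G) ⊆ {1, m, n}` with `m, n` coprime and both occurring, then no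
  quotient `G/K` is a nonabelian `q`-group.
* `twist_eq_of_all_fixed`: Isaacs 12.4 (coprime form).
* `three_deg_frobenius_case`, `three_deg_coprime_of_quot`.
-/

set_option autoImplicit false
set_option linter.style.haveILetI false
set_option linter.unusedSectionVars false

namespace Cfsg.Agent.Lib.helper19

open Cfsg
open scoped commutatorElement

universe u

/-- Auxiliary for `no_pgroup_quot`. -/
theorem no_pgroup_quot_aux {G : Type u} [Group G] [Finite G] (f f' : ℕ)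
    (hcd : ∀ χ : G → ℂ, IsIrrCharacter G χ → χ 1 = 1 ∨ χ 1 = (f : ℂ) ∨ χ 1 = (f' : ℂ))
    (hf1 : f ≠ 1) (hf'1 : f' ≠ 1) (hcop : Nat.Coprime f f')
    (K : Subgroup G) [hKn : K.Normal] (q j : ℕ) (hq : q.Prime) (hKq : K.index = q ^ j)
    (hqf : q ∣ f) (β : G → ℂ) (hβ : IsIrrCharacter G β) (hβK : ∀ x ∈ K, β x = β 1)
    (hβ1 : β 1 = (f : ℂ)) (ξ : G → ℂ) (hξ : IsIrrCharacter G ξ) (hξ1 : ξ 1 = (f' : ℂ)) :
    False := by
  classical
  haveI : Fintype G := Fintype.ofFinite G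
  haveI : Fintype K := Fintype.ofFinite K
  have hdeg : charDegree ξ = f' := by
    have h1 : ξ 1 = (charDegree ξ : ℂ) :=
      helper83.irr_one_eq_charDegree (⟨ξ, hξ⟩ : IrrCharacter G)
    rw [hξ1] at h1; exact_mod_cast h1.symm
  have hcopK : (charDegree ξ).Coprime K.index := by
    rw [hdeg, hKq]
    apply Nat.Coprime.pow_right
    exact (Nat.Coprime.coprime_dvd_left hqf hcop).symm
  have hξK := helper82.restrict_irr_of_coprime_degree K hξ hcopK
  have hirr := isIrr_mul_of_trivial K ξ hξ hξK β hβ hβK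
  have h1 : (ξ * β) 1 = ((f' * f : ℕ) : ℂ) := by
    rw [Pi.mul_apply, hξ1, hβ1]; push_cast; ring
  have hf0 : f ≠ 0 := by
    intro h; rw [h] at hβ1
    obtain ⟨d, hd0, hd⟩ := helper4.exists_pos_nat_degree hβ
    rw [hd] at hβ1
    have : d = 0 := by exact_mod_cast hβ1
    omega
  have hf'0 : f' ≠ 0 := by
    intro h; rw [h] at hξ1
    obtain ⟨d, hd0, hd⟩ := helper4.exists_pos_nat_degree hξ
    rw [hd] at hξ1
    have : d = 0 := by exact_mod_cast hξ1
    omega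
  have hf2 : 2 ≤ f := by omega
  have hf'2 : 2 ≤ f' := by omega
  rcases hcd _ hirr with h | h | h
  · rw [h1] at h
    have h2 : f' * f = 1 := by exact_mod_cast h
    nlinarith
  · rw [h1] at h
    have h2 : f' * f = f := by exact_mod_cast h
    nlinarith
  · rw [h1] at h
    have h2 : f' * f = f' := by exact_mod_cast h
    nlinarith

/-- If `cd(G) ⊆ {1, m, n}` with `m, n ≠ 1` coprime and both occurring, no quotient `G/K` is a
nonabelian `q`-group. -/
theorem no_pgroup_quot {G : Type u} [Group G] [Finite G] (m n : ℕ)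
    (hcd : ∀ χ : G → ℂ, IsIrrCharacter G χ → χ 1 = 1 ∨ χ 1 = (m : ℂ) ∨ χ 1 = (n : ℂ))
    (hm : ∃ χ : G → ℂ, IsIrrCharacter G χ ∧ χ 1 = (m : ℂ))
    (hn : ∃ χ : G → ℂ, IsIrrCharacter G χ ∧ χ 1 = (n : ℂ))
    (hm1 : m ≠ 1) (hn1 : n ≠ 1) (hcop : Nat.Coprime m n)
    (K : Subgroup G) [hKn : K.Normal] (q : ℕ) (hq : q.Prime) (hKq : IsPGroup q (G ⧸ K))
    (hna : ∃ a b : G ⧸ K, a * b ≠ b * a) : False := by
  classical
  haveI : Fact q.Prime := ⟨hq⟩
  obtain ⟨j, hj⟩ := (IsPGroup.iff_card (p := q) (G := G ⧸ K)).mp hKq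
  have hKidx : K.index = q ^ j := by rw [Subgroup.index_eq_card]; exact hj
  -- a nonlinear irreducible character of `G/K`
  have hex : ∃ β : G ⧸ K → ℂ, IsIrrCharacter (G ⧸ K) β ∧ β 1 ≠ 1 := by
    by_contra hcon
    push Not at hcon
    obtain ⟨a, b, hab⟩ := hna
    exact hab (comm_of_all_linear hcon a b)
  obtain ⟨β, hβ, hβ1⟩ := hex
  obtain ⟨d, hd0, hd⟩ := helper4.exists_pos_nat_degree hβ
  have hddvd : d ∣ q ^ j := by
    have h1 := helper82.irr_degree_dvd_card (⟨β, hβ⟩ : IrrCharacter (G ⧸ K))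
    have h2 : β 1 = (charDegree β : ℂ) :=
      helper83.irr_one_eq_charDegree (⟨β, hβ⟩ : IrrCharacter (G ⧸ K))
    have h3 : charDegree β = d := by rw [hd] at h2; exact_mod_cast h2.symm
    have h1' : charDegree β ∣ Nat.card (G ⧸ K) := h1
    rwa [h3, hj] at h1'
  obtain ⟨i, -, rfl⟩ := (Nat.dvd_prime_pow hq).mp hddvd
  have hi0 : i ≠ 0 := by
    intro h; apply hβ1; rw [hd, h]; simp
  have hqd : q ∣ q ^ i := dvd_pow_self q hi0
  obtain ⟨βG, hβGdef⟩ : ∃ βG : G → ℂ, βG = fun g : G => β (g : G ⧸ K) := ⟨_, rfl⟩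
  have hβG : IsIrrCharacter G βG := by
    rw [hβGdef]; exact helper82.isIrrCharacter_inflation K hβ
  have hβGK : ∀ x ∈ K, βG x = βG 1 := by
    intro x hx
    have h1 : ((x : G) : G ⧸ K) = ((1 : G) : G ⧸ K) := by
      rw [QuotientGroup.mk_one]; exact (QuotientGroup.eq_one_iff x).mpr hx
    rw [hβGdef]
    simp only [h1]
  have hβG1 : βG 1 = ((q ^ i : ℕ) : ℂ) := by
    rw [hβGdef]
    simp only [QuotientGroup.mk_one]; exact hd
  obtain ⟨ξm, hξm, hξm1⟩ := hm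
  obtain ⟨ξn, hξn, hξn1⟩ := hn
  rcases hcd βG hβG with h | h | h
  · rw [hβG1] at h
    have h2 : q ^ i = 1 := by exact_mod_cast h
    apply hβ1; rw [hd, h2]; simp
  · rw [hβG1] at h
    have h2 : q ^ i = m := by exact_mod_cast h
    exact no_pgroup_quot_aux m n hcd hm1 hn1 hcop K q j hq hKidx (h2 ▸ hqd) βG hβG hβGK
      (by rw [hβG1, h2]) ξn hξn hξn1
  · rw [hβG1] at h
    have h2 : q ^ i = n := by exact_mod_cast h
    exact no_pgroup_quot_aux n m (fun χ hχ => by rcases hcd χ hχ with h | h | h <;> tauto)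
      hn1 hm1 hcop.symm K q j hq hKidx (h2 ▸ hqd) βG hβG hβGK (by rw [hβG1, h2]) ξm hξm hξm1

/-! ### Isaacs 12.4 (coprime form) -/

section LemmaF

variable {G : Type*} [Group G] (N K : Subgroup G) [hN : N.Normal] [hK : K.Normal]

/-- If `x ∉ N` acts without fixed points on `N/K`, and `x` fixes both `μ` and `lam * μ` for a
linear character `lam` of `N/K`, then `lam * μ = μ` (coprime case). -/
theorem eq_of_fixed_twist (hNK : ∀ a ∈ N, ∀ b ∈ N, a * b * a⁻¹ * b⁻¹ ∈ K)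
    (o r : ℕ) (hor : Nat.Coprime o r) (x : G) (hxo : x ^ o ∈ N) (hr : ∀ y ∈ N, y ^ r ∈ K)
    (hfpf : ∀ y ∈ N, x * y * x⁻¹ * y⁻¹ ∈ K → y ∈ K)
    (lam : N →* ℂˣ) (hlam : ∀ k : N, (k : G) ∈ K → lam k = 1)
    (μ : N → ℂ) (hμ : ∀ y : N, μ (MulAut.conjNormal x y) = μ y)
    (hlμ : ∀ y : N, ((lam (MulAut.conjNormal x y) : ℂˣ) : ℂ) * μ (MulAut.conjNormal x y) =
      ((lam y : ℂˣ) : ℂ) * μ y) :
    ∀ y : N, ((lam y : ℂˣ) : ℂ) * μ y = μ y := by
  classical
  intro y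
  by_cases hy : μ y = 0
  · rw [hy, mul_zero]
  obtain ⟨c, hc⟩ : ∃ c : MulAut N, c = MulAut.conjNormal x := ⟨_, rfl⟩
  rw [← hc] at hμ hlμ
  have hyi : ∀ i : ℕ, μ ((c ^ i) y) = μ y ∧ lam ((c ^ i) y) = lam y := by
    intro i
    induction i with
    | zero => simp
    | succ i ih =>
      have e : (c ^ (i + 1)) y = c ((c ^ i) y) := by rw [pow_succ']; rfl
      rw [e]
      refine ⟨by rw [hμ, ih.1], ?_⟩
      have h1 := hlμ ((c ^ i) y)
      rw [hμ, ih.1] at h1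
      have h2 := mul_right_cancel₀ hy h1
      rw [← ih.2]
      exact Units.ext h2
  obtain ⟨P, hP0, hPs⟩ : ∃ P : ℕ → N, P 0 = 1 ∧ ∀ j, P (j + 1) = P j * (c ^ j) y :=
    ⟨fun j => Nat.rec 1 (fun j p => p * (c ^ j) y) j, rfl, fun j => rfl⟩
  have hlamP : ∀ j, lam (P j) = lam y ^ j := by
    intro j
    induction j with
    | zero => rw [hP0]; simp
    | succ j ih => rw [hPs, map_mul, ih, (hyi j).2, pow_succ]
  haveI hK'n : (K.subgroupOf N).Normal := hK.subgroupOf N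
  have hQcomm : ∀ a b : N ⧸ K.subgroupOf N, a * b = b * a := by
    intro a b
    obtain ⟨a, rfl⟩ := QuotientGroup.mk_surjective a
    obtain ⟨b, rfl⟩ := QuotientGroup.mk_surjective b
    rw [← QuotientGroup.mk_mul, ← QuotientGroup.mk_mul, QuotientGroup.eq_iff_div_mem,
      Subgroup.mem_subgroupOf]
    have h1 := hNK a a.2 b b.2
    have h2 : ((a * b / (b * a) : N) : G) = (a : G) * b * (a : G)⁻¹ * (b : G)⁻¹ := by
      simp [div_eq_mul_inv, mul_assoc]
    rw [h2]; exact h1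
  have hcong : ∀ j, (QuotientGroup.mk (c (P j)) : N ⧸ K.subgroupOf N) * QuotientGroup.mk y =
      QuotientGroup.mk (P j) * QuotientGroup.mk ((c ^ j) y) := by
    intro j
    induction j with
    | zero => rw [hP0]; simp
    | succ j ih =>
      have e : c ((c ^ j) y) = (c ^ (j + 1)) y := by rw [pow_succ']; rfl
      rw [hPs, map_mul, QuotientGroup.mk_mul, QuotientGroup.mk_mul, e, mul_assoc,
        hQcomm (QuotientGroup.mk ((c ^ (j + 1)) y)) (QuotientGroup.mk y), ← mul_assoc, ih]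
  have hco : (QuotientGroup.mk ((c ^ o) y) : N ⧸ K.subgroupOf N) = QuotientGroup.mk y := by
    rw [QuotientGroup.eq_iff_div_mem, Subgroup.mem_subgroupOf]
    have h1 : c ^ o = MulAut.conjNormal (x ^ o) := by rw [hc, map_pow]
    have h2 : (((c ^ o) y / y : N) : G) = x ^ o * (y : G) * (x ^ o)⁻¹ * (y : G)⁻¹ := by
      rw [h1, div_eq_mul_inv, Subgroup.coe_mul, Subgroup.coe_inv, MulAut.conjNormal_apply]
    rw [h2]
    exact hNK _ hxo _ y.2
  have hPK : ((P o : N) : G) ∈ K := by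
    apply hfpf _ (P o).2
    have h1 := hcong o
    rw [hco] at h1
    have h2 := mul_right_cancel h1
    rw [QuotientGroup.eq_iff_div_mem, Subgroup.mem_subgroupOf] at h2
    have h3 : ((c (P o) / P o : N) : G) = x * (P o : G) * x⁻¹ * (P o : G)⁻¹ := by
      rw [hc]; simp [div_eq_mul_inv]
    rwa [h3] at h2
  have h1 : lam y ^ o = 1 := by rw [← hlamP, hlam _ hPK]
  have h2 : lam y ^ r = 1 := by
    rw [← map_pow]
    exact hlam _ (by simpa using hr y y.2)
  have h3 : lam y = 1 := by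
    have h4 := orderOf_dvd_of_pow_eq_one h1
    have h5 := orderOf_dvd_of_pow_eq_one h2
    have h6 : orderOf (lam y) ∣ Nat.gcd o r := Nat.dvd_gcd h4 h5
    rw [hor, Nat.dvd_one] at h6
    exact orderOf_eq_one_iff.mp h6
  rw [h3]; simp

/-- **Isaacs 12.4** (coprime form): if every twist `lam * ψ` of the class function `ψ` of `N` by
a linear character of `N/K` is fixed by some element outside `N`, then all twists equal `ψ`. -/
theorem twist_eq_of_all_fixed (hNK : ∀ a ∈ N, ∀ b ∈ N, a * b * a⁻¹ * b⁻¹ ∈ K)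
    (hGN : ∀ a b : G, a * b * a⁻¹ * b⁻¹ ∈ N)
    (o r : ℕ) (hor : Nat.Coprime o r) (ho : ∀ x : G, x ^ o ∈ N) (hr : ∀ y ∈ N, y ^ r ∈ K)
    (hfpf : ∀ x : G, x ∉ N → ∀ y ∈ N, x * y * x⁻¹ * y⁻¹ ∈ K → y ∈ K)
    (ψ : N → ℂ) (hψ : ∀ a b : N, ψ (a * b * a⁻¹) = ψ b)
    (hfix : ∀ lam : N →* ℂˣ, (∀ k : N, (k : G) ∈ K → lam k = 1) →
      ∃ x : G, x ∉ N ∧ ∀ y : N, ((lam (MulAut.conjNormal x y) : ℂˣ) : ℂ) *
        ψ (MulAut.conjNormal x y) = ((lam y : ℂˣ) : ℂ) * ψ y)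
    (lam : N →* ℂˣ) (hlam : ∀ k : N, (k : G) ∈ K → lam k = 1) :
    ∀ y : N, ((lam y : ℂˣ) : ℂ) * ψ y = ψ y := by
  classical
  obtain ⟨x₁, hx₁N, hx₁⟩ := hfix 1 (fun _ _ => rfl)
  have hx₁ψ : ∀ y : N, ψ (MulAut.conjNormal x₁ y) = ψ y := by
    intro y
    have := hx₁ y
    simpa using this
  obtain ⟨x', hx'N, hx'⟩ := hfix lam hlam
  obtain ⟨c₁, hc₁⟩ : ∃ c₁ : MulAut N, c₁ = MulAut.conjNormal x₁ := ⟨_, rfl⟩
  obtain ⟨c', hc'⟩ : ∃ c' : MulAut N, c' = MulAut.conjNormal x' := ⟨_, rfl⟩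
  rw [← hc₁] at hx₁ψ
  rw [← hc'] at hx'
  -- `x'` fixes `y ↦ lam (c₁ y) * ψ y`
  have hstepA : ∀ y : N, ((lam (c₁ (c' y)) : ℂˣ) : ℂ) * ψ (c' y) = ((lam (c₁ y) : ℂˣ) : ℂ) * ψ y := by
    intro y
    -- `c₁ (c' y) = n₀ * c' (c₁ y) * n₀⁻¹` with `n₀ = [x₁, x'] ∈ N`
    obtain ⟨n₀, hn₀⟩ : ∃ n₀ : N, (n₀ : G) = x₁ * x' * x₁⁻¹ * x'⁻¹ := ⟨⟨_, hGN x₁ x'⟩, rfl⟩
    have h1 : c₁ (c' y) = n₀ * c' (c₁ y) * n₀⁻¹ := by
      apply Subtype.ext
      rw [hc₁, hc']
      simp only [MulAut.conjNormal_apply, Subgroup.coe_mul, Subgroup.coe_inv, hn₀]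
      group
    have h2 : lam (c₁ (c' y)) = lam (c' (c₁ y)) := by
      rw [h1, map_mul, map_mul, map_inv, mul_comm, ← mul_assoc, inv_mul_cancel, one_mul]
    have h3 := hx' (c₁ y)
    rw [hx₁ψ] at h3
    -- ψ (c' y) = ψ (c' (c₁ y)) ?  use invariance: ψ (c₁ (c' y)) = ψ (c' y) and class function
    have h4 : ψ (c' (c₁ y)) = ψ (c' y) := by
      have h5 : ψ (c₁ (c' y)) = ψ (c' y) := hx₁ψ (c' y)
      rw [h1, hψ] at h5
      exact h5
    rw [h2, ← h4]
    exact h3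
  -- hence `lam (c₁ y) * ψ y = lam y * ψ y`
  have hstepB : ∀ y : N, ((lam (c₁ y) : ℂˣ) : ℂ) * ψ y = ((lam y : ℂˣ) : ℂ) * ψ y := by
    obtain ⟨l0, hl0⟩ : ∃ l0 : N →* ℂˣ, l0 = lam * (lam.comp c₁.toMonoidHom)⁻¹ := ⟨_, rfl⟩
    have hl0K : ∀ k : N, (k : G) ∈ K → l0 k = 1 := by
      intro k hk
      have h1 : ((c₁ k : N) : G) ∈ K := by
        rw [hc₁, MulAut.conjNormal_apply]; exact hK.conj_mem _ hk x₁
      rw [hl0]
      simp only [MonoidHom.mul_apply, MonoidHom.inv_apply, MonoidHom.comp_apply]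
      have h2 : lam (c₁.toMonoidHom k) = 1 := hlam _ h1
      rw [hlam k hk, h2]; simp
    have hl0v : ∀ y : N, ((l0 y : ℂˣ) : ℂ) * ((lam (c₁ y) : ℂˣ) : ℂ) = ((lam y : ℂˣ) : ℂ) := by
      intro y
      rw [hl0]
      simp only [MonoidHom.mul_apply, MonoidHom.inv_apply, MonoidHom.comp_apply]
      have h2 : lam (c₁.toMonoidHom y) = lam (c₁ y) := rfl
      rw [h2, ← Units.val_mul, inv_mul_cancel_right]
    have h := eq_of_fixed_twist N K hNK o r hor x' (ho x') hr (hfpf x' hx'N) l0 hl0K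
      (fun y => ((lam (c₁ y) : ℂˣ) : ℂ) * ψ y)
      (by
        intro y
        rw [← hc']
        exact hstepA y)
      (by
        intro y
        rw [← hc']
        beta_reduce
        rw [← mul_assoc, hl0v, ← mul_assoc, hl0v]
        exact hx' y)
    intro y
    have h1 := h y
    beta_reduce at h1
    rw [← mul_assoc, hl0v] at h1
    exact h1.symm
  -- finally apply the lemma to `x₁`
  exact eq_of_fixed_twist N K hNK o r hor x₁ (ho x₁) hr (hfpf x₁ hx₁N) lam hlam ψ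
    (by intro y; rw [← hc₁]; exact hx₁ψ y)
    (by
      intro y
      rw [← hc₁, hx₁ψ]
      exact hstepB y)

end LemmaF

/-! ### The Frobenius-type case -/

theorem quot_comm_of_comm_mem {G : Type*} [Group G] (N K : Subgroup G) [hK : K.Normal]
    (hNK : ∀ a ∈ N, ∀ b ∈ N, a * b * a⁻¹ * b⁻¹ ∈ K) :
    haveI : (K.subgroupOf N).Normal := hK.subgroupOf N
    ∀ a b : N ⧸ K.subgroupOf N, a * b = b * a := by
  haveI : (K.subgroupOf N).Normal := hK.subgroupOf N
  intro a b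
  obtain ⟨a, rfl⟩ := QuotientGroup.mk_surjective a
  obtain ⟨b, rfl⟩ := QuotientGroup.mk_surjective b
  rw [← QuotientGroup.mk_mul, ← QuotientGroup.mk_mul, QuotientGroup.eq_iff_div_mem,
    Subgroup.mem_subgroupOf]
  have h1 := hNK a a.2 b b.2
  have h2 : ((a * b / (b * a) : N) : G) = (a : G) * b * (a : G)⁻¹ * (b : G)⁻¹ := by
    simp [div_eq_mul_inv, mul_assoc]
  rw [h2]; exact h1

/-- In the Frobenius-type situation, the nonlinear irreducible characters of `N` all have the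
degree `f'` (the degree different from `f = |G : N|`). -/
theorem three_deg_frobenius_aux {G : Type u} [Group G] [Finite G] (f f' : ℕ)
    (hcd : ∀ χ : G → ℂ, IsIrrCharacter G χ → χ 1 = 1 ∨ χ 1 = (f : ℂ) ∨ χ 1 = (f' : ℂ))
    (hcop : Nat.Coprime f f') (hf1 : f ≠ 1)
    (N K : Subgroup G) [hN : N.Normal] [hK : K.Normal] (hidx : N.index = f)
    (hNK : ∀ a ∈ N, ∀ b ∈ N, a * b * a⁻¹ * b⁻¹ ∈ K)
    (hGN : ∀ a b : G, a * b * a⁻¹ * b⁻¹ ∈ N)
    (q a : ℕ) (hq : q.Prime) (hqf : ¬ q ∣ f) (hr : ∀ y ∈ N, y ^ (q ^ a) ∈ K)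
    (hNneK : ∃ y ∈ N, y ∉ K)
    (hfpf : ∀ x : G, x ∉ N → ∀ y ∈ N, x * y * x⁻¹ * y⁻¹ ∈ K → y ∈ K) :
    ∀ ψ : N → ℂ, IsIrrCharacter N ψ → ψ 1 = 1 ∨ ψ 1 = (f' : ℂ) := by
  classical
  haveI : Fintype G := Fintype.ofFinite G
  haveI : Fintype N := Fintype.ofFinite N
  intro ψ hψ
  obtain ⟨d, hd0, hd⟩ := helper4.exists_pos_nat_degree hψ
  by_cases hd1 : d = 1
  · left; rw [hd, hd1]; simp
  right
  have hψcf : ∀ a b : N, ψ (a * b * a⁻¹) = ψ b := fun a b =>
    helper4.isClassFunction_of_isIrrCharacter hψ b a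
  have hf0 : f ≠ 0 := by
    rw [← hidx]; exact Subgroup.index_ne_zero_of_finite
  -- every twist is fixed by some element outside `N`
  have hfix : ∀ lam : N →* ℂˣ, (∀ k : N, (k : G) ∈ K → lam k = 1) →
      ∃ x : G, x ∉ N ∧ ∀ y : N, ((lam (MulAut.conjNormal x y) : ℂˣ) : ℂ) *
        ψ (MulAut.conjNormal x y) = ((lam y : ℂˣ) : ℂ) * ψ y := by
    intro lam hlam
    by_contra hcon
    push Not at hcon
    obtain ⟨θ, hθdef⟩ : ∃ θ : N → ℂ, θ = ψ * (fun y => ((lam y : ℂˣ) : ℂ)) := ⟨_, rfl⟩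
    have hθ : IsIrrCharacter N θ := by
      rw [hθdef]
      exact isIrr_mul_linear ψ _ hψ (helper82.isIrrCharacter_of_hom lam) (by simp)
    have hin : helper82.inertia N θ ≤ N := by
      intro x hx
      by_contra hxN
      obtain ⟨y, hy⟩ := hcon x hxN
      apply hy
      have h1 := (helper82.mem_inertia_iff N θ x).mp hx y
      rw [hθdef] at h1
      simp only [Pi.mul_apply] at h1
      rw [mul_comm, mul_comm ((lam y : ℂˣ) : ℂ)]
      exact h1
    have hind := (helper77.clifford_corr_irr_ge N (T := N) (le_refl N) hθ hin hθ (by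
      have h1 : (fun n : N => θ ⟨(n : G), (le_refl N) n.2⟩) = θ := rfl
      rw [h1, helper4.classInner_irr_self hθ]; exact one_ne_zero)).1
    have hdeg : indFun N θ 1 = ((f * d : ℕ) : ℂ) := by
      rw [helper4.indFun_one, hθdef, Pi.mul_apply, hd, hidx]; simp
    have hd2 : 2 ≤ d := by omega
    have hf2 : 2 ≤ f := by omega
    rcases hcd _ hind with h | h | h
    · rw [hdeg] at h
      have h2 : f * d = 1 := by exact_mod_cast h
      nlinarith
    · rw [hdeg] at h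
      have h2 : f * d = f := by exact_mod_cast h
      nlinarith
    · rw [hdeg] at h
      have h2 : f * d = f' := by exact_mod_cast h
      have h3 : f ∣ f' := ⟨d, h2.symm⟩
      have h4 := Nat.Coprime.eq_one_of_dvd hcop h3
      exact hf1 h4
  have hcopr : Nat.Coprime f (q ^ a) :=
    Nat.Coprime.pow_right a ((Nat.Prime.coprime_iff_not_dvd hq).mpr hqf).symm
  have hall := twist_eq_of_all_fixed N K hNK hGN f (q ^ a) hcopr
    (fun x => by rw [← hidx]; exact Subgroup.pow_index_mem N x) hr hfpf ψ hψcf hfix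
  -- determinants: `lam ^ d = 1`
  have hψchar := helper4.isCharacter_of_isIrrCharacter hψ
  have hpowd : ∀ lam : N →* ℂˣ, (∀ k : N, (k : G) ∈ K → lam k = 1) → ∀ y : N, lam y ^ d = 1 := by
    intro lam hlam y
    have h1 : ψ * (fun g => ((lam g : ℂˣ) : ℂ)) = ψ := by
      funext z
      rw [Pi.mul_apply, mul_comm]
      exact hall lam hlam z
    have h2 := detChar_mul_linear hψchar lam d hd
    rw [h1] at h2
    obtain ⟨fd, hfd⟩ := exists_detChar_hom hψchar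
    have h3 := congrFun h2 y
    rw [Pi.mul_apply, hfd] at h3
    have h4 : ((fd y : ℂˣ) : ℂ) ≠ 0 := Units.ne_zero _
    have h5 : ((lam y : ℂˣ) : ℂ) ^ d = 1 := by
      have h6 : ((fd y : ℂˣ) : ℂ) * 1 = ((fd y : ℂˣ) : ℂ) * ((lam y : ℂˣ) : ℂ) ^ d := by
        rw [mul_one]; exact h3
      exact (mul_left_cancel₀ h4 h6).symm
    apply Units.ext
    rw [Units.val_pow_eq_pow_val, h5]; rfl
  -- `q ∣ d`
  have hqd : q ∣ d := by
    by_contra hqd
    obtain ⟨y₀, hy₀N, hy₀K⟩ := hNneK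
    haveI : (K.subgroupOf N).Normal := hK.subgroupOf N
    have hQcomm := quot_comm_of_comm_mem N K hNK
    have hne : (QuotientGroup.mk (⟨y₀, hy₀N⟩ : N) : N ⧸ K.subgroupOf N) ≠ 1 := by
      intro h
      rw [QuotientGroup.eq_one_iff, Subgroup.mem_subgroupOf] at h
      exact hy₀K h
    obtain ⟨φ, hφ⟩ := helper82.exists_hom_apply_ne_one hQcomm hne
    obtain ⟨lam₀, hlam₀⟩ : ∃ lam₀ : N →* ℂˣ,
        lam₀ = φ.comp (QuotientGroup.mk' (K.subgroupOf N)) := ⟨_, rfl⟩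
    have hlam₀K : ∀ k : N, (k : G) ∈ K → lam₀ k = 1 := by
      intro k hk
      rw [hlam₀, MonoidHom.comp_apply]
      have h1 : (QuotientGroup.mk' (K.subgroupOf N)) k = 1 := by
        rw [QuotientGroup.mk'_apply, QuotientGroup.eq_one_iff, Subgroup.mem_subgroupOf]
        exact hk
      rw [h1, map_one]
    have h1 := hpowd lam₀ hlam₀K ⟨y₀, hy₀N⟩
    have h2 : lam₀ ⟨y₀, hy₀N⟩ ^ (q ^ a) = 1 := by
      rw [← map_pow]
      exact hlam₀K _ (by simpa using hr y₀ hy₀N)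
    have h3 := orderOf_dvd_of_pow_eq_one h1
    have h4 := orderOf_dvd_of_pow_eq_one h2
    have h5 : Nat.Coprime d (q ^ a) :=
      Nat.Coprime.pow_right a ((Nat.Prime.coprime_iff_not_dvd hq).mpr hqd).symm
    have h6 : orderOf (lam₀ ⟨y₀, hy₀N⟩) ∣ Nat.gcd d (q ^ a) := Nat.dvd_gcd h3 h4
    rw [h5, Nat.dvd_one, orderOf_eq_one_iff] at h6
    apply hφ
    rw [hlam₀, MonoidHom.comp_apply] at h6
    exact h6
  -- a character of `G` over `ψ`
  obtain ⟨χ, hχ, hcon⟩ := helper82.exists_irr_over N hψ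
  obtain ⟨t, ht, hχ1⟩ := helper82.degree_quot_dvd_index N hχ hψ hcon
  have hχ1' : χ 1 = ((t * d : ℕ) : ℂ) := by rw [hχ1, hd]; push_cast; ring
  rcases hcd χ hχ with h | h | h
  · rw [hχ1'] at h
    have h2 : t * d = 1 := by exact_mod_cast h
    exact absurd (Nat.eq_one_of_mul_eq_one_left h2) hd1
  · rw [hχ1'] at h
    have h2 : t * d = f := by exact_mod_cast h
    exact absurd (hqd.trans ⟨t, by rw [← h2, mul_comm]⟩) hqf
  · rw [hχ1'] at h
    have h2 : t * d = f' := by exact_mod_cast h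
    rw [hidx] at ht
    have h3 : t ∣ f' := ⟨d, h2.symm⟩
    have h4 : t = 1 := Nat.eq_one_of_dvd_coprimes hcop ht h3
    rw [h4, one_mul] at h2
    rw [hd, h2]

/-- **Isaacs 12.15, Frobenius-type case**: if `G/K` has abelian derived subgroup `D ≠ 1` which is
a `q`-group of index prime to `q` on which every element outside `D` acts fixed-point-freely, and
`cd(G) ⊆ {1, m, n}` with `m, n` coprime, then the third derived subgroup of `G` is trivial. -/
theorem three_deg_frobenius_case {G : Type u} [Group G] [Finite G] (m n : ℕ)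
    (hcd : ∀ χ : G → ℂ, IsIrrCharacter G χ → χ 1 = 1 ∨ χ 1 = (m : ℂ) ∨ χ 1 = (n : ℂ))
    (hcop : Nat.Coprime m n) (K : Subgroup G) [hK : K.Normal] (q : ℕ) (hq : q.Prime)
    (hDab : ∀ a ∈ commutator (G ⧸ K), ∀ b ∈ commutator (G ⧸ K), a * b = b * a)
    (hDne : commutator (G ⧸ K) ≠ ⊥)
    (hDq : IsPGroup q (commutator (G ⧸ K))) (hqi : ¬ q ∣ (commutator (G ⧸ K)).index)
    (hfpf : ∀ x : G ⧸ K, x ∉ commutator (G ⧸ K) →
      ∀ d ∈ commutator (G ⧸ K), x * d = d * x → d = 1) :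
    derivedSeries G 3 = ⊥ := by
  classical
  haveI : Fintype G := Fintype.ofFinite G
  haveI : Fact q.Prime := ⟨hq⟩
  obtain ⟨D, hD⟩ : ∃ D : Subgroup (G ⧸ K), D = commutator (G ⧸ K) := ⟨_, rfl⟩
  rw [← hD] at hDab hDne hDq hqi hfpf
  haveI hDn : D.Normal := by rw [hD]; infer_instance
  haveI : Fintype D := Fintype.ofFinite D
  obtain ⟨N, hNdef⟩ : ∃ N : Subgroup G, N = D.comap (QuotientGroup.mk' K) := ⟨_, rfl⟩
  haveI hNn : N.Normal := by rw [hNdef]; exact hDn.comap _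
  have hmemN : ∀ g : G, g ∈ N ↔ (g : G ⧸ K) ∈ D := by
    intro g; rw [hNdef, Subgroup.mem_comap]; rfl
  have hidx : N.index = D.index := by
    rw [hNdef]
    exact Subgroup.index_comap_of_surjective D (QuotientGroup.mk'_surjective K)
  have hNK : ∀ a ∈ N, ∀ b ∈ N, a * b * a⁻¹ * b⁻¹ ∈ K := by
    intro a ha b hb
    rw [← QuotientGroup.eq_one_iff]
    have h1 := hDab _ ((hmemN a).mp ha) _ ((hmemN b).mp hb)
    simp only [QuotientGroup.mk_mul, QuotientGroup.mk_inv]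
    rw [h1]; group
  have hGN : ∀ a b : G, a * b * a⁻¹ * b⁻¹ ∈ N := by
    intro a b
    rw [hmemN, hD]
    simp only [QuotientGroup.mk_mul, QuotientGroup.mk_inv]
    exact comm_mem_commutator _ _
  obtain ⟨a, ha⟩ := (IsPGroup.iff_card (p := q) (G := D)).mp hDq
  have hr : ∀ y ∈ N, y ^ (q ^ a) ∈ K := by
    intro y hy
    rw [← QuotientGroup.eq_one_iff, QuotientGroup.mk_pow]
    have h1 : (⟨(y : G ⧸ K), (hmemN y).mp hy⟩ : D) ^ Nat.card D = 1 := pow_card_eq_one'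
    rw [ha] at h1
    exact congrArg Subtype.val h1
  obtain ⟨d₀', hd₀'⟩ := (Subgroup.ne_bot_iff_exists_ne_one).mp hDne
  have hNneK : ∃ y ∈ N, y ∉ K := by
    obtain ⟨y, hy⟩ := QuotientGroup.mk_surjective d₀'.1
    refine ⟨y, (hmemN y).mpr (by rw [hy]; exact d₀'.2), fun h => ?_⟩
    apply hd₀'
    apply Subtype.ext
    rw [← hy]
    exact (QuotientGroup.eq_one_iff y).mpr h
  have hfpf' : ∀ x : G, x ∉ N → ∀ y ∈ N, x * y * x⁻¹ * y⁻¹ ∈ K → y ∈ K := by
    intro x hx y hy hxy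
    rw [← QuotientGroup.eq_one_iff] at hxy ⊢
    apply hfpf (x : G ⧸ K) (fun h => hx ((hmemN x).mpr h)) _ ((hmemN y).mp hy)
    simp only [QuotientGroup.mk_mul, QuotientGroup.mk_inv] at hxy
    calc (x : G ⧸ K) * (y : G ⧸ K)
        = ((x : G ⧸ K) * (y : G ⧸ K) * (x : G ⧸ K)⁻¹ * (y : G ⧸ K)⁻¹) * ((y : G ⧸ K) * (x : G ⧸ K)) := by
          group
      _ = (y : G ⧸ K) * (x : G ⧸ K) := by rw [hxy, one_mul]
  -- `f = |G : N|` is a character degree of `G`
  have hfdeg : ∃ χ : G → ℂ, IsIrrCharacter G χ ∧ χ 1 = (N.index : ℂ) := by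
    have hDcomm : ∀ x y : D, x * y = y * x := fun x y => Subtype.ext (hDab x x.2 y y.2)
    obtain ⟨μ, hμ⟩ := helper82.exists_hom_apply_ne_one hDcomm hd₀'
    have hθ : IsIrrCharacter D (fun b : D => ((μ b : ℂˣ) : ℂ)) := helper82.isIrrCharacter_of_hom μ
    have hin : helper82.inertia D (fun b : D => ((μ b : ℂˣ) : ℂ)) ≤ D := by
      intro g hg
      by_contra hgD
      have h1 := (mem_inertia_dual D μ g).mp hg
      have h2 := (dualAct_eq_iff D hDab g μ).mp h1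
      have hinj : Function.Injective (commHom D hDab g) := by
        rw [injective_iff_map_eq_one]
        intro z hz
        have h3 := (mem_ker_commHom D hDab g z).mp (MonoidHom.mem_ker.mpr hz)
        exact Subtype.ext (hfpf g hgD z z.2 h3)
      have hsurj : Function.Surjective (commHom D hDab g) := Finite.injective_iff_surjective.mp hinj
      obtain ⟨z, hz⟩ := hsurj d₀'
      have h4 : d₀' ∈ μ.ker := h2 ⟨z, hz⟩
      exact hμ (MonoidHom.mem_ker.mp h4)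
    have hind := (helper77.clifford_corr_irr_ge D (T := D) (le_refl D) hθ hin hθ (by
      have h1 : (fun n : D => (fun b : D => ((μ b : ℂˣ) : ℂ)) ⟨(n : G ⧸ K), (le_refl D) n.2⟩)
          = (fun b : D => ((μ b : ℂˣ) : ℂ)) := rfl
      rw [h1, helper4.classInner_irr_self hθ]; exact one_ne_zero)).1
    obtain ⟨χq, hχq⟩ : ∃ χq : G ⧸ K → ℂ, χq = indFun D (fun b : D => ((μ b : ℂˣ) : ℂ)) := ⟨_, rfl⟩
    rw [← hχq] at hind
    refine ⟨fun g => χq (g : G ⧸ K), helper82.isIrrCharacter_inflation K hind, ?_⟩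
    simp only [QuotientGroup.mk_one]
    rw [hχq, helper4.indFun_one, hidx]; simp
  obtain ⟨χf, hχf, hχf1⟩ := hfdeg
  have hf1 : N.index ≠ 1 := by
    intro h
    have hNtop : N = ⊤ := Subgroup.index_eq_one.mp h
    apply hDne
    rw [hD, commutator_def, Subgroup.commutator_eq_bot_iff_le_centralizer]
    intro x _
    rw [Subgroup.mem_centralizer_iff]
    intro y _
    obtain ⟨x', rfl⟩ := QuotientGroup.mk_surjective x
    obtain ⟨y', rfl⟩ := QuotientGroup.mk_surjective y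
    exact hDab _ ((hmemN y').mp (by rw [hNtop]; trivial)) _ ((hmemN x').mp (by rw [hNtop]; trivial))
  have hqN : ¬ q ∣ N.index := by rw [hidx]; exact hqi
  -- the degrees of `N`
  have hNdeg : ∃ f' : ℕ, ∀ ψ : N → ℂ, IsIrrCharacter N ψ → ψ 1 = 1 ∨ ψ 1 = (f' : ℂ) := by
    rcases hcd χf hχf with h | h | h
    · exfalso; rw [hχf1] at h
      exact hf1 (by exact_mod_cast h)
    · rw [hχf1] at h
      have hfm : N.index = m := by exact_mod_cast h
      exact ⟨n, three_deg_frobenius_aux m n hcd hcop (hfm ▸ hf1) N K hfm hNK hGN q a hq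
        (hfm ▸ hqN) hr hNneK hfpf'⟩
    · rw [hχf1] at h
      have hfn : N.index = n := by exact_mod_cast h
      exact ⟨m, three_deg_frobenius_aux n m
        (fun χ hχ => by rcases hcd χ hχ with h | h | h <;> tauto) hcop.symm (hfn ▸ hf1) N K hfn
        hNK hGN q a hq (hfn ▸ hqN) hr hNneK hfpf'⟩
  obtain ⟨f', hf'⟩ := hNdeg
  have hN2 : derivedSeries N 2 = ⊥ := derivedSeries_two_eq_bot_of_two_deg f' hf'
  have h1 : derivedSeries G 1 ≤ (derivedSeries N 0).map N.subtype := by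
    rw [derivedSeries_zero, ← MonoidHom.range_eq_map, Subgroup.range_subtype, derivedSeries_one,
      commutator_def, Subgroup.commutator_le]
    intro a _ b _
    rw [commutatorElement_def]
    exact hGN a b
  have h2 := derivedSeries_le_map_of_le N 1 0 h1 2
  rw [show (0 : ℕ) + 2 = 2 from rfl, hN2, Subgroup.map_bot] at h2
  exact le_bot_iff.mp h2

/-- **Isaacs 12.15, coprime case, given the quotient**: if `cd(G) ⊆ {1, m, n}` with `m, n ≠ 1`
coprime and both occurring, and `K ⊴ G` is such that `G/K` is nonabelian with abelian derived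
subgroup contained in every nontrivial normal subgroup of `G/K`, then the third derived subgroup
of `G` is trivial. -/
theorem three_deg_coprime_of_quot {G : Type u} [Group G] [Finite G] (m n : ℕ)
    (hcd : ∀ χ : G → ℂ, IsIrrCharacter G χ → χ 1 = 1 ∨ χ 1 = (m : ℂ) ∨ χ 1 = (n : ℂ))
    (hm : ∃ χ : G → ℂ, IsIrrCharacter G χ ∧ χ 1 = (m : ℂ))
    (hn : ∃ χ : G → ℂ, IsIrrCharacter G χ ∧ χ 1 = (n : ℂ))
    (hm1 : m ≠ 1) (hn1 : n ≠ 1) (hcop : Nat.Coprime m n)
    (K : Subgroup G) [hK : K.Normal]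
    (hna : ∃ a b : G ⧸ K, a * b ≠ b * a)
    (hDab : ∀ a ∈ commutator (G ⧸ K), ∀ b ∈ commutator (G ⧸ K), a * b = b * a)
    (hmin : ∀ M : Subgroup (G ⧸ K), M.Normal → M ≠ ⊥ → commutator (G ⧸ K) ≤ M) :
    derivedSeries G 3 = ⊥ := by
  obtain ⟨q, hq, h | ⟨hDq, hqi, hfpf⟩⟩ := structure_of_min_nonabelian hna hDab hmin
  · exact (no_pgroup_quot m n hcd hm hn hm1 hn1 hcop K q hq h hna).elim
  · have hDne : commutator (G ⧸ K) ≠ ⊥ := by
      intro h
      obtain ⟨a, b, hab⟩ := hna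
      apply hab
      have h1 := comm_mem_commutator a b
      rw [h, Subgroup.mem_bot] at h1
      have h2 : a * b = (a * b * a⁻¹ * b⁻¹) * (b * a) := by group
      rw [h2, h1, one_mul]
    exact three_deg_frobenius_case m n hcd hcop K q hq hDab hDne hDq hqi hfpf

end Cfsg.Agent.Lib.helper19
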