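import Mathlib
import Cfsg.Agent.Lib.helper19.TwoDegE

/-!
# Groups with character degrees `1` and `p` (helper19): Isaacs 12.11, the centre has index `p ^ 3`

`center_index_cube`: if `cd(G) ⊆ {1, p}`, `G / Z(G)` is a `p`-group, `Z` is an abelian normal
subgroup of index `p ^ 2` containing the centre with `G / Z` not cyclic, and no element outside `Z`
centralises `Z`, then `|G : Z(G)| = p ^ 3`.
-/

set_option autoImplicit false
set_option linter.style.haveILetI false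
set_option linter.unusedSectionVars false
set_option maxHeartbeats 1000000

namespace Cfsg.Agent.Lib.helper19

open Cfsg
open scoped ComplexConjugate

universe u

/-- The arithmetic at the heart of the covering argument. -/
theorem two_deg_numeric (p n f f' m1 m2 cx cy rx ry rxy S : ℕ) (hp : p.Prime) (hn : 0 < n)
    (h1 : f + f' = n) (h2 : m1 + n = p * n) (h3 : m2 + p * n = p ^ 2 * n)
    (hS : f * (p ^ 2 * n) + f' * (p * n) ≤ n * n + m1 * cx + S)
    (hSle : S ≤ m2 * cy)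
    (hcx : cx * rx = n) (hcy : cy * ry = n) (hf : f * rxy = n) (hrxy : rxy ≤ rx * ry)
    (hprx : p ∣ rx) (hpry : p ∣ ry) (hyx : cy ≤ cx) :
    rx = p ∧ ry = p ∧ rxy = p ^ 2 ∧ m2 * n ≤ p * S := by
  have hp2 : 2 ≤ p := hp.two_le
  have hrx0 : 0 < rx := Nat.pos_of_ne_zero (by rintro rfl; rw [mul_zero] at hcx; omega)
  have hry0 : 0 < ry := Nat.pos_of_ne_zero (by rintro rfl; rw [mul_zero] at hcy; omega)
  have hcx0 : 0 < cx := Nat.pos_of_ne_zero (by rintro rfl; rw [zero_mul] at hcx; omega)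
  have hf0 : 0 < f := Nat.pos_of_ne_zero (by rintro rfl; rw [zero_mul] at hf; omega)
  have H1 : (f : ℤ) + f' = n := by exact_mod_cast h1
  have H2 : (m1 : ℤ) + n = p * n := by exact_mod_cast h2
  have H3 : (m2 : ℤ) + p * n = p ^ 2 * n := by exact_mod_cast h3
  have HS : (f : ℤ) * (p ^ 2 * n) + f' * (p * n) ≤ n * n + m1 * cx + S := by exact_mod_cast hS
  have HSle : (S : ℤ) ≤ m2 * cy := by exact_mod_cast hSle
  have Hcx : (cx : ℤ) * rx = n := by exact_mod_cast hcx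
  have Hcy : (cy : ℤ) * ry = n := by exact_mod_cast hcy
  have Hf : (f : ℤ) * rxy = n := by exact_mod_cast hf
  have Hrxy : (rxy : ℤ) ≤ rx * ry := by exact_mod_cast hrxy
  have Hn : (0 : ℤ) < n := by exact_mod_cast hn
  have Hp : (2 : ℤ) ≤ p := by exact_mod_cast hp2
  have Hrx0 : (0 : ℤ) < rx := by exact_mod_cast hrx0
  have Hry0 : (0 : ℤ) < ry := by exact_mod_cast hry0
  have Hcx0 : (0 : ℤ) < cx := by exact_mod_cast hcx0
  have Hf0 : (0 : ℤ) < f := by exact_mod_cast hf0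
  have Hyx : (cy : ℤ) ≤ cx := by exact_mod_cast hyx
  have e1 : (f' : ℤ) = n - f := by linarith
  have e2 : (m1 : ℤ) = p * n - n := by linarith
  have e3 : (m2 : ℤ) = p ^ 2 * n - p * n := by linarith
  rw [e1, e2] at HS
  have HI : (p : ℤ) * f + n ≤ cx + p * cy := by
    have e : (n : ℤ) * ((p : ℤ) - 1) * ((p : ℤ) * f + n)
        ≤ (n : ℤ) * ((p : ℤ) - 1) * (cx + p * cy) := by
      have e4 : (S : ℤ) ≤ (p ^ 2 * n - p * n) * cy := by rw [← e3]; exact HSle
      nlinarith [HS, e4]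
    have hpos : (0 : ℤ) < (n : ℤ) * ((p : ℤ) - 1) := by nlinarith
    exact le_of_mul_le_mul_left e hpos
  have HJ : (p : ℤ) + rx * ry ≤ ry + p * rx := by
    have e : (n : ℤ) * ((p : ℤ) + rx * ry) ≤ n * (ry + p * rx) := by
      have e5 : ((p : ℤ) * f + n) * (rx * ry) ≤ (cx + p * cy) * (rx * ry) :=
        mul_le_mul_of_nonneg_right HI (by positivity)
      have e6 : (cx : ℤ) * (rx * ry) = n * ry := by rw [← Hcx]; ring
      have e7 : (cy : ℤ) * (rx * ry) = n * rx := by rw [← Hcy]; ring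
      have e8 : (n : ℤ) ≤ f * (rx * ry) := by
        rw [← Hf]; exact mul_le_mul_of_nonneg_left Hrxy (by positivity)
      have e9 : (p : ℤ) * n ≤ p * (f * (rx * ry)) := mul_le_mul_of_nonneg_left e8 (by positivity)
      have e10 : (p : ℤ) * (cy * (rx * ry)) = p * (n * rx) := by rw [e7]
      nlinarith [e5, e6, e9, e10]
    exact le_of_mul_le_mul_left e Hn
  have Hprx : (p : ℤ) ≤ rx := by exact_mod_cast Nat.le_of_dvd hrx0 hprx
  have Hpry : (p : ℤ) ≤ ry := by exact_mod_cast Nat.le_of_dvd hry0 hpry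
  have Hry : (ry : ℤ) ≤ p := by
    by_contra hgt
    push Not at hgt
    nlinarith [mul_pos (show (0 : ℤ) < rx - 1 by linarith) (show (0 : ℤ) < ry - p by linarith)]
  have hry : ry = p := by
    have h : ry ≤ p := by exact_mod_cast Hry
    exact le_antisymm h (Nat.le_of_dvd hry0 hpry)
  have Hrxry : (rx : ℤ) ≤ ry := by
    by_contra hgt
    push Not at hgt
    nlinarith [mul_lt_mul_of_pos_left hgt Hcx0,
      mul_le_mul_of_nonneg_right Hyx (show (0 : ℤ) ≤ ry by positivity)]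
  have hrx : rx = p := by
    have h : rx ≤ p := by rw [← hry]; exact_mod_cast Hrxry
    exact le_antisymm h (Nat.le_of_dvd hrx0 hprx)
  have Hcxp : (cx : ℤ) * p = n := by rw [← Hcx, hrx]
  have Hcyp : (cy : ℤ) * p = n := by rw [← Hcy, hry]
  have Hpf : (p : ℤ) ^ 2 * f ≤ n := by
    have e5 := mul_le_mul_of_nonneg_left HI (show (0 : ℤ) ≤ p by positivity)
    have e6 : (p : ℤ) * (cy * p) = p * n := by rw [Hcyp]
    nlinarith [e5, e6, Hcxp]
  have Hnf : (n : ℤ) ≤ f * p ^ 2 := by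
    have h : (rxy : ℤ) ≤ p * p := by rw [hrx, hry] at Hrxy; exact Hrxy
    calc (n : ℤ) = f * rxy := Hf.symm
      _ ≤ f * (p * p) := mul_le_mul_of_nonneg_left h (by positivity)
      _ = f * p ^ 2 := by ring
  have Hfeq : (f : ℤ) * p ^ 2 = n := by linarith
  have hrxy2 : rxy = p ^ 2 := by
    have h : (f : ℤ) * rxy = f * p ^ 2 := by rw [Hf, Hfeq]
    have h' := mul_left_cancel₀ Hf0.ne' h
    exact_mod_cast h'
  have Hlast : (m2 : ℤ) * n ≤ p * S := by
    rw [e3]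
    have e8 := mul_le_mul_of_nonneg_left HS (show (0 : ℤ) ≤ p by positivity)
    have e9 : ((f : ℤ) * p ^ 2) * (p * n) = n * (p * n) := by rw [Hfeq]
    have e10 : ((f : ℤ) * p ^ 2) * n = n * n := by rw [Hfeq]
    have e11 : ((p : ℤ) * n - n) * (cx * p) = (p * n - n) * n := by rw [Hcxp]
    nlinarith [e8, e9, e10, e11]
  exact ⟨hrx, hry, hrxy2, by exact_mod_cast Hlast⟩

section Dual3

variable {G : Type u} [Group G] [Finite G] (Z : Subgroup G) [hZn : Z.Normal]
  (hZab : ∀ a ∈ Z, ∀ b ∈ Z, a * b = b * a)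

/-- If `cd(G) ⊆ {1, p}` and `|G : Z| = p ^ 2`, every linear character of `Z` is fixed by some
element outside `Z`. -/
theorem exists_fixing_of_two_deg (p : ℕ) (hp : p.Prime)
    (hcd : ∀ χ : G → ℂ, IsIrrCharacter G χ → χ 1 = 1 ∨ χ 1 = (p : ℂ))
    (hidx : Z.index = p ^ 2) (μ : Z →* ℂˣ) : ∃ g : G, g ∉ Z ∧ dualAct Z g μ = μ := by
  classical
  haveI : Fintype G := Fintype.ofFinite G
  haveI : Fintype Z := Fintype.ofFinite Z
  by_contra hcon
  push Not at hcon
  have hθ : IsIrrCharacter Z (fun b : Z => ((μ b : ℂˣ) : ℂ)) := helper82.isIrrCharacter_of_hom μ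
  have hT : helper82.inertia Z (fun b : Z => ((μ b : ℂˣ) : ℂ)) ≤ Z := by
    intro g hg
    rw [mem_inertia_dual] at hg
    by_contra hgZ
    exact hcon g hgZ hg
  have hne : classInner (fun n : Z => (fun b : Z => ((μ b : ℂˣ) : ℂ)) ⟨n, le_refl Z n.2⟩)
      (fun b : Z => ((μ b : ℂˣ) : ℂ)) ≠ 0 := by
    have h1 : classInner (fun b : Z => ((μ b : ℂˣ) : ℂ)) (fun b : Z => ((μ b : ℂˣ) : ℂ)) = 1 := by
      have h := helper83.classInner_irr (⟨_, hθ⟩ : IrrCharacter Z) ⟨_, hθ⟩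
      rw [if_pos rfl] at h; exact h
    have h2 : (fun n : Z => (fun b : Z => ((μ b : ℂˣ) : ℂ)) ⟨n, le_refl Z n.2⟩)
        = (fun b : Z => ((μ b : ℂˣ) : ℂ)) := rfl
    rw [h2, h1]; exact one_ne_zero
  have hirr := (helper77.clifford_corr_irr_ge Z Z (le_refl Z) hθ hT hθ hne).1
  have h1 : indFun Z (fun b : Z => ((μ b : ℂˣ) : ℂ)) 1 = (p : ℂ) ^ 2 := by
    rw [helper4.indFun_one, hidx]; simp
  rcases hcd _ hirr with h | h
  · rw [h1] at h
    have h2 : p ^ 2 = 1 := by exact_mod_cast h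
    nlinarith [hp.one_lt]
  · rw [h1] at h
    have h2 : p ^ 2 = p := by exact_mod_cast h
    nlinarith [hp.one_lt]

/-- Double counting of the pairs (linear character, element fixing it). -/
theorem sum_card_inertia [Fintype G] [Fintype (Z →* ℂˣ)] :
    ∑ μ : (Z →* ℂˣ), Nat.card (helper82.inertia Z (fun b : Z => ((μ b : ℂˣ) : ℂ)))
      = ∑ g : G, Nat.card {μ : Z →* ℂˣ // dualAct Z g μ = μ} := by
  classical
  have hL : ∀ μ : (Z →* ℂˣ), Nat.card (helper82.inertia Z (fun b : Z => ((μ b : ℂˣ) : ℂ)))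
      = ∑ g : G, if dualAct Z g μ = μ then 1 else 0 := by
    intro μ
    have h1 := natCard_subtype_eq_sum
      (fun g : G => g ∈ helper82.inertia Z (fun b : Z => ((μ b : ℂˣ) : ℂ)))
    rw [show Nat.card (helper82.inertia Z (fun b : Z => ((μ b : ℂˣ) : ℂ)))
      = Nat.card {g : G // g ∈ helper82.inertia Z (fun b : Z => ((μ b : ℂˣ) : ℂ))} from rfl, h1]
    refine Finset.sum_congr rfl (fun g _ => ?_)
    by_cases h : dualAct Z g μ = μ
    · rw [if_pos h, if_pos ((mem_inertia_dual Z μ g).2 h)]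
    · rw [if_neg h, if_neg (fun h' => h ((mem_inertia_dual Z μ g).1 h'))]
  have hR : ∀ g : G, Nat.card {μ : Z →* ℂˣ // dualAct Z g μ = μ}
      = ∑ μ : (Z →* ℂˣ), if dualAct Z g μ = μ then 1 else 0 :=
    fun g => natCard_subtype_eq_sum _
  rw [Finset.sum_congr rfl (fun μ _ => hL μ), Finset.sum_congr rfl (fun g _ => hR g)]
  exact Finset.sum_comm

/-- The commutator trick: if `[Z, y x]` has order `p`, `[Z, x] ∩ [Z, y] = 1` and
`|C_Z(x)| = |C_Z(y)|`, then `C_Z(x) = C_Z(y)`. -/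
theorem ker_commHom_eq (p : ℕ) (hp : p.Prime) (x y : G)
    (hyx : Nat.card (commHom Z hZab (y * x)).range = p)
    (hinf : (commHom Z hZab x).range ⊓ (commHom Z hZab y).range = ⊥)
    (hcard : Nat.card (commHom Z hZab x).ker = Nat.card (commHom Z hZab y).ker) :
    (commHom Z hZab x).ker = (commHom Z hZab y).ker := by
  by_contra hne
  have h1 : ¬ (commHom Z hZab x).ker ≤ (commHom Z hZab y).ker :=
    fun h => hne (Subgroup.eq_of_le_of_card_ge h (le_of_eq hcard.symm))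
  have h2 : ¬ (commHom Z hZab y).ker ≤ (commHom Z hZab x).ker :=
    fun h => hne (Subgroup.eq_of_le_of_card_ge h (le_of_eq hcard)).symm
  obtain ⟨z₁, hz₁x, hz₁y⟩ := SetLike.not_le_iff_exists.1 h1
  obtain ⟨z₂, hz₂y, hz₂x⟩ := SetLike.not_le_iff_exists.1 h2
  have e1 : commHom Z hZab (y * x) z₁ = commHom Z hZab y z₁ := by
    apply Subtype.ext
    rw [commHom_coe, commHom_coe]
    have hc := (mem_ker_commHom Z hZab x z₁).1 hz₁x
    calc y * x * (z₁ : G) * (y * x)⁻¹ * (z₁ : G)⁻¹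
        = y * (x * (z₁ : G)) * x⁻¹ * y⁻¹ * (z₁ : G)⁻¹ := by group
      _ = y * ((z₁ : G) * x) * x⁻¹ * y⁻¹ * (z₁ : G)⁻¹ := by rw [hc]
      _ = _ := by group
  have e1ne : commHom Z hZab y z₁ ≠ 1 := fun h => hz₁y (MonoidHom.mem_ker.2 h)
  have hle : (commHom Z hZab (y * x)).range ≤ (commHom Z hZab y).range := by
    have hI : (commHom Z hZab (y * x)).range ⊓ (commHom Z hZab y).range ≠ ⊥ := by
      intro h
      have hmem : commHom Z hZab y z₁
          ∈ (commHom Z hZab (y * x)).range ⊓ (commHom Z hZab y).range :=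
        ⟨⟨z₁, e1⟩, ⟨z₁, rfl⟩⟩
      rw [h, Subgroup.mem_bot] at hmem
      exact e1ne hmem
    have hdvd : Nat.card ↥((commHom Z hZab (y * x)).range ⊓ (commHom Z hZab y).range) ∣ p := by
      rw [← hyx]; exact Subgroup.card_dvd_of_le inf_le_left
    have hcI : Nat.card ↥((commHom Z hZab (y * x)).range ⊓ (commHom Z hZab y).range) = p := by
      rcases (Nat.dvd_prime hp).1 hdvd with h | h
      · exact absurd (Subgroup.card_eq_one.1 h) hI
      · exact h
    have heq : (commHom Z hZab (y * x)).range ⊓ (commHom Z hZab y).range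
        = (commHom Z hZab (y * x)).range :=
      Subgroup.eq_of_le_of_card_ge inf_le_left (by rw [hcI, hyx])
    rw [← heq]; exact inf_le_right
  have hc2 := (mem_ker_commHom Z hZab y z₂).1 hz₂y
  have e2 : ((commHom Z hZab (y * x) z₂ : Z) : G) = y * (commHom Z hZab x z₂ : G) * y⁻¹ := by
    rw [commHom_coe, commHom_coe]
    have hc3 : y⁻¹ * (z₂ : G)⁻¹ = (z₂ : G)⁻¹ * y⁻¹ := by
      rw [← mul_inv_rev, ← mul_inv_rev, hc2]
    calc y * x * (z₂ : G) * (y * x)⁻¹ * (z₂ : G)⁻¹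
        = y * x * (z₂ : G) * x⁻¹ * (y⁻¹ * (z₂ : G)⁻¹) := by group
      _ = y * x * (z₂ : G) * x⁻¹ * ((z₂ : G)⁻¹ * y⁻¹) := by rw [hc3]
      _ = _ := by group
  obtain ⟨z', hz'⟩ := hle ⟨z₂, rfl⟩
  have hz'G : y * (z' : G) * y⁻¹ * (z' : G)⁻¹ = y * (commHom Z hZab x z₂ : G) * y⁻¹ := by
    rw [← e2, ← hz', commHom_coe]
  have hmemZ : y⁻¹ * (z' : G) * y ∈ Z := by
    have h := hZn.conj_mem z' z'.2 y⁻¹
    rwa [inv_inv] at h
  have e3 : commHom Z hZab y ⟨y⁻¹ * z' * y, hmemZ⟩ = commHom Z hZab x z₂ := by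
    apply Subtype.ext
    rw [commHom_coe]
    show y * (y⁻¹ * (z' : G) * y) * y⁻¹ * (y⁻¹ * (z' : G) * y)⁻¹ = _
    have h : (commHom Z hZab x z₂ : G) = y⁻¹ * (y * (z' : G) * y⁻¹ * (z' : G)⁻¹) * y := by
      rw [hz'G]; group
    rw [h]; group
  have hx2ne : commHom Z hZab x z₂ ≠ 1 := fun h => hz₂x (MonoidHom.mem_ker.2 h)
  have hmem : commHom Z hZab x z₂ ∈ (commHom Z hZab x).range ⊓ (commHom Z hZab y).range :=
    ⟨⟨z₂, rfl⟩, ⟨_, e3⟩⟩
  rw [hinf, Subgroup.mem_bot] at hmem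
  exact hx2ne hmem

end Dual3

end Cfsg.Agent.Lib.helper19
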