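import Mathlib
import Cfsg.Agent.Lib.helper19.TwoDegF

/-!
# Groups with character degrees `1` and `p` (helper19): Isaacs 12.11, the covering argument

`center_index_cube`: if `cd(G) ⊆ {1, p}`, `G / Z(G)` is a `p`-group, `Z` is an abelian normal
subgroup of index `p ^ 2` containing the centre with `G / Z` not cyclic, and no element outside `Z`
centralises `Z`, then `|G : Z(G)| = p ^ 3`.
-/

set_option autoImplicit false
set_option linter.style.haveILetI false
set_option linter.unusedSectionVars false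
set_option maxHeartbeats 1000000

namespace Cfsg.Agent.Lib.helper19

open Cfsg
open scoped ComplexConjugate

universe u

/-- In a commutative finite group, `|A B| ≤ |A| |B|`, with equality only if `A ∩ B = 1`. -/
theorem card_sup_le_of_comm {H : Type*} [Group H] [Finite H] (hH : ∀ a b : H, a * b = b * a)
    (A B : Subgroup H) : Nat.card ↥(A ⊔ B) ≤ Nat.card A * Nat.card B ∧
      (Nat.card ↥(A ⊔ B) = Nat.card A * Nat.card B → A ⊓ B = ⊥) := by
  haveI : B.Normal := ⟨fun n hn g => by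
    have : g * n * g⁻¹ = n := by rw [hH g n]; group
    rw [this]; exact hn⟩
  have hmem : ∀ a ∈ A, ∀ b ∈ B, a * b ∈ A ⊔ B := fun a ha b hb =>
    (A ⊔ B).mul_mem ((le_sup_left : A ≤ A ⊔ B) ha) ((le_sup_right : B ≤ A ⊔ B) hb)
  let φ : A × B → ↥(A ⊔ B) := fun ab => ⟨(ab.1 : H) * ab.2, hmem _ ab.1.2 _ ab.2.2⟩
  have hsurj : Function.Surjective φ := by
    rintro ⟨z, hz⟩
    have hz' : z ∈ ((A ⊔ B : Subgroup H) : Set H) := hz
    rw [Subgroup.mul_normal, Set.mem_mul] at hz'
    obtain ⟨a, ha, b, hb, rfl⟩ := hz'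
    exact ⟨(⟨a, ha⟩, ⟨b, hb⟩), rfl⟩
  have hcard : Nat.card (A × B) = Nat.card A * Nat.card B := Nat.card_prod _ _
  refine ⟨?_, ?_⟩
  · rw [← hcard]; exact Nat.card_le_card_of_surjective φ hsurj
  · intro heq
    have hbij := hsurj.bijective_of_nat_card_le (by rw [hcard, heq])
    rw [eq_bot_iff]
    intro z hz
    rw [Subgroup.mem_bot]
    have h1 : φ (⟨z, hz.1⟩, ⟨z⁻¹, B.inv_mem hz.2⟩) = φ (1, 1) := by
      apply Subtype.ext
      show z * z⁻¹ = (1 : H) * 1
      simp
    have h2 := hbij.1 h1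
    have h3 := congrArg (fun ab : A × B => (ab.1 : H)) h2
    exact h3

section Dual4

variable {G : Type u} [Group G] [Finite G] (Z : Subgroup G) [hZn : Z.Normal]
  (hZab : ∀ a ∈ Z, ∀ b ∈ Z, a * b = b * a)

/-- If `G / Z(G)` is a `p`-group and `g` does not centralise `Z ≥ Z(G)`, then `p` divides
`|[Z, g]|`. -/
theorem p_dvd_card_range_commHom (p : ℕ) (hp : p.Prime)
    (hpow : ∀ g : G, ∃ k : ℕ, g ^ (p ^ k) ∈ Subgroup.center G)
    (hcen : Subgroup.center G ≤ Z) (g : G) (hg : ∃ z ∈ Z, g * z ≠ z * g) :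
    p ∣ Nat.card (commHom Z hZab g).range := by
  haveI : Fact p.Prime := ⟨hp⟩
  have hPG : IsPGroup p (G ⧸ Subgroup.center G) := by
    intro q
    obtain ⟨a, rfl⟩ := QuotientGroup.mk_surjective q
    obtain ⟨k, hk⟩ := hpow a
    refine ⟨k, ?_⟩
    rw [← QuotientGroup.mk_pow]
    exact (QuotientGroup.eq_one_iff _).2 hk
  obtain ⟨m, hm⟩ := IsPGroup.iff_card.1 hPG
  have hm' : (Subgroup.center G).index = p ^ m := by rw [Subgroup.index_eq_card]; exact hm
  have hle : (Subgroup.center G).subgroupOf Z ≤ (commHom Z hZab g).ker := by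
    intro z hz
    rw [mem_ker_commHom]
    exact (Subgroup.mem_center_iff.1 (Subgroup.mem_subgroupOf.1 hz) g)
  have h1 : (commHom Z hZab g).ker.index ∣ ((Subgroup.center G).subgroupOf Z).index :=
    Subgroup.index_dvd_of_le hle
  rw [Subgroup.index_ker] at h1
  have h2 : ((Subgroup.center G).subgroupOf Z).index ∣ p ^ m := by
    rw [← hm']
    exact Subgroup.relIndex_dvd_index_of_le hcen
  obtain ⟨j, hj, hj2⟩ := (Nat.dvd_prime_pow hp).1 (h1.trans h2)
  rcases Nat.eq_zero_or_pos j with rfl | hjpos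
  · exfalso
    rw [pow_zero] at hj2
    obtain ⟨z, hz, hgz⟩ := hg
    have h3 := Subgroup.card_eq_one.1 hj2
    have h4 : commHom Z hZab g ⟨z, hz⟩ ∈ (commHom Z hZab g).range := ⟨_, rfl⟩
    rw [h3, Subgroup.mem_bot] at h4
    exact hgz ((mem_ker_commHom Z hZab g ⟨z, hz⟩).1 (MonoidHom.mem_ker.2 h4))
  · rw [hj2]; exact dvd_pow_self p hjpos.ne'

include hZab in
/-- **Isaacs 12.11, the covering argument.** -/
theorem center_index_cube (p : ℕ) (hp : p.Prime)
    (hcd : ∀ χ : G → ℂ, IsIrrCharacter G χ → χ 1 = 1 ∨ χ 1 = (p : ℂ))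
    (hpow : ∀ g : G, ∃ k : ℕ, g ^ (p ^ k) ∈ Subgroup.center G)
    (hidx : Z.index = p ^ 2) (hcen : Subgroup.center G ≤ Z)
    (hncyc : ∀ x : G, Z ⊔ Subgroup.zpowers x ≠ ⊤)
    (hnc : ∀ g : G, g ∉ Z → ∃ z ∈ Z, g * z ≠ z * g) :
    (Subgroup.center G).index = p ^ 3 := by
  classical
  haveI : Fintype G := Fintype.ofFinite G
  have hab : ∀ a b : Z, a * b = b * a := fun a b => Subtype.ext (hZab a a.2 b b.2)
  have hp1 := hp.one_lt
  obtain ⟨n, hn⟩ : ∃ n : ℕ, n = Nat.card Z := ⟨_, rfl⟩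
  have hn0 : 0 < n := by rw [hn]; exact Nat.card_pos
  have hD : Nat.card (Z →* ℂˣ) = n := by rw [hn]; exact card_hom_eq hab
  haveI : Finite (Z →* ℂˣ) := Nat.finite_of_card_ne_zero (by rw [hD]; exact hn0.ne')
  haveI : Fintype (Z →* ℂˣ) := Fintype.ofFinite _
  have hG : Nat.card G = n * p ^ 2 := by rw [← Z.card_mul_index, hidx, hn]
  -- the orders of `C_Z(g)` and `[Z, g]`
  obtain ⟨c, hc⟩ : ∃ c : G → ℕ, c = fun g => Nat.card (commHom Z hZab g).ker := ⟨_, rfl⟩
  obtain ⟨r, hr⟩ : ∃ r : G → ℕ, r = fun g => Nat.card (commHom Z hZab g).range := ⟨_, rfl⟩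
  have hcg : ∀ g, c g = Nat.card (commHom Z hZab g).ker := fun g => by rw [hc]
  have hrg : ∀ g, r g = Nat.card (commHom Z hZab g).range := fun g => by rw [hr]
  have hcr : ∀ g, c g * r g = n := by
    intro g
    rw [hcg, hrg, ← Subgroup.index_ker, Subgroup.card_mul_index, hn]
  have hc0 : ∀ g, 0 < c g := fun g => by rw [hcg]; exact Nat.card_pos
  have hfix : ∀ g, Nat.card {μ : Z →* ℂˣ // dualAct Z g μ = μ} = c g := fun g => by
    rw [hcg]; exact card_fixed_dual Z hZab g
  have hpr : ∀ g, g ∉ Z → p ∣ r g := fun g hg => by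
    rw [hrg]; exact p_dvd_card_range_commHom Z hZab p hp hpow hcen g (hnc g hg)
  have hpc : ∀ g, g ∉ Z → p * c g ≤ n := by
    intro g hg
    obtain ⟨t, ht⟩ := hpr g hg
    have h1 := hcr g
    rw [ht] at h1
    have ht0 : 0 < t := Nat.pos_of_ne_zero (by rintro rfl; rw [mul_zero, mul_zero] at h1; omega)
    calc p * c g = c g * p * 1 := by ring
      _ ≤ c g * p * t := Nat.mul_le_mul_left _ ht0
      _ = n := by rw [← h1]; ring
  have hcle : ∀ g, c g ≤ n := fun g => by
    rw [hcg, hn]; exact Subgroup.card_le_card_group _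
  -- inertia groups
  have hZT : ∀ μ : Z →* ℂˣ, Z ≤ helper82.inertia Z (fun b : Z => ((μ b : ℂˣ) : ℂ)) := by
    intro μ z hz
    rw [mem_inertia_dual]
    apply dualAct_of_mem_centralizer
    rw [Subgroup.mem_centralizer_iff]
    intro b hb
    exact hZab b hb z hz
  have hTcard : ∀ μ : Z →* ℂˣ,
      p * n ≤ Nat.card (helper82.inertia Z (fun b : Z => ((μ b : ℂˣ) : ℂ))) := by
    intro μ
    obtain ⟨T, hT⟩ : ∃ T : Subgroup G,
      T = helper82.inertia Z (fun b : Z => ((μ b : ℂˣ) : ℂ)) := ⟨_, rfl⟩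
    rw [← hT]
    have hZT' : Z ≤ T := hT ▸ hZT μ
    obtain ⟨g, hgZ, hg⟩ := exists_fixing_of_two_deg Z p hp hcd hidx μ
    have hgT : g ∈ T := by rw [hT, mem_inertia_dual]; exact hg
    have hdvd : T.index ∣ p ^ 2 := hidx ▸ Subgroup.index_dvd_of_le hZT'
    obtain ⟨j, hj, hj2⟩ := (Nat.dvd_prime_pow hp).1 hdvd
    have hcT := T.card_mul_index
    rw [hG, hj2] at hcT
    have hj1 : j ≤ 1 := by
      by_contra hcon
      have hj' : j = 2 := by omega
      rw [hj'] at hcT
      have h1 : Nat.card T = n := Nat.eq_of_mul_eq_mul_right (pow_pos hp.pos 2) hcT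
      have h2 : Z = T := Subgroup.eq_of_le_of_card_ge hZT' (by rw [h1, hn])
      exact hgZ (h2 ▸ hgT)
    have h3 : p ^ j ≤ p := by
      calc p ^ j ≤ p ^ 1 := Nat.pow_le_pow_right hp.pos hj1
        _ = p := pow_one p
    have h4 : n * p ^ 2 ≤ Nat.card T * p := by rw [← hcT]; exact Nat.mul_le_mul_left _ h3
    have h5 : (p * n) * p ≤ Nat.card T * p := by
      calc (p * n) * p = n * p ^ 2 := by ring
        _ ≤ _ := h4
    exact Nat.le_of_mul_le_mul_right h5 hp.pos
  have hTtop : ∀ μ : Z →* ℂˣ, (∀ h : G, dualAct Z h μ = μ) →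
      Nat.card (helper82.inertia Z (fun b : Z => ((μ b : ℂˣ) : ℂ))) = p ^ 2 * n := by
    intro μ hμ
    have h1 : helper82.inertia Z (fun b : Z => ((μ b : ℂˣ) : ℂ)) = ⊤ := by
      rw [eq_top_iff]; intro g _; rw [mem_inertia_dual]; exact hμ g
    rw [h1, Subgroup.card_top, hG]; ring
  -- the choice of `x`
  have hZne : ∃ g : G, g ∉ Z := by
    by_contra hcon
    push Not at hcon
    have h1 : Z = ⊤ := by rw [eq_top_iff]; intro g _; exact hcon g
    rw [h1, Subgroup.index_top] at hidx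
    nlinarith [hidx]
  obtain ⟨x, hxmem, hxmax⟩ := Finset.exists_max_image (Finset.univ.filter (fun g : G => g ∉ Z)) c
    (by obtain ⟨g, hg⟩ := hZne; exact ⟨g, by simp [hg]⟩)
  have hxZ : x ∉ Z := (Finset.mem_filter.1 hxmem).2
  have hxmax' : ∀ g, g ∉ Z → c g ≤ c x := fun g hg => hxmax g (by simp [hg])
  obtain ⟨M, hM⟩ : ∃ M : Subgroup G, M = Z ⊔ Subgroup.zpowers x := ⟨_, rfl⟩
  have hZM : Z ≤ M := hM ▸ le_sup_left
  have hxM : x ∈ M := by
    rw [hM]; exact (le_sup_right : Subgroup.zpowers x ≤ _) (Subgroup.mem_zpowers x)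
  have hMtop : M ≠ ⊤ := hM ▸ hncyc x
  have hMidx : M.index = p := by
    have hdvd : M.index ∣ p ^ 2 := hidx ▸ Subgroup.index_dvd_of_le hZM
    obtain ⟨j, hj, hj2⟩ := (Nat.dvd_prime_pow hp).1 hdvd
    have hcM := M.card_mul_index
    rw [hG, hj2] at hcM
    have hj0 : j ≠ 0 := by
      rintro rfl
      rw [pow_zero] at hj2
      exact hMtop (Subgroup.index_eq_one.1 hj2)
    have hj2' : j ≠ 2 := by
      rintro rfl
      have h1 : Nat.card M = n := Nat.eq_of_mul_eq_mul_right (pow_pos hp.pos 2) hcM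
      have h2 : Z = M := Subgroup.eq_of_le_of_card_ge hZM (by rw [h1, hn])
      exact hxZ (h2 ▸ hxM)
    have hj1 : j = 1 := by omega
    rw [hj2, hj1, pow_one]
  have hMcard : Nat.card M = p * n := by
    have hcM := M.card_mul_index
    rw [hG, hMidx] at hcM
    have : Nat.card M * p = (p * n) * p := by rw [hcM]; ring
    exact Nat.eq_of_mul_eq_mul_right hp.pos this
  have hMne : ∃ g : G, g ∉ M := by
    by_contra hcon
    push Not at hcon
    exact hMtop (by rw [eq_top_iff]; intro g _; exact hcon g)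
  obtain ⟨y, hymem, hymax⟩ := Finset.exists_max_image (Finset.univ.filter (fun g : G => g ∉ M)) c
    (by obtain ⟨g, hg⟩ := hMne; exact ⟨g, by simp [hg]⟩)
  have hyM : y ∉ M := (Finset.mem_filter.1 hymem).2
  have hymax' : ∀ g, g ∉ M → c g ≤ c y := fun g hg => hymax g (by simp [hg])
  have hyZ : y ∉ Z := fun h => hyM (hZM h)
  -- a character fixed by `x` and by an element outside `M` is invariant
  have hpair : ∀ g, g ∉ M → ∀ μ : Z →* ℂˣ, dualAct Z x μ = μ → dualAct Z g μ = μ →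
      ∀ h : G, dualAct Z h μ = μ := by
    intro g hgM μ hxμ hgμ
    obtain ⟨T, hT⟩ : ∃ T : Subgroup G,
      T = helper82.inertia Z (fun b : Z => ((μ b : ℂˣ) : ℂ)) := ⟨_, rfl⟩
    have hmemT : ∀ h, h ∈ T ↔ dualAct Z h μ = μ := fun h => by rw [hT, mem_inertia_dual]
    have hMT : M ≤ T := by
      rw [hM]
      refine sup_le (hT ▸ hZT μ) ?_
      rw [Subgroup.zpowers_le]
      exact (hmemT x).2 hxμ
    have hgT : g ∈ T := (hmemT g).2 hgμ
    have hdvd : T.index ∣ p := hMidx ▸ Subgroup.index_dvd_of_le hMT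
    have hTtop' : T = ⊤ := by
      rcases (Nat.dvd_prime hp).1 hdvd with h | h
      · exact Subgroup.index_eq_one.1 h
      · exfalso
        have hcT := T.card_mul_index
        rw [hG, h] at hcT
        have h1 : Nat.card T = p * n := Nat.eq_of_mul_eq_mul_right hp.pos (by rw [hcT]; ring)
        have h2 : M = T := Subgroup.eq_of_le_of_card_ge hMT (by rw [h1, hMcard])
        exact hgM (h2 ▸ hgT)
    intro h
    exact (hmemT h).1 (by rw [hTtop']; exact Subgroup.mem_top h)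
  -- the number of invariant characters
  obtain ⟨f, hf⟩ : ∃ f : ℕ, f = Nat.card {μ : Z →* ℂˣ // ∀ h : G, dualAct Z h μ = μ} :=
    ⟨_, rfl⟩
  have hfR : ∀ g, g ∉ M →
      f * Nat.card ↥((commHom Z hZab x).range ⊔ (commHom Z hZab g).range) = n := by
    intro g hgM
    have h1 : Nat.card {μ : Z →* ℂˣ // ∀ h : G, dualAct Z h μ = μ}
        = Nat.card {μ : Z →* ℂˣ //
            (commHom Z hZab x).range ⊔ (commHom Z hZab g).range ≤ μ.ker} := by
      apply Nat.card_congr
      refine Equiv.subtypeEquivRight (fun μ => ?_)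
      rw [sup_le_iff, ← dualAct_eq_iff, ← dualAct_eq_iff]
      exact ⟨fun h => ⟨h x, h g⟩, fun h => hpair g hgM μ h.1 h.2⟩
    rw [hf, h1, card_hom_ker_ge hab, mul_comm, Subgroup.card_mul_index, hn]
  have hsup : ∀ g,
      Nat.card ↥((commHom Z hZab x).range ⊔ (commHom Z hZab g).range) ≤ r x * r g := by
    intro g
    rw [hrg, hrg]
    exact (card_sup_le_of_comm hab _ _).1
  -- the lower bound
  obtain ⟨Tc, hTc⟩ : ∃ Tc : (Z →* ℂˣ) → ℕ, Tc = fun μ =>
    Nat.card (helper82.inertia Z (fun b : Z => ((μ b : ℂˣ) : ℂ))) := ⟨_, rfl⟩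
  have hTcμ : ∀ μ, Tc μ = Nat.card (helper82.inertia Z (fun b : Z => ((μ b : ℂˣ) : ℂ))) :=
    fun μ => by rw [hTc]
  have hdc : ∑ μ : (Z →* ℂˣ), Tc μ = ∑ g : G, c g := by
    rw [Finset.sum_congr rfl (fun μ _ => hTcμ μ), sum_card_inertia Z]
    exact Finset.sum_congr rfl (fun g _ => hfix g)
  obtain ⟨F1, hF1⟩ : ∃ F1 : Finset (Z →* ℂˣ),
    F1 = Finset.univ.filter (fun μ : Z →* ℂˣ => ∀ h : G, dualAct Z h μ = μ) := ⟨_, rfl⟩
  obtain ⟨F2, hF2⟩ : ∃ F2 : Finset (Z →* ℂˣ),
    F2 = Finset.univ.filter (fun μ : Z →* ℂˣ => ¬ ∀ h : G, dualAct Z h μ = μ) := ⟨_, rfl⟩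
  have hF1c : F1.card = f := by
    rw [hf, hF1]; exact (natCard_subtype_eq_card_filter _).symm
  have hF12 : F1.card + F2.card = n := by
    rw [hF1, hF2, Finset.card_filter_add_card_filter_not, Finset.card_univ,
      ← Nat.card_eq_fintype_card, hD]
  have hsplit : ∑ μ : (Z →* ℂˣ), Tc μ = ∑ μ ∈ F1, Tc μ + ∑ μ ∈ F2, Tc μ := by
    rw [hF1, hF2]; exact (Finset.sum_filter_add_sum_filter_not _ _ _).symm
  have hL1 : F1.card * (p ^ 2 * n) ≤ ∑ μ ∈ F1, Tc μ := by
    have := Finset.card_nsmul_le_sum F1 Tc (p ^ 2 * n) (fun μ hμ => by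
      rw [hF1, Finset.mem_filter] at hμ
      rw [hTcμ, hTtop μ hμ.2])
    simpa [smul_eq_mul] using this
  have hL2 : F2.card * (p * n) ≤ ∑ μ ∈ F2, Tc μ := by
    have := Finset.card_nsmul_le_sum F2 Tc (p * n) (fun μ _ => by rw [hTcμ]; exact hTcard μ)
    simpa [smul_eq_mul] using this
  -- the upper bound
  obtain ⟨GM, hGM⟩ : ∃ GM : Finset G, GM = Finset.univ.filter (fun g : G => g ∈ M) := ⟨_, rfl⟩
  obtain ⟨GN, hGN⟩ : ∃ GN : Finset G, GN = Finset.univ.filter (fun g : G => ¬ g ∈ M) :=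
    ⟨_, rfl⟩
  obtain ⟨GZ, hGZ⟩ : ∃ GZ : Finset G, GZ = GM.filter (fun g : G => g ∈ Z) := ⟨_, rfl⟩
  obtain ⟨GX, hGX⟩ : ∃ GX : Finset G, GX = GM.filter (fun g : G => ¬ g ∈ Z) := ⟨_, rfl⟩
  have hs1 : ∑ g : G, c g = ∑ g ∈ GM, c g + ∑ g ∈ GN, c g := by
    rw [hGM, hGN]; exact (Finset.sum_filter_add_sum_filter_not _ _ _).symm
  have hs2 : ∑ g ∈ GM, c g = ∑ g ∈ GZ, c g + ∑ g ∈ GX, c g := by
    rw [hGZ, hGX]; exact (Finset.sum_filter_add_sum_filter_not _ _ _).symm
  have hGMc : GM.card = p * n := by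
    rw [hGM, ← natCard_subtype_eq_card_filter]; exact hMcard
  have hGZc : GZ.card = n := by
    have h1 : GZ = Finset.univ.filter (fun g : G => g ∈ Z) := by
      rw [hGZ, hGM, Finset.filter_filter]
      apply Finset.filter_congr
      intro g _
      exact ⟨fun h => h.2, fun h => ⟨hZM h, h⟩⟩
    rw [h1, ← natCard_subtype_eq_card_filter]; exact hn.symm
  have hGZX : GZ.card + GX.card = GM.card := by
    rw [hGZ, hGX]; exact Finset.card_filter_add_card_filter_not _
  have hGMN : GM.card + GN.card = n * p ^ 2 := by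
    rw [hGM, hGN, Finset.card_filter_add_card_filter_not, Finset.card_univ,
      ← Nat.card_eq_fintype_card, hG]
  have hU1 : ∑ g ∈ GZ, c g ≤ GZ.card * n := by
    have := Finset.sum_le_card_nsmul GZ c n (fun g _ => hcle g)
    simpa [smul_eq_mul] using this
  have hU2 : ∑ g ∈ GX, c g ≤ GX.card * c x := by
    have := Finset.sum_le_card_nsmul GX c (c x) (fun g hg => by
      rw [hGX, Finset.mem_filter] at hg
      exact hxmax' g hg.2)
    simpa [smul_eq_mul] using this
  have hU3 : ∑ g ∈ GN, c g ≤ GN.card * c y := by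
    have := Finset.sum_le_card_nsmul GN c (c y) (fun g hg => by
      rw [hGN, Finset.mem_filter] at hg
      exact hymax' g hg.2)
    simpa [smul_eq_mul] using this
  obtain ⟨S, hS⟩ : ∃ S : ℕ, S = ∑ g ∈ GN, c g := ⟨_, rfl⟩
  have hnum := two_deg_numeric p n F1.card F2.card GX.card GN.card (c x) (c y) (r x) (r y)
    (Nat.card ↥((commHom Z hZab x).range ⊔ (commHom Z hZab y).range)) S hp hn0 hF12
    (by rw [hGZc, hGMc] at hGZX; linarith)
    (by rw [hGMc] at hGMN; linarith)
    (by rw [hGZc] at hU1; rw [hS]; linarith)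
    (by rw [hS]; exact hU3)
    (hcr x) (hcr y) (by rw [hF1c]; exact hfR y hyM) (hsup y) (hpr x hxZ) (hpr y hyZ)
    (hxmax' y hyZ)
  obtain ⟨hrx, hry, hrxy, hlast⟩ := hnum
  have hall : ∀ g, g ∉ M → p * c g = n := by
    intro g hgM
    by_contra hne
    have hlt : p * c g < n := lt_of_le_of_ne (hpc g (fun h => hgM (hZM h))) hne
    have h1 : ∑ g ∈ GN, p * c g < ∑ g ∈ GN, n := by
      apply Finset.sum_lt_sum
      · intro g' hg'
        rw [hGN, Finset.mem_filter] at hg'
        exact hpc g' (fun h => hg'.2 (hZM h))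
      · exact ⟨g, by rw [hGN, Finset.mem_filter]; exact ⟨Finset.mem_univ _, hgM⟩, hlt⟩
    rw [← Finset.mul_sum, ← hS, Finset.sum_const, smul_eq_mul] at h1
    linarith
  have hrall : ∀ g, g ∉ M → r g = p := by
    intro g hgM
    have h1 := hcr g
    have h2 := hall g hgM
    have h3 : c g * r g = c g * p := by rw [h1, ← h2]; ring
    exact Nat.eq_of_mul_eq_mul_left (hc0 g) h3
  have hfp : f * p ^ 2 = n := by
    have := hfR y hyM
    rw [hrxy] at this; exact this
  have hf0 : 0 < f := Nat.pos_of_ne_zero (by rintro rfl; rw [zero_mul] at hfp; omega)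
  have hinf : ∀ g, g ∉ M → (commHom Z hZab x).range ⊓ (commHom Z hZab g).range = ⊥ := by
    intro g hgM
    apply (card_sup_le_of_comm hab _ _).2
    have h1 := hfR g hgM
    have h2 : f * Nat.card ↥((commHom Z hZab x).range ⊔ (commHom Z hZab g).range)
        = f * p ^ 2 := by rw [h1, hfp]
    have h3 := Nat.eq_of_mul_eq_mul_left hf0 h2
    rw [h3, ← hrg, ← hrg, hrx, hrall g hgM]; ring
  have hpcx : p * c x = n := by
    have := hcr x
    rw [hrx] at this; rw [← this]; ring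
  have hker : ∀ g, g ∉ M → (commHom Z hZab x).ker = (commHom Z hZab g).ker := by
    intro g hgM
    apply ker_commHom_eq Z hZab p hp x g
    · rw [← hrg]
      apply hrall
      intro h
      apply hgM
      have : g = (g * x) * x⁻¹ := by group
      rw [this]; exact M.mul_mem h (M.inv_mem hxM)
    · exact hinf g hgM
    · rw [← hcg, ← hcg]
      have h1 := hall g hgM
      exact Nat.eq_of_mul_eq_mul_left hp.pos (by rw [h1, hpcx])
  have hcentral : ∀ z : Z, z ∈ (commHom Z hZab x).ker → (z : G) ∈ Subgroup.center G := by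
    intro z hz
    rw [Subgroup.mem_center_iff]
    intro h
    by_cases hhM : h ∈ M
    · have hMle : M ≤ Subgroup.centralizer ({(z : G)} : Set G) := by
        rw [hM]
        refine sup_le ?_ ?_
        · intro w hw
          rw [Subgroup.mem_centralizer_iff]
          intro a ha
          rw [Set.mem_singleton_iff] at ha
          rw [ha]; exact hZab _ z.2 _ hw
        · rw [Subgroup.zpowers_le, Subgroup.mem_centralizer_iff]
          intro a ha
          rw [Set.mem_singleton_iff] at ha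
          rw [ha]; exact ((mem_ker_commHom Z hZab x z).1 hz).symm
      have := Subgroup.mem_centralizer_iff.1 (hMle hhM) z rfl
      exact this.symm
    · have hz' : z ∈ (commHom Z hZab h).ker := by rw [← hker h hhM]; exact hz
      exact (mem_ker_commHom Z hZab h z).1 hz'
  have hcc : Nat.card (Subgroup.center G) = c x := by
    rw [hcg]
    apply Nat.card_congr
    exact
      { toFun := fun w => ⟨⟨w.1, hcen w.2⟩,
          (mem_ker_commHom Z hZab x _).2 (Subgroup.mem_center_iff.1 w.2 x)⟩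
        invFun := fun z => ⟨(z.1 : G), hcentral z.1 z.2⟩
        left_inv := fun w => rfl
        right_inv := fun z => rfl }
  have h1 := (Subgroup.center G).card_mul_index
  rw [hcc, hG] at h1
  have h2 : c x * (Subgroup.center G).index = c x * p ^ 3 := by rw [h1, ← hpcx]; ring
  exact Nat.eq_of_mul_eq_mul_left (hc0 x) h2

end Dual4

end Cfsg.Agent.Lib.helper19
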