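import Mathlib
import Cfsg.Agent.Lib.helper19.TwoDegB
import Cfsg.Agent.Lib.helper19.TwoDegG
import Cfsg.Agent.Lib.helper32.Coh8

/-!
# Groups with character degrees `1` and `p` (helper19): Isaacs 12.11, assembly

`two_deg_p_forward`: a nonabelian group with `cd(G) = {1, p}` has an abelian normal subgroup of
index `p` or `|G : Z(G)| = p ^ 3`.  `two_deg_p_backward`: the converse.
-/

set_option autoImplicit false
set_option linter.style.haveILetI false
set_option linter.unusedSectionVars false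
set_option maxHeartbeats 1000000

namespace Cfsg.Agent.Lib.helper19

open Cfsg
open scoped ComplexConjugate

universe u

theorem sup_zpowers_le_centralizer {G : Type*} [Group G] (Z : Subgroup G) (g : G) (S : Set G)
    (h1 : ∀ z ∈ Z, ∀ s ∈ S, s * z = z * s) (h2 : ∀ s ∈ S, s * g = g * s) :
    Z ⊔ Subgroup.zpowers g ≤ Subgroup.centralizer S := by
  refine sup_le ?_ ?_
  · intro z hz
    rw [Subgroup.mem_centralizer_iff]
    exact h1 z hz
  · rw [Subgroup.zpowers_le, Subgroup.mem_centralizer_iff]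
    exact h2

/-- **Isaacs 12.11**, forward direction. -/
theorem two_deg_p_forward {G : Type u} [Group G] [Finite G] (hG : ∃ a b : G, a * b ≠ b * a)
    (p : ℕ) (hp : p.Prime)
    (hcd : ∀ χ : IrrCharacter G, charDegree (χ : G → ℂ) = 1 ∨ charDegree (χ : G → ℂ) = p)
    (hm : ∃ χ : IrrCharacter G, charDegree (χ : G → ℂ) = p) :
    (∃ A : Subgroup G, A.Normal ∧ (∀ a ∈ A, ∀ b ∈ A, a * b = b * a) ∧ A.index = p) ∨
      (Subgroup.center G).index = p ^ 3 := by
  classical
  have hcd' : ∀ χ : G → ℂ, IsIrrCharacter G χ → χ 1 = 1 ∨ χ 1 = (p : ℂ) := by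
    intro χ hχ
    have h1 : χ 1 = (charDegree χ : ℂ) :=
      helper83.irr_one_eq_charDegree (⟨χ, hχ⟩ : IrrCharacter G)
    rcases hcd ⟨χ, hχ⟩ with h | h
    · left; rw [h1]
      have h' : charDegree χ = 1 := h
      rw [h']; simp
    · right; rw [h1]
      have h' : charDegree χ = p := h
      rw [h']
  by_cases hA : ∃ A : Subgroup G, A.Normal ∧ (∀ a ∈ A, ∀ b ∈ A, a * b = b * a) ∧ A.index = p
  · exact Or.inl hA
  right
  rcases two_deg_structure p hcd hm hp.ne_one with h |
    ⟨p', e, hp', hpe, P, A, hPn, hAn, hPp, hAab, hPA, hPAtop⟩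
  · exact absurd h hA
  have hpp : p' = p := by
    have h1 : p' ∣ p := by
      have he : e ≠ 0 := by
        rintro rfl
        rw [pow_zero] at hpe
        exact hp.ne_one hpe
      rw [hpe]
      exact dvd_pow_self p' he
    exact (Nat.prime_dvd_prime_iff_eq hp' hp).1 h1
  rw [hpp] at hPp
  haveI := hPn
  haveI := hAn
  have hdecomp : ∀ g : G, ∃ x ∈ P, ∃ a ∈ A, x * a = g := by
    intro g
    have hg : g ∈ P ⊔ A := by rw [hPAtop]; exact Subgroup.mem_top g
    have hg' : g ∈ ((P ⊔ A : Subgroup G) : Set G) := hg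
    rw [Subgroup.mul_normal, Set.mem_mul] at hg'
    exact hg'
  have hAcen : A ≤ Subgroup.center G := by
    intro a ha
    rw [Subgroup.mem_center_iff]
    intro g
    obtain ⟨x, hx, a', ha', rfl⟩ := hdecomp g
    have h1 : x * a = a * x :=
      (Subgroup.commute_of_normal_of_disjoint P A hPn hAn (disjoint_iff.2 hPA) x a hx ha).eq
    have h2 : a' * a = a * a' := hAab a' ha' a ha
    calc x * a' * a = x * (a' * a) := mul_assoc _ _ _
      _ = x * (a * a') := by rw [h2]
      _ = (x * a) * a' := (mul_assoc _ _ _).symm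
      _ = (a * x) * a' := by rw [h1]
      _ = a * (x * a') := mul_assoc _ _ _
  have hpow : ∀ g : G, ∃ k : ℕ, g ^ (p ^ k) ∈ Subgroup.center G := by
    intro g
    obtain ⟨x, hx, a, ha, rfl⟩ := hdecomp g
    obtain ⟨k, hk⟩ := hPp ⟨x, hx⟩
    have hk' : x ^ (p ^ k) = 1 := by
      have := congrArg Subtype.val hk
      simpa using this
    refine ⟨k, ?_⟩
    have hcomm : Commute x a := Subgroup.mem_center_iff.1 (hAcen ha) x
    rw [hcomm.mul_pow, hk', one_mul]
    exact (Subgroup.center G).pow_mem (hAcen ha) _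
  obtain ⟨Z, χ₀, hZn, hχ₀, hχ₀1, hidx, hvan, hnorm, hcomm, hcen, hncyc⟩ :=
    exists_fully_ramified p hp hcd' hG hpow
  haveI := hZn
  have hZab := abelian_of_fully_ramified p hp hcd' hpow Z χ₀ hχ₀ hχ₀1 hidx hvan hnorm
  apply center_index_cube Z hZab p hp hcd' hpow hidx hcen hncyc
  intro g hgZ
  by_contra hcon
  push Not at hcon
  apply hA
  have hle : Z ≤ Z ⊔ Subgroup.zpowers g := le_sup_left
  have hgA : g ∈ Z ⊔ Subgroup.zpowers g :=
    (le_sup_right : Subgroup.zpowers g ≤ _) (Subgroup.mem_zpowers g)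
  refine ⟨Z ⊔ Subgroup.zpowers g, ?_, ?_, ?_⟩
  · refine ⟨fun n hn h => ?_⟩
    have h1 : h * n * h⁻¹ = (h * n * h⁻¹ * n⁻¹) * n := by group
    rw [h1]
    exact Subgroup.mul_mem _ (hle (hcomm h n)) hn
  · have s1 : ∀ a ∈ Z ⊔ Subgroup.zpowers g, ∀ z ∈ Z, z * a = a * z := by
      intro a ha z hz
      have := sup_zpowers_le_centralizer Z g (Z : Set G) (fun z hz s hs => hZab s hs z hz)
        (fun s hs => (hcon s hs).symm)
      exact Subgroup.mem_centralizer_iff.1 (this ha) z hz
    have s2 : ∀ a ∈ Z ⊔ Subgroup.zpowers g, g * a = a * g := by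
      intro a ha
      have := sup_zpowers_le_centralizer Z g ({g} : Set G)
        (fun z hz s hs => by rw [Set.mem_singleton_iff.1 hs]; exact hcon z hz)
        (fun s hs => by rw [Set.mem_singleton_iff.1 hs])
      exact Subgroup.mem_centralizer_iff.1 (this ha) g rfl
    intro a ha b hb
    have := sup_zpowers_le_centralizer Z g ({a} : Set G)
      (fun z hz s hs => by rw [Set.mem_singleton_iff.1 hs]; exact (s1 a ha z hz).symm)
      (fun s hs => by rw [Set.mem_singleton_iff.1 hs]; exact (s2 a ha).symm)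
    exact Subgroup.mem_centralizer_iff.1 (this hb) a rfl
  · have hdvd : (Z ⊔ Subgroup.zpowers g).index ∣ p ^ 2 := hidx ▸ Subgroup.index_dvd_of_le hle
    obtain ⟨j, hj, hj2⟩ := (Nat.dvd_prime_pow hp).1 hdvd
    have hj0 : j ≠ 0 := by
      rintro rfl
      rw [pow_zero] at hj2
      exact hncyc g (Subgroup.index_eq_one.1 hj2)
    have hj2' : j ≠ 2 := by
      rintro rfl
      have h1 := (Z ⊔ Subgroup.zpowers g).card_mul_index
      have h2 := Z.card_mul_index
      rw [hj2] at h1; rw [hidx] at h2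
      have h3 : Nat.card ↥(Z ⊔ Subgroup.zpowers g) = Nat.card Z :=
        Nat.eq_of_mul_eq_mul_right (pow_pos hp.pos 2) (h1.trans h2.symm)
      have h4 : Z = Z ⊔ Subgroup.zpowers g := Subgroup.eq_of_le_of_card_ge hle (le_of_eq h3)
      exact hgZ (h4 ▸ hgA)
    have hj1 : j = 1 := by omega
    rw [hj2, hj1, pow_one]

/-- **Isaacs 12.11**, backward direction. -/
theorem two_deg_p_backward {G : Type u} [Group G] [Finite G] (hG : ∃ a b : G, a * b ≠ b * a)
    (p : ℕ) (hp : p.Prime)
    (h : (∃ A : Subgroup G, A.Normal ∧ (∀ a ∈ A, ∀ b ∈ A, a * b = b * a) ∧ A.index = p) ∨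
      (Subgroup.center G).index = p ^ 3) :
    (∀ χ : IrrCharacter G, charDegree (χ : G → ℂ) = 1 ∨ charDegree (χ : G → ℂ) = p) ∧
      ∃ χ : IrrCharacter G, charDegree (χ : G → ℂ) = p := by
  classical
  haveI : Fintype G := Fintype.ofFinite G
  have key : ∀ χ : IrrCharacter G,
      charDegree (χ : G → ℂ) = 1 ∨ charDegree (χ : G → ℂ) = p := by
    intro χ
    have h1 : (χ : G → ℂ) 1 = (charDegree (χ : G → ℂ) : ℂ) := helper83.irr_one_eq_charDegree χ
    rcases h with ⟨A, hAn, hAab, hAidx⟩ | hcen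
    · haveI := hAn
      obtain ⟨d, hd, hdvd⟩ := helper82.ito_char A hAab χ.2
      rw [hAidx] at hdvd
      have hd' : charDegree (χ : G → ℂ) = d := by
        rw [h1] at hd; exact_mod_cast hd
      rw [hd']
      exact (Nat.dvd_prime hp).1 hdvd
    · have hZc : ∀ a ∈ Subgroup.center G, ∀ b ∈ Subgroup.center G, a * b = b * a :=
        fun a ha b _ => (Subgroup.mem_center_iff.1 ha b).symm
      obtain ⟨d, hd, hdvd⟩ := helper82.ito_char (Subgroup.center G) hZc χ.2
      rw [hcen] at hdvd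
      obtain ⟨m, hm, hm2⟩ := helper32.irr_degree_sq_le (Subgroup.center G) ⊤ le_top
        (fun z hz c _ => (Subgroup.mem_center_iff.1 hz c).symm) χ.2
      rw [Subgroup.index_top, one_mul, hcen] at hm2
      have hdm : d = m := by rw [hd] at hm; exact_mod_cast hm
      have hd' : charDegree (χ : G → ℂ) = d := by rw [h1] at hd; exact_mod_cast hd
      rw [hd']
      obtain ⟨j, hj, hj2⟩ := (Nat.dvd_prime_pow hp).1 hdvd
      rw [← hdm, hj2] at hm2
      have hj1 : j ≤ 1 := by
        by_contra hcon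
        have h3 : p ^ 4 ≤ (p ^ j) ^ 2 := by
          rw [← pow_mul]
          exact Nat.pow_le_pow_right hp.pos (by omega)
        have h4 : p ^ 3 < p ^ 4 := Nat.pow_lt_pow_right hp.one_lt (by norm_num)
        omega
      interval_cases j
      · left; rw [hj2, pow_zero]
      · right; rw [hj2, pow_one]
  refine ⟨key, ?_⟩
  by_contra hcon
  push Not at hcon
  obtain ⟨a, b, hab⟩ := hG
  apply hab
  apply comm_of_all_linear
  intro χ hχ
  have h1 : χ 1 = (charDegree χ : ℂ) := helper83.irr_one_eq_charDegree (⟨χ, hχ⟩ : IrrCharacter G)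
  rcases key ⟨χ, hχ⟩ with h2 | h2
  · rw [h1]
    have h2' : charDegree χ = 1 := h2
    rw [h2']; simp
  · exact absurd h2 (hcon ⟨χ, hχ⟩)

end Cfsg.Agent.Lib.helper19
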